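import Mathlib
import Groth.Agent.H40.Comod
import Groth.Agent.H93.Comod2

/-!
Coefficient spaces of comodules over a coalgebra over a field (helper74).

* `contrL M φ : V ⊗ M → M` contraction of the left factor with a functional `φ` on `V`
* `coeffMap φ : V → C`, `v ↦ (φ ⊗ id) (ρ v)`: a comodule map to the regular comodule
* `coeffOn W`: the coefficient space of a submodule `W` of a comodule `V`
* `IsSubcoalg B`
-/

set_option autoImplicit false
universe u v w w'
open TensorProduct

namespace Groth.Agent.H74.Coeff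

open Groth.Agent.H40 (ρ contr)

section contraction

variable {k : Type u} [CommRing k] {V : Type w} [AddCommGroup V] [Module k V]

/-- Contract the left tensor factor with a functional. -/
noncomputable def contrL (M : Type*) [AddCommGroup M] [Module k M] (φ : V →ₗ[k] k) :
    V ⊗[k] M →ₗ[k] M :=
  (TensorProduct.lid k M).toLinearMap ∘ₗ φ.rTensor M

@[simp] theorem contrL_tmul (M : Type*) [AddCommGroup M] [Module k M] (φ : V →ₗ[k] k) (v : V)
    (m : M) : contrL M φ (v ⊗ₜ[k] m) = φ v • m := by
  simp [contrL]

theorem contrL_natural {M M' : Type*} [AddCommGroup M] [Module k M] [AddCommGroup M']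
    [Module k M'] (f : M →ₗ[k] M') (φ : V →ₗ[k] k) (x : V ⊗[k] M) :
    f (contrL M φ x) = contrL M' φ (f.lTensor V x) := by
  induction x using TensorProduct.induction_on with
  | zero => simp
  | tmul v m => simp
  | add x y hx hy => simp only [map_add, hx, hy]

theorem contrL_rTensor_assoc_symm {M N : Type*} [AddCommGroup M] [Module k M] [AddCommGroup N]
    [Module k N] (φ : V →ₗ[k] k) (z : V ⊗[k] (M ⊗[k] N)) :
    (contrL M φ).rTensor N ((TensorProduct.assoc k V M N).symm z) = contrL (M ⊗[k] N) φ z := by
  induction z using TensorProduct.induction_on with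
  | zero => simp
  | tmul v mn =>
    induction mn using TensorProduct.induction_on with
    | zero => simp
    | tmul m n => simp [TensorProduct.smul_tmul']
    | add a b ha hb => simp only [tmul_add, map_add, ha, hb]
  | add x y hx hy => simp only [map_add, hx, hy]

theorem contrL_rTensor {V' : Type*} [AddCommGroup V'] [Module k V'] {M : Type*} [AddCommGroup M]
    [Module k M] (f : V →ₗ[k] V') (φ' : V' →ₗ[k] k) (x : V ⊗[k] M) :
    contrL M φ' (f.rTensor M x) = contrL M (φ' ∘ₗ f) x := by
  induction x using TensorProduct.induction_on with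
  | zero => simp
  | tmul v m => simp
  | add x y hx hy => simp only [map_add, hx, hy]

theorem apply_contr_eq {C : Type*} [AddCommGroup C] [Module k C] (φ : V →ₗ[k] k)
    (f : C →ₗ[k] k) (x : V ⊗[k] C) : f (contrL C φ x) = φ (contr V f x) := by
  induction x using TensorProduct.induction_on with
  | zero => simp
  | tmul v c => simp [mul_comm]
  | add x y hx hy => simp only [map_add, hx, hy]

end contraction

section field

variable {k : Type u} [Field k] {V : Type w} [AddCommGroup V] [Module k V]
  {M : Type v} [AddCommGroup M] [Module k M]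

/-- Over a field: membership in `V ⊗ D` is tested by contracting with functionals on `V`. -/
theorem mem_range_lTensor_iff (D : Submodule k M) (x : V ⊗[k] M) :
    x ∈ LinearMap.range (D.subtype.lTensor V) ↔ ∀ φ : V →ₗ[k] k, contrL M φ x ∈ D := by
  classical
  constructor
  · rintro ⟨y, rfl⟩ φ
    rw [← contrL_natural]
    exact (contrL D φ y).2
  · intro h
    let b := Module.Basis.ofVectorSpace k V
    have hx : x = (TensorProduct.equivFinsuppOfBasisLeft b x).sum fun i m => b i ⊗ₜ[k] m := by
      rw [← TensorProduct.equivFinsuppOfBasisLeft_symm_apply, LinearEquiv.symm_apply_apply]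
    rw [hx]
    refine Submodule.sum_mem _ fun i _ => ?_
    have hi : TensorProduct.equivFinsuppOfBasisLeft b x i ∈ D := by
      rw [TensorProduct.equivFinsuppOfBasisLeft_apply]
      exact h (b.coord i)
    exact ⟨b i ⊗ₜ ⟨_, hi⟩, by simp⟩

/-- `(W ⊗ M) ∩ (V ⊗ D) = W ⊗ D`. -/
theorem mem_range_map_of_mem_of_mem (W : Submodule k V) (D : Submodule k M) (x : V ⊗[k] M)
    (h1 : x ∈ LinearMap.range (W.subtype.rTensor M))
    (h2 : x ∈ LinearMap.range (D.subtype.lTensor V)) :
    x ∈ LinearMap.range (TensorProduct.map W.subtype D.subtype) := by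
  obtain ⟨y, rfl⟩ := h2
  obtain ⟨z, rfl⟩ := Groth.Agent.H93.mem_range_subtype_rTensor_of_lTensor D.subtype
    D.injective_subtype W y h1
  refine ⟨z, ?_⟩
  rw [← LinearMap.comp_apply, LinearMap.lTensor_comp_rTensor]

theorem range_map_le_range_rTensor (W : Submodule k V) (D : Submodule k M) :
    LinearMap.range (TensorProduct.map W.subtype D.subtype)
      ≤ LinearMap.range (W.subtype.rTensor M) := by
  rintro _ ⟨z, rfl⟩
  refine ⟨D.subtype.lTensor W z, ?_⟩
  rw [← LinearMap.comp_apply, LinearMap.rTensor_comp_lTensor]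

theorem range_map_le_range_lTensor (W : Submodule k V) (D : Submodule k M) :
    LinearMap.range (TensorProduct.map W.subtype D.subtype)
      ≤ LinearMap.range (D.subtype.lTensor V) := by
  rintro _ ⟨z, rfl⟩
  refine ⟨W.subtype.rTensor D z, ?_⟩
  rw [← LinearMap.comp_apply, LinearMap.lTensor_comp_rTensor]

end field

section comod

variable {k : Type u} [Field k] {C : Type v} [AddCommGroup C] [Module k C] [Coalgebra k C]
variable {V : Type w} [AddCommGroup V] [Module k V] [HopfRep.Comod k C V]

/-- `B` is a subcoalgebra. -/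
def IsSubcoalg (B : Submodule k C) : Prop :=
  ∀ b ∈ B, CoalgebraStruct.comul (R := k) b ∈
    LinearMap.range (TensorProduct.map B.subtype B.subtype)

/-- The matrix coefficient map `v ↦ (φ ⊗ id)(ρ v)`. -/
noncomputable def coeffMap (φ : V →ₗ[k] k) : V →ₗ[k] C := contrL C φ ∘ₗ ρ k C V

theorem coeffMap_apply (φ : V →ₗ[k] k) (v : V) :
    coeffMap (C := C) φ v = contrL C φ (ρ k C V v) := rfl

theorem counit_coeffMap (φ : V →ₗ[k] k) (v : V) :
    CoalgebraStruct.counit (R := k) (coeffMap (C := C) φ v) = φ v := by
  rw [coeffMap_apply, apply_contr_eq, Groth.Agent.H40.contr_counit_coact]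

/-- `coeffMap φ` is a comodule map to the regular comodule. -/
theorem comul_coeffMap (φ : V →ₗ[k] k) (v : V) :
    CoalgebraStruct.comul (R := k) (coeffMap (C := C) φ v)
      = (coeffMap (C := C) φ).rTensor C (ρ k C V v) := by
  rw [coeffMap_apply, contrL_natural, ← contrL_rTensor_assoc_symm,
    ← Groth.Agent.H40.coassoc_apply, LinearEquiv.symm_apply_apply, ← LinearMap.comp_apply,
    ← LinearMap.rTensor_comp]
  rfl

theorem isComodHom_coeffMap (φ : V →ₗ[k] k) : Hoch.IsComodHom C (coeffMap (C := C) φ) :=
  LinearMap.ext fun v => comul_coeffMap φ v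

/-- The coefficient space of a submodule `W` of a comodule `V`. -/
noncomputable def coeffOn (W : Submodule k V) : Submodule k C :=
  ⨆ φ : V →ₗ[k] k, W.map (coeffMap (C := C) φ)

theorem coeffMap_mem_coeffOn (W : Submodule k V) (φ : V →ₗ[k] k) {w : V} (hw : w ∈ W) :
    coeffMap (C := C) φ w ∈ coeffOn (C := C) W :=
  Submodule.mem_iSup_of_mem φ ⟨w, hw, rfl⟩

theorem coeffOn_le_iff (W : Submodule k V) (B : Submodule k C) :
    coeffOn (C := C) W ≤ B ↔ ∀ w ∈ W, ρ k C V w ∈ LinearMap.range (B.subtype.lTensor V) := by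
  constructor
  · intro h w hw
    rw [mem_range_lTensor_iff]
    intro φ
    exact h (coeffMap_mem_coeffOn W φ hw)
  · intro h
    refine iSup_le fun φ => ?_
    rintro _ ⟨w, hw, rfl⟩
    exact (mem_range_lTensor_iff B _).mp (h w hw) φ

theorem coeffOn_mono {W W' : Submodule k V} (h : W ≤ W') :
    coeffOn (C := C) W ≤ coeffOn (C := C) W' :=
  iSup_mono fun _ => Submodule.map_mono h

theorem coact_mem_range_lTensor (W : Submodule k V) {w : V} (hw : w ∈ W) :
    ρ k C V w ∈ LinearMap.range ((coeffOn (C := C) W).subtype.lTensor V) :=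
  (coeffOn_le_iff W _).mp le_rfl w hw

theorem coact_mem_range_map {W : Submodule k V} (hW : HopfRep.IsSubcomod (k := k) (A := C) W)
    {w : V} (hw : w ∈ W) :
    ρ k C V w ∈ LinearMap.range (TensorProduct.map W.subtype (coeffOn (C := C) W).subtype) :=
  mem_range_map_of_mem_of_mem W _ _ (hW w hw) (coact_mem_range_lTensor W hw)

theorem isSubcoalg_coeffOn {W : Submodule k V} (hW : HopfRep.IsSubcomod (k := k) (A := C) W) :
    IsSubcoalg (coeffOn (C := C) W) := by
  intro b hb
  refine Submodule.iSup_induction (fun φ : V →ₗ[k] k => W.map (coeffMap (C := C) φ))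
    (motive := fun b => CoalgebraStruct.comul (R := k) b ∈
      LinearMap.range (TensorProduct.map (coeffOn (C := C) W).subtype
        (coeffOn (C := C) W).subtype)) hb ?_ ?_ ?_
  · rintro φ _ ⟨w, hw, rfl⟩
    obtain ⟨z, hz⟩ := coact_mem_range_map hW hw
    let g' : W →ₗ[k] coeffOn (C := C) W :=
      LinearMap.codRestrict _ (coeffMap (C := C) φ ∘ₗ W.subtype)
        (fun x => coeffMap_mem_coeffOn W φ x.2)
    refine ⟨TensorProduct.map g' LinearMap.id z, ?_⟩
    rw [comul_coeffMap, ← hz, ← LinearMap.comp_apply, ← TensorProduct.map_comp,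
      LinearMap.rTensor_def, ← LinearMap.comp_apply, ← TensorProduct.map_comp]
    rfl
  · rw [map_zero]
    exact zero_mem _
  · intro x y hx hy
    rw [map_add]
    exact add_mem hx hy

theorem coeffOn_eq_bot_iff (W : Submodule k V) : coeffOn (C := C) W = ⊥ ↔ W = ⊥ := by
  constructor
  · intro h
    rw [Submodule.eq_bot_iff]
    intro w hw
    rw [← Module.forall_dual_apply_eq_zero_iff k w]
    intro φ
    have h1 : coeffMap (C := C) φ w ∈ coeffOn (C := C) W := coeffMap_mem_coeffOn W φ hw
    rw [h, Submodule.mem_bot] at h1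
    rw [← counit_coeffMap (C := C) φ w, h1, map_zero]
  · rintro rfl
    refine le_bot_iff.mp (iSup_le fun φ => ?_)
    rw [Submodule.map_bot]

theorem finite_coeffOn (W : Submodule k V) [Module.Finite k W] :
    Module.Finite k (coeffOn (C := C) W) := by
  obtain ⟨s, hs⟩ : W.FG := Module.Finite.iff_fg.mp inferInstance
  obtain ⟨F, hF, hsF⟩ := TensorProduct.exists_finite_submodule_right_of_setFinite
    ((ρ k C V) '' (s : Set V)) (s.finite_toSet.image _)
  have hle : coeffOn (C := C) W ≤ F := by
    rw [coeffOn_le_iff]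
    intro w hw
    rw [← hs] at hw
    have : Submodule.span k (s : Set V)
        ≤ (LinearMap.range (F.subtype.lTensor V)).comap (ρ k C V) := by
      rw [Submodule.span_le]
      intro x hx
      exact hsF ⟨x, hx, rfl⟩
    exact this hw
  exact Module.Finite.of_injective (Submodule.inclusion hle) (Submodule.inclusion_injective hle)

/-- Coefficient spaces only shrink along comodule maps. -/
theorem coeffOn_map_le {V' : Type w'} [AddCommGroup V'] [Module k V'] [HopfRep.Comod k C V']
    {f : V →ₗ[k] V'} (hf : Hoch.IsComodHom C f) (W : Submodule k V) :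
    coeffOn (C := C) (W.map f) ≤ coeffOn (C := C) W := by
  rw [coeffOn_le_iff]
  rintro _ ⟨w, hw, rfl⟩
  obtain ⟨y, hy⟩ := coact_mem_range_lTensor (C := C) W hw
  refine ⟨f.rTensor _ y, ?_⟩
  have h := Groth.Agent.H93.comodHom_apply hf w
  change ρ k C V' (f w) = f.rTensor C (ρ k C V w) at h
  rw [h, ← hy, ← LinearMap.comp_apply, ← LinearMap.comp_apply, LinearMap.lTensor_comp_rTensor,
    LinearMap.rTensor_comp_lTensor]

theorem coeffOn_map_eq {V' : Type w'} [AddCommGroup V'] [Module k V'] [HopfRep.Comod k C V']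
    {f : V →ₗ[k] V'} (hf : Hoch.IsComodHom C f) (hinj : Function.Injective f)
    (W : Submodule k V) :
    coeffOn (C := C) (W.map f) = coeffOn (C := C) W := by
  refine le_antisymm (coeffOn_map_le hf W) (iSup_le fun φ => ?_)
  rintro _ ⟨w, hw, rfl⟩
  obtain ⟨g, hg⟩ := f.exists_leftInverse_of_injective (LinearMap.ker_eq_bot.mpr hinj)
  have h := Groth.Agent.H93.comodHom_apply hf w
  change ρ k C V' (f w) = f.rTensor C (ρ k C V w) at h
  have e : coeffMap (C := C) φ w = coeffMap (C := C) (φ ∘ₗ g) (f w) := by
    rw [coeffMap_apply, coeffMap_apply, h, contrL_rTensor, LinearMap.comp_assoc, hg,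
      LinearMap.comp_id]
  rw [e]
  exact coeffMap_mem_coeffOn _ _ ⟨w, hw, rfl⟩

end comod

section regular

variable {k : Type u} [Field k] {C : Type v} [AddCommGroup C] [Module k C] [Coalgebra k C]

/-- For the regular comodule, `coeffMap ε = id`. -/
theorem coeffMap_counit (c : C) :
    coeffMap (C := C) (V := C) (CoalgebraStruct.counit (R := k) (A := C)) c = c := by
  rw [coeffMap_apply]
  show (TensorProduct.lid k C) ((CoalgebraStruct.counit (R := k) (A := C)).rTensor C
    (CoalgebraStruct.comul (R := k) c)) = c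
  rw [Coalgebra.rTensor_counit_comul, TensorProduct.lid_tmul, one_smul]

theorem le_coeffOn_regular (W : Submodule k C) : W ≤ coeffOn (C := C) (V := C) W := by
  intro w hw
  rw [← coeffMap_counit (k := k) w]
  exact coeffMap_mem_coeffOn W _ hw

theorem IsSubcoalg.isSubcomod {B : Submodule k C} (hB : IsSubcoalg B) :
    HopfRep.IsSubcomod (k := k) (A := C) (V := C) B := fun b hb =>
  range_map_le_range_rTensor B B (hB b hb)

theorem IsSubcoalg.coeffOn_eq {B : Submodule k C} (hB : IsSubcoalg B) :
    coeffOn (C := C) (V := C) B = B := by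
  refine le_antisymm ?_ (le_coeffOn_regular B)
  rw [coeffOn_le_iff]
  intro b hb
  exact range_map_le_range_lTensor B B (hB b hb)

/-- If `W ≤ B` with `B` a subcoalgebra then the coefficient space of `W` lies in `B`. -/
theorem coeffOn_le_of_le_isSubcoalg {B W : Submodule k C} (hB : IsSubcoalg B) (h : W ≤ B) :
    coeffOn (C := C) (V := C) W ≤ B :=
  (coeffOn_mono h).trans hB.coeffOn_eq.le

end regular

end Groth.Agent.H74.Coeff
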