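-- helper74: H⁰(X, O_X) ≃ Γ(X, ⊤) compatibly with the Γtop-action; consequences of finrank = 1.
import Groth.Prelude.Def_Coh
import Mathlib

set_option autoImplicit false
universe u
open CategoryTheory CategoryTheory.Limits AlgebraicGeometry Opposite TopologicalSpace

namespace Groth.Agent.H74.H0Top

variable (X : Scheme.{u})

noncomputable def e : Coh.HH X (Coh.structureModule X) 0 ≃+
    (Coh.toAb (Coh.structureModule X)).obj.obj (op (⊤ : Opens X)) :=
  Sheaf.H.equiv₀ (Coh.toAb (Coh.structureModule X)) (T := (⊤ : Opens X)) isTerminalTop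

lemma e_smul (r : Coh.Γtop X) (x : Coh.HH X (Coh.structureModule X) 0) :
    e X (r • x) = (Coh.smulAb (Coh.structureModule X) r).hom.app (op ⊤) (e X x) :=
  (Sheaf.H.equiv₀_naturality (T := (⊤ : Opens X)) isTerminalTop
    (Coh.smulAb (Coh.structureModule X) r) x).symm

/-- `H⁰(X, O_X)` as the ring of global functions. -/
noncomputable def e' : Coh.HH X (Coh.structureModule X) 0 ≃ Coh.Γtop X := (e X).toEquiv

lemma resTop_top (r : Coh.Γtop X) : Coh.resTop X (op ⊤) r = r := by
  unfold Coh.resTop
  have : (homOfLE (le_top (a := (op (⊤ : Opens X)).unop))).op = 𝟙 (op (⊤ : Opens X)) :=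
    Subsingleton.elim _ _
  rw [this]
  erw [CategoryTheory.Functor.map_id]
  rfl

lemma e'_smul (r : Coh.Γtop X) (x : Coh.HH X (Coh.structureModule X) 0) :
    e' X (r • x) = r * e' X x := by
  have h := e_smul X r x
  rw [Coh.smulAb_app, resTop_top] at h
  exact h

lemma e'_add (x y : Coh.HH X (Coh.structureModule X) 0) :
    e' X (x + y) = e' X x + e' X y := (e X).map_add x y

lemma e'_zero : e' X 0 = 0 := (e X).map_zero

theorem toGlobal_surjective (k : Type u) [Field k] [X.Over (Spec (CommRingCat.of k))]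
    (h0 : Module.finrank k (Coh.HH X (Coh.structureModule X) 0) = 1) :
    Function.Surjective (Coh.toGlobal (X ↘ Spec (CommRingCat.of k))) := by
  intro s
  set u := (e' X).symm 1 with hu
  have hu1 : e' X u = 1 := (e' X).apply_symm_apply 1
  have hne : u ≠ 0 := by
    intro h
    have hall : ∀ x : Coh.HH X (Coh.structureModule X) 0, x = 0 := fun x => by
      apply (e' X).injective
      rw [e'_zero]
      have := e'_smul X (e' X x) u
      rw [hu1, mul_one, h, smul_zero, e'_zero] at this
      exact this.symm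
    have : Subsingleton (Coh.HH X (Coh.structureModule X) 0) :=
      ⟨fun a b => by rw [hall a, hall b]⟩
    have := Module.finrank_zero_of_subsingleton (R := k)
      (M := Coh.HH X (Coh.structureModule X) 0)
    omega
  obtain ⟨c, hc⟩ := (finrank_eq_one_iff_of_nonzero' u hne).1 h0 ((e' X).symm s)
  refine ⟨c, ?_⟩
  have : e' X (c • u) = Coh.toGlobal (X ↘ Spec (CommRingCat.of k)) c * e' X u :=
    e'_smul X _ u
  rw [hc, hu1, mul_one, Equiv.apply_symm_apply] at this
  exact this.symm

theorem appTop_surjective (k : Type u) [Field k] [X.Over (Spec (CommRingCat.of k))]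
    (h0 : Module.finrank k (Coh.HH X (Coh.structureModule X) 0) = 1) :
    Function.Surjective (X ↘ Spec (CommRingCat.of k)).appTop.hom := by
  intro s
  obtain ⟨c, hc⟩ := toGlobal_surjective X k h0 s
  exact ⟨(Scheme.ΓSpecIso (CommRingCat.of k)).inv.hom c, hc⟩

/-- If `p : X ⟶ S` has a section `σ` and is surjective on global functions, every morphism from `X`
landing in an affine open factors through `p`. -/
theorem eq_of_range_subset_affine {X S Z : Scheme.{u}} (p : X ⟶ S) (σ : S ⟶ X)
    (hσ : σ ≫ p = 𝟙 S) (hp : Function.Surjective p.appTop.hom) (f : X ⟶ Z) (U : Z.Opens)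
    (hU : IsAffineOpen U) (hf : Set.range f.base ⊆ U) : f = p ≫ σ ≫ f := by
  have hr : Set.range f.base ⊆ Set.range U.ι.base := by rwa [Scheme.Opens.range_ι]
  set f' := IsOpenImmersion.lift U.ι f hr with hf'
  have fac : f' ≫ U.ι = f := IsOpenImmersion.lift_fac _ _ _
  have : IsAffine U := hU
  have key : f' = p ≫ σ ≫ f' := by
    apply ext_of_isAffine
    rw [Scheme.Hom.comp_appTop, Scheme.Hom.comp_appTop]
    have h1 : p.appTop ≫ σ.appTop = 𝟙 _ := by
      rw [← Scheme.Hom.comp_appTop, hσ]
      rfl
    have h2 : σ.appTop ≫ p.appTop = 𝟙 _ := by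
      ext y
      obtain ⟨z, rfl⟩ := hp y
      have := congrArg (fun φ => p.appTop.hom (φ.hom z)) h1
      simpa using this
    rw [Category.assoc, h2, Category.comp_id]
  calc f = f' ≫ U.ι := fac.symm
    _ = (p ≫ σ ≫ f') ≫ U.ι := by rw [← key]
    _ = p ≫ σ ≫ f := by rw [Category.assoc, Category.assoc, fac]

end Groth.Agent.H74.H0Top
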