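import Mathlib
import Groth.Prelude.Def_EtMil

/-!
Helper lemmas on Milnor squares (`EtMil.IsFibreSquare B' B A' A`).
-/

universe u

open TensorProduct

namespace Groth.Agent.H74.Milnor

variable {B' B A' A : Type u} [CommRing B'] [CommRing B] [CommRing A'] [CommRing A]
  [Algebra B' B] [Algebra B' A'] [Algebra B A] [Algebra A' A] [Algebra B' A]
  [IsScalarTower B' B A] [IsScalarTower B' A' A]

lemma comm (b' : B') :
    algebraMap B A (algebraMap B' B b') = algebraMap A' A (algebraMap B' A' b') := by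
  rw [← IsScalarTower.algebraMap_apply, ← IsScalarTower.algebraMap_apply]

omit [Algebra B' A] [IsScalarTower B' B A] [IsScalarTower B' A' A] in
lemma surj (hsq : EtMil.IsFibreSquare B' B A' A) : Function.Surjective (algebraMap B' B) := by
  intro b
  obtain ⟨a', ha'⟩ := hsq.1 (algebraMap B A b)
  obtain ⟨b', ⟨h1, -⟩, -⟩ := hsq.2 b a' ha'.symm
  exact ⟨b', h1⟩

lemma ext' (hsq : EtMil.IsFibreSquare B' B A' A) {x y : B'}
    (h1 : algebraMap B' B x = algebraMap B' B y)
    (h2 : algebraMap B' A' x = algebraMap B' A' y) : x = y := by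
  obtain ⟨z, -, hz⟩ := hsq.2 (algebraMap B' B x) (algebraMap B' A' x)
    (comm (B := B) (A' := A') (A := A) x)
  rw [hz x ⟨rfl, rfl⟩, hz y ⟨h1.symm, h2.symm⟩]

/-- For `j` in the kernel of `B' → B`, and `a' : A'`, the element of `B'` mapping to `0` and
`a' * j`. -/
lemma exists_mJ (hsq : EtMil.IsFibreSquare B' B A' A) (j : B') (hj : algebraMap B' B j = 0)
    (a' : A') : ∃ b' : B', algebraMap B' B b' = 0 ∧
      algebraMap B' A' b' = a' * algebraMap B' A' j := by
  have : algebraMap B A 0 = algebraMap A' A (a' * algebraMap B' A' j) := by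
    rw [map_zero, map_mul, ← comm (B := B) (A' := A') (A := A) j, hj, map_zero, mul_zero]
  obtain ⟨b', hb', -⟩ := hsq.2 0 _ this
  exact ⟨b', hb'⟩

/-- The `B'`-linear map `A' → B'`, `a' ↦ (0, a' * j)`. -/
noncomputable def mJ (hsq : EtMil.IsFibreSquare B' B A' A) (j : B')
    (hj : algebraMap B' B j = 0) : A' →ₗ[B'] B' where
  toFun a' := (exists_mJ hsq j hj a').choose
  map_add' x y := by
    apply ext' hsq
    · rw [map_add, (exists_mJ hsq j hj (x + y)).choose_spec.1,
        (exists_mJ hsq j hj x).choose_spec.1, (exists_mJ hsq j hj y).choose_spec.1, add_zero]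
    · rw [map_add, (exists_mJ hsq j hj (x + y)).choose_spec.2,
        (exists_mJ hsq j hj x).choose_spec.2, (exists_mJ hsq j hj y).choose_spec.2, add_mul]
  map_smul' c x := by
    apply ext' hsq
    · rw [RingHom.id_apply, smul_eq_mul, map_mul, (exists_mJ hsq j hj (c • x)).choose_spec.1,
        (exists_mJ hsq j hj x).choose_spec.1, mul_zero]
    · rw [RingHom.id_apply, smul_eq_mul, map_mul, (exists_mJ hsq j hj (c • x)).choose_spec.2,
        (exists_mJ hsq j hj x).choose_spec.2, Algebra.smul_def, mul_assoc]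

lemma mJ_one (hsq : EtMil.IsFibreSquare B' B A' A) (j : B') (hj : algebraMap B' B j = 0) :
    mJ hsq j hj 1 = j := by
  apply ext' hsq
  · exact ((exists_mJ hsq j hj 1).choose_spec.1).trans hj.symm
  · exact ((exists_mJ hsq j hj 1).choose_spec.2).trans (one_mul _)

/-- If `1 ⊗ l = 0` in `A' ⊗ L'`, then the kernel `J` of `B' → B` kills `l`. -/
theorem smul_eq_zero_of_tmul_eq_zero (hsq : EtMil.IsFibreSquare B' B A' A)
    {L' : Type*} [AddCommGroup L'] [Module B' L'] (l : L')
    (h2 : ((1 : A') ⊗ₜ[B'] l : A' ⊗[B'] L') = 0) (j : B') (hj : algebraMap B' B j = 0) :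
    j • l = 0 := by
  let ψ : A' ⊗[B'] L' →ₗ[B'] L' :=
    TensorProduct.lift ((LinearMap.lsmul B' L').comp (mJ hsq j hj))
  have : ψ ((1 : A') ⊗ₜ[B'] l) = j • l := by
    simp only [ψ, TensorProduct.lift.tmul, LinearMap.comp_apply, LinearMap.lsmul_apply, mJ_one]
  rw [← this, h2, map_zero]

omit [Algebra B' A] [IsScalarTower B' B A] [IsScalarTower B' A' A] in
/-- If `1 ⊗ l = 0` in `B ⊗ L'`, then `l ∈ J L'`. -/
theorem mem_smul_top_of_tmul_eq_zero (hsq : EtMil.IsFibreSquare B' B A' A)
    {L' : Type*} [AddCommGroup L'] [Module B' L'] (l : L')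
    (h1 : ((1 : B) ⊗ₜ[B'] l : B ⊗[B'] L') = 0) :
    l ∈ (RingHom.ker (algebraMap B' B)) • (⊤ : Submodule B' L') := by
  set N : Submodule B' L' := (RingHom.ker (algebraMap B' B)) • (⊤ : Submodule B' L') with hN
  have hsurj : Function.Surjective (Algebra.linearMap B' B) := surj hsq
  let θ : B' →ₗ[B'] (L' →ₗ[B'] (L' ⧸ N)) := LinearMap.toSpanSingleton B' _ N.mkQ
  have hθ : LinearMap.ker (Algebra.linearMap B' B) ≤ LinearMap.ker θ := by
    intro j hj
    rw [LinearMap.mem_ker] at hj ⊢
    ext x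
    simp only [θ, LinearMap.toSpanSingleton_apply, LinearMap.smul_apply, Submodule.mkQ_apply,
      LinearMap.zero_apply]
    rw [← Submodule.Quotient.mk_smul, Submodule.Quotient.mk_eq_zero]
    exact Submodule.smul_mem_smul (by simpa [RingHom.mem_ker] using hj) Submodule.mem_top
  let f : B →ₗ[B'] (L' →ₗ[B'] (L' ⧸ N)) :=
    (Submodule.liftQ _ θ hθ).comp
      ((Algebra.linearMap B' B).quotKerEquivOfSurjective hsurj).symm.toLinearMap
  have hf1 : f 1 = N.mkQ := by
    have h1' : (1 : B) = Algebra.linearMap B' B 1 := by simp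
    show (Submodule.liftQ _ θ hθ)
      (((Algebra.linearMap B' B).quotKerEquivOfSurjective hsurj).symm 1) = _
    rw [h1', LinearMap.quotKerEquivOfSurjective_symm_apply, Submodule.liftQ_apply]
    simp [θ]
  let ψ : B ⊗[B'] L' →ₗ[B'] (L' ⧸ N) := TensorProduct.lift f
  have : ψ ((1 : B) ⊗ₜ[B'] l) = N.mkQ l := by
    simp only [ψ, TensorProduct.lift.tmul, hf1]
  rw [h1, map_zero] at this
  exact (Submodule.Quotient.mk_eq_zero N).mp this.symm

end Groth.Agent.H74.Milnor
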