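import Mathlib
import Groth.Prelude.Def_EtMil
import Groth.Agent.H74.Milnor

/-!
Descent of flatness along a Milnor square (`EtMil.IsFibreSquare B' B A' A`), and some generic
tensor-product lemmas.
-/

universe u

open TensorProduct

namespace Groth.Agent.H74.Milnor

section generic

/-- Dévissage lemma: given `u : P₀ → P₁`, `g : P₁ → P₂`, a cokernel `p₁ : P₁ → Q₁` of `u`, and a
compatible map `g' : Q₁ → Q₂`, if `(g ∘ u) ⊗ L` and `g' ⊗ L` are injective then so is `g ⊗ L`. -/
lemma rTensor_injective_of_devissage {R : Type*} [CommRing R]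
    (L : Type*) [AddCommGroup L] [Module R L]
    {P₀ P₁ P₂ Q₁ Q₂ : Type*} [AddCommGroup P₀] [Module R P₀] [AddCommGroup P₁] [Module R P₁]
    [AddCommGroup P₂] [Module R P₂] [AddCommGroup Q₁] [Module R Q₁] [AddCommGroup Q₂] [Module R Q₂]
    (u : P₀ →ₗ[R] P₁) (g : P₁ →ₗ[R] P₂) (p₁ : P₁ →ₗ[R] Q₁) (p₂ : P₂ →ₗ[R] Q₂)
    (g' : Q₁ →ₗ[R] Q₂)
    (hcomm : g' ∘ₗ p₁ = p₂ ∘ₗ g) (hex : Function.Exact u p₁) (hsurj : Function.Surjective p₁)
    (h0 : Function.Injective ((g ∘ₗ u).rTensor L)) (h1 : Function.Injective (g'.rTensor L)) :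
    Function.Injective (g.rTensor L) := by
  rw [injective_iff_map_eq_zero]
  intro x hx
  have h2 : (g'.rTensor L) (p₁.rTensor L x) = 0 := by
    rw [← LinearMap.comp_apply, ← LinearMap.rTensor_comp, hcomm, LinearMap.rTensor_comp,
      LinearMap.comp_apply, hx, map_zero]
  have h3 : p₁.rTensor L x = 0 := h1 (by rw [h2, map_zero])
  obtain ⟨y, rfl⟩ := (rTensor_exact L hex hsurj x).mp h3
  have h4 : (g ∘ₗ u).rTensor L y = 0 := by
    rw [LinearMap.rTensor_comp, LinearMap.comp_apply, hx]
  have h5 : y = 0 := h0 (by rw [h4, map_zero])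
  rw [h5, map_zero]

/-- If `S ⊗[R] L` is flat over `S`, then `- ⊗[R] L` preserves injective `S`-linear maps between
`S`-modules. -/
lemma rTensor_injective_of_flat_baseChange {R : Type*} [CommRing R] (S : Type*) [CommRing S]
    [Algebra R S] (L : Type*) [AddCommGroup L] [Module R L] [Module.Flat S (S ⊗[R] L)]
    {Q₁ Q₂ : Type*} [AddCommGroup Q₁] [Module R Q₁] [Module S Q₁] [IsScalarTower R S Q₁]
    [AddCommGroup Q₂] [Module R Q₂] [Module S Q₂] [IsScalarTower R S Q₂]
    (f : Q₁ →ₗ[S] Q₂) (hf : Function.Injective f) :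
    Function.Injective ((f.restrictScalars R).rTensor L) := by
  have hflat : Function.Injective (f.rTensor (S ⊗[R] L)) :=
    Module.Flat.rTensor_preserves_injective_linearMap f hf
  have hcomm : ∀ t : Q₁ ⊗[S] (S ⊗[R] L),
      (f.restrictScalars R).rTensor L (AlgebraTensorModule.cancelBaseChange R S S Q₁ L t)
        = AlgebraTensorModule.cancelBaseChange R S S Q₂ L (f.rTensor (S ⊗[R] L) t) := by
    intro t
    induction t using TensorProduct.induction_on with
    | zero => simp
    | tmul q sl =>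
      induction sl using TensorProduct.induction_on with
      | zero => simp
      | tmul s l => simp
      | add x y hx hy => simp only [tmul_add, map_add, hx, hy]
    | add x y hx hy => simp only [map_add, hx, hy]
  intro x y hxy
  obtain ⟨x', rfl⟩ := (AlgebraTensorModule.cancelBaseChange R S S Q₁ L).surjective x
  obtain ⟨y', rfl⟩ := (AlgebraTensorModule.cancelBaseChange R S S Q₁ L).surjective y
  rw [hcomm, hcomm] at hxy
  rw [hflat ((AlgebraTensorModule.cancelBaseChange R S S Q₂ L).injective hxy)]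

lemma smul_eq_smul_of_algebraMap_eq {R : Type*} [CommRing R] {S : Type*} [CommRing S]
    [Algebra R S] {Q : Type*} [AddCommGroup Q] [Module R Q]
    (hQ : ∀ r : R, algebraMap R S r = 0 → ∀ q : Q, r • q = 0) (r r' : R)
    (hrr' : algebraMap R S r = algebraMap R S r') (q : Q) : r • q = r' • q := by
  have := hQ (r - r') (by rw [map_sub, hrr', sub_self]) q
  rwa [sub_smul, sub_eq_zero] at this

/-- Variant for `R`-modules killed by the kernel of a surjection `R → S`. -/
lemma rTensor_injective_of_torsion {R : Type*} [CommRing R] (S : Type*) [CommRing S]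
    [Algebra R S] (hs : Function.Surjective (algebraMap R S))
    (L : Type*) [AddCommGroup L] [Module R L] [Module.Flat S (S ⊗[R] L)]
    {Q₁ Q₂ : Type*} [AddCommGroup Q₁] [Module R Q₁] [AddCommGroup Q₂] [Module R Q₂]
    (hQ₂ : ∀ r : R, algebraMap R S r = 0 → ∀ q : Q₂, r • q = 0)
    (f : Q₁ →ₗ[R] Q₂) (hf : Function.Injective f) :
    Function.Injective (f.rTensor L) := by
  have hQ₁ : ∀ r : R, algebraMap R S r = 0 → ∀ q : Q₁, r • q = 0 := fun r hr q =>
    hf (by rw [map_smul, hQ₂ r hr, map_zero])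
  let i₁ : SMul S Q₁ := ⟨fun s q => (hs s).choose • q⟩
  let i₂ : SMul S Q₂ := ⟨fun s q => (hs s).choose • q⟩
  have hsm₁ : ∀ (c : R) (x : Q₁), algebraMap R S c • x = c • x := fun c x =>
    smul_eq_smul_of_algebraMap_eq hQ₁ _ _ (hs (algebraMap R S c)).choose_spec x
  have hsm₂ : ∀ (c : R) (x : Q₂), algebraMap R S c • x = c • x := fun c x =>
    smul_eq_smul_of_algebraMap_eq hQ₂ _ _ (hs (algebraMap R S c)).choose_spec x
  let m₁ : Module S Q₁ := hs.moduleLeft (algebraMap R S) hsm₁
  let m₂ : Module S Q₂ := hs.moduleLeft (algebraMap R S) hsm₂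
  have t₁ : IsScalarTower R S Q₁ := IsScalarTower.of_algebraMap_smul hsm₁
  have t₂ : IsScalarTower R S Q₂ := IsScalarTower.of_algebraMap_smul hsm₂
  let f' : Q₁ →ₗ[S] Q₂ :=
    { toFun := f
      map_add' := f.map_add
      map_smul' := fun s q => by
        obtain ⟨r, rfl⟩ := hs s
        rw [RingHom.id_apply, hsm₁, hsm₂]
        exact f.map_smul r q }
  exact rTensor_injective_of_flat_baseChange S L f' hf

/-- If `0 → N₁ → N₂ → N₃ → 0` is exact with `N₃` flat, then `P ⊗ N₁ → P ⊗ N₂` is injective for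
every module `P`. -/
lemma lTensor_injective_of_flat_quotient {R : Type*} [CommRing R]
    {N₁ N₂ N₃ : Type*} [AddCommGroup N₁] [Module R N₁] [AddCommGroup N₂] [Module R N₂]
    [AddCommGroup N₃] [Module R N₃] (g₁ : N₁ →ₗ[R] N₂) (g₂ : N₂ →ₗ[R] N₃)
    (hex : Function.Exact g₁ g₂) (hsurj : Function.Surjective g₂) (hinj : Function.Injective g₁)
    [Module.Flat R N₃] (P : Type*) [AddCommGroup P] [Module R P] :
    Function.Injective (g₁.lTensor P) := by
  let π : (P →₀ R) →ₗ[R] P := Finsupp.linearCombination R id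
  have hπ : Function.Surjective π := Finsupp.linearCombination_id_surjective R P
  refine lTensor_injective_of_exact_of_exact_of_rTensor_injective
    (M₁ := LinearMap.ker π) (M₂ := P →₀ R) (M₃ := P) (f₁ := (LinearMap.ker π).subtype) (f₂ := π)
    (g₁ := g₁) (g₂ := g₂) (LinearMap.exact_subtype_ker_map π) hπ hex hsurj ?_ ?_
  · exact Module.Flat.rTensor_preserves_injective_linearMap _ (Submodule.injective_subtype _)
  · exact Module.Flat.lTensor_preserves_injective_linearMap g₁ hinj

end generic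

variable {B' B A' A : Type u} [CommRing B'] [CommRing B] [CommRing A'] [CommRing A]
  [Algebra B' B] [Algebra B' A'] [Algebra B A] [Algebra A' A] [Algebra B' A]
  [IsScalarTower B' B A] [IsScalarTower B' A' A]

lemma eq_zero_of_ker (hsq : EtMil.IsFibreSquare B' B A' A) (x : B')
    (h1 : algebraMap B' B x = 0) (h2 : algebraMap B' A' x = 0) : x = 0 :=
  ext' hsq (by rw [h1, map_zero]) (by rw [h2, map_zero])

omit [Algebra B' A] [IsScalarTower B' B A] [IsScalarTower B' A' A] in
lemma exists_of_mem_ker (hsq : EtMil.IsFibreSquare B' B A' A) (a' : A')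
    (ha : algebraMap A' A a' = 0) :
    ∃ i : B', algebraMap B' B i = 0 ∧ algebraMap B' A' i = a' := by
  obtain ⟨i, ⟨h1, h2⟩, -⟩ := hsq.2 0 a' (by rw [map_zero, ha])
  exact ⟨i, h1, h2⟩

/-- Flatness of the base changes implies `J ⊗ L' → L'` injective for `J ≤ ker (B' → B)`. -/
theorem rTensor_injective_of_le_ker (hsq : EtMil.IsFibreSquare B' B A' A)
    (L' : Type*) [AddCommGroup L'] [Module B' L']
    [Module.Flat B (B ⊗[B'] L')] [Module.Flat A' (A' ⊗[B'] L')]
    (J : Ideal B') (hJ : J ≤ RingHom.ker (algebraMap B' B)) :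
    Function.Injective (J.subtype.rTensor L') := by
  classical
  let φ : B' →+* A' := algebraMap B' A'
  let I' : Ideal A' := RingHom.ker (algebraMap A' A)
  let K : Ideal A' := Ideal.map φ J
  -- key containment: `I' * K ⊆ φ(J)`
  have hIK : ∀ k ∈ K, ∀ i' ∈ I', ∃ j ∈ J, φ j = i' * k := by
    intro k hk
    have hk' : k ∈ Submodule.span A' (φ '' (J : Set B')) := hk
    induction hk' using Submodule.span_induction with
    | mem x h =>
      obtain ⟨j₀, hj₀, rfl⟩ := h
      intro i' hi'
      obtain ⟨i, -, hi⟩ := exists_of_mem_ker hsq i' (RingHom.mem_ker.mp hi')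
      exact ⟨i * j₀, J.mul_mem_left i hj₀, by rw [map_mul]; exact congrArg (· * φ j₀) hi⟩
    | zero =>
      intro i' _
      exact ⟨0, J.zero_mem, by rw [map_zero, mul_zero]⟩
    | add x y hx hy ihx ihy =>
      intro i' hi'
      obtain ⟨j₁, hj₁, h₁⟩ := ihx hx i' hi'
      obtain ⟨j₂, hj₂, h₂⟩ := ihy hy i' hi'
      exact ⟨j₁ + j₂, J.add_mem hj₁ hj₂, by rw [map_add, h₁, h₂, mul_add]⟩
    | smul a x hx ih =>
      intro i' hi'
      obtain ⟨j, hj, h⟩ := ih hx (i' * a) (I'.mul_mem_right a hi')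
      exact ⟨j, hj, by rw [h, smul_eq_mul, mul_assoc]⟩
  have hP₀ : ∀ p ∈ I' * K, ∃ j ∈ J, φ j = p := by
    intro p hp
    refine Submodule.mul_induction_on hp ?_ ?_
    · intro i' hi' k hk
      exact hIK k hk i' hi'
    · rintro x y ⟨j₁, hj₁, h₁⟩ ⟨j₂, hj₂, h₂⟩
      exact ⟨j₁ + j₂, J.add_mem hj₁ hj₂, by rw [map_add, h₁, h₂]⟩
  -- the maps
  let g : J →ₗ[B'] K :=
    { toFun := fun j => ⟨φ j.1, Ideal.mem_map_of_mem φ j.2⟩
      map_add' := fun x y => Subtype.ext (map_add φ x.1 y.1)
      map_smul' := fun c x => Subtype.ext (by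
        show φ (c * (x : B')) = c • φ (x : B')
        rw [map_mul, Algebra.smul_def]) }
  have hg_inj : Function.Injective g := by
    rw [injective_iff_map_eq_zero]
    intro j hj
    have h0 : φ j = 0 := congrArg Subtype.val hj
    exact Subtype.ext (eq_zero_of_ker hsq j (RingHom.mem_ker.mp (hJ j.2)) h0)
  let g₀ : J →ₗ[B'] A' := (Algebra.linearMap B' A').comp J.subtype
  have hg₀_inj : Function.Injective g₀ := by
    rw [injective_iff_map_eq_zero]
    intro j hj
    exact Subtype.ext (eq_zero_of_ker hsq j (RingHom.mem_ker.mp (hJ j.2)) hj)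
  let e := LinearEquiv.ofInjective g₀ hg₀_inj
  let incl : ↥(I' * K) →ₗ[B'] LinearMap.range g₀ :=
    LinearMap.codRestrict (LinearMap.range g₀) (((I' * K).subtype).restrictScalars B')
      (fun p => by
        obtain ⟨j, hj, h⟩ := hP₀ p p.2
        exact ⟨⟨j, hj⟩, h⟩)
  let u : ↥(I' * K) →ₗ[B'] J := e.symm.toLinearMap ∘ₗ incl
  have hu : ∀ p : ↥(I' * K), φ (u p) = p := by
    intro p
    have h := e.apply_symm_apply (incl p)
    exact congrArg Subtype.val h
  let incK : ↥(I' * K) →ₗ[B'] K :=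
    (Submodule.inclusion (Ideal.mul_le_right : I' * K ≤ K)).restrictScalars B'
  have hgu : g ∘ₗ u = incK := LinearMap.ext fun p => Subtype.ext (hu p)
  have h0 : Function.Injective ((g ∘ₗ u).rTensor L') := by
    rw [hgu]
    exact rTensor_injective_of_flat_baseChange A' L'
      (Submodule.inclusion (Ideal.mul_le_right : I' * K ≤ K)) (Submodule.inclusion_injective _)
  let W : Submodule B' K := LinearMap.range incK
  let g' : (J ⧸ LinearMap.range u) →ₗ[B'] (K ⧸ W) :=
    Submodule.mapQ (LinearMap.range u) W g (by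
      rintro _ ⟨p, rfl⟩
      exact ⟨p, (LinearMap.congr_fun hgu p).symm⟩)
  have hcomm : g' ∘ₗ (LinearMap.range u).mkQ = W.mkQ ∘ₗ g := LinearMap.ext fun x => rfl
  have hg'_inj : Function.Injective g' := by
    rw [injective_iff_map_eq_zero]
    intro x hx
    obtain ⟨j, rfl⟩ := Submodule.Quotient.mk_surjective _ x
    rw [Submodule.mapQ_apply, Submodule.Quotient.mk_eq_zero] at hx
    obtain ⟨p, hp⟩ := hx
    have hup : u p = j := hg_inj ((LinearMap.congr_fun hgu p).trans hp)
    rw [Submodule.Quotient.mk_eq_zero]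
    exact ⟨p, hup⟩
  have hQ₂ : ∀ r : B', algebraMap B' B r = 0 → ∀ q : K ⧸ W, r • q = 0 := by
    intro r hr q
    obtain ⟨k, rfl⟩ := Submodule.Quotient.mk_surjective _ q
    rw [← Submodule.Quotient.mk_smul, Submodule.Quotient.mk_eq_zero]
    have hr' : φ r ∈ I' := by
      rw [RingHom.mem_ker, ← comm (B := B) (A' := A') (A := A) r, hr, map_zero]
    refine ⟨⟨φ r * k, Ideal.mul_mem_mul hr' k.2⟩, Subtype.ext ?_⟩
    show φ r * (k : A') = r • (k : A')
    rw [Algebra.smul_def]
  have h1 : Function.Injective (g'.rTensor L') :=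
    rTensor_injective_of_torsion B (surj hsq) L' hQ₂ g' hg'_inj
  have hTg : Function.Injective (g.rTensor L') :=
    rTensor_injective_of_devissage L' u g (LinearMap.range u).mkQ W.mkQ g' hcomm
      (LinearMap.exact_map_mkQ_range u) (Submodule.mkQ_surjective _) h0 h1
  have hTK : Function.Injective (((K.subtype).restrictScalars B').rTensor L') :=
    rTensor_injective_of_flat_baseChange A' L' K.subtype K.injective_subtype
  have hcomp : ((K.subtype).restrictScalars B') ∘ₗ g = (Algebra.linearMap B' A') ∘ₗ J.subtype :=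
    LinearMap.ext fun j => rfl
  have hinj : Function.Injective (((Algebra.linearMap B' A') ∘ₗ J.subtype).rTensor L') := by
    rw [← hcomp, LinearMap.rTensor_comp, LinearMap.coe_comp]
    exact hTK.comp hTg
  rw [LinearMap.rTensor_comp, LinearMap.coe_comp] at hinj
  exact Function.Injective.of_comp hinj

/-- Descent of flatness along a Milnor square. -/
theorem flat_of_flat_baseChangePair (hsq : EtMil.IsFibreSquare B' B A' A)
    (L' : Type*) [AddCommGroup L'] [Module B' L']
    [Module.Flat B (B ⊗[B'] L')] [Module.Flat A' (A' ⊗[B'] L')] : Module.Flat B' L' := by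
  rw [Module.Flat.iff_rTensor_injective']
  intro 𝔞
  let I : Ideal B' := RingHom.ker (algebraMap B' B)
  have hb := rTensor_injective_of_le_ker hsq L' (𝔞 ⊓ I) inf_le_right
  let Q₁ : Ideal B := Ideal.map (algebraMap B' B) 𝔞
  let u : ↥(𝔞 ⊓ I) →ₗ[B'] 𝔞 := Submodule.inclusion inf_le_left
  let p₁ : 𝔞 →ₗ[B'] Q₁ :=
    { toFun := fun a => ⟨algebraMap B' B a.1, Ideal.mem_map_of_mem _ a.2⟩
      map_add' := fun x y => Subtype.ext (map_add (algebraMap B' B) x.1 y.1)
      map_smul' := fun c x => Subtype.ext (by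
        show algebraMap B' B (c * (x : B')) = c • algebraMap B' B (x : B')
        rw [map_mul, Algebra.smul_def]) }
  let g' : Q₁ →ₗ[B'] B := Q₁.subtype.restrictScalars B'
  refine rTensor_injective_of_devissage L' u 𝔞.subtype p₁ (Algebra.linearMap B' B) g' ?_ ?_ ?_ ?_ ?_
  · exact LinearMap.ext fun a => rfl
  · intro a
    constructor
    · intro h
      have h' : algebraMap B' B a = 0 := congrArg Subtype.val h
      exact ⟨⟨a, ⟨a.2, RingHom.mem_ker.mpr h'⟩⟩, Subtype.ext rfl⟩
    · rintro ⟨x, rfl⟩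
      exact Subtype.ext (RingHom.mem_ker.mp x.2.2)
  · rintro ⟨b, hb⟩
    obtain ⟨a, ha, rfl⟩ := (Ideal.mem_map_iff_of_surjective _ (surj hsq)).mp hb
    exact ⟨⟨a, ha⟩, rfl⟩
  · have h : 𝔞.subtype ∘ₗ u = (𝔞 ⊓ I).subtype := LinearMap.ext fun _ => rfl
    rw [h]
    exact hb
  · exact rTensor_injective_of_flat_baseChange B L' Q₁.subtype Q₁.injective_subtype

end Groth.Agent.H74.Milnor
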