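-- helper74 (for helper34's S1847 squad): length of B/(b) is unchanged along an injective map
-- B → B' with A-torsion cokernel (A noetherian of dimension ≤ 1).
import Mathlib
import Groth.Agent.H34.RelLen

set_option autoImplicit false
universe u

namespace Groth.Agent.H74.LenInj

open Groth.Agent.H34.RelLen

theorem length_quot_eq_of_injective {A : Type u} [CommRing A] [IsNoetherianRing A]
    [Ring.KrullDimLE 1 A] {B B' : Type u} [CommRing B] [CommRing B'] [Algebra A B] [Algebra A B']
    [Module.Finite A B'] (f : B →ₐ[A] B') (hf : Function.Injective f) (c : A)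
    (hc : c ∈ nonZeroDivisors A) (hcB : ∀ y : B', ∃ z : B, f z = c • y) (b : B)
    (hb : f b ∈ nonZeroDivisors B') :
    Module.length A (B ⧸ Ideal.span {b}) = Module.length A (B' ⧸ Ideal.span {f b}) := by
  set μ : B' →ₗ[A] B' := LinearMap.mulLeft A (f b) with hμ
  have hμinj : Function.Injective μ := by
    intro x y hxy
    exact (mul_cancel_left_mem_nonZeroDivisors hb).mp hxy
  set N : Submodule A B' := LinearMap.range f.toLinearMap with hN
  have h1 : N.map μ ≤ N := by
    rintro _ ⟨_, ⟨x, rfl⟩, rfl⟩
    exact ⟨b * x, by simp [hμ]⟩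
  have h3 : N.map μ ≤ (⊤ : Submodule A B').map μ := Submodule.map_mono le_top
  have e1 := rl_add h1 (le_top : N ≤ ⊤)
  have e2 := rl_add h3 (le_top : (⊤ : Submodule A B').map μ ≤ ⊤)
  have e3 := rl_map μ hμinj ⊤ N
  have hfin : rl (⊤ : Submodule A B') N ≠ ⊤ := by
    refine rl_ne_top ⊤ N Module.Finite.fg_top c hc ?_
    intro x _
    obtain ⟨z, hz⟩ := hcB x
    exact ⟨z, hz⟩
  have key : rl N (N.map μ) = rl (⊤ : Submodule A B') ((⊤ : Submodule A B').map μ) := by
    rw [e3, e1] at e2
    have e4 : rl (⊤ : Submodule A B') N + rl N (N.map μ) =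
        rl (⊤ : Submodule A B') N + rl (⊤ : Submodule A B') ((⊤ : Submodule A B').map μ) := by
      rw [add_comm, e2]
    exact ENat.add_right_injective_of_ne_top hfin e4
  -- identify the right-hand side
  have hR : Module.length A (B' ⧸ Ideal.span {f b}) =
      rl (⊤ : Submodule A B') ((⊤ : Submodule A B').map μ) := by
    have hK : (⊤ : Submodule A B').map μ = (Ideal.span {f b}).restrictScalars A := by
      ext y
      rw [Submodule.restrictScalars_mem, Ideal.mem_span_singleton']
      constructor
      · rintro ⟨x, _, rfl⟩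
        exact ⟨x, by simp [hμ, mul_comm]⟩
      · rintro ⟨a, rfl⟩
        exact ⟨a, Submodule.mem_top, by simp [hμ, mul_comm]⟩
    unfold rl
    rw [hK]
    symm
    refine LinearEquiv.length_eq ?_
    refine (Submodule.Quotient.equiv _ _ (Submodule.topEquiv (R := A) (M := B')) ?_).trans
      (Submodule.Quotient.restrictScalarsEquiv A (Ideal.span {f b}))
    ext y
    simp [Submodule.submoduleOf, Submodule.mem_map]
  -- identify the left-hand side
  have hL : Module.length A (B ⧸ Ideal.span {b}) = rl N (N.map μ) := by
    unfold rl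
    refine LinearEquiv.length_eq ?_
    have e₂ : (B ⧸ (Ideal.span {b}).restrictScalars A) ≃ₗ[A]
        (↥N ⧸ (N.map μ).submoduleOf N) := by
      refine Submodule.Quotient.equiv _ _ (LinearEquiv.ofInjective f.toLinearMap hf) ?_
      ext ⟨y, hy⟩
      obtain ⟨x, rfl⟩ := hy
      simp only [Submodule.mem_map, Submodule.restrictScalars_mem, Ideal.mem_span_singleton',
        Submodule.submoduleOf, Submodule.mem_comap, Submodule.subtype_apply]
      constructor
      · rintro ⟨x', ⟨a, rfl⟩, hx'⟩
        have hx'' : f (a * b) = f x := congrArg Subtype.val hx'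
        refine ⟨f a, ⟨a, rfl⟩, ?_⟩
        show f b * f a = f x
        rw [← hx'', map_mul, mul_comm]
      · rintro ⟨_, ⟨a, rfl⟩, ha⟩
        have ha' : f (b * a) = f x := by
          rw [map_mul]
          exact ha
        have hx : x = b * a := (hf ha').symm
        refine ⟨x, ⟨a, by rw [hx, mul_comm]⟩, ?_⟩
        rfl
    exact (Submodule.Quotient.restrictScalarsEquiv A (Ideal.span {b})).symm.trans e₂
  rw [hL, hR, key]

end Groth.Agent.H74.LenInj
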