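import Mathlib
import Groth.Agent.H68.SpreadDefs

/-!
# helper74 for helper68: (E) invariance under the descent datum spreads to a finite stage
-/

set_option autoImplicit false
set_option backward.isDefEq.respectTransparency false
set_option backward.isDefEq.respectTransparency.types false
universe u
open CategoryTheory CategoryTheory.Limits AlgebraicGeometry Opposite Desc
open Groth.Agent.H51.DescCrit Groth.Agent.H49 Groth.Agent.H24 Groth.Agent.H68.SubmFpqc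
  Groth.Agent.H68.Spread

namespace Groth.Agent.H74.SpreadE

section Universal

variable {B S' : Scheme.{u}} (g : S' ⟶ B) (𝒟 : SchDDFam (fun _ : PUnit.{1} => g))

/-- `R₀ = V ×_B S'`. -/
noncomputable abbrev R₀ : Scheme.{u} := pullback ((𝒟.obj PUnit.unit).hom ≫ g) g

/-- structure map of `R₀`. -/
noncomputable abbrev r₀ : R₀ g 𝒟 ⟶ B :=
  pullback.fst ((𝒟.obj PUnit.unit).hom ≫ g) g ≫ (𝒟.obj PUnit.unit).hom ≫ g

/-- the universal translated point -/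
noncomputable def w₀L :
    Lifts (𝒟.obj PUnit.unit) (pullback.snd ((𝒟.obj PUnit.unit).hom ≫ g) g) :=
  𝒟.φ (i := PUnit.unit) (j := PUnit.unit)
    (pullback.fst ((𝒟.obj PUnit.unit).hom ≫ g) g ≫ (𝒟.obj PUnit.unit).hom)
    (pullback.snd ((𝒟.obj PUnit.unit).hom ≫ g) g)
    (by simpa only [Category.assoc] using
      pullback.condition (f := (𝒟.obj PUnit.unit).hom ≫ g) (g := g))
    ⟨pullback.fst ((𝒟.obj PUnit.unit).hom ≫ g) g, rfl⟩

/-- the universal translated point, as a morphism -/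
noncomputable def w₀ : R₀ g 𝒟 ⟶ (𝒟.obj PUnit.unit).left := (w₀L g 𝒟).1

theorem w₀_hom : w₀ g 𝒟 ≫ (𝒟.obj PUnit.unit).hom =
    pullback.snd ((𝒟.obj PUnit.unit).hom ≫ g) g := (w₀L g 𝒟).2

variable {S₁ : Scheme.{u}} (p : S₁ ⟶ B)

theorem α_cond : ((pullback.fst (r₀ g 𝒟) p ≫ pullback.fst ((𝒟.obj PUnit.unit).hom ≫ g) g) ≫
    (Vo g 𝒟).hom) ≫ g = pullback.snd (r₀ g 𝒟) p ≫ p := by
  have := pullback.condition (f := r₀ g 𝒟) (g := p)
  simpa only [Category.assoc] using this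

/-- the tautological point of `V_p` over `R_p`. -/
noncomputable def α : pullback (r₀ g 𝒟) p ⟶
    pullback (𝒟.obj PUnit.unit).hom (pullback.fst g p) :=
  pt g p 𝒟 (pullback.fst (r₀ g 𝒟) p ≫ pullback.fst ((𝒟.obj PUnit.unit).hom ≫ g) g)
    (pullback.snd (r₀ g 𝒟) p) (α_cond g 𝒟 p)

theorem β_cond : ((pullback.fst (r₀ g 𝒟) p ≫ w₀ g 𝒟) ≫ (Vo g 𝒟).hom) ≫ g =
    pullback.snd (r₀ g 𝒟) p ≫ p := by
  have c1 := pullback.condition (f := r₀ g 𝒟) (g := p)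
  have c2 := pullback.condition (f := (𝒟.obj PUnit.unit).hom ≫ g) (g := g)
  calc ((pullback.fst (r₀ g 𝒟) p ≫ w₀ g 𝒟) ≫ (Vo g 𝒟).hom) ≫ g
      = pullback.fst (r₀ g 𝒟) p ≫ (w₀ g 𝒟 ≫ (𝒟.obj PUnit.unit).hom) ≫ g := by
        simp only [Category.assoc]
    _ = pullback.fst (r₀ g 𝒟) p ≫ pullback.snd ((𝒟.obj PUnit.unit).hom ≫ g) g ≫ g := by
        rw [w₀_hom]
    _ = pullback.fst (r₀ g 𝒟) p ≫ r₀ g 𝒟 := by
        rw [← c2]
    _ = _ := c1

/-- the translated point of `V_p` over `R_p`. -/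
noncomputable def β : pullback (r₀ g 𝒟) p ⟶
    pullback (𝒟.obj PUnit.unit).hom (pullback.fst g p) :=
  pt g p 𝒟 (pullback.fst (r₀ g 𝒟) p ≫ w₀ g 𝒟) (pullback.snd (r₀ g 𝒟) p) (β_cond g 𝒟 p)

@[reassoc]
theorem α_fst : α g 𝒟 p ≫ pullback.fst (𝒟.obj PUnit.unit).hom (pullback.fst g p) =
    pullback.fst (r₀ g 𝒟) p ≫ pullback.fst ((𝒟.obj PUnit.unit).hom ≫ g) g :=
  pt_fst g p 𝒟 _ _ _

@[reassoc]
theorem α_snd_snd : α g 𝒟 p ≫ pullback.snd (𝒟.obj PUnit.unit).hom (pullback.fst g p) ≫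
    pullback.snd g p = pullback.snd (r₀ g 𝒟) p := by
  unfold α
  rw [← Category.assoc, pt_snd, pullback.lift_snd]

@[reassoc]
theorem β_fst : β g 𝒟 p ≫ pullback.fst (𝒟.obj PUnit.unit).hom (pullback.fst g p) =
    pullback.fst (r₀ g 𝒟) p ≫ w₀ g 𝒟 :=
  pt_fst g p 𝒟 _ _ _

@[reassoc]
theorem β_snd_snd : β g 𝒟 p ≫ pullback.snd (𝒟.obj PUnit.unit).hom (pullback.fst g p) ≫
    pullback.snd g p = pullback.snd (r₀ g 𝒟) p := by
  unfold β
  rw [← Category.assoc, pt_snd, pullback.lift_snd]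

theorem hom_ext_V {Z : Scheme.{u}}
    (l l' : Z ⟶ pullback (𝒟.obj PUnit.unit).hom (pullback.fst g p))
    (h1 : l ≫ pullback.fst (𝒟.obj PUnit.unit).hom (pullback.fst g p) =
      l' ≫ pullback.fst (𝒟.obj PUnit.unit).hom (pullback.fst g p))
    (h2 : l ≫ pullback.snd (𝒟.obj PUnit.unit).hom (pullback.fst g p) ≫ pullback.snd g p =
      l' ≫ pullback.snd (𝒟.obj PUnit.unit).hom (pullback.fst g p) ≫ pullback.snd g p) :
    l = l' := by
  have c1 := pullback.condition (f := (𝒟.obj PUnit.unit).hom) (g := pullback.fst g p)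
  apply pullback.hom_ext h1
  apply pullback.hom_ext
  · calc (l ≫ pullback.snd (𝒟.obj PUnit.unit).hom (pullback.fst g p)) ≫ pullback.fst g p
        = l ≫ pullback.snd (𝒟.obj PUnit.unit).hom (pullback.fst g p) ≫ pullback.fst g p := by
          rw [Category.assoc]
      _ = (l ≫ pullback.fst (𝒟.obj PUnit.unit).hom (pullback.fst g p)) ≫
            (𝒟.obj PUnit.unit).hom := by rw [← c1, Category.assoc]
      _ = (l' ≫ pullback.fst (𝒟.obj PUnit.unit).hom (pullback.fst g p)) ≫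
            (𝒟.obj PUnit.unit).hom := by rw [h1]
      _ = l' ≫ pullback.snd (𝒟.obj PUnit.unit).hom (pullback.fst g p) ≫ pullback.fst g p := by
          rw [Category.assoc, c1]
      _ = _ := by rw [Category.assoc]
  · simpa only [Category.assoc] using h2

/-- the `S'`-component of a point of `V_p`. -/
theorem snd_fst_eq {Z : Scheme.{u}}
    (l : Z ⟶ pullback (𝒟.obj PUnit.unit).hom (pullback.fst g p)) :
    l ≫ pullback.snd (𝒟.obj PUnit.unit).hom (pullback.fst g p) ≫ pullback.fst g p =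
      (l ≫ pullback.fst (𝒟.obj PUnit.unit).hom (pullback.fst g p)) ≫
        (𝒟.obj PUnit.unit).hom := by
  rw [← pullback.condition (f := (𝒟.obj PUnit.unit).hom) (g := pullback.fst g p),
    Category.assoc]

theorem key {T : Scheme.{u}} (x₀ x₁ : T ⟶ pullback g p)
    (h : x₀ ≫ pullback.snd g p = x₁ ≫ pullback.snd g p)
    (v : Lifts ((D₁ g p 𝒟).obj PUnit.unit) x₀) (ρ : T ⟶ pullback (r₀ g 𝒟) p)
    (h1 : ρ ≫ pullback.fst (r₀ g 𝒟) p ≫ pullback.fst ((𝒟.obj PUnit.unit).hom ≫ g) g =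
      v.1 ≫ pullback.fst (𝒟.obj PUnit.unit).hom (pullback.fst g p))
    (h2 : ρ ≫ pullback.fst (r₀ g 𝒟) p ≫ pullback.snd ((𝒟.obj PUnit.unit).hom ≫ g) g =
      x₁ ≫ pullback.fst g p)
    (h3 : ρ ≫ pullback.snd (r₀ g 𝒟) p = x₀ ≫ pullback.snd g p) :
    v.1 = ρ ≫ α g 𝒟 p ∧
      ((D₁ g p 𝒟).φ (i := PUnit.unit) (j := PUnit.unit) x₀ x₁ h v).1 = ρ ≫ β g 𝒟 p := by
  have hv : v.1 ≫ pullback.snd (𝒟.obj PUnit.unit).hom (pullback.fst g p) = x₀ := v.2
  constructor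
  · apply hom_ext_V g 𝒟 p
    · rw [Category.assoc, α_fst, h1]
    · rw [Category.assoc, α_snd_snd, h3, reassoc_of% hv]
  · apply hom_ext_V g 𝒟 p
    · rw [D₁_φ_fst, Category.assoc, β_fst]
      have hy₀ : (ρ ≫ pullback.fst (r₀ g 𝒟) p) ≫
          (pullback.fst ((𝒟.obj PUnit.unit).hom ≫ g) g ≫ (𝒟.obj PUnit.unit).hom) =
          x₀ ≫ pullback.fst g p := by
        calc (ρ ≫ pullback.fst (r₀ g 𝒟) p) ≫
            (pullback.fst ((𝒟.obj PUnit.unit).hom ≫ g) g ≫ (𝒟.obj PUnit.unit).hom)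
            = (ρ ≫ pullback.fst (r₀ g 𝒟) p ≫ pullback.fst ((𝒟.obj PUnit.unit).hom ≫ g) g) ≫
                (𝒟.obj PUnit.unit).hom := by simp only [Category.assoc]
          _ = (v.1 ≫ pullback.fst (𝒟.obj PUnit.unit).hom (pullback.fst g p)) ≫
                (𝒟.obj PUnit.unit).hom := by rw [h1]
          _ = v.1 ≫ pullback.snd (𝒟.obj PUnit.unit).hom (pullback.fst g p) ≫
                pullback.fst g p := (snd_fst_eq g 𝒟 p v.1).symm
          _ = x₀ ≫ pullback.fst g p := by rw [reassoc_of% hv]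
      have hy₁ : (ρ ≫ pullback.fst (r₀ g 𝒟) p) ≫ pullback.snd ((𝒟.obj PUnit.unit).hom ≫ g) g =
          x₁ ≫ pullback.fst g p := by rw [Category.assoc, h2]
      have h' : (x₀ ≫ pullback.fst g p) ≫ g = (x₁ ≫ pullback.fst g p) ≫ g := by
        rw [Category.assoc, Category.assoc, pullback.condition, reassoc_of% h]
      have := 𝒟.φ_natural (ρ ≫ pullback.fst (r₀ g 𝒟) p) (i := PUnit.unit) (j := PUnit.unit)
        (pullback.fst ((𝒟.obj PUnit.unit).hom ≫ g) g ≫ (𝒟.obj PUnit.unit).hom)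
        (pullback.snd ((𝒟.obj PUnit.unit).hom ≫ g) g)
        (by simpa only [Category.assoc] using
          pullback.condition (f := (𝒟.obj PUnit.unit).hom ≫ g) (g := g))
        (x₀ ≫ pullback.fst g p) (x₁ ≫ pullback.fst g p) hy₀ hy₁ h'
        ⟨pullback.fst ((𝒟.obj PUnit.unit).hom ≫ g) g, rfl⟩
        (liftsPullbackEquiv (𝒟.obj PUnit.unit) (pullback.fst g p) x₀ v)
        (by
          show v.1 ≫ pullback.fst (𝒟.obj PUnit.unit).hom (pullback.fst g p) = _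
          rw [Category.assoc, h1])
      exact this.trans (Category.assoc _ _ _)
    · have e := D₁_φ_snd g p 𝒟 x₀ x₁ h v
      rw [reassoc_of% e, Category.assoc, β_snd_snd, h3, h]

theorem exists_ρ {T : Scheme.{u}} (x₀ x₁ : T ⟶ pullback g p)
    (h : x₀ ≫ pullback.snd g p = x₁ ≫ pullback.snd g p)
    (v : Lifts ((D₁ g p 𝒟).obj PUnit.unit) x₀) :
    ∃ ρ : T ⟶ pullback (r₀ g 𝒟) p,
      ρ ≫ pullback.fst (r₀ g 𝒟) p ≫ pullback.fst ((𝒟.obj PUnit.unit).hom ≫ g) g =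
        v.1 ≫ pullback.fst (𝒟.obj PUnit.unit).hom (pullback.fst g p) ∧
      ρ ≫ pullback.fst (r₀ g 𝒟) p ≫ pullback.snd ((𝒟.obj PUnit.unit).hom ≫ g) g =
        x₁ ≫ pullback.fst g p ∧
      ρ ≫ pullback.snd (r₀ g 𝒟) p = x₀ ≫ pullback.snd g p := by
  have hv : v.1 ≫ pullback.snd (𝒟.obj PUnit.unit).hom (pullback.fst g p) = x₀ := v.2
  have c2 := pullback.condition (f := g) (g := p)
  have e0 : (v.1 ≫ pullback.fst (𝒟.obj PUnit.unit).hom (pullback.fst g p)) ≫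
      (𝒟.obj PUnit.unit).hom = x₀ ≫ pullback.fst g p := by
    rw [← snd_fst_eq g 𝒟 p v.1, reassoc_of% hv]
  have e1 : (v.1 ≫ pullback.fst (𝒟.obj PUnit.unit).hom (pullback.fst g p)) ≫
      ((𝒟.obj PUnit.unit).hom ≫ g) = (x₁ ≫ pullback.fst g p) ≫ g := by
    rw [← Category.assoc, e0, Category.assoc, Category.assoc, c2, reassoc_of% h]
  have e2 : pullback.lift _ _ e1 ≫ r₀ g 𝒟 = (x₀ ≫ pullback.snd g p) ≫ p := by
    rw [pullback.lift_fst_assoc, ← Category.assoc, e0, Category.assoc, Category.assoc, c2]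
  refine ⟨pullback.lift (pullback.lift _ _ e1) (x₀ ≫ pullback.snd g p) e2, ?_, ?_, ?_⟩
  · rw [pullback.lift_fst_assoc, pullback.lift_fst]
  · rw [pullback.lift_fst_assoc, pullback.lift_snd]
  · rw [pullback.lift_snd]

/-- naturality of `α`, `β` in the base. -/
theorem αβ_nat {S₁' : Scheme.{u}} (p' : S₁' ⟶ B) (q : S₁' ⟶ S₁)
    (mR : pullback (r₀ g 𝒟) p' ⟶ pullback (r₀ g 𝒟) p)
    (mV : pullback (𝒟.obj PUnit.unit).hom (pullback.fst g p') ⟶
      pullback (𝒟.obj PUnit.unit).hom (pullback.fst g p))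
    (hR1 : mR ≫ pullback.fst (r₀ g 𝒟) p = pullback.fst (r₀ g 𝒟) p')
    (hR2 : mR ≫ pullback.snd (r₀ g 𝒟) p = pullback.snd (r₀ g 𝒟) p' ≫ q)
    (hV1 : mV ≫ pullback.fst (𝒟.obj PUnit.unit).hom (pullback.fst g p) =
      pullback.fst (𝒟.obj PUnit.unit).hom (pullback.fst g p'))
    (hV2 : mV ≫ pullback.snd (𝒟.obj PUnit.unit).hom (pullback.fst g p) ≫ pullback.snd g p =
      pullback.snd (𝒟.obj PUnit.unit).hom (pullback.fst g p') ≫ pullback.snd g p' ≫ q) :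
    α g 𝒟 p' ≫ mV = mR ≫ α g 𝒟 p ∧ β g 𝒟 p' ≫ mV = mR ≫ β g 𝒟 p := by
  constructor
  · apply hom_ext_V g 𝒟 p
    · rw [Category.assoc, hV1, α_fst, Category.assoc, α_fst, reassoc_of% hR1]
    · rw [Category.assoc, hV2, Category.assoc, α_snd_snd, hR2, α_snd_snd_assoc]
  · apply hom_ext_V g 𝒟 p
    · rw [Category.assoc, hV1, β_fst, Category.assoc, β_fst, reassoc_of% hR1]
    · rw [Category.assoc, hV2, Category.assoc, β_snd_snd, hR2, β_snd_snd_assoc]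

end Universal

section Main

variable {J : Type u} [SmallCategory J] [IsCofiltered J] (D : J ⥤ Scheme.{u})
  [∀ {i j : J} (f : i ⟶ j), IsAffineHom (D.map f)] [∀ i, CompactSpace (D.obj i)]
  [∀ i, QuasiSeparatedSpace (D.obj i)] {B S' : Scheme.{u}}
  (s : ∀ j, D.obj j ⟶ B) (hs : ∀ {j k : J} (a : j ⟶ k), D.map a ≫ s k = s j)
  (g : S' ⟶ B) (𝒟 : SchDDFam (fun _ : PUnit.{1} => g))
  (c : Cone D) (hc : IsLimit c) (sInf : c.pt ⟶ B) (hsInf : ∀ j, c.π.app j ≫ s j = sInf)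
  (U : Over B)

/-- the diagram of the `R_j = R₀ ×_B D j`. -/
noncomputable abbrev dR : J ⥤ Scheme.{u} := bcDiagram D s hs (r₀ g 𝒟)

/-- the cone over `dR` with point `R₀ ×_B c.pt`. -/
noncomputable abbrev cR : Cone (dR D s hs g 𝒟) :=
  bcCone D s hs (r₀ g 𝒟) c sInf hsInf (pullback.fst (r₀ g 𝒟) sInf) (pullback.snd (r₀ g 𝒟) sInf)
    pullback.condition

/-- it is a limit cone. -/
noncomputable def isLimitCR (hc : IsLimit c) : IsLimit (cR D s hs g 𝒟 c sInf hsInf) :=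
  isLimitBcCone D s hs (r₀ g 𝒟) c sInf hsInf hc _ _ (IsPullback.of_hasPullback (r₀ g 𝒟) sInf)

/-- structure maps `R_j ⟶ B`. -/
noncomputable def tR : dR D s hs g 𝒟 ⟶ (Functor.const J).obj B where
  app j := pullback.snd (r₀ g 𝒟) (s j) ≫ s j
  naturality j k a := by
    change bcMap D s hs (r₀ g 𝒟) a ≫ pullback.snd (r₀ g 𝒟) (s k) ≫ s k =
      (pullback.snd (r₀ g 𝒟) (s j) ≫ s j) ≫ 𝟙 B
    rw [← Category.assoc, bcMap_snd, Category.assoc, hs a, Category.comp_id]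

theorem trans_nat {j k : J} (a : j ⟶ k) :
    α g 𝒟 (s j) ≫ (dV D s hs g 𝒟).map a = (dR D s hs g 𝒟).map a ≫ α g 𝒟 (s k) ∧
    β g 𝒟 (s j) ≫ (dV D s hs g 𝒟).map a = (dR D s hs g 𝒟).map a ≫ β g 𝒟 (s k) := by
  refine αβ_nat g 𝒟 (s k) (s j) (D.map a) ((dR D s hs g 𝒟).map a) ((dV D s hs g 𝒟).map a)
    (bcMap_fst D s hs (r₀ g 𝒟) a) (bcMap_snd D s hs (r₀ g 𝒟) a) (dV_fst D s hs g 𝒟 a) ?_
  rw [← Category.assoc, dV_snd, Category.assoc, dS_snd]

theorem cone_nat (j : J) :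
    α g 𝒟 sInf ≫ (cV D s hs g 𝒟 c sInf hsInf).π.app j =
      (cR D s hs g 𝒟 c sInf hsInf).π.app j ≫ α g 𝒟 (s j) ∧
    β g 𝒟 sInf ≫ (cV D s hs g 𝒟 c sInf hsInf).π.app j =
      (cR D s hs g 𝒟 c sInf hsInf).π.app j ≫ β g 𝒟 (s j) := by
  refine αβ_nat g 𝒟 (s j) sInf (c.π.app j) ((cR D s hs g 𝒟 c sInf hsInf).π.app j)
    ((cV D s hs g 𝒟 c sInf hsInf).π.app j)
    (bcLift_fst D s (r₀ g 𝒟) c sInf hsInf _ _ pullback.condition j)
    (bcLift_snd D s (r₀ g 𝒟) c sInf hsInf _ _ pullback.condition j)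
    (cV_fst D s hs g 𝒟 c sInf hsInf j) ?_
  rw [← Category.assoc, cV_snd, Category.assoc, cS_snd]

include hc in
/-- (E) -/
theorem exists_stage_inv [QuasiCompact g] [QuasiSeparated g]
    [QuasiCompact (𝒟.obj PUnit.unit).hom] [QuasiSeparated (𝒟.obj PUnit.unit).hom]
    [LocallyOfFiniteType U.hom]
    {j : J} (b : (dV D s hs g 𝒟).obj j ⟶ U.left) (hb : b ≫ U.hom = tV D s hs g 𝒟 j)
    (hinv : ∀ ⦃T : Scheme.{u}⦄ (x₀ x₁ : T ⟶ pullback g sInf)
      (h : x₀ ≫ pullback.snd g sInf = x₁ ≫ pullback.snd g sInf)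
      (v : Lifts ((D₁ g sInf 𝒟).obj PUnit.unit) x₀),
      ((D₁ g sInf 𝒟).φ (i := PUnit.unit) (j := PUnit.unit) x₀ x₁ h v).1 ≫
          (cV D s hs g 𝒟 c sInf hsInf).π.app j ≫ b =
        v.1 ≫ (cV D s hs g 𝒟 c sInf hsInf).π.app j ≫ b) :
    ∃ (j' : J) (a : j' ⟶ j), ∀ (j'' : J) (a' : j'' ⟶ j') ⦃T : Scheme.{u}⦄
      (x₀ x₁ : T ⟶ pullback g (s j''))
      (h : x₀ ≫ pullback.snd g (s j'') = x₁ ≫ pullback.snd g (s j''))
      (v : Lifts ((D₁ g (s j'') 𝒟).obj PUnit.unit) x₀),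
      ((D₁ g (s j'') 𝒟).φ (i := PUnit.unit) (j := PUnit.unit) x₀ x₁ h v).1 ≫
          kst D s hs g 𝒟 U b hb (a' ≫ a) =
        v.1 ≫ kst D s hs g 𝒟 U b hb (a' ≫ a) := by
  haveI : QuasiCompact (r₀ g 𝒟) := by
    show QuasiCompact (_ ≫ _ ≫ _)
    infer_instance
  haveI : ∀ i, CompactSpace ((dR D s hs g 𝒟).obj i) := fun i =>
    QuasiCompact.compactSpace_of_compactSpace (pullback.snd (r₀ g 𝒟) (s i))
  -- Step A: the two universal points agree at the limit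
  have hA : (cR D s hs g 𝒟 c sInf hsInf).π.app j ≫ (α g 𝒟 (s j) ≫ b) =
      (cR D s hs g 𝒟 c sInf hsInf).π.app j ≫ (β g 𝒟 (s j) ≫ b) := by
    have hx : (α g 𝒟 sInf ≫ pullback.snd (𝒟.obj PUnit.unit).hom (pullback.fst g sInf)) ≫
        pullback.snd g sInf =
        (β g 𝒟 sInf ≫ pullback.snd (𝒟.obj PUnit.unit).hom (pullback.fst g sInf)) ≫
          pullback.snd g sInf := by
      rw [Category.assoc, Category.assoc, α_snd_snd, β_snd_snd]
    have h0 := hinv _ _ hx ⟨α g 𝒟 sInf, rfl⟩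
    obtain ⟨-, k2⟩ := key g 𝒟 sInf _ _ hx ⟨α g 𝒟 sInf, rfl⟩ (𝟙 _)
      (by rw [Category.id_comp]; exact (α_fst g 𝒟 sInf).symm)
      (by
        rw [Category.id_comp, Category.assoc, snd_fst_eq, β_fst, Category.assoc, w₀_hom])
      (by rw [Category.id_comp, Category.assoc, α_snd_snd])
    rw [k2, Category.id_comp] at h0
    change β g 𝒟 sInf ≫ _ = α g 𝒟 sInf ≫ _ at h0
    rw [← Category.assoc, ← Category.assoc, ← (cone_nat D s hs g 𝒟 c sInf hsInf j).1,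
      ← (cone_nat D s hs g 𝒟 c sInf hsInf j).2, Category.assoc, Category.assoc]
    exact h0.symm
  -- Step C: they agree at a finite stage
  have htV : ∀ (l : pullback (r₀ g 𝒟) (s j) ⟶ (dV D s hs g 𝒟).obj j),
      l ≫ pullback.snd (𝒟.obj PUnit.unit).hom (pullback.fst g (s j)) ≫ pullback.snd g (s j) =
        pullback.snd (r₀ g 𝒟) (s j) →
      (tR D s hs g 𝒟).app j = (l ≫ b) ≫ U.hom := by
    intro l hl
    rw [Category.assoc, hb]
    change pullback.snd (r₀ g 𝒟) (s j) ≫ s j = l ≫ _ ≫ _ ≫ s j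
    rw [← hl]
    simp only [Category.assoc]
  obtain ⟨k, hik, hk⟩ := Scheme.exists_hom_comp_eq_comp_of_locallyOfFiniteType
    (dR D s hs g 𝒟) (tR D s hs g 𝒟) U.hom (cR D s hs g 𝒟 c sInf hsInf)
    (isLimitCR D s hs g 𝒟 c sInf hsInf hc) (α g 𝒟 (s j) ≫ b) (β g 𝒟 (s j) ≫ b)
    (htV _ (α_snd_snd g 𝒟 (s j))) (htV _ (β_snd_snd g 𝒟 (s j))) hA
  refine ⟨k, hik, ?_⟩
  intro j'' a' T x₀ x₁ h v
  obtain ⟨ρ, h1, h2, h3⟩ := exists_ρ g 𝒟 (s j'') x₀ x₁ h v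
  obtain ⟨k1, k2⟩ := key g 𝒟 (s j'') x₀ x₁ h v ρ h1 h2 h3
  have hv : v.1 ≫ pullback.snd (𝒟.obj PUnit.unit).hom (pullback.fst g (s j'')) = x₀ := v.2
  apply pullback.hom_ext
  · rw [Category.assoc, Category.assoc, kst_fst, k2]
    conv_rhs => rw [k1]
    have n1 := trans_nat D s hs g 𝒟 (a' ≫ hik)
    rw [Category.assoc, Category.assoc, reassoc_of% n1.1, reassoc_of% n1.2,
      (dR D s hs g 𝒟).map_comp, Category.assoc, Category.assoc, hk]
  · rw [Category.assoc, Category.assoc, kst_snd]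
    have e := D₁_φ_snd g (s j'') 𝒟 x₀ x₁ h v
    rw [reassoc_of% e, reassoc_of% hv, h]

end Main

end Groth.Agent.H74.SpreadE
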