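import Mathlib

/-!
# (FS) for helper34 (S1851): finsum over fibres
-/

set_option autoImplicit false

namespace Groth.Agent.H74.KatoFS

/-- (FS) -/
theorem finsum_fiberwise {α β : Type*} (T : Set β) (hT : T.Finite) (g : β → α) (F : β → ℤ) :
    ∑ᶠ (x : α), ∑ᶠ (y : β) (_ : g y = x ∧ y ∈ T), F y = ∑ᶠ (y : β) (_ : y ∈ T), F y := by
  classical
  have hinner : ∀ x, ∑ᶠ (y : β) (_ : g y = x ∧ y ∈ T), F y =
      ∑ y ∈ hT.toFinset.filter (fun y => g y = x), F y := by
    intro x
    have hfin : ({y | g y = x ∧ y ∈ T} : Set β).Finite := hT.subset fun y hy => hy.2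
    have h1 : ∑ᶠ (y : β) (_ : g y = x ∧ y ∈ T), F y = ∑ᶠ y ∈ {y | g y = x ∧ y ∈ T}, F y := rfl
    rw [h1, finsum_mem_eq_finite_toFinset_sum _ hfin]
    refine Finset.sum_congr ?_ fun _ _ => rfl
    ext y
    simp [and_comm]
  simp_rw [hinner]
  rw [finsum_mem_eq_finite_toFinset_sum _ hT]
  have hsupp : (Function.support fun x => ∑ y ∈ hT.toFinset.filter (fun y => g y = x), F y) ⊆
      ↑(hT.toFinset.image g) := by
    intro x hx
    rw [Function.mem_support] at hx
    obtain ⟨y, hy, -⟩ := Finset.exists_ne_zero_of_sum_ne_zero hx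
    rw [Finset.mem_filter] at hy
    rw [Finset.mem_coe, Finset.mem_image]
    exact ⟨y, hy.1, hy.2⟩
  rw [finsum_eq_sum_of_support_subset _ hsupp]
  exact Finset.sum_fiberwise_of_maps_to (fun y hy => Finset.mem_image_of_mem g hy) F

end Groth.Agent.H74.KatoFS
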