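import Mathlib

/-!
# (SA) for helper34 (S1851): maximal ideals of `B` localized at `A \ q` (prime `q`, abstract `Q`)
generalising `Groth.Agent.H87.TameP1.maxSpec_localization`.
-/

set_option autoImplicit false
universe u

namespace Groth.Agent.H74.KatoSA

section Sym
variable {A B : Type u} [CommRing A] [CommRing B] [Algebra A B] (q : Ideal A) [q.IsPrime]
  (Q : Type u) [CommRing Q] [Algebra B Q]
  [IsLocalization (Algebra.algebraMapSubmonoid B q.primeCompl) Q]

/-- (SA) -/
theorem maxSpec_fiber [Algebra.IsIntegral A B] :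
    ∃ σ : MaximalSpectrum Q ≃ {p : PrimeSpectrum B // p.asIdeal.comap (algebraMap A B) = q},
      ∀ 𝔫 : MaximalSpectrum Q, (σ 𝔫).1.asIdeal = 𝔫.asIdeal.comap (algebraMap B Q) ∧
        Nonempty (Localization.AtPrime 𝔫.asIdeal ≃ₐ[B] Localization.AtPrime (σ 𝔫).1.asIdeal) := by
  classical
  obtain ⟨S, hS⟩ : ∃ S : Submonoid B, S = Algebra.algebraMapSubmonoid B q.primeCompl :=
    ⟨_, rfl⟩
  haveI : IsLocalization S Q := by rw [hS]; infer_instance
  have hdisj_of_over : ∀ P : Ideal B, P.comap (algebraMap A B) = q →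
      Disjoint (S : Set B) (P : Set B) := by
    intro P hP
    rw [Set.disjoint_left]
    intro x hx hxP
    rw [hS] at hx
    obtain ⟨b, hb, rfl⟩ := hx
    apply hb
    rw [← hP]
    exact hxP
  have hfwd : ∀ 𝔫 : MaximalSpectrum Q,
      (𝔫.asIdeal.comap (algebraMap B Q)).comap (algebraMap A B) = q := by
    intro 𝔫
    have h𝔫max : 𝔫.asIdeal.IsMaximal := 𝔫.isMaximal
    obtain ⟨P, hP⟩ : ∃ P : Ideal B, P = 𝔫.asIdeal.comap (algebraMap B Q) := ⟨_, rfl⟩
    rw [← hP]
    have hPprime : P.IsPrime := by rw [hP]; exact Ideal.comap_isPrime _ _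
    have hPdisj : Disjoint (S : Set B) (P : Set B) := by
      rw [hP]
      exact ((IsLocalization.isPrime_iff_isPrime_disjoint S Q 𝔫.asIdeal).mp inferInstance).2
    have hle : P.comap (algebraMap A B) ≤ q := by
      intro b hb
      by_contra hbq
      refine Set.disjoint_left.mp hPdisj ?_ hb
      rw [hS]
      exact ⟨b, hbq, rfl⟩
    obtain ⟨P', hPP', hP'prime, hP'q⟩ := Ideal.exists_ideal_over_prime_of_isIntegral q P hle
    have hP'disj := hdisj_of_over P' hP'q
    have h1 : 𝔫.asIdeal ≤ P'.map (algebraMap B Q) := by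
      rw [← IsLocalization.map_under S Q 𝔫.asIdeal]
      apply Ideal.map_mono
      show 𝔫.asIdeal.comap (algebraMap B Q) ≤ P'
      rw [← hP]
      exact hPP'
    have hP'map_prime : (P'.map (algebraMap B Q)).IsPrime :=
      IsLocalization.isPrime_of_isPrime_disjoint S Q P' hP'prime hP'disj
    have h2 : 𝔫.asIdeal = P'.map (algebraMap B Q) :=
      h𝔫max.eq_of_le hP'map_prime.ne_top h1
    have h3 : P = P' := by
      rw [hP, h2]
      exact IsLocalization.under_map_of_isPrime_disjoint S Q hP'prime hP'disj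
    rw [h3]
    exact hP'q
  let f : MaximalSpectrum Q → {p : PrimeSpectrum B // p.asIdeal.comap (algebraMap A B) = q} :=
    fun 𝔫 => ⟨⟨𝔫.asIdeal.comap (algebraMap B Q), Ideal.comap_isPrime _ _⟩, hfwd 𝔫⟩
  have hf_inj : Function.Injective f := by
    intro 𝔫 𝔫' h
    have h1 : 𝔫.asIdeal.comap (algebraMap B Q) = 𝔫'.asIdeal.comap (algebraMap B Q) := by
      have := congrArg (fun z => z.1.asIdeal) h
      exact this
    apply MaximalSpectrum.ext
    rw [← IsLocalization.map_under S Q 𝔫.asIdeal, ← IsLocalization.map_under S Q 𝔫'.asIdeal]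
    show Ideal.map _ (𝔫.asIdeal.comap (algebraMap B Q)) =
      Ideal.map _ (𝔫'.asIdeal.comap (algebraMap B Q))
    rw [h1]
  have hf_surj : Function.Surjective f := by
    rintro ⟨p, hp⟩
    have hpprime : p.asIdeal.IsPrime := p.isPrime
    have hdisj := hdisj_of_over p.asIdeal hp
    have hmap_prime : (p.asIdeal.map (algebraMap B Q)).IsPrime :=
      IsLocalization.isPrime_of_isPrime_disjoint S Q _ hpprime hdisj
    have hcm : (p.asIdeal.map (algebraMap B Q)).comap (algebraMap B Q) = p.asIdeal :=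
      IsLocalization.under_map_of_isPrime_disjoint S Q hpprime hdisj
    obtain ⟨M, hMmax, hM⟩ := Ideal.exists_le_maximal _ hmap_prime.ne_top
    have h1 : p.asIdeal ≤ M.comap (algebraMap B Q) := by
      rw [← hcm]
      exact Ideal.comap_mono hM
    have hMq : (M.comap (algebraMap B Q)).comap (algebraMap A B) = q := hfwd ⟨M, hMmax⟩
    have h2 : p.asIdeal = M.comap (algebraMap B Q) := by
      by_contra hne
      have hlt : p.asIdeal < M.comap (algebraMap B Q) := lt_of_le_of_ne h1 hne
      obtain ⟨x, hxM, hxp⟩ := Set.exists_of_ssubset hlt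
      have := Ideal.comap_lt_comap_of_integral_mem_sdiff (R := A) h1 ⟨hxM, hxp⟩
        (Algebra.IsIntegral.isIntegral x)
      rw [hp, hMq] at this
      exact lt_irrefl _ this
    refine ⟨⟨M, hMmax⟩, ?_⟩
    apply Subtype.ext
    apply PrimeSpectrum.ext
    show M.comap (algebraMap B Q) = p.asIdeal
    exact h2.symm
  refine ⟨Equiv.ofBijective f ⟨hf_inj, hf_surj⟩, ?_⟩
  intro 𝔫
  refine ⟨rfl, ?_⟩
  have h𝔫max : 𝔫.asIdeal.IsMaximal := 𝔫.isMaximal
  haveI : IsLocalization.AtPrime (Localization.AtPrime 𝔫.asIdeal)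
      (𝔫.asIdeal.comap (algebraMap B Q)) :=
    IsLocalization.isLocalization_isLocalization_atPrime_isLocalization S
      (Localization.AtPrime 𝔫.asIdeal) 𝔫.asIdeal
  exact ⟨IsLocalization.algEquiv (𝔫.asIdeal.comap (algebraMap B Q)).primeCompl
    (Localization.AtPrime 𝔫.asIdeal) (Localization.AtPrime (𝔫.asIdeal.comap (algebraMap B Q)))⟩

end Sym

end Groth.Agent.H74.KatoSA
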