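import Mathlib
import Groth.Prelude.Def_Tame

/-!
# (SB) for helper34 (S1851): localizing a finite extension `A ⊆ B` with `x B ⊆ A` at a prime `q`
of `A` (abstract localization `Q` of `B`) gives a `CycAlg.IsFinExt`.
Generalises `Groth.Agent.H87.TameP6.isFinExt_localization` (helper87).
-/

set_option autoImplicit false
universe u
open IsLocalRing Pointwise

namespace Groth.Agent.H74.KatoSB

/-- In a one-dimensional Noetherian local ring, a power of the maximal ideal is contained in the
ideal generated by a nonzerodivisor. (copied from helper87's `TameP6`) -/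
theorem exists_pow_le_span_of_dim_one {T : Type u} [CommRing T] [IsLocalRing T]
    [IsNoetherianRing T] (hdim : ringKrullDim T = 1) (y : T) (hy : y ∈ nonZeroDivisors T) :
    ∃ n : ℕ, maximalIdeal T ^ n ≤ Ideal.span {y} := by
  apply Ideal.exists_pow_le_of_le_radical_of_fg _ (IsNoetherian.noetherian _)
  rw [Ideal.radical_eq_sInf]
  refine le_sInf ?_
  rintro P ⟨hyP, hP⟩
  have := hP
  have hyP' : y ∈ P := hyP (Ideal.subset_span rfl)
  have hle : P ≤ maximalIdeal T := IsLocalRing.le_maximalIdeal hP.ne_top
  by_contra hne
  have hlt : P < maximalIdeal T := lt_of_le_of_ne hle (fun h => hne (h ▸ le_rfl))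
  have h1 : P.height < (maximalIdeal T).height :=
    Ideal.height_strict_mono_of_isPrime_of_isPrime hlt
  have h2 : ((maximalIdeal T).height : WithBot ℕ∞) ≤ 1 := by
    rw [← hdim]
    exact Ideal.height_le_ringKrullDim_of_isPrime
  have h2' : (maximalIdeal T).height ≤ 1 := by
    exact_mod_cast h2
  have h3 : P.height = 0 := by
    have : P.height < 1 := lt_of_lt_of_le h1 h2'
    exact Order.lt_one_iff.mp this
  have h4 : P ∈ minimalPrimes T := Ideal.height_eq_zero_iff.mp h3
  exact Set.disjoint_left.mp (Ideal.disjoint_nonZeroDivisors_of_mem_minimalPrimes h4) hyP' hy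

section Sym
variable {A B : Type u} [CommRing A] [CommRing B] [Algebra A B] (q : Ideal A) [q.IsPrime]
  (Q : Type u) [CommRing Q] [Algebra B Q]
  [IsLocalization (Algebra.algebraMapSubmonoid B q.primeCompl) Q]

variable [Algebra (Localization.AtPrime q) Q] [Algebra A Q]
  [IsScalarTower A (Localization.AtPrime q) Q] [IsScalarTower A B Q]

/-- (SB) -/
theorem isFinExt_loc [IsNoetherianRing A] [Module.Finite A B]
    (hinj : Function.Injective (algebraMap A B))
    (hdim : ringKrullDim (Localization.AtPrime q) = 1) (x : A) (hxq : x ∈ q)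
    (hx : x ∈ nonZeroDivisors A) (hxB : ∀ y : B, ∃ r : A, algebraMap A B r = x • y) :
    CycAlg.IsFinExt (Localization.AtPrime q) Q (maximalIdeal (Localization.AtPrime q)) := by
  have hcomp : ∀ z : A, algebraMap (Localization.AtPrime q) Q
      (algebraMap A (Localization.AtPrime q) z) = algebraMap B Q (algebraMap A B z) := by
    intro z
    rw [← IsScalarTower.algebraMap_apply A (Localization.AtPrime q) Q,
      ← IsScalarTower.algebraMap_apply A B Q]
  refine ⟨?_, Module.Finite.of_isLocalization A B q.primeCompl, ?_⟩
  · -- injectivity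
    rw [injective_iff_map_eq_zero]
    intro z hz
    obtain ⟨a, s, rfl⟩ := IsLocalization.exists_mk'_eq q.primeCompl z
    have h1 : IsLocalization.mk' (Localization.AtPrime q) a s *
        algebraMap A (Localization.AtPrime q) s = algebraMap A (Localization.AtPrime q) a :=
      IsLocalization.mk'_spec _ a s
    have h2 : algebraMap B Q (algebraMap A B a) = 0 := by
      rw [← hcomp, ← h1, map_mul, hz, zero_mul]
    rw [IsLocalization.map_eq_zero_iff (Algebra.algebraMapSubmonoid B q.primeCompl) Q] at h2
    obtain ⟨⟨_, t, ht, rfl⟩, hm⟩ := h2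
    have h3 : algebraMap A B (t * a) = 0 := by rw [map_mul]; exact hm
    have h4 : t * a = 0 := hinj (by rw [h3, map_zero])
    have h5 : algebraMap A (Localization.AtPrime q) a = 0 := by
      have hu : IsUnit (algebraMap A (Localization.AtPrime q) t) :=
        IsLocalization.map_units (Localization.AtPrime q) (⟨t, ht⟩ : q.primeCompl)
      have : algebraMap A (Localization.AtPrime q) t * algebraMap A (Localization.AtPrime q) a =
          0 := by rw [← map_mul, h4, map_zero]
      exact (hu.mul_right_eq_zero).mp this
    rw [← IsLocalization.mk'_spec (Localization.AtPrime q) a s] at h5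
    have hs : IsUnit (algebraMap A (Localization.AtPrime q) s) :=
      IsLocalization.map_units (Localization.AtPrime q) s
    exact (hs.mul_left_eq_zero).mp h5
  · have hx1 : algebraMap A (Localization.AtPrime q) x ∈
        nonZeroDivisors (Localization.AtPrime q) :=
      IsLocalization.map_nonZeroDivisors_le q.primeCompl (Localization.AtPrime q)
        (Submonoid.mem_map_of_mem _ hx)
    obtain ⟨n, hn⟩ := exists_pow_le_span_of_dim_one hdim _ hx1
    refine ⟨n, ?_⟩
    intro r hr c
    obtain ⟨r1, hr1⟩ := Ideal.mem_span_singleton'.mp (hn hr)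
    obtain ⟨e, s, rfl⟩ := IsLocalization.exists_mk'_eq
      (Algebra.algebraMapSubmonoid B q.primeCompl) c
    obtain ⟨t, ht, hts⟩ := s.2
    obtain ⟨b, hb⟩ := hxB e
    have htunit : IsUnit (algebraMap A (Localization.AtPrime q) t) :=
      IsLocalization.map_units (Localization.AtPrime q) (⟨t, ht⟩ : q.primeCompl)
    obtain ⟨u, hu⟩ := htunit
    refine ⟨r1 * ((↑u⁻¹ : Localization.AtPrime q) * algebraMap A (Localization.AtPrime q) b), ?_⟩
    have hc : algebraMap B Q (algebraMap A B t) * IsLocalization.mk' Q e s = algebraMap B Q e := by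
      rw [hts, mul_comm]
      exact IsLocalization.mk'_spec _ e s
    rw [Algebra.smul_def, ← hr1, map_mul, map_mul, map_mul, hcomp, hcomp, hb, Algebra.smul_def,
      map_mul]
    have hu' : algebraMap (Localization.AtPrime q) Q (↑u⁻¹) *
        algebraMap B Q (algebraMap A B t) = 1 := by
      rw [← hcomp, ← hu, ← map_mul, Units.inv_mul, map_one]
    rw [← hc]
    calc _ = algebraMap (Localization.AtPrime q) Q r1 * algebraMap B Q (algebraMap A B x) *
          ((algebraMap (Localization.AtPrime q) Q (↑u⁻¹) * algebraMap B Q (algebraMap A B t)) *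
            IsLocalization.mk' Q e s) := by ring
      _ = _ := by rw [hu', one_mul]

end Sym

end Groth.Agent.H74.KatoSB
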