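-- helper74: a connected, geometrically reduced group scheme over a field is geometrically integral.
import Groth.Agent.S7517
import Groth.Agent.S0348
import Mathlib

set_option autoImplicit false
universe u

open CategoryTheory MonoidalCategory CartesianMonoidalCategory MonObj GrpObj AlgebraicGeometry Limits

namespace Groth.Agent.H74.AbGI

variable (k : Type u) [Field k]

theorem geometricallyIrreducible_of_connected (C : Over (Spec (CommRingCat.of k))) [GrpObj C]
    [ConnectedSpace ↥C.left] : GeometricallyIrreducible C.hom := by
  have : IrreducibleSpace ↥C.left := Groth.Agent.S0348.result k C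
  have h := Groth.Agent.S7517.result k C C.left (𝟙 C.left)
    (by
      have : Set.range ⇑(𝟙 C.left : C.left ⟶ C.left) = Set.univ := by
        ext x; simp
      rw [this]
      exact ⟨(IrreducibleSpace.isIrreducible_univ _), fun t _ _ => Set.subset_univ t⟩)
    ⟨η[C].left (IsLocalRing.closedPoint k), by simp⟩
  rwa [Category.id_comp] at h

theorem geometricallyIntegral_of_connected (C : Over (Spec (CommRingCat.of k))) [GrpObj C]
    [GeometricallyReduced C.hom] [ConnectedSpace ↥C.left] : GeometricallyIntegral C.hom := by
  have := geometricallyIrreducible_of_connected k C
  exact GeometricallyIntegral.of_geometricallyReduced_of_geometricallyIrreducible C.hom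

end Groth.Agent.H74.AbGI
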