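import Mathlib
import Groth.Prelude.Def_FEt
import Groth.Prelude.Def_Pi1
import Groth.Prelude.Def_Hensel
import Groth.Agent.H47.HensNoeth
import Groth.Agent.H47.EtaleNormal

set_option autoImplicit false
universe u
open IsLocalRing TensorProduct AlgebraicGeometry CategoryTheory CategoryTheory.Limits

namespace Groth.Agent.H74.FEtShQ1

/-- every element of `R` divides a nonzero element of `A`. -/
theorem exists_dvd (A R : Type u) [CommRing A] [IsDomain A] [IsLocalRing A]
    [CommRing R] [IsDomain R] [IsLocalRing R] [Algebra A R]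
    (h : Groth.Agent.H47.HensNoeth.IsIndEtaleLocal A R) (r : R) (hr : r ≠ 0) :
    ∃ a : A, a ≠ 0 ∧ r ∣ algebraMap A R a := by
  classical
  obtain ⟨A', _, _, _, φ, hφ⟩ := h.rep {r}
  obtain ⟨a', ha'⟩ := hφ r (Finset.mem_singleton_self r)
  have halg : IsAlgebraic A r := by
    rw [← ha']
    exact (Groth.Agent.H47.EtaleNormal.isAlgebraic_of_etale A A' a').algHom φ
  exact halg.exists_nonzero_dvd (mem_nonZeroDivisors_of_ne_zero hr)

/-- (Q1) `R ⊗[A] E ≅ L ⊗[K] E ≅ L^ι`. -/
theorem bijective_lift_pi (A R K L E : Type u) [CommRing A] [IsDomain A] [IsLocalRing A]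
    [CommRing R] [IsDomain R] [IsLocalRing R] [Algebra A R] [IsLocalHom (algebraMap A R)]
    (h : Groth.Agent.H47.HensNoeth.IsIndEtaleLocal A R)
    [Field K] [Field L] [Algebra A K] [IsFractionRing A K] [Algebra R L] [IsFractionRing R L]
    [Algebra K L] [Algebra A L] [IsScalarTower A K L] [IsScalarTower A R L]
    [CommRing E] [Algebra K E] [Algebra A E] [IsScalarTower A K E]
    (ι : Type u) (ψ : L ⊗[K] E ≃ₐ[L] (ι → L)) (ψ' : E →ₐ[A] (ι → L))
    (hψ' : ∀ e, ψ' e = ψ (1 ⊗ₜ e)) :
    Function.Bijective (Algebra.TensorProduct.lift (Algebra.ofId R (ι → L)) ψ'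
      (fun _ _ => Commute.all _ _)) := by
  classical
  -- the `A`-linear inclusion `R → L`
  let j : R →ₗ[A] L := (IsScalarTower.toAlgHom A R L).toLinearMap
  have hj : Function.Injective j := IsFractionRing.injective R L
  haveI : Module.Flat A K := IsLocalization.flat K (nonZeroDivisors A)
  haveI : Module.Flat A E := Module.Flat.trans A K E
  have h1 : Function.Injective (j.rTensor E) :=
    Module.Flat.rTensor_preserves_injective_linearMap j hj
  haveI : TensorProduct.CompatibleSMul A K L E :=
    IsLocalization.tensorProduct_compatibleSMul (nonZeroDivisors A) K L E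
  let eq : L ⊗[A] E ≃ₗ[A] L ⊗[K] E := TensorProduct.equivOfCompatibleSMul K A A L E
  let G : R ⊗[A] E →ₗ[A] L ⊗[K] E := eq.toLinearMap ∘ₗ (j.rTensor E)
  have hGinj : Function.Injective G := eq.injective.comp h1
  have hGt : ∀ (r : R) (e : E), G (r ⊗ₜ e) = (algebraMap R L r) ⊗ₜ[K] e := fun r e => rfl
  have hFG : ∀ x : R ⊗[A] E, Algebra.TensorProduct.lift (Algebra.ofId R (ι → L)) ψ'
      (fun _ _ => Commute.all _ _) x = ψ (G x) := by
    intro x
    induction x using TensorProduct.induction_on with
    | zero => simp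
    | tmul r e =>
      rw [hGt, Algebra.TensorProduct.lift_tmul, hψ']
      have : (algebraMap R L r) ⊗ₜ[K] e = (algebraMap R L r) • ((1 : L) ⊗ₜ[K] e) := by
        rw [TensorProduct.smul_tmul', smul_eq_mul, mul_one]
      rw [this, map_smul]
      funext i
      simp [Algebra.ofId_apply, Pi.algebraMap_apply]
    | add x y hx hy => rw [map_add, map_add, map_add, hx, hy]
  have hGsurj : Function.Surjective G := by
    intro t
    induction t using TensorProduct.induction_on with
    | zero => exact ⟨0, map_zero _⟩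
    | tmul l e =>
      obtain ⟨⟨r1, r2⟩, hl⟩ := IsLocalization.surj (nonZeroDivisors R) l
      have hr2 : (r2 : R) ≠ 0 := nonZeroDivisors.ne_zero r2.2
      obtain ⟨a, ha0, r3, hr3⟩ := exists_dvd A R h r2 hr2
      have haK : algebraMap A K a ≠ 0 := by
        rwa [Ne, IsFractionRing.to_map_eq_zero_iff]
      have haL : algebraMap A L a = algebraMap K L (algebraMap A K a) :=
        IsScalarTower.algebraMap_apply A K L a
      have haL' : algebraMap A L a = algebraMap R L (algebraMap A R a) :=
        IsScalarTower.algebraMap_apply A R L a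
      have hl' : l * algebraMap A L a = algebraMap R L (r1 * r3) := by
        simp only at hl
        rw [haL', hr3, map_mul, map_mul, ← mul_assoc, hl]
      refine ⟨(r1 * r3) ⊗ₜ[A] ((algebraMap A K a)⁻¹ • e), ?_⟩
      rw [hGt, ← TensorProduct.smul_tmul]
      congr 1
      have haKL : algebraMap K L (algebraMap A K a) ≠ 0 := by
        rwa [Ne, map_eq_zero]
      rw [Algebra.smul_def, ← hl', haL, map_inv₀, mul_comm l, ← mul_assoc,
        inv_mul_cancel₀ haKL, one_mul]
    | add x y hx hy =>
      obtain ⟨x', rfl⟩ := hx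
      obtain ⟨y', rfl⟩ := hy
      exact ⟨x' + y', map_add _ _ _⟩
  constructor
  · intro x y hxy
    rw [hFG, hFG] at hxy
    exact hGinj (ψ.injective hxy)
  · intro y
    obtain ⟨t, ht⟩ := ψ.surjective y
    obtain ⟨x, hx⟩ := hGsurj t
    exact ⟨x, by rw [hFG, hx, ht]⟩

end Groth.Agent.H74.FEtShQ1
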