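import Mathlib
import Groth.Agent.H61.HilbTanDefs
import Groth.Prelude.Def_DCoh4
import Groth.Prelude.Def_ClSub2
import Groth.Prelude.Def_Omega2

/-!
# helper74: (TSa) for helper61 / S12265 — tangent vectors of an augmented local `k`-algebra
-/

set_option autoImplicit false
set_option linter.style.haveILetI false
universe u v
open CategoryTheory CategoryTheory.Limits AlgebraicGeometry
open ArtFun ArtFun.Art
open Groth.Agent.H61.HilbTan

namespace Groth.Agent.H74.HilbTan_TSa

open IsLocalRing

section
variable {k : Type u} [Field k] {R : Type u} [CommRing R] [IsLocalRing R]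
  (s : k →+* R) (e : R →+* k) (hes : e.comp s = RingHom.id k) [he : IsLocalHom e]

include hes in
theorem es (c : k) : e (s c) = c := RingHom.congr_fun hes c

theorem e_eq_zero_iff (r : R) : e r = 0 ↔ r ∈ maximalIdeal R := by
  rw [mem_maximalIdeal, mem_nonunits_iff]
  constructor
  · intro h hu
    have := hu.map e
    rw [h] at this
    exact not_isUnit_zero this
  · intro h
    by_contra h0
    exact h (he.map_nonunit r (IsUnit.mk0 _ h0))

include hes in
theorem delta_mem (r : R) : r - s (e r) ∈ maximalIdeal R := by
  rw [← e_eq_zero_iff e, map_sub, es s e hes, sub_self]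

/-- `r ↦ r - s (e r)` as an element of the maximal ideal -/
def delta (r : R) : maximalIdeal R := ⟨r - s (e r), delta_mem s e hes r⟩

/-- the induced isomorphism of the residue field with `k` -/
noncomputable def ebar : ResidueField R →+* k := ResidueField.lift e

theorem ebar_residue (r : R) : ebar e (residue R r) = e r := ResidueField.lift_residue_apply e r

theorem ebar_injective : Function.Injective (ebar e) := (ebar e).injective

include hes in
theorem ebar_sigma (c : k) : ebar e (residue R (s c)) = c := by
  rw [ebar_residue, es s e hes]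

include hes in
theorem sigma_ebar (a : ResidueField R) : residue R (s (ebar e a)) = a :=
  ebar_injective e (ebar_sigma s e hes _)

include hes in
theorem ebar_bijective : Function.Bijective (ebar e) :=
  ⟨ebar_injective e, fun c => ⟨residue R (s c), ebar_sigma s e hes c⟩⟩

/-- the derivation attached to a functional on the cotangent space -/
noncomputable def D (l : Module.Dual (ResidueField R) (CotangentSpace R)) (r : R) : k :=
  ebar e (l ((maximalIdeal R).toCotangent (delta s e hes r)))

theorem delta_add (r r' : R) : delta s e hes (r + r') = delta s e hes r + delta s e hes r' := by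
  apply Subtype.ext
  simp only [delta, map_add, Submodule.coe_add]
  ring

theorem delta_mul (r r' : R) : delta s e hes (r * r') =
    (delta s e hes r : R) • delta s e hes r' + s (e r) • delta s e hes r' +
      s (e r') • delta s e hes r := by
  apply Subtype.ext
  simp only [delta, map_mul, Submodule.coe_add, Submodule.coe_smul, smul_eq_mul]
  ring

theorem delta_s (c : k) : delta s e hes (s c) = 0 := by
  apply Subtype.ext
  simp only [delta, es s e hes, sub_self, Submodule.coe_zero]

theorem delta_of_mem (x : R) (hx : x ∈ maximalIdeal R) : delta s e hes x = ⟨x, hx⟩ := by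
  apply Subtype.ext
  simp only [delta, (e_eq_zero_iff e x).mpr hx, map_zero, sub_zero]

theorem D_add (l : Module.Dual (ResidueField R) (CotangentSpace R)) (r r' : R) :
    D s e hes l (r + r') = D s e hes l r + D s e hes l r' := by
  simp only [D, delta_add, map_add]

theorem smul_toCotangent (a : R) (x : maximalIdeal R)
    (l : Module.Dual (ResidueField R) (CotangentSpace R)) :
    l ((maximalIdeal R).toCotangent (a • x)) = residue R a * l ((maximalIdeal R).toCotangent x) := by
  rw [map_smul, ← algebraMap_smul (ResidueField R) a ((maximalIdeal R).toCotangent x), map_smul,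
    smul_eq_mul]
  rfl

theorem D_mul (l : Module.Dual (ResidueField R) (CotangentSpace R)) (r r' : R) :
    D s e hes l (r * r') = e r * D s e hes l r' + e r' * D s e hes l r := by
  simp only [D, delta_mul, map_add]
  rw [smul_toCotangent, smul_toCotangent, smul_toCotangent, map_mul, map_mul, map_mul,
    ebar_residue, ebar_residue, ebar_residue, es s e hes, es s e hes]
  have h0 : e (delta s e hes r : R) = 0 := (e_eq_zero_iff e _).mpr (delta s e hes r).2
  rw [h0, zero_mul, zero_add]

theorem D_s (l : Module.Dual (ResidueField R) (CotangentSpace R)) (c : k) :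
    D s e hes l (s c) = 0 := by
  simp only [D, delta_s, map_zero]

/-- the `k[ε]`-point attached to a functional -/
noncomputable def phi (l : Module.Dual (ResidueField R) (CotangentSpace R)) : R →+* DualNumber k where
  toFun r := (e r, D s e hes l r)
  map_one' := by
    refine TrivSqZeroExt.ext (by simp) ?_
    show D s e hes l 1 = 0
    have := D_s s e hes l 1
    rwa [map_one] at this
  map_mul' x y := by
    refine TrivSqZeroExt.ext (by show e (x * y) = e x * e y; exact map_mul e x y) ?_
    show D s e hes l (x * y) = e x • D s e hes l y + MulOpposite.op (e y) • D s e hes l x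
    rw [D_mul, op_smul_eq_smul, smul_eq_mul, smul_eq_mul]
  map_zero' := by
    refine TrivSqZeroExt.ext (by simp) ?_
    show D s e hes l 0 = 0
    have := D_s s e hes l 0
    rwa [map_zero] at this
  map_add' x y := by
    refine TrivSqZeroExt.ext (by show e (x + y) = e x + e y; exact map_add e x y) ?_
    show D s e hes l (x + y) = D s e hes l x + D s e hes l y
    exact D_add s e hes l x y

/-- the `k[ε₁, ε₂]`-point attached to two functionals -/
noncomputable def psi (l₁ l₂ : Module.Dual (ResidueField R) (CotangentSpace R)) :
    R →+* TrivSqZeroExt k (k × k) where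
  toFun r := (e r, (D s e hes l₁ r, D s e hes l₂ r))
  map_one' := by
    refine TrivSqZeroExt.ext (by simp) ?_
    show (D s e hes l₁ 1, D s e hes l₂ 1) = 0
    have h1 := D_s s e hes l₁ 1
    have h2 := D_s s e hes l₂ 1
    rw [map_one] at h1 h2
    rw [h1, h2]; rfl
  map_mul' x y := by
    refine TrivSqZeroExt.ext (by show e (x * y) = e x * e y; exact map_mul e x y) ?_
    show (D s e hes l₁ (x * y), D s e hes l₂ (x * y)) =
      e x • (D s e hes l₁ y, D s e hes l₂ y) + MulOpposite.op (e y) • (D s e hes l₁ x, D s e hes l₂ x)
    rw [D_mul, D_mul, op_smul_eq_smul]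
    simp only [Prod.smul_mk, smul_eq_mul, Prod.mk_add_mk]
  map_zero' := by
    refine TrivSqZeroExt.ext (by simp) ?_
    show (D s e hes l₁ 0, D s e hes l₂ 0) = 0
    have h1 := D_s s e hes l₁ 0
    have h2 := D_s s e hes l₂ 0
    rw [map_zero] at h1 h2
    rw [h1, h2]; rfl
  map_add' x y := by
    refine TrivSqZeroExt.ext (by show e (x + y) = e x + e y; exact map_add e x y) ?_
    show (D s e hes l₁ (x + y), D s e hes l₂ (x + y)) =
      (D s e hes l₁ x, D s e hes l₂ x) + (D s e hes l₁ y, D s e hes l₂ y)
    rw [D_add, D_add]; rfl

/-- `phi` as a point of `DPt` -/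
noncomputable def tphi (l : Module.Dual (ResidueField R) (CotangentSpace R)) :
    DPt s e (dual k k) :=
  ⟨phi s e hes l, by
    constructor
    · apply RingHom.ext
      intro c
      refine TrivSqZeroExt.ext ?_ ?_
      · show e (s c) = c
        exact es s e hes c
      · show D s e hes l (s c) = 0
        exact D_s s e hes l c
    · apply RingHom.ext
      intro r
      rfl⟩

/-- `psi` as a point of `DPt` -/
noncomputable def tpsi (l₁ l₂ : Module.Dual (ResidueField R) (CotangentSpace R)) :
    DPt s e (dual2 k k) :=
  ⟨psi s e hes l₁ l₂, by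
    constructor
    · apply RingHom.ext
      intro c
      refine TrivSqZeroExt.ext ?_ ?_
      · show e (s c) = c
        exact es s e hes c
      · show (D s e hes l₁ (s c), D s e hes l₂ (s c)) = 0
        rw [D_s, D_s]; rfl
    · apply RingHom.ext
      intro r
      rfl⟩

theorem map_pr₁_tpsi (l₁ l₂ : Module.Dual (ResidueField R) (CotangentSpace R)) :
    DPt.map pr₁ (tpsi s e hes l₁ l₂) = tphi s e hes l₁ := by
  apply Subtype.ext
  apply RingHom.ext
  intro r
  rfl

theorem map_pr₂_tpsi (l₁ l₂ : Module.Dual (ResidueField R) (CotangentSpace R)) :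
    DPt.map pr₂ (tpsi s e hes l₁ l₂) = tphi s e hes l₂ := by
  apply Subtype.ext
  apply RingHom.ext
  intro r
  rfl

theorem map_plus_tpsi (l₁ l₂ : Module.Dual (ResidueField R) (CotangentSpace R)) :
    DPt.map plus (tpsi s e hes l₁ l₂) = tphi s e hes (l₁ + l₂) := by
  apply Subtype.ext
  apply RingHom.ext
  intro r
  refine TrivSqZeroExt.ext rfl ?_
  show D s e hes l₁ r + D s e hes l₂ r = D s e hes (l₁ + l₂) r
  simp only [D, LinearMap.add_apply, map_add]

theorem map_scale_tphi (a : ResidueField R)
    (l : Module.Dual (ResidueField R) (CotangentSpace R)) :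
    DPt.map (scale (ebar e a)) (tphi s e hes l) = tphi s e hes (a • l) := by
  apply Subtype.ext
  apply RingHom.ext
  intro r
  refine TrivSqZeroExt.ext rfl ?_
  show ebar e a • D s e hes l r = D s e hes (a • l) r
  simp only [D, LinearMap.smul_apply, smul_eq_mul, map_mul]

theorem tphi_injective : Function.Injective (tphi s e hes) := by
  intro l₁ l₂ h
  apply LinearMap.ext
  intro c
  obtain ⟨x, rfl⟩ := (maximalIdeal R).toCotangent_surjective c
  have h1 : (tphi s e hes l₁).1 (x : R) = (tphi s e hes l₂).1 (x : R) := by rw [h]
  have h2 : D s e hes l₁ (x : R) = D s e hes l₂ (x : R) := congrArg TrivSqZeroExt.snd h1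
  simp only [D, delta_of_mem s e hes (x : R) x.2] at h2
  exact ebar_injective e h2

theorem tphi_surjective : Function.Surjective (tphi s e hes) := by
  intro φ
  -- the derivation
  set Dφ : R → k := fun r => (φ.1 r).snd with hDφ
  have hfst : ∀ r, (φ.1 r).fst = e r := fun r => RingHom.congr_fun φ.2.2 r
  have hadd : ∀ r r', Dφ (r + r') = Dφ r + Dφ r' := fun r r' => by
    show (φ.1 (r + r')).snd = (φ.1 r).snd + (φ.1 r').snd
    rw [map_add]; rfl
  have hmul : ∀ r r', Dφ (r * r') = e r * Dφ r' + e r' * Dφ r := fun r r' => by
    show (φ.1 (r * r')).snd = e r * (φ.1 r').snd + e r' * (φ.1 r).snd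
    rw [map_mul]
    have h3 : (φ.1 r * φ.1 r').snd =
        (φ.1 r).fst • (φ.1 r').snd + MulOpposite.op (φ.1 r').fst • (φ.1 r).snd := rfl
    rw [h3, hfst, hfst, op_smul_eq_smul, smul_eq_mul, smul_eq_mul]
  have hs : ∀ c, Dφ (s c) = 0 := fun c => by
    have := RingHom.congr_fun φ.2.1 c
    simp only [RingHom.comp_apply] at this
    simp only [hDφ, this]
    rfl
  -- the R-linear map on the maximal ideal
  let l₀ : maximalIdeal R →ₗ[R] ResidueField R :=
    { toFun := fun x => residue R (s (Dφ (x : R)))
      map_add' := fun x y => by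
        simp only [Submodule.coe_add, hadd, map_add]
      map_smul' := fun a x => by
        simp only [Submodule.coe_smul, smul_eq_mul, hmul, RingHom.id_apply,
          (e_eq_zero_iff e (x : R)).mpr x.2, zero_mul, add_zero, map_mul]
        rw [Algebra.smul_def]
        congr 1
        have : residue R (a - s (e a)) = 0 := by
          rw [residue_eq_zero_iff]
          exact delta_mem s e hes a
        rw [map_sub, sub_eq_zero] at this
        exact this.symm }
  have hl₀ : ∀ x y : maximalIdeal R, l₀ (x * y) = 0 := fun x y => by
    show residue R (s (Dφ ((x * y : maximalIdeal R) : R))) = 0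
    have : ((x * y : maximalIdeal R) : R) = (x : R) * (y : R) := rfl
    rw [this, hmul, (e_eq_zero_iff e (x : R)).mpr x.2, (e_eq_zero_iff e (y : R)).mpr y.2,
      zero_mul, zero_mul, add_zero, map_zero, map_zero]
  let l : Module.Dual (ResidueField R) (CotangentSpace R) :=
    (Ideal.Cotangent.lift l₀ hl₀).extendScalarsOfSurjective residue_surjective
  refine ⟨l, ?_⟩
  apply Subtype.ext
  apply RingHom.ext
  intro r
  refine TrivSqZeroExt.ext (hfst r).symm ?_
  show D s e hes l r = Dφ r
  have h1 : l ((maximalIdeal R).toCotangent (delta s e hes r)) =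
      residue R (s (Dφ ((delta s e hes r : maximalIdeal R) : R))) := rfl
  rw [D, h1, ebar_sigma s e hes]
  show Dφ (r - s (e r)) = Dφ r
  have h2 : Dφ r = Dφ (r - s (e r)) + Dφ (s (e r)) := by rw [← hadd, sub_add_cancel]
  rw [h2, hs, add_zero]

end

/-- (TSa) -/
theorem TSa {k : Type u} [Field k] {R : Type u} [CommRing R] [IsLocalRing R] [IsNoetherianRing R]
    (s : k →+* R) (e : R →+* k) (hes : e.comp s = RingHom.id k) (he : IsLocalHom e)
    {V : Type v} [AddCommGroup V] [Module k V]
    (f : DPt s e (dual k k) → V) (hf : Function.Bijective f)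
    (hadd : ∀ z : DPt s e (dual2 k k),
      f (DPt.map plus z) = f (DPt.map pr₁ z) + f (DPt.map pr₂ z))
    (hsmul : ∀ (c : k) (t : DPt s e (dual k k)), f (DPt.map (scale c) t) = c • f t) :
    Module.finrank (IsLocalRing.ResidueField R) (IsLocalRing.CotangentSpace R) =
      Module.finrank k V := by
  haveI := he
  -- the semilinear bijection
  let Θ : Module.Dual (ResidueField R) (CotangentSpace R) →+ V :=
    { toFun := fun l => f (tphi s e hes l)
      map_zero' := by
        have h := hadd (tpsi s e hes 0 0)
        rw [map_plus_tpsi, map_pr₁_tpsi, map_pr₂_tpsi, add_zero] at h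
        exact left_eq_add.mp h
      map_add' := fun l₁ l₂ => by
        have h := hadd (tpsi s e hes l₁ l₂)
        rw [map_plus_tpsi, map_pr₁_tpsi, map_pr₂_tpsi] at h
        exact h }
  have hΘ : Function.Bijective Θ :=
    hf.comp ⟨tphi_injective s e hes, tphi_surjective s e hes⟩
  have hsemi : ∀ (a : ResidueField R) (l : Module.Dual (ResidueField R) (CotangentSpace R)),
      (AddEquiv.ofBijective Θ hΘ) (a • l) = ebar e a • (AddEquiv.ofBijective Θ hΘ) l := by
    intro a l
    show f (tphi s e hes (a • l)) = ebar e a • f (tphi s e hes l)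
    rw [← map_scale_tphi, hsmul]
  have hr := lift_rank_eq_of_equiv_equiv (ebar e) (AddEquiv.ofBijective Θ hΘ)
    (ebar_bijective s e hes) hsemi
  have h1 := congrArg Cardinal.toNat hr
  rw [Cardinal.toNat_lift, Cardinal.toNat_lift] at h1
  have h2 : Module.finrank (ResidueField R) (Module.Dual (ResidueField R) (CotangentSpace R)) =
      Module.finrank k V := h1
  rw [← h2, Subspace.dual_finrank_eq]

end Groth.Agent.H74.HilbTan_TSa
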