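import Mathlib
import Groth.Agent.H74.Coeff

/-! Simple subcomodules inside finite-dimensional subcomodules. -/

set_option autoImplicit false
universe u v w
open TensorProduct

namespace Groth.Agent.H74.Coeff

variable {k : Type u} [Field k] {C : Type v} [AddCommGroup C] [Module k C] [Coalgebra k C]
variable {V : Type w} [AddCommGroup V] [Module k V] [HopfRep.Comod k C V]

/-- Every nonzero finite-dimensional subcomodule contains a simple subcomodule. -/
theorem exists_simple_subcomod_le : ∀ (n : ℕ) (W : Submodule k V) [Module.Finite k W],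
    Module.finrank k W = n → HopfRep.IsSubcomod (k := k) (A := C) W → W ≠ ⊥ →
    ∃ E : Submodule k V, E ≤ W ∧ E ≠ ⊥ ∧ HopfRep.IsSubcomod (k := k) (A := C) E ∧
      ∀ E' : Submodule k V, E' ≤ E → HopfRep.IsSubcomod (k := k) (A := C) E' →
        E' = ⊥ ∨ E' = E := by
  intro n
  induction n using Nat.strong_induction_on with
  | _ n ih =>
    intro W _ hn hW hne
    by_cases hs : ∀ E' : Submodule k V, E' ≤ W → HopfRep.IsSubcomod (k := k) (A := C) E' →
        E' = ⊥ ∨ E' = W
    · exact ⟨W, le_rfl, hne, hW, hs⟩
    · push_neg at hs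
      obtain ⟨E', hle, hE', hne', hneW⟩ := hs
      have hlt : E' < W := lt_of_le_of_ne hle hneW
      have hfinE : Module.Finite k E' := Submodule.finiteDimensional_of_le hle
      have hfr : Module.finrank k E' < n := hn ▸ Submodule.finrank_lt_finrank_of_lt hlt
      obtain ⟨E, hEle, h1, h2, h3⟩ := ih _ hfr E' rfl hE' hne'
      exact ⟨E, hEle.trans hle, h1, h2, h3⟩

end Groth.Agent.H74.Coeff
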