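import Mathlib
import Groth.Agent.H74.Coeff2
import Groth.Agent.H62.Reynolds
import Groth.Agent.S7972

/-!
Simple subcomodules, sums of simple comodules and coefficient spaces of simple comodules
(helper74).

* `IsSimpleSub C N` : `N` is a simple subcomodule
* `exists_comodHom_range_eq` : a simple subcomodule of a sum of images of simple comodules is the
  image of one of them under an injective comodule map
* `exists_comodHom_of_le_iSup_coeffOn`, `eq_coeffOn_top_of_isSubcoalg` (coefficient space of a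
  simple comodule is a simple subcoalgebra), `exists_comodIso_of_range_eq`.
-/

set_option autoImplicit false
universe u v w w' w'' x
open TensorProduct

namespace Groth.Agent.H74.Coeff

open Groth.Agent.H40 (ρ)

section

variable {k : Type u} [Field k] {C : Type v} [AddCommGroup C] [Module k C] [Coalgebra k C]
variable {V : Type w} [AddCommGroup V] [Module k V] [HopfRep.Comod k C V]

variable (C) in
/-- `N` is a simple subcomodule of `V`. -/
def IsSimpleSub (N : Submodule k V) : Prop :=
  HopfRep.IsSubcomod (k := k) (A := C) N ∧ N ≠ ⊥ ∧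
    ∀ W : Submodule k V, HopfRep.IsSubcomod (k := k) (A := C) W → W ≤ N → W = ⊥ ∨ W = N

theorem isComodHom_of_comp_injective {X : Type w'} [AddCommGroup X] [Module k X]
    [HopfRep.Comod k C X] {Y : Type w''} [AddCommGroup Y] [Module k Y] [HopfRep.Comod k C Y]
    {g : X →ₗ[k] Y} {j : Y →ₗ[k] V} (hj : Hoch.IsComodHom C j) (hinj : Function.Injective j)
    (h : Hoch.IsComodHom C (j ∘ₗ g)) : Hoch.IsComodHom C g := by
  refine LinearMap.ext fun x => Groth.Agent.H62.rTensor_injective j hinj C ?_
  have h1 := Groth.Agent.H93.comodHom_apply hj (g x)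
  have h2 := Groth.Agent.H93.comodHom_apply h x
  rw [LinearMap.comp_apply] at h2
  rw [LinearMap.comp_apply, LinearMap.comp_apply, ← h1, h2, LinearMap.rTensor_comp,
    LinearMap.comp_apply]

theorem injective_of_ne_zero {E : Type w'} [AddCommGroup E] [Module k E] [HopfRep.Comod k C E]
    (hE : HopfRep.IsSimpleComod k C E) {f : E →ₗ[k] V} (hf : Hoch.IsComodHom C f) (h0 : f ≠ 0) :
    Function.Injective f := by
  rw [← LinearMap.ker_eq_bot]
  rcases hE.2 _ (Groth.Agent.H93.isSubcomod_ker hf) with h | h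
  · exact h
  · exact absurd (LinearMap.ker_eq_top.mp h) h0

theorem isSimpleSub_range {E : Type w'} [AddCommGroup E] [Module k E] [HopfRep.Comod k C E]
    (hE : HopfRep.IsSimpleComod k C E) {f : E →ₗ[k] V} (hf : Hoch.IsComodHom C f) (h0 : f ≠ 0) :
    IsSimpleSub C (LinearMap.range f) := by
  refine ⟨Groth.Agent.H93.isSubcomod_range hf, fun h => h0 (LinearMap.range_eq_bot.mp h), ?_⟩
  intro W hW hle
  rcases hE.2 _ (Groth.Agent.H62.isSubcomod_comap hf hW) with h | h
  · left
    rw [← Submodule.map_comap_eq_of_le hle, h, Submodule.map_bot]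
  · right
    rw [← Submodule.map_comap_eq_of_le hle, h, Submodule.map_top]

/-- A simple subcomodule is a simple comodule. -/
theorem isSimpleComod_sub {N : Submodule k V} (hN : IsSimpleSub C N) :
    @HopfRep.IsSimpleComod k C _ _ _ _ N _ _ (Groth.Agent.H62.subComod N hN.1) := by
  letI := Groth.Agent.H62.subComod N hN.1
  have hsub : Hoch.IsComodHom C N.subtype := Groth.Agent.H62.isComodHom_subtype N hN.1
  refine ⟨(Submodule.nontrivial_iff_ne_bot).mpr hN.2.1, ?_⟩
  intro W hW
  have hmap : HopfRep.IsSubcomod (k := k) (A := C) (W.map N.subtype) :=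
    Groth.Agent.H62.isSubcomod_map hsub hW
  rcases hN.2.2 _ hmap (Submodule.map_subtype_le N W) with h | h
  · left
    exact Submodule.map_injective_of_injective N.injective_subtype
      (h.trans (Submodule.map_bot _).symm)
  · right
    apply Submodule.map_injective_of_injective N.injective_subtype
    rw [h, Submodule.map_subtype_top]

theorem coeffOn_eq_coeffOn_sub_top {N : Submodule k V}
    (hN : HopfRep.IsSubcomod (k := k) (A := C) N) :
    coeffOn (C := C) N = @coeffOn k _ C _ _ _ N _ _ (Groth.Agent.H62.subComod N hN) ⊤ := by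
  letI := Groth.Agent.H62.subComod N hN
  have hsub : Hoch.IsComodHom C N.subtype := Groth.Agent.H62.isComodHom_subtype N hN
  have := coeffOn_map_eq (C := C) hsub N.injective_subtype ⊤
  rw [Submodule.map_subtype_top] at this
  exact this

theorem coeffOn_range_eq {E : Type w'} [AddCommGroup E] [Module k E] [HopfRep.Comod k C E]
    {g : E →ₗ[k] V} (hg : Hoch.IsComodHom C g) (hinj : Function.Injective g) :
    coeffOn (C := C) (LinearMap.range g) = coeffOn (C := C) (⊤ : Submodule k E) := by
  rw [← Submodule.map_top]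
  exact coeffOn_map_eq hg hinj ⊤

/-- Every nonzero subcomodule contains a simple subcomodule. -/
theorem exists_isSimpleSub_le {W : Submodule k V} (hW : HopfRep.IsSubcomod (k := k) (A := C) W)
    (hW0 : W ≠ ⊥) : ∃ N : Submodule k V, N ≤ W ∧ IsSimpleSub C N := by
  obtain ⟨b, hbW, hb0⟩ := Submodule.exists_mem_ne_zero_of_ne_bot hW0
  obtain ⟨W₀, hfin, hbW₀, hW₀⟩ :=
    Groth.Agent.H40.exists_finite_subcomod_mem (k := k) (C := C) (V := V) b
  have hW' : HopfRep.IsSubcomod (k := k) (A := C) (W₀ ⊓ W) :=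
    Groth.Agent.H40.isSubcomod_inf hW₀ hW
  haveI hWfin : Module.Finite k ↥(W₀ ⊓ W) := Submodule.finiteDimensional_of_le inf_le_left
  have hWne : W₀ ⊓ W ≠ ⊥ := fun h => hb0 ((Submodule.mem_bot k).mp (h ▸ ⟨hbW₀, hbW⟩))
  obtain ⟨N, hNW, hNne, hN, hNs⟩ := exists_simple_subcomod_le (C := C) _ (W₀ ⊓ W) rfl hW' hWne
  exact ⟨N, hNW.trans inf_le_right, hN, hNne, fun W' hW' hle => hNs W' hle hW'⟩

theorem map_eq_bot_or_isSimpleSub {V' : Type w'} [AddCommGroup V'] [Module k V']
    [HopfRep.Comod k C V'] {f : V →ₗ[k] V'} (hf : Hoch.IsComodHom C f) {N : Submodule k V}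
    (hN : IsSimpleSub C N) : N.map f = ⊥ ∨ IsSimpleSub C (N.map f) := by
  letI := Groth.Agent.H62.subComod N hN.1
  have hsub : Hoch.IsComodHom C N.subtype := Groth.Agent.H62.isComodHom_subtype N hN.1
  have hcomp : Hoch.IsComodHom C (f ∘ₗ N.subtype) := Groth.Agent.H93.isComodHom_comp hsub hf
  have hr : LinearMap.range (f ∘ₗ N.subtype) = N.map f := by
    rw [LinearMap.range_comp, Submodule.range_subtype]
  by_cases h0 : f ∘ₗ N.subtype = 0
  · left
    rw [← hr, h0, LinearMap.range_zero]
  · right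
    rw [← hr]
    exact isSimpleSub_range (isSimpleComod_sub hN) hcomp h0

/-- **Key lemma.** A simple subcomodule contained in a sum of images of simple comodules is the
image of one of them under an injective comodule map. -/
theorem exists_comodHom_range_eq {ι : Type x} (E : ι → Type w') [∀ i, AddCommGroup (E i)]
    [∀ i, Module k (E i)] [∀ i, HopfRep.Comod k C (E i)]
    (hE : ∀ i, HopfRep.IsSimpleComod k C (E i)) (f : ∀ i, E i →ₗ[k] V)
    (hf : ∀ i, Hoch.IsComodHom C (f i)) {N : Submodule k V} (hN : IsSimpleSub C N)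
    (hle : N ≤ ⨆ i, LinearMap.range (f i)) :
    ∃ i, ∃ g : E i →ₗ[k] V, Hoch.IsComodHom C g ∧ Function.Injective g ∧
      LinearMap.range g = N := by
  classical
  obtain ⟨T, hT⟩ : ∃ T : Submodule k V, T = ⨆ i, LinearMap.range (f i) := ⟨_, rfl⟩
  rw [← hT] at hle
  have hTsub : HopfRep.IsSubcomod (k := k) (A := C) T := by
    rw [hT]
    exact Groth.Agent.H93.isSubcomod_iSup _ fun i => Groth.Agent.H93.isSubcomod_range (hf i)
  letI instT : HopfRep.Comod k C T := Groth.Agent.H62.subComod T hTsub
  have hsubT : Hoch.IsComodHom C T.subtype := Groth.Agent.H62.isComodHom_subtype T hTsub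
  have hmem : ∀ i (e : E i), f i e ∈ T := by
    intro i e
    rw [hT]
    exact Submodule.mem_iSup_of_mem i ⟨e, rfl⟩
  let f' : ∀ i, E i →ₗ[k] T := fun i => LinearMap.codRestrict T (f i) (hmem i)
  have hf'comp : ∀ i, T.subtype ∘ₗ f' i = f i := fun i => rfl
  have hf' : ∀ i, Hoch.IsComodHom C (f' i) := fun i =>
    isComodHom_of_comp_injective hsubT T.injective_subtype (by rw [hf'comp]; exact hf i)
  let J : Type x := {i : ι // f i ≠ 0}
  let S : J → Submodule k T := fun j => LinearMap.range (f' j.1)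
  have hf'0 : ∀ j : J, f' j.1 ≠ 0 := by
    intro j h
    apply j.2
    rw [← hf'comp j.1, h, LinearMap.comp_zero]
  have hS : ∀ j : J, IsSimpleSub C (S j) := fun j =>
    isSimpleSub_range (hE j.1) (hf' j.1) (hf'0 j)
  have hsum : ⨆ j : J, S j = ⊤ := by
    apply Submodule.map_injective_of_injective T.injective_subtype
    rw [Submodule.map_iSup, Submodule.map_subtype_top]
    apply le_antisymm
    · exact iSup_le fun j => Submodule.map_subtype_le T _
    · refine hT.le.trans (iSup_le fun i => ?_)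
      by_cases hi : f i = 0
      · rw [hi, LinearMap.range_zero]
        exact bot_le
      · refine le_trans ?_ (le_iSup (fun j : J => (S j).map T.subtype) (⟨i, hi⟩ : J))
        show LinearMap.range (f i) ≤ (LinearMap.range (f' i)).map T.subtype
        rw [← LinearMap.range_comp, hf'comp]
  have hN' : HopfRep.IsSubcomod (k := k) (A := C) (N.comap T.subtype) :=
    Groth.Agent.H62.isSubcomod_comap hsubT hN.1
  obtain ⟨J', -, hcompl⟩ := Groth.Agent.S7972.result k C T S (fun j => (hS j).1)
    (fun j => (hS j).2) hsum (N.comap T.subtype) hN'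
  have hQ : HopfRep.IsSubcomod (k := k) (A := C) (⨆ j : J', S j) :=
    Groth.Agent.H93.isSubcomod_iSup _ fun j => (hS j).1
  have hπ : Hoch.IsComodHom C ((N.comap T.subtype).projection _ hcompl) :=
    Groth.Agent.H62.isComodHom_projection hN' hQ hcompl
  have hex : ∃ j : J, ((N.comap T.subtype).projection _ hcompl) ∘ₗ f' j.1 ≠ 0 := by
    by_contra hcon
    push Not at hcon
    have hker : (⊤ : Submodule k T) ≤ LinearMap.ker ((N.comap T.subtype).projection _ hcompl) := by
      rw [← hsum]
      refine iSup_le fun j => ?_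
      rintro _ ⟨e, rfl⟩
      rw [LinearMap.mem_ker]
      simpa using LinearMap.congr_fun (hcon j) e
    obtain ⟨n, hnN, hn0⟩ := Submodule.exists_mem_ne_zero_of_ne_bot hN.2.1
    have hnT : n ∈ T := hle hnN
    have h1 : ((N.comap T.subtype).projection _ hcompl) ⟨n, hnT⟩ = ⟨n, hnT⟩ :=
      Submodule.projection_apply_of_mem_left hcompl
        (show (⟨n, hnT⟩ : T) ∈ N.comap T.subtype from hnN)
    have h2 : ((N.comap T.subtype).projection _ hcompl) ⟨n, hnT⟩ = 0 :=
      LinearMap.mem_ker.mp (hker Submodule.mem_top)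
    rw [h2] at h1
    exact hn0 (by simpa using (congrArg Subtype.val h1).symm)
  obtain ⟨j, hj⟩ := hex
  have hg : Hoch.IsComodHom C
      (T.subtype ∘ₗ ((N.comap T.subtype).projection _ hcompl) ∘ₗ f' j.1) :=
    Groth.Agent.H93.isComodHom_comp (Groth.Agent.H93.isComodHom_comp (hf' j.1) hπ) hsubT
  have hg0 : T.subtype ∘ₗ ((N.comap T.subtype).projection _ hcompl) ∘ₗ f' j.1 ≠ 0 := by
    intro h
    apply hj
    apply LinearMap.ext
    intro e
    apply T.injective_subtype
    simpa using LinearMap.congr_fun h e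
  refine ⟨j.1, T.subtype ∘ₗ ((N.comap T.subtype).projection _ hcompl) ∘ₗ f' j.1, hg,
    injective_of_ne_zero (hE j.1) hg hg0, ?_⟩
  have hrle : LinearMap.range
      (T.subtype ∘ₗ ((N.comap T.subtype).projection _ hcompl) ∘ₗ f' j.1) ≤ N := by
    rintro _ ⟨e, rfl⟩
    exact Submodule.projection_apply_mem hcompl (f' j.1 e)
  rcases hN.2.2 _ (Groth.Agent.H93.isSubcomod_range hg) hrle with h | h
  · exact absurd (LinearMap.range_eq_bot.mp h) hg0
  · exact h

/-- A simple subcomodule of `C` contained in a sum of coefficient spaces of simple comodules is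
isomorphic to one of them. -/
theorem exists_comodHom_of_le_iSup_coeffOn {ι : Type x} (E : ι → Type w')
    [∀ i, AddCommGroup (E i)] [∀ i, Module k (E i)] [∀ i, HopfRep.Comod k C (E i)]
    (hE : ∀ i, HopfRep.IsSimpleComod k C (E i)) {N : Submodule k C} (hN : IsSimpleSub C N)
    (hle : N ≤ ⨆ i, coeffOn (C := C) (⊤ : Submodule k (E i))) :
    ∃ i, ∃ g : E i →ₗ[k] C, Hoch.IsComodHom C g ∧ Function.Injective g ∧
      LinearMap.range g = N := by
  obtain ⟨⟨i, φ⟩, g, hg⟩ := exists_comodHom_range_eq (C := C) (V := C)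
    (ι := Σ i, (E i →ₗ[k] k)) (fun p => E p.1) (fun p => hE p.1)
    (fun p => coeffMap (C := C) p.2) (fun p => isComodHom_coeffMap p.2) hN (by
      refine hle.trans (iSup_le fun i => ?_)
      simp only [coeffOn, Submodule.map_top]
      exact iSup_le fun φ => le_iSup
        (fun p : Σ i, (E i →ₗ[k] k) => LinearMap.range (coeffMap (C := C) p.2)) ⟨i, φ⟩)
  exact ⟨i, g, hg⟩

theorem coeffOn_eq_of_le_iSup_coeffOn {ι : Type x} (E : ι → Type w')
    [∀ i, AddCommGroup (E i)] [∀ i, Module k (E i)] [∀ i, HopfRep.Comod k C (E i)]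
    (hE : ∀ i, HopfRep.IsSimpleComod k C (E i)) {N : Submodule k C} (hN : IsSimpleSub C N)
    (hle : N ≤ ⨆ i, coeffOn (C := C) (⊤ : Submodule k (E i))) :
    ∃ i, coeffOn (C := C) (V := C) N = coeffOn (C := C) (⊤ : Submodule k (E i)) := by
  obtain ⟨i, g, hg, hinj, hr⟩ := exists_comodHom_of_le_iSup_coeffOn E hE hN hle
  exact ⟨i, by rw [← hr, coeffOn_range_eq hg hinj]⟩

theorem exists_comodHom_of_le_coeffOn {E : Type w'} [AddCommGroup E] [Module k E]
    [HopfRep.Comod k C E] (hE : HopfRep.IsSimpleComod k C E) {N : Submodule k C}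
    (hN : IsSimpleSub C N) (hle : N ≤ coeffOn (C := C) (⊤ : Submodule k E)) :
    ∃ g : E →ₗ[k] C, Hoch.IsComodHom C g ∧ Function.Injective g ∧ LinearMap.range g = N := by
  obtain ⟨_, g, hg⟩ := exists_comodHom_of_le_iSup_coeffOn (ι := Unit) (fun _ => E)
    (fun _ => hE) hN
    (hle.trans (le_iSup (fun _ : Unit => coeffOn (C := C) (⊤ : Submodule k E)) ()))
  exact ⟨g, hg⟩

/-- The coefficient space of a simple comodule is a simple subcoalgebra. -/
theorem eq_coeffOn_top_of_isSubcoalg {E : Type w'} [AddCommGroup E] [Module k E]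
    [HopfRep.Comod k C E] (hE : HopfRep.IsSimpleComod k C E) {B : Submodule k C}
    (hB : IsSubcoalg B) (hB0 : B ≠ ⊥) (hle : B ≤ coeffOn (C := C) (⊤ : Submodule k E)) :
    B = coeffOn (C := C) (⊤ : Submodule k E) := by
  obtain ⟨N, hNB, hN⟩ := exists_isSimpleSub_le (C := C) hB.isSubcomod hB0
  obtain ⟨g, hg, hinj, hr⟩ := exists_comodHom_of_le_coeffOn hE hN (hNB.trans hle)
  refine le_antisymm hle ?_
  rw [← coeffOn_range_eq hg hinj, hr]
  exact coeffOn_le_of_le_isSubcoalg hB hNB

theorem eq_coeffOn_of_isSubcoalg {N : Submodule k V} (hN : IsSimpleSub C N) {B : Submodule k C}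
    (hB : IsSubcoalg B) (hB0 : B ≠ ⊥) (hle : B ≤ coeffOn (C := C) N) :
    B = coeffOn (C := C) N := by
  rw [coeffOn_eq_coeffOn_sub_top hN.1] at hle ⊢
  letI := Groth.Agent.H62.subComod N hN.1
  exact eq_coeffOn_top_of_isSubcoalg (isSimpleComod_sub hN) hB hB0 hle

/-- Two comodules embedding onto the same subcomodule are isomorphic. -/
theorem exists_comodIso_of_range_eq {E : Type w'} [AddCommGroup E] [Module k E]
    [HopfRep.Comod k C E] {E' : Type w''} [AddCommGroup E'] [Module k E'] [HopfRep.Comod k C E']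
    {g : E →ₗ[k] V} {g' : E' →ₗ[k] V} (hg : Hoch.IsComodHom C g) (hinj : Function.Injective g)
    (hg' : Hoch.IsComodHom C g') (hinj' : Function.Injective g')
    (hr : LinearMap.range g = LinearMap.range g') :
    ∃ e : E ≃ₗ[k] E', Hoch.IsComodHom C e.toLinearMap := by
  let e : E ≃ₗ[k] E' := (LinearEquiv.ofInjective g hinj) ≪≫ₗ (LinearEquiv.ofEq _ _ hr) ≪≫ₗ
    (LinearEquiv.ofInjective g' hinj').symm
  have hcomp : g' ∘ₗ e.toLinearMap = g := by
    ext x
    simp only [LinearMap.comp_apply, LinearEquiv.coe_coe, e, LinearEquiv.trans_apply]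
    rw [LinearEquiv.ofInjective_symm_apply]
    rfl
  exact ⟨e, isComodHom_of_comp_injective hg' hinj' (by rw [hcomp]; exact hg)⟩

end

end Groth.Agent.H74.Coeff
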