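import Mathlib
import Groth.Agent.H74.Coeff3

/-!
The cofree comodule `M ⊗ C`, and cosemisimplicity (helper74).

* `cofreeComod M` : comodule structure on `M ⊗ C` with coaction `id ⊗ Δ`
* `isComodHom_mk`, `isComodHom_coact_cofree`, `coact_injective`
* `isSemisimpleComod_of_iSup_simple` : if `C` is a sum of simple subcomodules then every comodule
  is semisimple
* `exists_simple_subcoalg_decomp` : if the regular comodule is semisimple then `C` is the direct sum
  of simple subcoalgebras
-/

set_option autoImplicit false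
universe u v w w' x
open TensorProduct

namespace Groth.Agent.H74.Coeff

open Groth.Agent.H40 (ρ contr)

section cofree

variable {k : Type u} [Field k] {C : Type v} [AddCommGroup C] [Module k C] [Coalgebra k C]
variable (M : Type w) [AddCommGroup M] [Module k M]

/-- The coaction `id ⊗ Δ` on `M ⊗ C`. -/
noncomputable def cofreeCoact : M ⊗[k] C →ₗ[k] (M ⊗[k] C) ⊗[k] C :=
  (TensorProduct.assoc k M C C).symm.toLinearMap ∘ₗ
    (CoalgebraStruct.comul (R := k) (A := C)).lTensor M

theorem cofreeCoact_tmul (m : M) (c : C) :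
    cofreeCoact (C := C) M (m ⊗ₜ[k] c) =
      (TensorProduct.assoc k M C C).symm (m ⊗ₜ[k] CoalgebraStruct.comul (R := k) c) := by
  simp [cofreeCoact]

theorem cofree_key1 (m : M) (z : C ⊗[k] C) :
    (TensorProduct.assoc k (M ⊗[k] C) C C)
        ((cofreeCoact (C := C) M).rTensor C ((TensorProduct.assoc k M C C).symm (m ⊗ₜ[k] z))) =
      (TensorProduct.assoc k M C (C ⊗[k] C)).symm
        (m ⊗ₜ[k] (TensorProduct.assoc k C C C)
          ((CoalgebraStruct.comul (R := k) (A := C)).rTensor C z)) := by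
  induction z using TensorProduct.induction_on with
  | zero => simp
  | tmul a b =>
    rw [TensorProduct.assoc_symm_tmul, LinearMap.rTensor_tmul, cofreeCoact_tmul,
      LinearMap.rTensor_tmul]
    generalize CoalgebraStruct.comul (R := k) a = y
    induction y using TensorProduct.induction_on with
    | zero => simp
    | tmul a1 a2 => simp
    | add y1 y2 h1 h2 => simp only [tmul_add, add_tmul, map_add, h1, h2]
  | add z1 z2 h1 h2 => simp only [tmul_add, map_add, h1, h2]

theorem cofree_key2 {P : Type*} [AddCommGroup P] [Module k P] (g : C →ₗ[k] P) (m : M)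
    (z : C ⊗[k] C) :
    g.lTensor (M ⊗[k] C) ((TensorProduct.assoc k M C C).symm (m ⊗ₜ[k] z)) =
      (TensorProduct.assoc k M C P).symm (m ⊗ₜ[k] (g.lTensor C z)) := by
  induction z using TensorProduct.induction_on with
  | zero => simp
  | tmul a b => simp
  | add z1 z2 h1 h2 => simp only [tmul_add, map_add, h1, h2]

/-- The cofree comodule on a vector space `M`. -/
@[reducible] noncomputable def cofreeComod : HopfRep.Comod k C (M ⊗[k] C) where
  coact := cofreeCoact M
  coassoc := by
    refine TensorProduct.ext' fun m c => ?_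
    simp only [LinearMap.comp_apply, LinearEquiv.coe_coe]
    rw [cofreeCoact_tmul, cofree_key1, cofree_key2, Coalgebra.coassoc_apply]
  counit_comp := by
    refine TensorProduct.ext' fun m c => ?_
    simp only [LinearMap.comp_apply]
    rw [cofreeCoact_tmul, cofree_key2, Coalgebra.lTensor_counit_comul]
    simp

theorem isComodHom_mk (v : M) :
    @Hoch.IsComodHom k _ C _ _ _ C _ _ _ (M ⊗[k] C) _ _ (cofreeComod M)
      (TensorProduct.mk k M C v) := by
  letI := cofreeComod (k := k) (C := C) M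
  refine LinearMap.ext fun c => ?_
  show cofreeCoact (C := C) M (v ⊗ₜ[k] c) =
    (TensorProduct.mk k M C v).rTensor C (CoalgebraStruct.comul (R := k) c)
  rw [cofreeCoact_tmul]
  generalize CoalgebraStruct.comul (R := k) c = z
  induction z using TensorProduct.induction_on with
  | zero => simp
  | tmul a b => simp
  | add z1 z2 h1 h2 => simp only [tmul_add, map_add, h1, h2]

end cofree

section

variable {k : Type u} [Field k] {C : Type v} [AddCommGroup C] [Module k C] [Coalgebra k C]
variable {V : Type w} [AddCommGroup V] [Module k V] [HopfRep.Comod k C V]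

/-- The coaction `V → V ⊗ C` is a comodule map to the cofree comodule. -/
theorem isComodHom_coact_cofree :
    @Hoch.IsComodHom k _ C _ _ _ V _ _ _ (V ⊗[k] C) _ _ (cofreeComod V) (ρ k C V) := by
  letI := cofreeComod (k := k) (C := C) V
  refine LinearMap.ext fun v => ?_
  show cofreeCoact (C := C) V (ρ k C V v) = (ρ k C V).rTensor C (ρ k C V v)
  have h := Groth.Agent.H40.coassoc_apply (k := k) (C := C) v
  rw [cofreeCoact, LinearMap.comp_apply, ← h]
  simp

theorem coact_injective : Function.Injective (ρ k C V) :=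
  Function.LeftInverse.injective (g := contr V (CoalgebraStruct.counit (R := k) (A := C)))
    (fun v => Groth.Agent.H40.contr_counit_coact (k := k) (C := C) v)

/-- If the regular comodule is a sum of simple subcomodules, every comodule is semisimple. -/
theorem isSemisimpleComod_of_iSup_simple {ι : Type x} (S : ι → Submodule k C)
    (hS : ∀ i, IsSimpleSub C (S i)) (hsum : ⨆ i, S i = ⊤) :
    HopfRep.IsSemisimpleComod k C V := by
  classical
  intro W hW
  letI inst : HopfRep.Comod k C (V ⊗[k] C) := cofreeComod V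
  have hρ : Hoch.IsComodHom C (ρ k C V) := isComodHom_coact_cofree
  have hρinj : Function.Injective (ρ k C V) := coact_injective
  let S' : {p : V × ι // (S p.2).map (TensorProduct.mk k V C p.1) ≠ ⊥} → Submodule k (V ⊗[k] C) :=
    fun p => (S p.1.2).map (TensorProduct.mk k V C p.1.1)
  have hS' : ∀ p, IsSimpleSub C (S' p) := fun p =>
    (map_eq_bot_or_isSimpleSub (isComodHom_mk V p.1.1) (hS p.1.2)).resolve_left p.2
  have hsum' : ⨆ p, S' p = ⊤ := by
    rw [eq_top_iff, ← TensorProduct.span_tmul_eq_top, Submodule.span_le]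
    rintro _ ⟨v, c, rfl⟩
    have hc : c ∈ ⨆ i, S i := by rw [hsum]; trivial
    have h1 : v ⊗ₜ[k] c ∈ (⨆ i, S i).map (TensorProduct.mk k V C v) := ⟨c, hc, rfl⟩
    rw [Submodule.map_iSup] at h1
    refine (iSup_le fun i => ?_ : ⨆ i, (S i).map (TensorProduct.mk k V C v) ≤ ⨆ p, S' p) h1
    by_cases h0 : (S i).map (TensorProduct.mk k V C v) = ⊥
    · rw [h0]
      exact bot_le
    · exact le_iSup S' ⟨(v, i), h0⟩
  have hWmap : HopfRep.IsSubcomod (k := k) (A := C) (W.map (ρ k C V)) :=
    Groth.Agent.H62.isSubcomod_map hρ hW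
  obtain ⟨J', -, hcompl⟩ := Groth.Agent.S7972.result k C (V ⊗[k] C) S' (fun p => (hS' p).1)
    (fun p => (hS' p).2) hsum' (W.map (ρ k C V)) hWmap
  have hQ : HopfRep.IsSubcomod (k := k) (A := C) (⨆ j : J', S' j) :=
    Groth.Agent.H93.isSubcomod_iSup _ fun j => (hS' j).1
  refine ⟨(⨆ j : J', S' j).comap (ρ k C V), Groth.Agent.H62.isSubcomod_comap hρ hQ, ?_, ?_⟩
  · rw [disjoint_iff, eq_bot_iff]
    intro x hx
    have h1 : ρ k C V x ∈ W.map (ρ k C V) ⊓ ⨆ j : J', S' j := ⟨⟨x, hx.1, rfl⟩, hx.2⟩
    rw [hcompl.inf_eq_bot, Submodule.mem_bot] at h1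
    rw [Submodule.mem_bot]
    exact hρinj (h1.trans (map_zero _).symm)
  · rw [codisjoint_iff, eq_top_iff]
    intro x _
    have h1 : ρ k C V x ∈ W.map (ρ k C V) ⊔ ⨆ j : J', S' j := by
      rw [hcompl.sup_eq_top]; trivial
    obtain ⟨y, ⟨w, hw, rfl⟩, q, hq, hyq⟩ := Submodule.mem_sup.mp h1
    rw [Submodule.mem_sup]
    refine ⟨w, hw, x - w, ?_, by abel⟩
    show ρ k C V (x - w) ∈ ⨆ j : J', S' j
    rw [map_sub, ← hyq, add_sub_cancel_left]
    exact hq

/-- A simple subcomodule of `C` contained in a sum of coefficient spaces of simple subcomodules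
has the same coefficient space as one of them. -/
theorem coeffOn_eq_of_le_iSup_coeffOn_sub {V' : Type w'} [AddCommGroup V'] [Module k V']
    [HopfRep.Comod k C V'] {ι : Type x} (M : ι → Submodule k V')
    (hM : ∀ i, IsSimpleSub C (M i)) {N : Submodule k C} (hN : IsSimpleSub C N)
    (hle : N ≤ ⨆ i, coeffOn (C := C) (M i)) :
    ∃ i, coeffOn (C := C) (V := C) N = coeffOn (C := C) (M i) := by
  letI : ∀ i, HopfRep.Comod k C (M i) := fun i => Groth.Agent.H62.subComod (M i) (hM i).1
  have hle' : N ≤ ⨆ i, coeffOn (C := C) (⊤ : Submodule k (M i)) :=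
    hle.trans (iSup_mono fun i => (coeffOn_eq_coeffOn_sub_top (hM i).1).le)
  obtain ⟨i, h⟩ := coeffOn_eq_of_le_iSup_coeffOn (fun i => M i)
    (fun i => isSimpleComod_sub (hM i)) hN hle'
  exact ⟨i, h.trans (coeffOn_eq_coeffOn_sub_top (hM i).1).symm⟩

end

section regular

variable {k : Type u} [Field k] {C : Type v} [AddCommGroup C] [Module k C] [Coalgebra k C]

/-- If `C` is a sum of simple subcoalgebras then it is a sum of simple subcomodules. -/
theorem le_sSup_simple_of_simple_subcoalg {D : Submodule k C} (h0 : D ≠ ⊥) (hsub : IsSubcoalg D)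
    (hs : ∀ B : Submodule k C, B ≤ D → IsSubcoalg B → B = ⊥ ∨ B = D) :
    D ≤ sSup {N : Submodule k C | IsSimpleSub C N} := by
  obtain ⟨N, hND, hN⟩ := exists_isSimpleSub_le (C := C) hsub.isSubcomod h0
  have hcf : coeffOn (C := C) (V := C) N = D := by
    rcases hs _ (coeffOn_le_of_le_isSubcoalg hsub hND) (isSubcoalg_coeffOn hN.1) with h | h
    · exact absurd ((coeffOn_eq_bot_iff N).mp h) hN.2.1
    · exact h
  rw [← hcf]
  refine iSup_le fun φ => ?_
  rcases map_eq_bot_or_isSimpleSub (isComodHom_coeffMap (C := C) (V := C) φ) hN with h | h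
  · rw [h]
    exact bot_le
  · exact le_sSup h

/-- If the regular comodule is semisimple then `C` is the direct sum of simple subcoalgebras. -/
theorem exists_simple_subcoalg_decomp (hC : HopfRep.IsSemisimpleComod k C C) :
    ∃ 𝒟 : Set (Submodule k C), sSupIndep 𝒟 ∧ sSup 𝒟 = ⊤ ∧ ∀ D ∈ 𝒟, D ≠ ⊥ ∧ IsSubcoalg D ∧
      ∀ B : Submodule k C, B ≤ D → IsSubcoalg B → B = ⊥ ∨ B = D := by
  classical
  have htop : sSup {N : Submodule k C | IsSimpleSub C N} = ⊤ := by
    obtain ⟨Q, hQ, hcompl⟩ := hC (sSup {N : Submodule k C | IsSimpleSub C N})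
      (Groth.Agent.H40.isSubcomod_sSup fun N hN => hN.1)
    by_cases hQ0 : Q = ⊥
    · rw [hQ0] at hcompl
      simpa using hcompl.sup_eq_top
    · exfalso
      obtain ⟨N, hNQ, hN⟩ := exists_isSimpleSub_le (C := C) hQ hQ0
      have hle : N ≤ sSup {N : Submodule k C | IsSimpleSub C N} ⊓ Q := le_inf (le_sSup hN) hNQ
      rw [hcompl.inf_eq_bot] at hle
      exact hN.2.1 (le_bot_iff.mp hle)
  refine ⟨{D | ∃ N : Submodule k C, IsSimpleSub C N ∧ D = coeffOn (C := C) (V := C) N},
    ?_, ?_, ?_⟩
  · rintro D₀ ⟨N₀, hN₀, rfl⟩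
    rw [disjoint_iff]
    by_contra hne
    have hsub1 : HopfRep.IsSubcomod (k := k) (A := C) (coeffOn (C := C) (V := C) N₀) :=
      (isSubcoalg_coeffOn hN₀.1).isSubcomod
    have hsub2 : HopfRep.IsSubcomod (k := k) (A := C)
        (sSup ({D | ∃ N : Submodule k C, IsSimpleSub C N ∧ D = coeffOn (C := C) (V := C) N} \
          {coeffOn (C := C) (V := C) N₀})) :=
      Groth.Agent.H40.isSubcomod_sSup (by
        rintro D ⟨⟨N, hN, rfl⟩, -⟩
        exact (isSubcoalg_coeffOn hN.1).isSubcomod)
    obtain ⟨N, hNle, hN⟩ := exists_isSimpleSub_le (C := C)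
      (Groth.Agent.H40.isSubcomod_inf hsub1 hsub2) hne
    obtain ⟨-, e1⟩ := coeffOn_eq_of_le_iSup_coeffOn_sub (ι := Unit) (fun _ => N₀)
      (fun _ => hN₀) hN ((hNle.trans inf_le_left).trans
        (le_iSup (fun _ : Unit => coeffOn (C := C) (V := C) N₀) ()))
    obtain ⟨N', e2⟩ := coeffOn_eq_of_le_iSup_coeffOn_sub
      (ι := {N' : Submodule k C // IsSimpleSub C N' ∧
        coeffOn (C := C) (V := C) N' ≠ coeffOn (C := C) (V := C) N₀})
      (fun N' => N'.1) (fun N' => N'.2.1) hN (by
        refine (hNle.trans inf_le_right).trans (sSup_le ?_)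
        rintro D ⟨⟨N', hN', rfl⟩, hne'⟩
        exact le_iSup (fun N' : {N' : Submodule k C // IsSimpleSub C N' ∧
          coeffOn (C := C) (V := C) N' ≠ coeffOn (C := C) (V := C) N₀} =>
            coeffOn (C := C) (V := C) N'.1) ⟨N', hN', hne'⟩)
    exact N'.2.2 (e2.symm.trans e1)
  · rw [eq_top_iff, ← htop]
    refine sSup_le fun N hN => ?_
    exact (le_coeffOn_regular N).trans (le_sSup ⟨N, hN, rfl⟩)
  · rintro D ⟨N, hN, rfl⟩
    refine ⟨?_, isSubcoalg_coeffOn hN.1, ?_⟩
    · rw [Ne, coeffOn_eq_bot_iff]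
      exact hN.2.1
    · intro B hB hBs
      by_cases hB0 : B = ⊥
      · exact Or.inl hB0
      · exact Or.inr (eq_coeffOn_of_isSubcoalg hN hBs hB0 hB)

end regular

end Groth.Agent.H74.Coeff
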