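import Mathlib

/-!
# (A1) for helper63 (S5339/S5340): pointwise descent of finite type along a field extension
-/

set_option autoImplicit false
universe u
open scoped TensorProduct

namespace Groth.Agent.H74.AwayFT

section
variable {K L B : Type u} [Field K] [Field L] [Algebra K L] [CommRing B] [Algebra K B]

/-- the comparison map `B0 ⊗ L → L ⊗ B`. -/
noncomputable def jmap (B0 : Subalgebra K B) : (B0 ⊗[K] L) →ₐ[K] (L ⊗[K] B) :=
  (Algebra.TensorProduct.comm K B L).toAlgHom.comp
    (Algebra.TensorProduct.map B0.val (AlgHom.id K L))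

lemma jmap_tmul (B0 : Subalgebra K B) (b : B0) (l : L) :
    jmap B0 (b ⊗ₜ l) = l ⊗ₜ (b : B) := by
  simp [jmap]

/-- slicing by a functional on `L ⊗ B`. -/
noncomputable def slice (lam : L →ₗ[K] K) : (L ⊗[K] B) →ₗ[K] B :=
  (TensorProduct.lid K B).toLinearMap ∘ₗ (lam.rTensor B)

lemma slice_tmul (lam : L →ₗ[K] K) (l : L) (b : B) :
    slice lam (l ⊗ₜ[K] b) = lam l • b := by
  simp [slice]

lemma slice_mul_one_tmul (lam : L →ₗ[K] K) (c : L ⊗[K] B) (b : B) :
    slice lam (c * ((1 : L) ⊗ₜ[K] b)) = slice lam c * b := by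
  induction c using TensorProduct.induction_on with
  | zero => simp
  | tmul l b1 =>
    rw [Algebra.TensorProduct.tmul_mul_tmul, slice_tmul, slice_tmul, mul_one, smul_mul_assoc]
  | add x y hx hy => rw [add_mul, map_add, map_add, hx, hy, add_mul]

/-- slicing by a functional on `B0 ⊗ L`. -/
noncomputable def slice0 (B0 : Subalgebra K B) (lam : L →ₗ[K] K) : (B0 ⊗[K] L) →ₗ[K] B0 :=
  (TensorProduct.rid K B0).toLinearMap ∘ₗ (lam.lTensor B0)

lemma slice0_tmul (B0 : Subalgebra K B) (lam : L →ₗ[K] K) (b : B0) (l : L) :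
    slice0 B0 lam (b ⊗ₜ[K] l) = lam l • b := by
  simp [slice0]

lemma slice_jmap (B0 : Subalgebra K B) (lam : L →ₗ[K] K) (c : B0 ⊗[K] L) :
    slice lam (jmap B0 c) = (slice0 B0 lam c : B) := by
  induction c using TensorProduct.induction_on with
  | zero => simp
  | tmul b l => rw [jmap_tmul, slice_tmul, slice0_tmul]; simp
  | add x y hx hy => simp [map_add, hx, hy]

lemma mem_of_slices_mem (B0 : Subalgebra K B) (I : Ideal (B0 ⊗[K] L)) (c : B0 ⊗[K] L)
    (h : ∀ lam : L →ₗ[K] K, (slice0 B0 lam c) ⊗ₜ[K] (1 : L) ∈ I) : c ∈ I := by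
  classical
  let 𝒞 := Module.Basis.ofVectorSpace K L
  obtain ⟨b, rfl⟩ := TensorProduct.eq_repr_basis_right 𝒞 c
  have hcoef : ∀ j, slice0 B0 (𝒞.coord j) (b.sum fun i m => m ⊗ₜ[K] 𝒞 i) = b j := by
    intro j
    rw [Finsupp.sum, map_sum]
    simp_rw [slice0_tmul, Module.Basis.coord_apply, Module.Basis.repr_self, Finsupp.single_apply]
    rw [Finset.sum_eq_single j]
    · simp
    · intro i _ hij
      rw [if_neg hij, zero_smul]
    · intro hj
      rw [Finsupp.notMem_support_iff.mp hj, smul_zero]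
  have hall : ∀ i, (b i) ⊗ₜ[K] (1 : L) ∈ I := by
    intro i
    have := h (𝒞.coord i)
    rwa [hcoef] at this
  rw [Finsupp.sum]
  refine Ideal.sum_mem _ fun i _ => ?_
  have e : (b i) ⊗ₜ[K] (𝒞 i) = ((b i) ⊗ₜ[K] (1 : L)) * ((1 : B0) ⊗ₜ[K] (𝒞 i)) := by
    rw [Algebra.TensorProduct.tmul_mul_tmul, mul_one, one_mul]
  rw [e]
  exact I.mul_mem_right _ (hall i)

lemma jmap_range_mono {B1 B2 : Subalgebra K B} (h : B1 ≤ B2) :
    (jmap (L := L) B1).range ≤ (jmap (L := L) B2).range := by
  rintro _ ⟨c, rfl⟩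
  refine ⟨Algebra.TensorProduct.map (Subalgebra.inclusion h) (AlgHom.id K L) c, ?_⟩
  induction c using TensorProduct.induction_on with
  | zero => simp
  | tmul b l =>
    simp only [Algebra.TensorProduct.map_tmul, AlgHom.coe_id, id_eq, AlgHom.toRingHom_eq_coe,
      RingHom.coe_coe, jmap_tmul]
    rfl
  | add x y hx hy =>
    simp only [AlgHom.toRingHom_eq_coe, RingHom.coe_coe] at hx hy ⊢
    rw [map_add, map_add, hx, hy, map_add]

lemma exists_fg_mem_range (c : L ⊗[K] B) :
    ∃ B0 : Subalgebra K B, B0.FG ∧ c ∈ (jmap (L := L) B0).range := by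
  induction c using TensorProduct.induction_on with
  | zero => exact ⟨⊥, Subalgebra.fg_bot, zero_mem _⟩
  | tmul l b =>
    refine ⟨Algebra.adjoin K {b}, ?_, ⟨(⟨b, Algebra.subset_adjoin rfl⟩ : Algebra.adjoin K {b}) ⊗ₜ l,
      ?_⟩⟩
    · exact Subalgebra.fg_adjoin_finset {b} |> fun h => by simpa using h
    · exact jmap_tmul _ _ _
  | add x y hx hy =>
    obtain ⟨B1, h1, hx⟩ := hx
    obtain ⟨B2, h2, hy⟩ := hy
    exact ⟨B1 ⊔ B2, h1.sup h2,
      add_mem (jmap_range_mono le_sup_left hx) (jmap_range_mono le_sup_right hy)⟩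

lemma exists_fg_forall_mem_range (T : Finset (L ⊗[K] B)) :
    ∃ B0 : Subalgebra K B, B0.FG ∧ ∀ c ∈ T, c ∈ (jmap (L := L) B0).range := by
  classical
  induction T using Finset.induction_on with
  | empty => exact ⟨⊥, Subalgebra.fg_bot, by simp⟩
  | insert a s _ ih =>
    obtain ⟨B1, h1, hs⟩ := ih
    obtain ⟨B2, h2, ha⟩ := exists_fg_mem_range (K := K) a
    refine ⟨B1 ⊔ B2, h1.sup h2, fun c hc => ?_⟩
    rcases Finset.mem_insert.mp hc with rfl | hc
    · exact jmap_range_mono le_sup_right ha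
    · exact jmap_range_mono le_sup_left (hs c hc)

lemma exists_pow_mul_mem (f' : L ⊗[K] B) (hf : Algebra.FiniteType L (Localization.Away f')) :
    ∃ B0 : Subalgebra K B, B0.FG ∧ f' ∈ (jmap (L := L) B0).range ∧
      ∀ b : B, ∃ N : ℕ, f' ^ N * ((1 : L) ⊗ₜ[K] b) ∈ (jmap (L := L) B0).range := by
  classical
  obtain ⟨S, hS⟩ := hf.out
  have hsurj : ∀ z : Localization.Away f', ∃ (n : ℕ) (a : L ⊗[K] B),
      z * algebraMap (L ⊗[K] B) (Localization.Away f') f' ^ n =
        algebraMap (L ⊗[K] B) (Localization.Away f') a := fun z => IsLocalization.Away.surj f' z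
  choose nn num hnum using hsurj
  obtain ⟨B0, hB0, hT⟩ := exists_fg_forall_mem_range (K := K) (insert f' (S.image num))
  have hf'D : f' ∈ (jmap (L := L) B0).range := hT f' (Finset.mem_insert_self _ _)
  have hnumD : ∀ s ∈ S, num s ∈ (jmap (L := L) B0).range := fun s hs =>
    hT _ (Finset.mem_insert_of_mem (Finset.mem_image_of_mem num hs))
  have hLD : ∀ l : L, (l ⊗ₜ[K] (1 : B)) ∈ (jmap (L := L) B0).range := fun l =>
    ⟨(1 : B0) ⊗ₜ l, by show jmap B0 _ = _; rw [jmap_tmul]; rfl⟩
  refine ⟨B0, hB0, hf'D, fun b => ?_⟩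
  set ℓ := algebraMap (L ⊗[K] B) (Localization.Away f') with hℓ
  -- every element of the localization has a numerator in `D` after clearing denominators
  have hall : ∀ x : Localization.Away f', ∃ (N : ℕ) (d : L ⊗[K] B),
      d ∈ (jmap (L := L) B0).range ∧ x * ℓ f' ^ N = ℓ d := by
    intro x
    have hx : x ∈ Algebra.adjoin L (S : Set (Localization.Away f')) := by rw [hS]; trivial
    induction hx using Algebra.adjoin_induction with
    | mem s hs => exact ⟨nn s, num s, hnumD s hs, hnum s⟩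
    | algebraMap l =>
      refine ⟨0, l ⊗ₜ[K] (1 : B), hLD l, ?_⟩
      rw [pow_zero, mul_one, IsScalarTower.algebraMap_apply L (L ⊗[K] B) (Localization.Away f'),
        Algebra.TensorProduct.algebraMap_apply]
      rfl
    | add x y _ _ hx hy =>
      obtain ⟨N, d, hd, hxd⟩ := hx
      obtain ⟨M, e, he, hye⟩ := hy
      refine ⟨N + M, d * f' ^ M + e * f' ^ N,
        add_mem (mul_mem hd (pow_mem hf'D _)) (mul_mem he (pow_mem hf'D _)), ?_⟩
      rw [map_add, map_mul, map_mul, map_pow, map_pow, ← hxd, ← hye, pow_add]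
      ring
    | mul x y _ _ hx hy =>
      obtain ⟨N, d, hd, hxd⟩ := hx
      obtain ⟨M, e, he, hye⟩ := hy
      refine ⟨N + M, d * e, mul_mem hd he, ?_⟩
      rw [map_mul, ← hxd, ← hye, pow_add]
      ring
  obtain ⟨N, d, hd, hxd⟩ := hall (ℓ ((1 : L) ⊗ₜ[K] b))
  rw [← map_pow, ← map_mul, hℓ, IsLocalization.eq_iff_exists (Submonoid.powers f')] at hxd
  obtain ⟨⟨_, M, rfl⟩, hc⟩ := hxd
  refine ⟨M + N, ?_⟩
  have : f' ^ (M + N) * ((1 : L) ⊗ₜ[K] b) = f' ^ M * d := by
    rw [← hc, pow_add]; ring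
  rw [this]
  exact mul_mem (pow_mem hf'D _) hd

end

theorem exists_away_finiteType {K L B : Type u} [Field K] [Field L] [Algebra K L] [CommRing B]
    [Algebra K B] (f' : L ⊗[K] B) (p' : PrimeSpectrum (L ⊗[K] B)) (hp : f' ∉ p'.asIdeal)
    (hf : Algebra.FiniteType L (Localization.Away f')) :
    ∃ h : B, (1 : L) ⊗ₜ[K] h ∉ p'.asIdeal ∧ Algebra.FiniteType K (Localization.Away h) := by
  classical
  obtain ⟨B0, hB0, ⟨f0, hf0⟩, hpow⟩ := exists_pow_mul_mem f' hf
  have hf0' : jmap B0 f0 = f' := hf0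
  -- primes
  let q' : PrimeSpectrum (B0 ⊗[K] L) := PrimeSpectrum.comap (jmap (L := L) B0).toRingHom p'
  have hf0q : f0 ∉ q'.asIdeal := by
    intro hmem
    apply hp
    have : jmap B0 f0 ∈ p'.asIdeal := hmem
    rwa [hf0'] at this
  let π : PrimeSpectrum (B0 ⊗[K] L) → PrimeSpectrum B0 :=
    PrimeSpectrum.comap (algebraMap B0 (B0 ⊗[K] L))
  have hopen : IsOpen (π '' (PrimeSpectrum.basicOpen f0 : Set (PrimeSpectrum (B0 ⊗[K] L)))) :=
    PrimeSpectrum.isOpenMap_comap_algebraMap_tensorProduct_of_field _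
      (PrimeSpectrum.basicOpen f0).isOpen
  have hq : π q' ∈ π '' (PrimeSpectrum.basicOpen f0 : Set (PrimeSpectrum (B0 ⊗[K] L))) :=
    ⟨q', hf0q, rfl⟩
  obtain ⟨_, ⟨h0, rfl⟩, hqh0, hsub⟩ :=
    PrimeSpectrum.isTopologicalBasis_basic_opens.exists_subset_of_mem_open hq hopen
  refine ⟨B0.val h0, ?_, ?_⟩
  · intro hmem
    apply hqh0
    show jmap B0 (algebraMap B0 (B0 ⊗[K] L) h0) ∈ p'.asIdeal
    rw [Algebra.TensorProduct.algebraMap_apply, Algebra.algebraMap_self, RingHom.id_apply,
      jmap_tmul]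
    exact hmem
  · -- every element of `B` is multiplied into `B0` by a power of `h0`
    have key : ∀ b : B, ∃ k : ℕ, (h0 : B) ^ k * b ∈ B0 := by
      intro b
      obtain ⟨N, ⟨d0, hd0⟩⟩ := hpow b
      have hd0' : jmap B0 d0 = f' ^ N * ((1 : L) ⊗ₜ[K] b) := hd0
      let Ib : Ideal B0 :=
        { carrier := {s | (s : B) * b ∈ B0}
          add_mem' := by
            intro s t hs ht
            show ((s + t : B0) : B) * b ∈ B0
            rw [Subalgebra.coe_add, add_mul]
            exact add_mem hs ht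
          zero_mem' := by
            show ((0 : B0) : B) * b ∈ B0
            rw [Subalgebra.coe_zero, zero_mul]
            exact zero_mem _
          smul_mem' := by
            intro c s hs
            show ((c • s : B0) : B) * b ∈ B0
            rw [smul_eq_mul, Subalgebra.coe_mul, mul_assoc]
            exact mul_mem c.2 hs }
      have hslice : ∀ lam : L →ₗ[K] K, slice0 B0 lam (f0 ^ N) ∈ Ib := by
        intro lam
        show ((slice0 B0 lam (f0 ^ N) : B0) : B) * b ∈ B0
        rw [← slice_jmap, map_pow, hf0', ← slice_mul_one_tmul, ← hd0', slice_jmap]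
        exact (slice0 B0 lam d0).2
      have hrad : h0 ∈ Ib.radical := by
        rw [Ideal.radical_eq_sInf, Ideal.mem_sInf]
        rintro r ⟨hle, hprime⟩
        by_contra hh
        have hmem : (⟨r, hprime⟩ : PrimeSpectrum B0) ∈
            (PrimeSpectrum.basicOpen h0 : Set (PrimeSpectrum B0)) := hh
        obtain ⟨r', hr'f0, hr'π⟩ := hsub hmem
        have hr'eq : ∀ s : B0, s ∈ r → algebraMap B0 (B0 ⊗[K] L) s ∈ r'.asIdeal := by
          intro s hs
          have : s ∈ (π r').asIdeal := by rw [hr'π]; exact hs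
          exact this
        have hpowmem : f0 ^ N ∈ r'.asIdeal := by
          refine mem_of_slices_mem B0 r'.asIdeal _ fun lam => ?_
          have := hr'eq _ (hle (hslice lam))
          rwa [Algebra.TensorProduct.algebraMap_apply, Algebra.algebraMap_self,
            RingHom.id_apply] at this
        exact hr'f0 (r'.isPrime.mem_of_pow_mem _ hpowmem)
      obtain ⟨k, hk⟩ := hrad
      refine ⟨k, ?_⟩
      have : ((h0 ^ k : B0) : B) * b ∈ B0 := hk
      rwa [Subalgebra.coe_pow] at this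
    haveI : Algebra.FiniteType K B0 := (Subalgebra.fg_iff_finiteType B0).mp hB0
    haveI : Algebra.FiniteType K (Localization.Away h0) := inferInstance
    let g : Localization.Away h0 →ₐ[K] Localization.Away (B0.val h0) :=
      Localization.awayMapₐ B0.val h0
    refine Algebra.FiniteType.of_surjective (f := g) ?_
    intro x
    obtain ⟨⟨b, ⟨_, m, rfl⟩⟩, rfl⟩ := IsLocalization.mk'_surjective (Submonoid.powers (B0.val h0)) x
    obtain ⟨k, hk⟩ := key b
    refine ⟨IsLocalization.mk' (Localization.Away h0) (⟨(h0 : B) ^ k * b, hk⟩ : B0)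
      (⟨h0 ^ (m + k), m + k, rfl⟩ : Submonoid.powers h0), ?_⟩
    simp only [g, Localization.awayMapₐ, IsLocalization.Away.mapₐ_apply,
      IsLocalization.Away.map, IsLocalization.map_mk']
    rw [IsLocalization.mk'_eq_iff_eq]
    congr 1
    simp only [Subalgebra.coe_val, AlgHom.toRingHom_eq_coe, RingHom.coe_coe, map_pow]
    rw [pow_add]
    ring

end Groth.Agent.H74.AwayFT
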