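-- helper74: consequences of the rigidity lemma (S8117) for group schemes over a field:
-- a pointed morphism from an abelian variety to a group variety is a homomorphism.
import Groth.Agent.S8117
import Groth.Agent.H74.AbGI
import Mathlib

set_option autoImplicit false
universe u

open CategoryTheory MonoidalCategory CartesianMonoidalCategory MonObj GrpObj AlgebraicGeometry Limits

namespace Groth.Agent.H74.AbRig

section general

variable {C : Type*} [Category C] [CartesianMonoidalCategory C]

lemma eta_eq_one (B : C) [GrpObj B] : η[B] = (1 : 𝟙_ C ⟶ B) := by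
  rw [Hom.one_def, toUnit_unique (toUnit (𝟙_ C)) (𝟙 _), Category.id_comp]

lemma toUnit_eta {Y : C} (B : C) [GrpObj B] : toUnit Y ≫ η[B] = (1 : Y ⟶ B) := rfl

lemma comp_one' {Y Z : C} (B : C) [GrpObj B] (f : Y ⟶ Z) : f ≫ (1 : Z ⟶ B) = 1 := by
  rw [Hom.one_def, Hom.one_def, ← Category.assoc, toUnit_unique (f ≫ toUnit Z)]

/-- If the "defect" of multiplicativity of `f` is trivial, `f` is a homomorphism. -/
lemma isMonHom_of_defect {A A' : C} [GrpObj A] [GrpObj A'] (f : A ⟶ A')
    (hf : η[A] ≫ f = η[A'])
    (hm : (μ[A] ≫ f) * ((fst A A ≫ f) * (snd A A ≫ f))⁻¹ = 1) : IsMonHom f where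
  one_hom := hf
  mul_hom := by
    have h1 : μ[A] ≫ f = (fst A A ≫ f) * (snd A A ≫ f) := by
      rwa [mul_inv_eq_one] at hm
    rw [h1, Hom.mul_def, lift_fst_comp_snd_comp]

end general

variable (k : Type u) [Field k]

/-- A pointed morphism from an abelian variety to a (separated, finite type, geometrically
integral) group scheme over a field is a homomorphism. -/
theorem isMonHom_of_eta (A A' : Over (Spec (CommRingCat.of k))) [GrpObj A] [GrpObj A']
    [IsProper A.hom] [GeometricallyIntegral A.hom]
    [IsSeparated A'.hom] [QuasiCompact A'.hom] [LocallyOfFiniteType A'.hom]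
    [GeometricallyIntegral A'.hom]
    (f : A ⟶ A') (hf : η[A] ≫ f = η[A']) : IsMonHom f := by
  apply isMonHom_of_defect f hf
  set m : A ⊗ A ⟶ A' := (μ[A] ≫ f) * ((fst A A ≫ f) * (snd A A ≫ f))⁻¹ with hm
  have key := Groth.Agent.S8117.result k A A A' m η[A] η[A] η[A'] ?_ ?_
  · rw [key]; rfl
  · rw [hm, MonObj.comp_mul, GrpObj.comp_inv, MonObj.comp_mul, lift_comp_one_right_assoc,
      lift_fst_assoc, lift_snd_assoc, Category.id_comp, Category.assoc, hf, toUnit_eta,
      _root_.mul_one, mul_inv_cancel]
  · rw [hm, MonObj.comp_mul, GrpObj.comp_inv, MonObj.comp_mul, lift_comp_one_left_assoc,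
      lift_fst_assoc, lift_snd_assoc, Category.id_comp, Category.assoc, hf, toUnit_eta,
      _root_.one_mul, mul_inv_cancel]

/-- Version with target an abelian variety in the sense of the Albanese rows: proper, geometrically
reduced, connected. -/
theorem isMonHom_of_eta' (A A' : Over (Spec (CommRingCat.of k))) [GrpObj A] [GrpObj A']
    [IsProper A.hom] [GeometricallyIntegral A.hom]
    [IsProper A'.hom] [GeometricallyReduced A'.hom] [ConnectedSpace ↥A'.left]
    (f : A ⟶ A') (hf : η[A] ≫ f = η[A']) : IsMonHom f := by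
  have := Groth.Agent.H74.AbGI.geometricallyIntegral_of_connected k A'
  exact isMonHom_of_eta k A A' f hf

end Groth.Agent.H74.AbRig
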