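import Mathlib

/-! Abstract criterion: adic completeness from a coarser complete separated filtration. -/

namespace Groth.Agent.H74.AdicAux

open Finset

variable {W : Type*} [CommRing W]

lemma smodEq_pow_iff (I : Ideal W) (n : ℕ) (x y : W) :
    x ≡ y [SMOD (I ^ n • ⊤ : Submodule W W)] ↔ x - y ∈ I ^ n := by
  rw [SModEq.sub_mem, smul_eq_mul, Ideal.mul_top]

/-- A decreasing, separated, complete filtration by ideals such that `c ^ N` lies in the `N`-th
step. -/
structure Filt (J : ℕ → Ideal W) (c : W) : Prop where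
  anti : ∀ N, J (N + 1) ≤ J N
  sep : ∀ x, (∀ N, x ∈ J N) → x = 0
  compl : ∀ s : ℕ → W, (∀ k, s (k + 1) - s k ∈ J k) → ∃ t, ∀ k, t - s k ∈ J k
  pow_mem : ∀ N (a : W), a * c ^ N ∈ J N

variable {J : ℕ → Ideal W} {c : W}

theorem Filt.exists_tail (hJ : Filt J c) (g : ℕ → W) :
    ∃ h : ℕ → W, ∀ k, h k = g k + c * h (k + 1) := by
  have hs : ∀ k, ∃ t, ∀ n, t - ∑ j ∈ range n, g (k + j) * c ^ j ∈ J n := by
    intro k
    apply hJ.compl
    intro n
    rw [Finset.sum_range_succ, add_sub_cancel_left]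
    exact hJ.pow_mem n _
  choose h hh using hs
  refine ⟨h, fun k => ?_⟩
  rw [← sub_eq_zero]
  apply hJ.sep
  intro N
  have e1 : ∑ j ∈ range (N + 1), g (k + j) * c ^ j
      = c * ∑ j ∈ range N, g (k + 1 + j) * c ^ j + g k := by
    rw [Finset.sum_range_succ', Finset.mul_sum]
    congr 1
    · refine Finset.sum_congr rfl fun j _ => ?_
      rw [pow_succ, show k + (j + 1) = k + 1 + j by omega]
      ring
    · simp
  have e : h k - (g k + c * h (k + 1))
      = (h k - ∑ j ∈ range (N + 1), g (k + j) * c ^ j)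
        - c * (h (k + 1) - ∑ j ∈ range N, g (k + 1 + j) * c ^ j) := by
    rw [e1]; ring
  rw [e]
  exact (J N).sub_mem (hJ.anti N (hh k (N + 1))) ((J N).mul_mem_left c (hh (k + 1) N))

theorem Filt.isPrecomplete (hJ : Filt J c) : IsPrecomplete (Ideal.span {c}) W := by
  refine ⟨fun f hf => ?_⟩
  have hg : ∀ k, ∃ a, f (k + 1) - f k = a * c ^ k := by
    intro k
    have h1 := hf (show k ≤ k + 1 by omega)
    rw [smodEq_pow_iff, Ideal.span_singleton_pow, Ideal.mem_span_singleton'] at h1
    obtain ⟨a, ha⟩ := h1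
    exact ⟨-a, by rw [neg_mul, ha]; ring⟩
  choose g hg using hg
  obtain ⟨h, hh⟩ := hJ.exists_tail g
  have key : ∀ k, f 0 + h 0 - f k = c ^ k * h k := by
    intro k
    induction k with
    | zero => simp
    | succ k ih => linear_combination ih - hg k + c ^ k * hh k
  refine ⟨f 0 + h 0, fun n => ?_⟩
  rw [smodEq_pow_iff, Ideal.span_singleton_pow, Ideal.mem_span_singleton']
  refine ⟨-h n, ?_⟩
  linear_combination key n

theorem Filt.isHausdorff (hJ : Filt J c) : IsHausdorff (Ideal.span {c}) W := by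
  refine ⟨fun x hx => hJ.sep x fun N => ?_⟩
  have h1 := hx N
  rw [smodEq_pow_iff, sub_zero, Ideal.span_singleton_pow, Ideal.mem_span_singleton'] at h1
  obtain ⟨a, rfl⟩ := h1
  exact hJ.pow_mem N a

theorem Filt.isAdicComplete (hJ : Filt J c) : IsAdicComplete (Ideal.span {c}) W :=
  { toIsHausdorff := hJ.isHausdorff, toIsPrecomplete := hJ.isPrecomplete }

theorem Filt.isAdicComplete_of (hJ : Filt J c) (Ia : Ideal W) (V : W →+ W)
    (hV : ∀ x, V (c * x) = c * V x)
    (hI : ∀ k z, z ∈ Ia ^ (k + 1) ↔ ∃ y, z = c ^ k * V y) : IsAdicComplete Ia W := by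
  have h1 : IsHausdorff Ia W := by
    refine ⟨fun x hx => hJ.sep x fun N => ?_⟩
    have h1 := hx (N + 1)
    rw [smodEq_pow_iff, sub_zero, hI] at h1
    obtain ⟨y, rfl⟩ := h1
    rw [mul_comm]
    exact hJ.pow_mem N _
  have h2 : IsPrecomplete Ia W := by
    refine ⟨fun f hf => ?_⟩
    have hg : ∀ k, ∃ y, f (k + 1 + 1) - f (k + 1) = c ^ k * V y := by
      intro k
      have h1 := hf (show k + 1 ≤ k + 1 + 1 by omega)
      rw [smodEq_pow_iff, hI] at h1
      obtain ⟨y, hy⟩ := h1
      refine ⟨-y, ?_⟩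
      rw [map_neg, mul_neg, ← hy]; ring
    choose g hg using hg
    obtain ⟨h, hh⟩ := hJ.exists_tail g
    have key : ∀ k, f 1 + V (h 0) - f (k + 1) = c ^ k * V (h k) := by
      intro k
      induction k with
      | zero => simp
      | succ k ih =>
        have e : V (h k) = V (g k) + c * V (h (k + 1)) := by rw [hh k, map_add, hV]
        linear_combination ih - hg k + c ^ k * e
    refine ⟨f 1 + V (h 0), fun n => ?_⟩
    rw [smodEq_pow_iff]
    cases n with
    | zero => simp
    | succ n =>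
      rw [hI]
      exact ⟨-h n, by rw [map_neg]; linear_combination -(key n)⟩
  exact { toIsHausdorff := h1, toIsPrecomplete := h2 }

end Groth.Agent.H74.AdicAux
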