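import Groth.Agent.H69.FPColim

set_option autoImplicit false
open CategoryTheory CategoryTheory.Limits
universe u

namespace Groth.Agent.H74.ArtinFun

open Groth.Agent.H69 Groth.Agent.H69.FPC MvPolynomial

section aux
variable (A B : Type u) [CommRing A] [CommRing B] [Algebra A B]

/-- Index type: finite sets of elements of `B` and finite sets of relations valid in `B`. -/
abbrev JJ : Type u :=
  {j : Finset B × Finset (MvPolynomial B A) // ∀ t ∈ j.2, piB (A := A) (B := B) t = 0}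

variable {A B}

theorem le1 {i j : JJ A B} (h : i ≤ j) : i.1.1 ⊆ j.1.1 := (Prod.le_def.mp h).1
theorem le2 {i j : JJ A B} (h : i ≤ j) : i.1.2 ⊆ j.1.2 := (Prod.le_def.mp h).2

abbrev CC (j : JJ A B) : Type u := Cq j.1.1 j.1.2

noncomputable def trJ {i j : JJ A B} (h : i ≤ j) : CC i →ₐ[A] CC j := tr (le1 h) (le2 h)

noncomputable def toBJ (j : JJ A B) : CC j →ₐ[A] B := toB j.2

theorem trJ_refl (i : JJ A B) (x : CC i) : trJ (le_refl i) x = x := by
  obtain ⟨⟨q, hq⟩, rfl⟩ := mkq_surjective _ _ x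
  exact tr_mkq _ _ q hq

theorem trJ_trans {i j k : JJ A B} (h1 : i ≤ j) (h2 : j ≤ k) (x : CC i) :
    trJ h2 (trJ h1 x) = trJ (h1.trans h2) x := by
  obtain ⟨⟨q, hq⟩, rfl⟩ := mkq_surjective _ _ x
  simp only [trJ]
  rw [tr_mkq, tr_mkq, tr_mkq]

theorem toBJ_tr {i j : JJ A B} (h : i ≤ j) (x : CC i) : toBJ j (trJ h x) = toBJ i x := by
  obtain ⟨⟨q, hq⟩, rfl⟩ := mkq_surjective _ _ x
  simp only [trJ, toBJ]
  rw [tr_mkq, toB_mkq, toB_mkq]

open scoped Classical in
instance : IsDirected (JJ A B) (· ≤ ·) :=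
  ⟨fun i j => ⟨⟨(i.1.1 ∪ j.1.1, i.1.2 ∪ j.1.2), by
      intro t ht
      rcases Finset.mem_union.mp ht with h | h
      exacts [i.2 t h, j.2 t h]⟩,
    ⟨Finset.subset_union_left, Finset.subset_union_left⟩,
    ⟨Finset.subset_union_right, Finset.subset_union_right⟩⟩⟩

instance : Nonempty (JJ A B) := ⟨⟨(∅, ∅), by simp⟩⟩

theorem hsurj (b : B) : ∃ (j : JJ A B) (x : CC j), toBJ j x = b := by
  classical
  refine ⟨⟨({b}, ∅), by simp⟩, mkq _ _ ⟨X b, X_mem_PS (Finset.mem_singleton_self b)⟩, ?_⟩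
  simp only [toBJ]
  rw [toB_mkq, piB_X]

theorem hker (j : JJ A B) (x : CC j) (hx : toBJ j x = 0) :
    ∃ (k : JJ A B) (h : j ≤ k), trJ h x = 0 := by
  classical
  obtain ⟨⟨q, hq⟩, rfl⟩ := mkq_surjective _ _ x
  simp only [toBJ] at hx
  rw [toB_mkq] at hx
  refine ⟨⟨(j.1.1, insert q j.1.2), ?_⟩, ⟨Finset.Subset.refl _, Finset.subset_insert _ _⟩, ?_⟩
  · intro t ht
    rcases Finset.mem_insert.mp ht with h | h
    · rw [h]; exact hx
    · exact j.2 t h
  · simp only [trJ]
    rw [tr_mkq]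
    exact mkq_eq_zero _ (Finset.mem_insert_self _ _)

variable (A B) in
/-- The cocone exhibiting `B` as a filtered colimit of finitely presented `A`-algebras. -/
noncomputable abbrev theCocone :=
  dirCocone (A := A) (B := B) (J := JJ A B) CC (fun {_ _} h => trJ h) trJ_refl
    (fun h1 h2 x => trJ_trans h1 h2 x) toBJ (fun h x => toBJ_tr h x)

theorem theCocone_isColimit : Nonempty (IsColimit (theCocone A B)) :=
  dir_isColimit (A := A) (B := B) (J := JJ A B) CC (fun {_ _} h => trJ h) trJ_refl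
    (fun h1 h2 x => trJ_trans h1 h2 x) toBJ (fun h x => toBJ_tr h x) hsurj hker

end aux

section approx
variable {A B : Type u} [CommRing A] [CommRing B] [Algebra A B] (I : Ideal A)
  (ev : B →ₐ[A] A ⧸ I)

theorem exists_section
    (hAP : ∀ (k l : ℕ) (f : Fin l → MvPolynomial (Fin k) A) (â : Fin k → B),
      (∀ i, MvPolynomial.aeval â (f i) = 0) →
      ∃ a : Fin k → A, (∀ i, MvPolynomial.eval a (f i) = 0) ∧
        ∀ j, Ideal.Quotient.mk I (a j) = ev (â j))
    (j : JJ A B) :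
    ∃ a' : CC j →ₐ[A] A, ∀ x : CC j,
      Ideal.Quotient.mk I (a' x) = ev (toBJ j x) := by
  classical
  obtain ⟨⟨S, T⟩, hT⟩ := j
  change ∀ t ∈ T, piB t = 0 at hT
  change ∃ a' : Cq S T →ₐ[A] A, ∀ x : Cq S T,
      Ideal.Quotient.mk I (a' x) = ev (toB hT x)
  have : Finite (↑(S : Set B)) := Set.finite_coe_iff.mpr S.finite_toSet
  let k := Nat.card (↑(S : Set B))
  let e : (↑(S : Set B)) ≃ Fin k := Finite.equivFin _
  let τ : Type u := {t : MvPolynomial B A // t ∈ T ∧ t ∈ PS A S}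
  have : Finite τ := by
    have : Set.Finite {t : MvPolynomial B A | t ∈ T ∧ t ∈ PS A S} :=
      Set.Finite.subset T.finite_toSet (fun t ht => ht.1)
    exact Set.finite_coe_iff.mpr this
  let l := Nat.card τ
  let e' : τ ≃ Fin l := Finite.equivFin _
  have hex : ∀ t : τ, ∃ t₀ : MvPolynomial (↑(S : Set B)) A,
      rename (Subtype.val : (↑(S : Set B)) → B) t₀ = t.1 := by
    intro t
    have h := t.2.2
    change t.1 ∈ MvPolynomial.supported A (S : Set B) at h
    rw [MvPolynomial.supported_eq_range_rename] at h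
    exact h
  choose t₀ ht₀ using hex
  let f : Fin l → MvPolynomial (Fin k) A := fun i => rename e (t₀ (e'.symm i))
  let â : Fin k → B := fun n => (e.symm n).1
  have hâ : ∀ i, MvPolynomial.aeval â (f i) = 0 := by
    intro i
    show MvPolynomial.aeval â (rename e (t₀ (e'.symm i))) = 0
    rw [MvPolynomial.aeval_rename]
    have h1 : â ∘ e = (Subtype.val : (↑(S : Set B)) → B) := by
      funext s
      show (e.symm (e s)).1 = s.1
      rw [Equiv.symm_apply_apply]
    rw [h1]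
    have h2 := hT _ (e'.symm i).2.1
    rw [← ht₀ (e'.symm i)] at h2
    change MvPolynomial.aeval id (rename Subtype.val (t₀ (e'.symm i))) = 0 at h2
    rw [MvPolynomial.aeval_rename] at h2
    exact h2
  obtain ⟨a, ha0, hac⟩ := hAP k l f â hâ
  let g : B → A := fun b => if h : b ∈ (S : Set B) then a (e ⟨b, h⟩) else 0
  have hg : g ∘ (Subtype.val : (↑(S : Set B)) → B) = a ∘ e := by
    funext s
    show g s.1 = a (e s)
    simp only [g]
    rw [dif_pos s.2]
  let ψ : PS A S →ₐ[A] A := (MvPolynomial.aeval g).comp (PS A S).val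
  have hψ : ∀ x : PS A S, (x : MvPolynomial B A) ∈ T → ψ x = 0 := by
    intro x hx
    let t : τ := ⟨x.1, hx, x.2⟩
    have h1 := ha0 (e' t)
    show MvPolynomial.aeval g (x : MvPolynomial B A) = 0
    have h2 : (x : MvPolynomial B A) = rename Subtype.val (t₀ t) := (ht₀ t).symm
    rw [h2, MvPolynomial.aeval_rename, hg]
    change MvPolynomial.eval a (rename e (t₀ (e'.symm (e' t)))) = 0 at h1
    rw [Equiv.symm_apply_apply, MvPolynomial.eval_rename] at h1
    rw [← h1]
    rfl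
  let a' : Cq S T →ₐ[A] A := Ideal.Quotient.liftₐ (IT S T) ψ (by
    intro x hx
    have hle : IT S T ≤ RingHom.ker (ψ : PS A S →+* A) := by
      apply Ideal.span_le.mpr
      intro y hy
      rw [SetLike.mem_coe, RingHom.mem_ker]
      exact hψ y hy
    exact hle hx)
  have ha'mk : ∀ (q : MvPolynomial B A) (hq : q ∈ PS A S),
      a' (mkq S T ⟨q, hq⟩) = MvPolynomial.aeval g q := fun q hq => rfl
  refine ⟨a', ?_⟩
  let φ1 : Cq S T →ₐ[A] A ⧸ I := (Ideal.Quotient.mkₐ A I).comp a'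
  let φ2 : Cq S T →ₐ[A] A ⧸ I := ev.comp (toB hT)
  have htop : AlgHom.equalizer φ1 φ2 = ⊤ := by
    apply gen_top
    intro b hb
    rw [AlgHom.mem_equalizer]
    show Ideal.Quotient.mk I (a' (mkq S T ⟨X b, X_mem_PS hb⟩)) =
      ev (toB hT (mkq S T ⟨X b, X_mem_PS hb⟩))
    rw [ha'mk, toB_mkq, piB_X, MvPolynomial.aeval_X]
    have hbS : b ∈ (S : Set B) := hb
    have h3 := hac (e ⟨b, hbS⟩)
    have h4 : â (e ⟨b, hbS⟩) = b := by
      show (e.symm (e ⟨b, hbS⟩)).1 = b
      rw [Equiv.symm_apply_apply]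
    rw [h4] at h3
    simp only [g]
    rw [dif_pos hbS]
    exact h3
  intro x
  have hx : x ∈ AlgHom.equalizer φ1 φ2 := by rw [htop]; exact Algebra.mem_top
  exact (AlgHom.mem_equalizer φ1 φ2 x).mp hx

end approx

end Groth.Agent.H74.ArtinFun
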