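import Mathlib
import Groth.Agent.H74.AwayFT

/-!
# (DL) for helper63 (S5339/S5340): scheme version of pointwise descent of finite type
-/

set_option autoImplicit false
universe u
open CategoryTheory CategoryTheory.Limits AlgebraicGeometry
open scoped TensorProduct

namespace Groth.Agent.H74.AwayFT

/-- (A1') variant of (A1) for `B ⊗ L`. -/
theorem exists_away_finiteType' {K L B : Type u} [Field K] [Field L] [Algebra K L] [CommRing B]
    [Algebra K B] (f'' : B ⊗[K] L) (p'' : PrimeSpectrum (B ⊗[K] L)) (hp : f'' ∉ p''.asIdeal)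
    (hf : ((algebraMap (B ⊗[K] L) (Localization.Away f'')).comp
      (Algebra.TensorProduct.includeRight (R := K) (A := B) (B := L)).toRingHom).FiniteType) :
    ∃ h : B, h ⊗ₜ[K] (1 : L) ∉ p''.asIdeal ∧ Algebra.FiniteType K (Localization.Away h) := by
  let σ : B ⊗[K] L ≃ₐ[K] L ⊗[K] B := Algebra.TensorProduct.comm K B L
  let p' : PrimeSpectrum (L ⊗[K] B) := PrimeSpectrum.comap σ.symm.toAlgHom.toRingHom p''
  have hp' : σ f'' ∉ p'.asIdeal := by
    intro h
    apply hp
    have : σ.symm (σ f'') ∈ p''.asIdeal := h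
    simpa using this
  let θ : Localization.Away f'' →ₐ[K] Localization.Away (σ.toAlgHom f'') :=
    IsLocalization.Away.mapₐ (Localization.Away f'') (Localization.Away (σ.toAlgHom f''))
      σ.toAlgHom f''
  have hθs : Function.Surjective θ :=
    IsLocalization.Away.mapₐ_surjective_of_surjective f'' σ.surjective
  have hθ : ∀ c : B ⊗[K] L, θ (algebraMap _ _ c) = algebraMap _ _ (σ c) := by
    intro c
    simp only [θ, IsLocalization.Away.mapₐ_apply, IsLocalization.Away.map, IsLocalization.map_eq]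
    rfl
  have hcomp : (θ.toRingHom.comp ((algebraMap (B ⊗[K] L) (Localization.Away f'')).comp
      (Algebra.TensorProduct.includeRight (R := K) (A := B) (B := L)).toRingHom)).FiniteType :=
    (RingHom.FiniteType.of_surjective _ hθs).comp hf
  have heq : θ.toRingHom.comp ((algebraMap (B ⊗[K] L) (Localization.Away f'')).comp
      (Algebra.TensorProduct.includeRight (R := K) (A := B) (B := L)).toRingHom) =
      algebraMap L (Localization.Away (σ.toAlgHom f'')) := by
    ext l
    simp only [AlgHom.toRingHom_eq_coe, RingHom.coe_comp, RingHom.coe_coe, Function.comp_apply,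
      Algebra.TensorProduct.includeRight_apply]
    rw [hθ]
    rw [IsScalarTower.algebraMap_apply L (L ⊗[K] B) (Localization.Away (σ.toAlgHom f'')),
      Algebra.TensorProduct.algebraMap_apply]
    rfl
  rw [heq] at hcomp
  have hfin : Algebra.FiniteType L (Localization.Away (σ.toAlgHom f'')) :=
    RingHom.finiteType_algebraMap.mp hcomp
  obtain ⟨h, hh, hfinh⟩ := exists_away_finiteType (σ.toAlgHom f'') p' hp' hfin
  refine ⟨h, fun hmem => hh ?_, hfinh⟩
  show σ.symm ((1 : L) ⊗ₜ[K] h) ∈ p''.asIdeal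
  simpa [σ] using hmem

lemma lft_image {Y' Y S : Scheme.{u}} (ι : Y' ⟶ Y) [IsOpenImmersion ι] (g : Y ⟶ S)
    (V' : Y'.Opens) (h : LocallyOfFiniteType (V'.ι ≫ ι ≫ g)) :
    LocallyOfFiniteType ((ι ''ᵁ V').ι ≫ g) := by
  have e : (ι ''ᵁ V').ι ≫ g = (ι.isoImage V').inv ≫ (V'.ι ≫ ι ≫ g) := by
    rw [← Scheme.Hom.isoImage_inv_ι]
    simp only [Category.assoc]
  rw [e]
  infer_instance

lemma lft_preimage {Y' Y S : Scheme.{u}} (ι : Y' ⟶ Y) [IsOpenImmersion ι] (g : Y ⟶ S)
    (N : Y.Opens) (h : LocallyOfFiniteType (N.ι ≫ g)) :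
    LocallyOfFiniteType ((ι ⁻¹ᵁ N).ι ≫ ι ≫ g) := by
  have e : (ι ⁻¹ᵁ N).ι ≫ ι ≫ g = (ι ∣_ N) ≫ (N.ι ≫ g) := by
    rw [← Category.assoc, ← Category.assoc, morphismRestrict_ι]
  rw [e]
  infer_instance

lemma core {K L B : Type u} [Field K] [Field L] [Algebra K L] [CommRing B] [Algebra K B]
    (N : (Spec (CommRingCat.of (B ⊗[K] L))).Opens)
    (hN : LocallyOfFiniteType (N.ι ≫ Spec.map (CommRingCat.ofHom
      (Algebra.TensorProduct.includeRight (R := K) (A := B) (B := L)).toRingHom)))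
    (y : PrimeSpectrum (B ⊗[K] L)) (hy : y ∈ N.1) :
    ∃ h : B, h ⊗ₜ[K] (1 : L) ∉ y.asIdeal ∧ Algebra.FiniteType K (Localization.Away h) := by
  obtain ⟨_, ⟨f'', rfl⟩, hyf, hsub⟩ :=
    PrimeSpectrum.isTopologicalBasis_basic_opens.exists_subset_of_mem_open hy N.2
  let ιf : Spec (CommRingCat.of (Localization.Away f'')) ⟶ Spec (CommRingCat.of (B ⊗[K] L)) :=
    Spec.map (CommRingCat.ofHom (algebraMap (B ⊗[K] L) (Localization.Away f'')))
  have hrange : Set.range ιf ⊆ Set.range N.ι := by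
    rw [Scheme.Opens.range_ι]
    have : Set.range ιf = (PrimeSpectrum.basicOpen f'' : Set (PrimeSpectrum (B ⊗[K] L))) :=
      PrimeSpectrum.localization_away_comap_range (Localization.Away f'') f''
    rw [this]
    exact hsub
  let lft := IsOpenImmersion.lift N.ι ιf hrange
  have hfac : lft ≫ N.ι = ιf := IsOpenImmersion.lift_fac _ _ _
  haveI : IsOpenImmersion lft := by
    haveI : IsOpenImmersion (lft ≫ N.ι) := by rw [hfac]; infer_instance
    exact IsOpenImmersion.of_comp lft N.ι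
  have h1 : LocallyOfFiniteType (ιf ≫ Spec.map (CommRingCat.ofHom
      (Algebra.TensorProduct.includeRight (R := K) (A := B) (B := L)).toRingHom)) := by
    rw [← hfac, Category.assoc]
    infer_instance
  rw [← Spec.map_comp, HasRingHomProperty.Spec_iff (P := @LocallyOfFiniteType)] at h1
  exact exists_away_finiteType' f'' y hyf h1

theorem exists_open_lft_of_baseChange {K L : Type u} [Field K] [Field L] {X : Scheme.{u}}
    (f : X ⟶ Spec (CommRingCat.of K))
    (j : Spec (CommRingCat.of L) ⟶ Spec (CommRingCat.of K))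
    (N : (pullback f j).Opens) (hN : LocallyOfFiniteType (N.ι ≫ pullback.snd f j))
    (x' : ↥(pullback f j)) (hx' : x' ∈ N) :
    ∃ V : X.Opens, (pullback.fst f j) x' ∈ V ∧ LocallyOfFiniteType (V.ι ≫ f) := by
  obtain ⟨φ, rfl⟩ : ∃ φ, Spec.map φ = j := ⟨Spec.preimage j, Spec.map_preimage j⟩
  letI : Algebra K L := φ.hom.toAlgebra
  obtain ⟨_, ⟨U, hU₀, rfl⟩, hxU, -⟩ := X.isBasis_affineOpens.exists_subset_of_mem_open
    (Set.mem_univ ((pullback.fst f (Spec.map φ)) x')) isOpen_univ
  have hU : IsAffineOpen U := hU₀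
  obtain ⟨ψ, hψ⟩ : ∃ ψ : CommRingCat.of K ⟶ Γ(X, U), Spec.map ψ = hU.fromSpec ≫ f :=
    ⟨Spec.preimage _, Spec.map_preimage _⟩
  letI : Algebra K Γ(X, U) := ψ.hom.toAlgebra
  have hφ' : CommRingCat.ofHom (algebraMap K L) = φ := rfl
  have hψ' : CommRingCat.ofHom (algebraMap K Γ(X, U)) = ψ := rfl
  let e := pullbackSpecIso K Γ(X, U) L
  let ιP : pullback (Spec.map (CommRingCat.ofHom (algebraMap K Γ(X, U))))
      (Spec.map (CommRingCat.ofHom (algebraMap K L))) ⟶ pullback f (Spec.map φ) :=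
    pullback.map _ _ _ _ hU.fromSpec (𝟙 _) (𝟙 _)
      (by rw [Category.comp_id, hψ', hψ]) (by rw [Category.comp_id, Category.id_comp, hφ'])
  let κ : Spec (CommRingCat.of (Γ(X, U) ⊗[K] L)) ⟶ pullback f (Spec.map φ) := e.inv ≫ ιP
  haveI : IsOpenImmersion κ := inferInstance
  have hκπ : κ ≫ pullback.fst f (Spec.map φ) =
      Spec.map (CommRingCat.ofHom Algebra.TensorProduct.includeLeftRingHom) ≫ hU.fromSpec := by
    simp only [κ, ιP, e, Category.assoc, pullback.lift_fst, pullback.map]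
    rw [← Category.assoc, pullbackSpecIso_inv_fst]
  have hκsnd : κ ≫ pullback.snd f (Spec.map φ) = Spec.map (CommRingCat.ofHom
      (Algebra.TensorProduct.includeRight (R := K) (A := Γ(X, U)) (B := L)).toRingHom) := by
    simp only [κ, ιP, e, Category.assoc, pullback.lift_snd, pullback.map, Category.comp_id]
    rw [pullbackSpecIso_inv_snd]
    rfl
  -- `x'` is in the range of `κ`
  have hx'range : x' ∈ Set.range κ := by
    have h1 : x' ∈ Set.range ιP := by
      rw [Scheme.Pullback.range_map]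
      refine ⟨?_, ?_⟩
      · show (pullback.fst f (Spec.map φ)) x' ∈ Set.range hU.fromSpec
        rw [hU.range_fromSpec]
        exact hxU
      · exact ⟨_, rfl⟩
    obtain ⟨z, hz⟩ := h1
    refine ⟨e.hom z, ?_⟩
    show (e.inv ≫ ιP) (e.hom z) = x'
    rw [← Scheme.Hom.comp_apply, Iso.hom_inv_id_assoc]
    exact hz
  obtain ⟨y, rfl⟩ := hx'range
  have hNT : LocallyOfFiniteType ((κ ⁻¹ᵁ N).ι ≫ Spec.map (CommRingCat.ofHom
      (Algebra.TensorProduct.includeRight (R := K) (A := Γ(X, U)) (B := L)).toRingHom)) := by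
    rw [← hκsnd]
    exact lft_preimage κ _ N hN
  obtain ⟨h, hhy, hfin⟩ := core (κ ⁻¹ᵁ N) hNT y hx'
  let ιh : Spec (CommRingCat.of (Localization.Away h)) ⟶ Spec Γ(X, U) :=
    Spec.map (CommRingCat.ofHom (algebraMap Γ(X, U) (Localization.Away h)))
  refine ⟨hU.fromSpec ''ᵁ (ιh ''ᵁ ⊤), ?_, ?_⟩
  · have h1 : (pullback.fst f (Spec.map φ)) (κ y) = hU.fromSpec
        ((Spec.map (CommRingCat.ofHom Algebra.TensorProduct.includeLeftRingHom)) y) := by
      rw [← Scheme.Hom.comp_apply, hκπ, Scheme.Hom.comp_apply]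
    rw [h1]
    refine ⟨_, ?_, rfl⟩
    have h2 : ((ιh ''ᵁ ⊤ : (Spec Γ(X, U)).Opens) : Set (Spec Γ(X, U))) = Set.range ιh := by
      simp
    rw [h2]
    have h3 : Set.range ιh = (PrimeSpectrum.basicOpen h : Set (PrimeSpectrum Γ(X, U))) :=
      PrimeSpectrum.localization_away_comap_range (Localization.Away h) h
    rw [h3]
    exact hhy
  · apply lft_image
    apply lft_image
    rw [← hψ]
    have h4 : LocallyOfFiniteType (ιh ≫ Spec.map ψ) := by
      rw [← Spec.map_comp, HasRingHomProperty.Spec_iff (P := @LocallyOfFiniteType)]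
      have h5 : (algebraMap K (Localization.Away h)).FiniteType :=
        RingHom.finiteType_algebraMap.mpr hfin
      rw [IsScalarTower.algebraMap_eq K Γ(X, U) (Localization.Away h)] at h5
      exact h5
    infer_instance

end Groth.Agent.H74.AwayFT
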