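import Mathlib

/-!
# Digit-sum combinatorics for Ax's theorem (Wan's elementary proof)
-/

namespace Groth.Agent.H74.Ax

open Finset

/-- base `p` digit sum -/
def ds (p n : ℕ) : ℕ := (Nat.digits p n).sum

theorem ds_zero (p : ℕ) : ds p 0 = 0 := by simp [ds]

theorem ds_mul_add {p : ℕ} (hp : 1 < p) (n c : ℕ) (hc : c < p) :
    ds p (p * n + c) = ds p n + c := by
  unfold ds
  by_cases h0 : n = 0 ∧ c = 0
  · obtain ⟨rfl, rfl⟩ := h0; simp
  · have hpos : 0 < p * n + c := by
      rcases Nat.eq_zero_or_pos n with hn | hn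
      · subst hn
        have : c ≠ 0 := fun h => h0 ⟨rfl, h⟩
        omega
      · have : 0 < p * n := Nat.mul_pos (by omega) hn
        omega
    rw [Nat.digits_def' hp hpos]
    have h1 : (p * n + c) % p = c := by
      rw [Nat.mul_add_mod]; exact Nat.mod_eq_of_lt hc
    have h2 : (p * n + c) / p = n := by
      rw [Nat.mul_add_div (by omega)]; simp [Nat.div_eq_of_lt hc]
    rw [h1, h2, List.sum_cons]; ring

theorem ds_mul {p : ℕ} (hp : 1 < p) (n : ℕ) : ds p (p * n) = ds p n := by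
  have := ds_mul_add hp n 0 (by omega)
  simpa using this

theorem ds_pow_mul {p : ℕ} (hp : 1 < p) (k n : ℕ) : ds p (p ^ k * n) = ds p n := by
  induction k with
  | zero => simp
  | succ k ih => rw [pow_succ, mul_comm (p ^ k) p, mul_assoc, ds_mul hp, ih]

theorem ds_pow_sub_one {p : ℕ} (hp : 1 < p) (f : ℕ) : ds p (p ^ f - 1) = f * (p - 1) := by
  induction f with
  | zero => simp [ds_zero]
  | succ f ih =>
    have h1 : 1 ≤ p ^ f := Nat.one_le_pow _ _ (by omega)
    have h2 : p ^ (f + 1) - 1 = p * (p ^ f - 1) + (p - 1) := by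
      rw [pow_succ, Nat.mul_sub, mul_one, mul_comm (p ^ f) p]
      have : p ≤ p * p ^ f := by nlinarith
      omega
    rw [h2, ds_mul_add hp _ _ (by omega), ih]; ring

/-- least positive residue mod `r` (and `0 ↦ 0`) -/
def rho (r m : ℕ) : ℕ := if m = 0 then 0 else if m % r = 0 then r else m % r

@[simp] theorem rho_zero (r : ℕ) : rho r 0 = 0 := by simp [rho]

theorem rho_pos {r m : ℕ} (hr : 0 < r) (hm : 0 < m) : 0 < rho r m := by
  unfold rho
  rw [if_neg (by omega)]
  split_ifs with h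
  · exact hr
  · omega

theorem rho_mod (r m : ℕ) : rho r m % r = m % r := by
  unfold rho
  split_ifs with h1 h2
  · subst h1; rfl
  · rw [Nat.mod_self, h2]
  · rw [Nat.mod_mod]

theorem rho_le_of {r m n : ℕ} (hr : 0 < r) (hn : 0 < n) (h : n % r = m % r) : rho r m ≤ n := by
  unfold rho
  split_ifs with h1 h2
  · omega
  · rw [h2] at h
    exact Nat.le_of_dvd hn (Nat.dvd_of_mod_eq_zero h)
  · rw [← h]; exact Nat.mod_le _ _

theorem rho_congr {r m m' : ℕ} (hm : 0 < m) (hm' : 0 < m') (h : m % r = m' % r) :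
    rho r m = rho r m' := by
  unfold rho
  rw [if_neg hm.ne', if_neg hm'.ne', h]

theorem rho_eq_self {r m : ℕ} (hm : 0 < m) (hmr : m ≤ r) : rho r m = m := by
  unfold rho
  rw [if_neg (by omega)]
  rcases Nat.lt_or_ge m r with h | h
  · rw [Nat.mod_eq_of_lt h, if_neg (by omega)]
  · have : m = r := le_antisymm hmr h
    subst this
    rw [Nat.mod_self, if_pos rfl]

theorem rho_add_le {r : ℕ} (hr : 0 < r) (a b : ℕ) : rho r (a + b) ≤ rho r a + rho r b := by
  rcases Nat.eq_zero_or_pos a with ha | ha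
  · subst ha; simp
  rcases Nat.eq_zero_or_pos b with hb | hb
  · subst hb; simp
  apply rho_le_of hr
  · have := rho_pos hr ha; omega
  · rw [Nat.add_mod, rho_mod, rho_mod, ← Nat.add_mod]

/-- the twisted sum -/
def T (p f r m : ℕ) : ℕ := ∑ l ∈ range f, rho r (p ^ l * m)

theorem T_zero (p f r : ℕ) : T p f r 0 = 0 := by simp [T]

theorem T_add_le {r : ℕ} (hr : 0 < r) (p f a b : ℕ) : T p f r (a + b) ≤ T p f r a + T p f r b := by
  unfold T
  rw [← sum_add_distrib]
  apply sum_le_sum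
  intro l _
  rw [mul_add]
  exact rho_add_le hr _ _

theorem T_mul_p {p f : ℕ} (hp : 2 ≤ p) (m : ℕ) :
    T p f (p ^ f - 1) (p * m) = T p f (p ^ f - 1) m := by
  unfold T
  have h1 : ∀ l, rho (p ^ f - 1) (p ^ l * (p * m)) = rho (p ^ f - 1) (p ^ (l + 1) * m) := by
    intro l; rw [pow_succ, mul_assoc]
  simp_rw [h1]
  have h2 := sum_range_succ' (fun l => rho (p ^ f - 1) (p ^ l * m)) f
  have h3 := sum_range_succ (fun l => rho (p ^ f - 1) (p ^ l * m)) f
  have h4 : rho (p ^ f - 1) (p ^ f * m) = rho (p ^ f - 1) (p ^ 0 * m) := by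
    rw [pow_zero, one_mul]
    rcases Nat.eq_zero_or_pos m with hm | hm
    · subst hm; simp
    · have hpf : 1 ≤ p ^ f := Nat.one_le_pow _ _ (by omega)
      apply rho_congr (Nat.mul_pos (by omega) hm) hm
      have : p ^ f * m = (p ^ f - 1) * m + m := by
        have : p ^ f = (p ^ f - 1) + 1 := by omega
        nlinarith
      rw [this, Nat.mul_add_mod]
  beta_reduce at h2 h3
  omega

theorem T_le_mul (p f : ℕ) {r : ℕ} (hr : 0 < r) (c : ℕ) : T p f r c ≤ c * T p f r 1 := by
  induction c with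
  | zero => simp [T_zero]
  | succ c ih =>
    calc T p f r (c + 1) ≤ T p f r c + T p f r 1 := T_add_le hr p f c 1
      _ ≤ c * T p f r 1 + T p f r 1 := by omega
      _ = (c + 1) * T p f r 1 := by ring

theorem geom_aux (p f : ℕ) (hp : 1 ≤ p) : (p - 1) * ∑ l ∈ range f, p ^ l + 1 = p ^ f := by
  obtain ⟨p', rfl⟩ : ∃ p', p = p' + 1 := ⟨p - 1, by omega⟩
  simp only [Nat.add_sub_cancel]
  induction f with
  | zero => simp
  | succ f ih =>
    rw [sum_range_succ, mul_add, pow_succ]
    nlinarith [ih]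

theorem T_one {p f : ℕ} (hp : 2 ≤ p) : (p - 1) * T p f (p ^ f - 1) 1 = p ^ f - 1 := by
  unfold T
  have h : ∀ l ∈ range f, rho (p ^ f - 1) (p ^ l * 1) = p ^ l := by
    intro l hl
    rw [mul_one]
    have hl' : l < f := mem_range.1 hl
    apply rho_eq_self (pow_pos (by omega) _)
    have h1 : p ^ l < p ^ f := Nat.pow_lt_pow_right (by omega) hl'
    omega
  rw [sum_congr rfl h]
  have := geom_aux p f (by omega)
  exact Nat.eq_sub_of_add_eq this

/-- key inequality -/
theorem key {p f : ℕ} (hp : 2 ≤ p) (hf : 1 ≤ f) (m : ℕ) :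
    (p - 1) * T p f (p ^ f - 1) m ≤ (p ^ f - 1) * ds p m := by
  have hr : 0 < p ^ f - 1 := by
    have : p ^ 1 ≤ p ^ f := Nat.pow_le_pow_right (by omega) hf
    simp at this; omega
  induction m using Nat.strong_induction_on with
  | _ m ih =>
    rcases Nat.eq_zero_or_pos m with hm | hm
    · subst hm; simp [T_zero]
    · have hdiv : m / p < m := Nat.div_lt_self hm (by omega)
      have hmod : m % p < p := Nat.mod_lt _ (by omega)
      have hdecomp : m = p * (m / p) + m % p := (Nat.div_add_mod m p).symm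
      have h1 := ih (m / p) hdiv
      have h2 : T p f (p ^ f - 1) m ≤ T p f (p ^ f - 1) (m / p) + T p f (p ^ f - 1) (m % p) := by
        conv_lhs => rw [hdecomp]
        calc _ ≤ T p f (p ^ f - 1) (p * (m / p)) + T p f (p ^ f - 1) (m % p) := T_add_le hr _ _ _ _
          _ = _ := by rw [T_mul_p hp]
      have h3 : T p f (p ^ f - 1) (m % p) ≤ (m % p) * T p f (p ^ f - 1) 1 := T_le_mul p f hr _
      have h4 := T_one (p := p) (f := f) hp
      have h5 : ds p m = ds p (m / p) + m % p := by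
        conv_lhs => rw [hdecomp]
        exact ds_mul_add (by omega) _ _ hmod
      rw [h5]
      have h6 : (p - 1) * T p f (p ^ f - 1) (m % p) ≤ (m % p) * (p ^ f - 1) := by
        calc (p - 1) * T p f (p ^ f - 1) (m % p)
            ≤ (p - 1) * ((m % p) * T p f (p ^ f - 1) 1) := Nat.mul_le_mul_left _ h3
          _ = (m % p) * ((p - 1) * T p f (p ^ f - 1) 1) := by ring
          _ = (m % p) * (p ^ f - 1) := by rw [h4]
      calc (p - 1) * T p f (p ^ f - 1) m
          ≤ (p - 1) * (T p f (p ^ f - 1) (m / p) + T p f (p ^ f - 1) (m % p)) :=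
            Nat.mul_le_mul_left _ h2
        _ = (p - 1) * T p f (p ^ f - 1) (m / p) + (p - 1) * T p f (p ^ f - 1) (m % p) := by ring
        _ ≤ (p ^ f - 1) * ds p (m / p) + (m % p) * (p ^ f - 1) := Nat.add_le_add h1 h6
        _ = (p ^ f - 1) * (ds p (m / p) + m % p) := by ring

theorem digit_bound {ι : Type*} {p f N d : ℕ} (hp : 2 ≤ p) (hf : 1 ≤ f) (hd : 0 < d)
    (s : Finset ι) (m : ι → ℕ) (w : ι → Fin N → ℕ)
    (hw : ∀ i ∈ s, ∑ j, w i j = d)
    (h0 : (p ^ f - 1) ∣ ∑ i ∈ s, m i)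
    (hj : ∀ j, (p ^ f - 1) ∣ ∑ i ∈ s, m i * w i j) :
    (p - 1) * f * (((univ.filter (fun j => 0 < ∑ i ∈ s, m i * w i j)).card + d - 1) / d)
      ≤ ∑ i ∈ s, ds p (m i) := by
  classical
  set r := p ^ f - 1 with hrdef
  have hr : 0 < r := by
    have : p ^ 1 ≤ p ^ f := Nat.pow_le_pow_right (by omega) hf
    simp at this; omega
  set S := (univ.filter (fun j => 0 < ∑ i ∈ s, m i * w i j)).card with hS
  set c := (S + d - 1) / d with hc
  -- mod lemmas
  have hmod1 : ∀ g : ι → ℕ, (∑ i ∈ s, rho r (g i)) % r = (∑ i ∈ s, g i) % r := by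
    intro g
    rw [sum_nat_mod, sum_nat_mod s r g]
    congr 1
    exact sum_congr rfl (fun i _ => rho_mod r (g i))
  have hmod2 : ∀ (g : ι → ℕ) (j : Fin N),
      (∑ i ∈ s, rho r (g i) * w i j) % r = (∑ i ∈ s, g i * w i j) % r := by
    intro g j
    rw [sum_nat_mod, sum_nat_mod s r (fun i => g i * w i j)]
    congr 1
    refine sum_congr rfl (fun i _ => ?_)
    rw [Nat.mul_mod, rho_mod, ← Nat.mul_mod]
  -- per-l bound
  have hK : ∀ l, r * c ≤ ∑ i ∈ s, rho r (p ^ l * m i) := by
    intro l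
    set K := ∑ i ∈ s, rho r (p ^ l * m i) with hKdef
    have hrK : r ∣ K := by
      apply Nat.dvd_of_mod_eq_zero
      rw [hKdef, hmod1 (fun i => p ^ l * m i), ← mul_sum]
      exact Nat.mod_eq_zero_of_dvd (Dvd.dvd.mul_left h0 _)
    have hE : ∀ j ∈ univ.filter (fun j => 0 < ∑ i ∈ s, m i * w i j),
        r ≤ ∑ i ∈ s, rho r (p ^ l * m i) * w i j := by
      intro j hjm
      have hpos : 0 < ∑ i ∈ s, m i * w i j := (mem_filter.1 hjm).2
      apply Nat.le_of_dvd
      · -- positivity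
        obtain ⟨i, hi, hi0⟩ : ∃ i ∈ s, 0 < m i * w i j := by
          by_contra hcon
          push_neg at hcon
          have : ∑ i ∈ s, m i * w i j = 0 := sum_eq_zero (fun i hi => Nat.le_zero.1 (hcon i hi))
          omega
        have hmi : 0 < m i := Nat.pos_of_ne_zero (fun h => by simp [h] at hi0)
        have hwi : 0 < w i j := Nat.pos_of_ne_zero (fun h => by simp [h] at hi0)
        have h1 : 0 < rho r (p ^ l * m i) * w i j :=
          Nat.mul_pos (rho_pos hr (Nat.mul_pos (pow_pos (by omega) _) hmi)) hwi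
        exact lt_of_lt_of_le h1 (single_le_sum (f := fun i => rho r (p ^ l * m i) * w i j)
          (fun _ _ => Nat.zero_le _) hi)
      · apply Nat.dvd_of_mod_eq_zero
        rw [hmod2 (fun i => p ^ l * m i) j]
        have : ∑ i ∈ s, p ^ l * m i * w i j = p ^ l * ∑ i ∈ s, m i * w i j := by
          rw [mul_sum]; exact sum_congr rfl (fun i _ => by ring)
        rw [this]
        exact Nat.mod_eq_zero_of_dvd (Dvd.dvd.mul_left (hj j) _)
    have hsum : ∑ j : Fin N, ∑ i ∈ s, rho r (p ^ l * m i) * w i j = d * K := by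
      rw [sum_comm, hKdef, mul_sum]
      refine sum_congr rfl (fun i hi => ?_)
      rw [← mul_sum, hw i hi, mul_comm]
    have hSr : S * r ≤ d * K := by
      rw [← hsum]
      calc S * r = ∑ j ∈ univ.filter (fun j => 0 < ∑ i ∈ s, m i * w i j), r := by
            rw [sum_const, smul_eq_mul]
        _ ≤ ∑ j ∈ univ.filter (fun j => 0 < ∑ i ∈ s, m i * w i j),
              ∑ i ∈ s, rho r (p ^ l * m i) * w i j := sum_le_sum hE
        _ ≤ ∑ j : Fin N, ∑ i ∈ s, rho r (p ^ l * m i) * w i j :=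
            sum_le_sum_of_subset (filter_subset _ _)
    obtain ⟨κ, hκ⟩ := hrK
    rw [hκ] at hSr ⊢
    have h1 : S ≤ d * κ := by
      have : S * r ≤ (d * κ) * r := by
        calc S * r ≤ d * (r * κ) := hSr
          _ = (d * κ) * r := by ring
      exact Nat.le_of_mul_le_mul_right this hr
    have h2 : c ≤ κ := by
      rw [hc]
      apply Nat.lt_succ_iff.1
      rw [Nat.div_lt_iff_lt_mul hd]
      have h3 : (κ + 1) * d = d * κ + d := by ring
      show S + d - 1 < (κ + 1) * d
      rw [h3]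
      clear_value S c K r
      omega
    exact Nat.mul_le_mul_left _ h2
  -- sum over l
  have hsumK : f * (r * c) ≤ ∑ l ∈ range f, ∑ i ∈ s, rho r (p ^ l * m i) := by
    calc f * (r * c) = ∑ l ∈ range f, r * c := by rw [sum_const, card_range, smul_eq_mul]
      _ ≤ _ := sum_le_sum (fun l _ => hK l)
  have hT : ∑ l ∈ range f, ∑ i ∈ s, rho r (p ^ l * m i) = ∑ i ∈ s, T p f r (m i) := by
    rw [sum_comm]; rfl
  have hkey : (p - 1) * ∑ i ∈ s, T p f r (m i) ≤ r * ∑ i ∈ s, ds p (m i) := by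
    rw [mul_sum, mul_sum]
    exact sum_le_sum (fun i _ => key hp hf (m i))
  have hfin : r * ((p - 1) * f * c) ≤ r * ∑ i ∈ s, ds p (m i) := by
    calc r * ((p - 1) * f * c) = (p - 1) * (f * (r * c)) := by ring
      _ ≤ (p - 1) * ∑ l ∈ range f, ∑ i ∈ s, rho r (p ^ l * m i) := Nat.mul_le_mul_left _ hsumK
      _ = (p - 1) * ∑ i ∈ s, T p f r (m i) := by rw [hT]
      _ ≤ _ := hkey
  exact Nat.le_of_mul_le_mul_left hfin hr

end Groth.Agent.H74.Ax
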