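import Mathlib
import Groth.Agent.H74.Ax1

/-!
# Legendre's formula for multinomial coefficients, via digit sums
-/

namespace Groth.Agent.H74.Ax

open Finset

theorem legendre_fact (p : ℕ) [hp : Fact p.Prime] (n : ℕ) :
    (p - 1) * padicValNat p n.factorial + ds p n = n := by
  have h1 := sub_one_mul_padicValNat_factorial (p := p) n
  have h2 : (Nat.digits p n).sum ≤ n := Nat.digit_sum_le p n
  unfold ds
  omega

theorem padicValNat_prod' {ι : Type*} (p : ℕ) [hp : Fact p.Prime] (s : Finset ι) (g : ι → ℕ)
    (hg : ∀ i ∈ s, g i ≠ 0) :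
    padicValNat p (∏ i ∈ s, g i) = ∑ i ∈ s, padicValNat p (g i) := by
  classical
  induction s using Finset.induction_on with
  | empty => simp
  | insert a s ha ih =>
    rw [prod_insert ha, sum_insert ha, padicValNat.mul (hg a (mem_insert_self _ _)), ih]
    · intro i hi; exact hg i (mem_insert_of_mem hi)
    · exact prod_ne_zero_iff.2 (fun i hi => hg i (mem_insert_of_mem hi))

theorem legendre_multinomial {ι : Type*} (p : ℕ) [hp : Fact p.Prime] (s : Finset ι) (m : ι → ℕ) :
    (p - 1) * padicValNat p (Nat.multinomial s m) + ds p (∑ i ∈ s, m i) = ∑ i ∈ s, ds p (m i) := by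
  have hspec := Nat.multinomial_spec s m
  have hne : Nat.multinomial s m ≠ 0 := by
    intro h
    rw [h, mul_zero] at hspec
    exact (Nat.factorial_ne_zero _) hspec.symm
  have hprod_ne : ∏ i ∈ s, (m i).factorial ≠ 0 :=
    prod_ne_zero_iff.2 (fun i _ => Nat.factorial_ne_zero _)
  have hval : padicValNat p (∏ i ∈ s, (m i).factorial) + padicValNat p (Nat.multinomial s m)
      = padicValNat p (∑ i ∈ s, m i).factorial := by
    rw [← padicValNat.mul hprod_ne hne, hspec]
  rw [padicValNat_prod' p s _ (fun i _ => Nat.factorial_ne_zero _)] at hval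
  have hM := legendre_fact p (∑ i ∈ s, m i)
  have hi : ∑ i ∈ s, ((p - 1) * padicValNat p (m i).factorial + ds p (m i)) = ∑ i ∈ s, m i :=
    sum_congr rfl (fun i _ => legendre_fact p (m i))
  rw [sum_add_distrib, ← mul_sum] at hi
  rw [← hval, mul_add] at hM
  omega

end Groth.Agent.H74.Ax
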