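import Mathlib

/-!
# Witt vector facts for Ax's theorem
-/

namespace Groth.Agent.H74.Ax

open Finset

section Witt

variable {k : Type*} [Field k] [Fintype k] (p : ℕ) [hp : Fact p.Prime] [CharP k p]

local notation "𝕎" => WittVector p

/-- reduction mod p -/
noncomputable abbrev cc : 𝕎 k →+* k := WittVector.constantCoeff

theorem cc_teich (x : k) : cc p (WittVector.teichmuller p x) = x :=
  WittVector.teichmuller_coeff_zero p x

theorem p_dvd_of_cc_eq_zero (x : 𝕎 k) (h : cc p x = 0) : (p : 𝕎 k) ∣ x := by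
  by_cases hx : x = 0
  · rw [hx]; exact dvd_zero _
  · obtain ⟨m, b, hb, rfl⟩ := WittVector.exists_eq_pow_p_mul x hx
    rcases Nat.eq_zero_or_pos m with hm | hm
    · subst hm
      rw [pow_zero, one_mul] at h
      exact absurd h hb
    · exact Dvd.dvd.mul_right (dvd_pow_self _ hm.ne') _

theorem pow_dvd_pow_of_cc_eq_zero (u : 𝕎 k) (h : cc p u = 0) (K q : ℕ) (hq : 2 ≤ q) :
    (p : 𝕎 k) ^ K ∣ u ^ ((q - 1) * p ^ (K - 1)) := by
  obtain ⟨z, rfl⟩ := p_dvd_of_cc_eq_zero p u h
  rw [mul_pow]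
  apply Dvd.dvd.mul_right
  apply pow_dvd_pow
  have h1 : K - 1 < p ^ (K - 1) := Nat.lt_pow_self hp.out.one_lt
  have h2 : p ^ (K - 1) ≤ (q - 1) * p ^ (K - 1) := Nat.le_mul_of_pos_left _ (by omega)
  omega

theorem pow_sub_one_dvd_of_cc_ne_zero (u : 𝕎 k) (h : cc p u ≠ 0) (K : ℕ) (hK : 1 ≤ K) :
    (p : 𝕎 k) ^ K ∣ u ^ ((Fintype.card k - 1) * p ^ (K - 1)) - 1 := by
  have h1 : cc p (u ^ (Fintype.card k - 1) - 1) = 0 := by
    rw [map_sub, map_pow, map_one, FiniteField.pow_card_sub_one_eq_one _ h, sub_self]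
  have h2 : (p : 𝕎 k) ∣ u ^ (Fintype.card k - 1) - 1 := p_dvd_of_cc_eq_zero p _ h1
  have h3 := dvd_sub_pow_of_dvd_sub h2 (K - 1)
  rw [one_pow, ← pow_mul, Nat.sub_add_cancel hK] at h3
  exact_mod_cast h3

theorem teich_pow_sum (e : ℕ) :
    ∑ t : k, (WittVector.teichmuller p t) ^ e =
      if e = 0 then (Fintype.card k : 𝕎 k)
      else if (Fintype.card k - 1) ∣ e then ((Fintype.card k - 1 : ℕ) : 𝕎 k) else 0 := by
  classical
  split_ifs with h0 h1
  · subst h0; simp
  · have hterm : ∀ t : k, (WittVector.teichmuller p t) ^ e = if t = 0 then 0 else 1 := by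
      intro t
      split_ifs with ht
      · subst ht; rw [WittVector.teichmuller_zero, zero_pow h0]
      · rw [← map_pow]
        obtain ⟨c, hc⟩ := h1
        rw [hc, pow_mul, FiniteField.pow_card_sub_one_eq_one t ht, one_pow, map_one]
    simp_rw [hterm]
    rw [Finset.sum_ite, Finset.sum_const_zero, zero_add, Finset.sum_const, nsmul_eq_mul, mul_one]
    congr 1
    rw [Finset.filter_ne' univ (0 : k), Finset.card_erase_of_mem (mem_univ _), Finset.card_univ]
  · have hex : ∃ y : k, y ≠ 0 ∧ y ^ e ≠ 1 := by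
      by_contra hcon
      push_neg at hcon
      apply h1
      rw [← FiniteField.forall_pow_eq_one_iff k e]
      intro x
      have := hcon (x : k) x.ne_zero
      exact Units.ext (by simpa using this)
    obtain ⟨y, hy, hye⟩ := hex
    have hS : (WittVector.teichmuller p y) ^ e * ∑ t : k, (WittVector.teichmuller p t) ^ e
        = ∑ t : k, (WittVector.teichmuller p t) ^ e := by
      rw [Finset.mul_sum]
      conv_rhs => rw [← Equiv.sum_comp (Equiv.mulLeft₀ y hy)
        (fun t => (WittVector.teichmuller p t) ^ e)]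
      refine sum_congr rfl (fun t _ => ?_)
      show (WittVector.teichmuller p y) ^ e * (WittVector.teichmuller p t) ^ e
        = (WittVector.teichmuller p (y * t)) ^ e
      rw [map_mul, mul_pow]
    have hu : IsUnit ((WittVector.teichmuller p y) ^ e - 1) := by
      apply WittVector.isUnit_of_coeff_zero_ne_zero
      have : cc p ((WittVector.teichmuller p y) ^ e - 1) = y ^ e - 1 := by
        rw [map_sub, map_pow, map_one, cc_teich]
      change cc p ((WittVector.teichmuller p y) ^ e - 1) ≠ 0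
      rw [this]
      exact sub_ne_zero.2 hye
    have h2 : ((WittVector.teichmuller p y) ^ e - 1) * ∑ t : k, (WittVector.teichmuller p t) ^ e
        = 0 := by
      rw [sub_mul, one_mul, hS, sub_self]
    exact (hu.mul_right_eq_zero).1 h2

theorem nat_dvd_of_cast_dvd (a n : ℕ) (h : (p : 𝕎 k) ^ a ∣ (n : 𝕎 k)) : p ^ a ∣ n := by
  induction a generalizing n with
  | zero => simp
  | succ a ih =>
    have h1 : (p : 𝕎 k) ∣ (n : 𝕎 k) := Dvd.dvd.trans (dvd_pow_self _ (Nat.succ_ne_zero a)) h
    have h2 : (n : k) = 0 := by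
      obtain ⟨z, hz⟩ := h1
      have := congrArg (cc p) hz
      rw [map_natCast, map_mul, map_natCast, CharP.cast_eq_zero k p, zero_mul] at this
      exact this
    obtain ⟨n', rfl⟩ := (CharP.cast_eq_zero_iff k p n).1 h2
    rw [pow_succ, mul_comm ((p : 𝕎 k) ^ a) _, Nat.cast_mul] at h
    have h3 : (p : 𝕎 k) ^ a ∣ (n' : 𝕎 k) :=
      (mul_dvd_mul_iff_left (WittVector.p_nonzero p k)).1 h
    rw [pow_succ, mul_comm]
    exact Nat.mul_dvd_mul_left p (ih n' h3)

end Witt

end Groth.Agent.H74.Ax
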