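import Mathlib
import Groth.Agent.H74.Ax1
import Groth.Agent.H74.Ax2
import Groth.Agent.H74.Ax3

/-!
# Ax's theorem: assembly
-/

namespace Groth.Agent.H74.Ax

open Finset

theorem card_subtype_cast {R : Type*} [Semiring R] {α : Type*} [Fintype α] (P : α → Prop)
    [DecidablePred P] [Fintype {x // P x}] :
    ((Fintype.card {x // P x} : ℕ) : R) = ∑ x : α, (if P x then (1 : R) else 0) := by
  rw [Fintype.card_subtype, Finset.sum_boole]

theorem sum_pow_expand {R : Type*} [CommRing R] {κ : Type*} [Fintype κ] {N : ℕ}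
    (s : Finset (Fin N →₀ ℕ)) (a : (Fin N →₀ ℕ) → R) (g : κ → R) (M : ℕ) :
    ∑ x : Fin N → κ, (∑ i ∈ s, a i * ∏ j, (g (x j)) ^ (i j)) ^ M =
      ∑ m ∈ Finset.piAntidiag s M,
        (Nat.multinomial s m : R) * (∏ i ∈ s, (a i) ^ (m i)) *
          ∏ j : Fin N, ∑ t : κ, (g t) ^ (∑ i ∈ s, m i * i j) := by
  classical
  simp_rw [Finset.sum_pow_eq_sum_piAntidiag]
  rw [Finset.sum_comm]
  refine sum_congr rfl (fun m _ => ?_)
  have h1 : ∀ x : Fin N → κ,
      ∏ i ∈ s, (a i * ∏ j, (g (x j)) ^ (i j)) ^ (m i)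
      = (∏ i ∈ s, (a i) ^ (m i)) *
          ∏ j, (g (x j)) ^ (∑ i ∈ s, m i * i j) := by
    intro x
    simp_rw [mul_pow, Finset.prod_mul_distrib]
    congr 1
    simp_rw [← Finset.prod_pow, ← pow_mul]
    rw [Finset.prod_comm]
    refine prod_congr rfl (fun j _ => ?_)
    rw [Finset.prod_pow_eq_pow_sum]
    congr 1
    exact sum_congr rfl (fun i _ => mul_comm _ _)
  simp_rw [h1]
  rw [← Finset.mul_sum, ← Finset.mul_sum, mul_assoc]
  congr 2
  rw [Finset.prod_univ_sum]
  simp [Fintype.piFinset_univ]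

theorem term_dvd_gen {R : Type*} [CommRing R] {N : ℕ} (P : R) (v f b z : ℕ) (mult A : R)
    (E : Fin N → ℕ) (Sj : Fin N → R)
    (hmult : P ^ v ∣ mult)
    (hS0 : ∀ j, E j = 0 → P ^ f ∣ Sj j)
    (hz : (univ.filter (fun j => E j = 0)).card = z)
    (hcount : f * b ≤ v + f * z) :
    P ^ (f * b) ∣ mult * A * ∏ j, Sj j := by
  classical
  have h1 : (P ^ f) ^ z ∣ ∏ j, Sj j := by
    have : ∏ j : Fin N, (if E j = 0 then P ^ f else 1) ∣ ∏ j, Sj j := by
      apply Finset.prod_dvd_prod_of_dvd
      intro j _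
      split_ifs with h
      · exact hS0 j h
      · exact one_dvd _
    rwa [Finset.prod_ite, Finset.prod_const_one, mul_one, Finset.prod_const, hz] at this
  have h2 : P ^ (v + f * z) ∣ mult * ∏ j, Sj j := by
    rw [pow_add, pow_mul]
    exact mul_dvd_mul hmult h1
  have h3 : mult * A * ∏ j, Sj j = (mult * ∏ j, Sj j) * A := by ring
  rw [h3]
  exact Dvd.dvd.mul_right ((pow_dvd_pow P hcount).trans h2) A

section Main

variable {k : Type*} [Field k] [Fintype k] (p : ℕ) [hp : Fact p.Prime] [CharP k p]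

local notation "𝕎" => WittVector p
local notation "τ" => WittVector.teichmuller p

/-- the lifted value of `F` at the Teichmüller lift of `x` -/
noncomputable def uval {N : ℕ} (F : MvPolynomial (Fin N) k) (x : Fin N → k) : 𝕎 k :=
  ∑ i ∈ F.support, τ (F.coeff i) * ∏ j, (τ (x j)) ^ (i j)

theorem cc_uval {N : ℕ} (F : MvPolynomial (Fin N) k) (x : Fin N → k) :
    cc p (uval p F x) = MvPolynomial.eval x F := by
  unfold uval
  rw [map_sum, MvPolynomial.eval_eq']
  refine sum_congr rfl (fun i _ => ?_)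
  rw [map_mul, cc_teich, map_prod]
  congr 1
  refine prod_congr rfl (fun j _ => ?_)
  rw [map_pow, cc_teich]

theorem indicator_congr {N : ℕ} (F : MvPolynomial (Fin N) k) (x : Fin N → k) (K : ℕ) (hK : 1 ≤ K)
    [Decidable (MvPolynomial.eval x F = 0)] :
    (p : 𝕎 k) ^ K ∣ (if MvPolynomial.eval x F = 0 then (1 : 𝕎 k) else 0)
      - (1 - (uval p F x) ^ ((Fintype.card k - 1) * p ^ (K - 1))) := by
  have hq : 2 ≤ Fintype.card k := Fintype.one_lt_card
  split_ifs with h
  · have := pow_dvd_pow_of_cc_eq_zero p (uval p F x) (by rw [cc_uval]; exact h) K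
      (Fintype.card k) hq
    rw [sub_sub_cancel]; exact this
  · have := pow_sub_one_dvd_of_cc_ne_zero p (uval p F x) (by rw [cc_uval]; exact h) K hK
    have e : (0 : 𝕎 k) - (1 - (uval p F x) ^ ((Fintype.card k - 1) * p ^ (K - 1)))
        = (uval p F x) ^ ((Fintype.card k - 1) * p ^ (K - 1)) - 1 := by ring
    rw [e]; exact this

theorem sum_uval_pow {N : ℕ} (F : MvPolynomial (Fin N) k) (M : ℕ) :
    ∑ x : Fin N → k, (uval p F x) ^ M =
      ∑ m ∈ Finset.piAntidiag F.support M,
        (Nat.multinomial F.support m : 𝕎 k) * (∏ i ∈ F.support, (τ (F.coeff i)) ^ (m i)) *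
          ∏ j : Fin N, ∑ t : k, (τ t) ^ (∑ i ∈ F.support, m i * i j) :=
  sum_pow_expand F.support (fun i => τ (F.coeff i)) (fun t => τ t) M

theorem term_dvd {N d b f : ℕ} (hd : 0 < d) (F : MvPolynomial (Fin N) k) (hF : F.IsHomogeneous d)
    (hb : b * d < N) (hf : 1 ≤ f) (hcard : Fintype.card k = p ^ f) (K : ℕ)
    (m : (Fin N →₀ ℕ) → ℕ)
    (hm : m ∈ Finset.piAntidiag F.support ((Fintype.card k - 1) * p ^ (K - 1))) :
    (p : 𝕎 k) ^ (f * b) ∣
      (Nat.multinomial F.support m : 𝕎 k) * (∏ i ∈ F.support, (τ (F.coeff i)) ^ (m i)) *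
          ∏ j : Fin N, ∑ t : k, (τ t) ^ (∑ i ∈ F.support, m i * i j) := by
  classical
  have hp2 : 2 ≤ p := hp.out.two_le
  by_cases hall : ∀ j : Fin N, (Fintype.card k - 1) ∣ ∑ i ∈ F.support, m i * i j
  swap
  · push_neg at hall
    obtain ⟨j, hj⟩ := hall
    have hne : ∑ i ∈ F.support, m i * i j ≠ 0 := fun h => hj (h ▸ dvd_zero _)
    have h0 : ∑ t : k, (τ t) ^ (∑ i ∈ F.support, m i * i j) = 0 := by
      rw [teich_pow_sum, if_neg hne, if_neg hj]
    rw [Finset.prod_eq_zero (mem_univ j) h0, mul_zero]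
    exact dvd_zero _
  · have hsum : ∑ i ∈ F.support, m i = (Fintype.card k - 1) * p ^ (K - 1) :=
      (Finset.mem_piAntidiag.1 hm).1
    have hw : ∀ i ∈ F.support, ∑ j, (i : Fin N →₀ ℕ) j = d := by
      intro i hi
      have h1 := hF (MvPolynomial.mem_support_iff.1 hi)
      rw [← h1, Finsupp.weight_apply, Finsupp.sum_fintype]
      · simp
      · intro; simp
    have h0 : (p ^ f - 1) ∣ ∑ i ∈ F.support, m i := by
      rw [hsum, hcard]; exact Dvd.intro _ rfl
    have hj' : ∀ j : Fin N, (p ^ f - 1) ∣ ∑ i ∈ F.support, m i * i j := by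
      intro j; rw [← hcard]; exact hall j
    have hdb := digit_bound hp2 hf hd F.support m (fun i j => i j) hw h0 hj'
    have hleg := legendre_multinomial p F.support m
    rw [hsum, hcard, mul_comm (p ^ f - 1) _, ds_pow_mul (by omega), ds_pow_sub_one (by omega)]
      at hleg
    set S := (univ.filter (fun j : Fin N => 0 < ∑ i ∈ F.support, m i * i j)).card with hS
    set v := padicValNat p (Nat.multinomial F.support m) with hv
    set c := (S + d - 1) / d with hc
    have h1 : f * c ≤ v + f := by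
      have : (p - 1) * (f * c) ≤ (p - 1) * (v + f) := by
        calc (p - 1) * (f * c) = (p - 1) * f * c := by ring
          _ ≤ ∑ i ∈ F.support, ds p (m i) := hdb
          _ = (p - 1) * v + f * (p - 1) := hleg.symm
          _ = (p - 1) * (v + f) := by ring
      exact Nat.le_of_mul_le_mul_left this (by omega)
    have hSN : S ≤ N := by
      calc S ≤ (univ : Finset (Fin N)).card := card_le_card (filter_subset _ _)
        _ = N := by simp
    have hSc : S ≤ d * c := by
      have h' := Nat.lt_mul_div_succ (S + d - 1) hd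
      rw [← hc] at h'
      have h'' : d * (c + 1) = d * c + d := by ring
      omega
    have h2 : b + 1 ≤ c + (N - S) := by
      have h3 : b * d < d * (c + (N - S)) := by
        calc b * d < N := hb
          _ = S + (N - S) := by omega
          _ ≤ d * c + d * (N - S) := Nat.add_le_add hSc (Nat.le_mul_of_pos_left _ hd)
          _ = d * (c + (N - S)) := by ring
      rw [mul_comm b d] at h3
      exact Nat.lt_of_mul_lt_mul_left h3
    have h3 : f * b ≤ v + f * (N - S) := by
      have : f * b + f ≤ f * c + f * (N - S) := by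
        calc f * b + f = f * (b + 1) := by ring
          _ ≤ f * (c + (N - S)) := Nat.mul_le_mul_left _ h2
          _ = f * c + f * (N - S) := by ring
      omega
    have hzero : (univ.filter (fun j : Fin N => ∑ i ∈ F.support, m i * i j = 0)).card
        = N - S := by
      have h' := Finset.card_filter_add_card_filter_not (s := (univ : Finset (Fin N)))
        (fun j : Fin N => 0 < ∑ i ∈ F.support, m i * i j)
      rw [card_univ, Fintype.card_fin] at h'
      have e : (univ.filter (fun j : Fin N => ¬ 0 < ∑ i ∈ F.support, m i * i j))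
          = univ.filter (fun j : Fin N => ∑ i ∈ F.support, m i * i j = 0) := by
        apply filter_congr; intro j _; omega
      rw [e] at h'
      omega
    have hmult : (p : 𝕎 k) ^ v ∣ (Nat.multinomial F.support m : 𝕎 k) := by
      have h' := Nat.cast_dvd_cast (α := 𝕎 k)
        (pow_padicValNat_dvd (p := p) (n := Nat.multinomial F.support m))
      rwa [Nat.cast_pow] at h'
    refine term_dvd_gen (p : 𝕎 k) v f b (N - S) _ _
      (fun j => ∑ i ∈ F.support, m i * i j)
      (fun j => ∑ t : k, (τ t) ^ (∑ i ∈ F.support, m i * i j)) hmult ?_ hzero h3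
    intro j hj0
    show (p : 𝕎 k) ^ f ∣ ∑ t : k, (τ t) ^ (∑ i ∈ F.support, m i * i j)
    rw [teich_pow_sum, if_pos hj0, hcard, Nat.cast_pow]

theorem main {N d b f : ℕ} (hd : 0 < d) (F : MvPolynomial (Fin N) k) (hF : F.IsHomogeneous d)
    (hb : b * d < N) (hcard : Fintype.card k = p ^ f)
    [Fintype {x : Fin N → k // MvPolynomial.eval x F = 0}] :
    Fintype.card k ^ b ∣ Fintype.card {x : Fin N → k // MvPolynomial.eval x F = 0} := by
  classical
  have hf : 1 ≤ f := by
    rcases Nat.eq_zero_or_pos f with h | h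
    · subst h
      have := Fintype.one_lt_card (α := k)
      rw [hcard] at this; simp at this
    · exact h
  rw [hcard, ← pow_mul]
  apply nat_dvd_of_cast_dvd (k := k) p
  have hK : 1 ≤ f * b + 1 := by omega
  have h1 : (p : 𝕎 k) ^ (f * b + 1) ∣ ∑ x : Fin N → k,
      ((if MvPolynomial.eval x F = 0 then (1 : 𝕎 k) else 0)
        - (1 - (uval p F x) ^ ((Fintype.card k - 1) * p ^ (f * b + 1 - 1)))) :=
    Finset.dvd_sum (fun x _ => indicator_congr p F x (f * b + 1) hK)
  have hc := card_subtype_cast (R := 𝕎 k) (fun x : Fin N → k => MvPolynomial.eval x F = 0)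
  rw [Finset.sum_sub_distrib, ← hc, Finset.sum_sub_distrib, Finset.sum_const, Finset.card_univ,
    nsmul_eq_mul, mul_one, sum_uval_pow] at h1
  have h2 : (p : 𝕎 k) ^ (f * b) ∣
      ∑ m ∈ Finset.piAntidiag F.support ((Fintype.card k - 1) * p ^ (f * b + 1 - 1)),
        (Nat.multinomial F.support m : 𝕎 k) * (∏ i ∈ F.support, (τ (F.coeff i)) ^ (m i)) *
          ∏ j : Fin N, ∑ t : k, (τ t) ^ (∑ i ∈ F.support, m i * i j) :=
    Finset.dvd_sum (fun m hm => term_dvd p hd F hF hb hf hcard (f * b + 1) m hm)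
  have hbN : b ≤ N := by nlinarith
  have h3 : (p : 𝕎 k) ^ (f * b) ∣ ((Fintype.card (Fin N → k) : ℕ) : 𝕎 k) := by
    rw [Fintype.card_fun, Fintype.card_fin, hcard, ← pow_mul, Nat.cast_pow]
    exact pow_dvd_pow _ (Nat.mul_le_mul_left _ hbN)
  have h4 := (pow_dvd_pow (p : 𝕎 k) (Nat.le_succ (f * b))).trans h1
  have h5 := dvd_add h4 (dvd_sub h3 h2)
  rwa [sub_add_cancel] at h5

end Main

end Groth.Agent.H74.Ax
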