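-- helper74: Azumaya algebras and Peirce corners, part 1: the abstract bijectivity statement
-- `e₁Ae₁ ⊗ (e₂Ae₂)ᵐᵒᵖ ≅ End_R(e₁Ae₂)` for an Azumaya algebra `A`.
import Mathlib

set_option autoImplicit false
universe u

open scoped TensorProduct
open MulOpposite

namespace Groth.Agent.H74.AzCorner

/-- a module `M` identified with the Peirce piece `e₁ A e₂` -/
structure PeirceData (R : Type u) [CommRing R] (A : Type u) [Ring A] [Algebra R A] (e₁ e₂ : A)
    (M : Type u) [AddCommGroup M] [Module R M] where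
  ι : M →ₗ[R] A
  π : A →ₗ[R] M
  π_ι : ∀ m, π (ι m) = m
  ι_π : ∀ a, ι (π a) = e₁ * a * e₂

namespace PeirceData

variable {R : Type u} [CommRing R] {A : Type u} [Ring A] [Algebra R A] {e₁ e₂ : A}
  {M : Type u} [AddCommGroup M] [Module R M] (D : PeirceData R A e₁ e₂ M)

theorem ι_eq (m : M) : D.ι m = e₁ * D.ι m * e₂ := by
  conv_lhs => rw [← D.π_ι m, D.ι_π]

theorem left_mul (he₁ : IsIdempotentElem e₁) (m : M) : e₁ * D.ι m = D.ι m := by
  conv_lhs => rw [D.ι_eq m, ← mul_assoc, ← mul_assoc, he₁.eq]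
  exact (D.ι_eq m).symm

theorem mul_right (he₂ : IsIdempotentElem e₂) (m : M) : D.ι m * e₂ = D.ι m := by
  conv_lhs => rw [D.ι_eq m, mul_assoc, he₂.eq]
  exact (D.ι_eq m).symm

theorem ι_injective : Function.Injective D.ι :=
  Function.LeftInverse.injective D.π_ι

theorem π_surjective : Function.Surjective D.π :=
  Function.RightInverse.surjective D.π_ι

end PeirceData

section Bij

variable {R : Type u} [CommRing R] {A : Type u} [Ring A] [Algebra R A] [IsAzumaya R A]
  {e₁ e₂ : A} (he₁ : IsIdempotentElem e₁) (he₂ : IsIdempotentElem e₂)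
  {B₁ B₂ M : Type u} [AddCommGroup B₁] [Module R B₁] [AddCommGroup B₂] [Module R B₂]
  [AddCommGroup M] [Module R M]
  (D₁ : PeirceData R A e₁ e₁ B₁) (D₂ : PeirceData R A e₂ e₂ B₂) (DM : PeirceData R A e₁ e₂ M)
  (K : B₁ ⊗[R] B₂ᵐᵒᵖ →ₗ[R] Module.End R M)
  (hK : ∀ b c y, DM.ι (K (b ⊗ₜ[R] op c) y) = D₁.ι b * DM.ι y * D₂.ι c)

/-- the opposite of a linear map -/
noncomputable def opMap {N N' : Type u} [AddCommGroup N] [Module R N] [AddCommGroup N']
    [Module R N'] (f : N →ₗ[R] N') : Nᵐᵒᵖ →ₗ[R] N'ᵐᵒᵖ :=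
  (opLinearEquiv R).toLinearMap ∘ₗ f ∘ₗ (opLinearEquiv R).symm.toLinearMap

theorem opMap_apply {N N' : Type u} [AddCommGroup N] [Module R N] [AddCommGroup N']
    [Module R N'] (f : N →ₗ[R] N') (x : Nᵐᵒᵖ) : opMap f x = op (f (unop x)) := rfl

include he₁ he₂ hK in
theorem mulLeftRight_T (t : B₁ ⊗[R] B₂ᵐᵒᵖ) (x : A) :
    AlgHom.mulLeftRight R A (TensorProduct.map D₁.ι (opMap D₂.ι) t) x =
      DM.ι (K t (DM.π x)) := by
  induction t using TensorProduct.induction_on with
  | zero => simp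
  | tmul b c =>
    rw [TensorProduct.map_tmul, opMap_apply, AlgHom.mulLeftRight_apply, unop_op]
    have h := hK b (unop c) (DM.π x)
    rw [op_unop] at h
    rw [h, DM.ι_π]
    have h1 : D₁.ι b * (e₁ * x * e₂) * D₂.ι (unop c) =
        (D₁.ι b * e₁) * x * (e₂ * D₂.ι (unop c)) := by
      simp only [mul_assoc]
    rw [h1, D₁.mul_right he₁, D₂.left_mul he₂]
  | add t t' ht ht' =>
    rw [map_add, map_add, LinearMap.add_apply, ht, ht', map_add, LinearMap.add_apply, map_add]

include he₁ he₂ hK in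
theorem K_P (s : A ⊗[R] Aᵐᵒᵖ) (y : M) :
    DM.ι (K (TensorProduct.map D₁.π (opMap D₂.π) s) y) =
      e₁ * (AlgHom.mulLeftRight R A s (DM.ι y)) * e₂ := by
  induction s using TensorProduct.induction_on with
  | zero => simp
  | tmul a c =>
    rw [TensorProduct.map_tmul, opMap_apply, hK, D₁.ι_π, D₂.ι_π, AlgHom.mulLeftRight_apply]
    have h1 : e₁ * a * e₁ * DM.ι y * (e₂ * unop c * e₂) =
        e₁ * a * (e₁ * DM.ι y) * e₂ * unop c * e₂ := by
      simp only [mul_assoc]
    have h2 : e₁ * a * (e₁ * DM.ι y) * e₂ * unop c * e₂ =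
        e₁ * a * ((e₁ * DM.ι y) * e₂) * unop c * e₂ := by
      simp only [mul_assoc]
    rw [h1, h2, DM.left_mul he₁, DM.mul_right he₂]
    simp only [mul_assoc]
  | add s s' hs hs' =>
    rw [map_add, map_add, LinearMap.add_apply, map_add, hs, hs', map_add, LinearMap.add_apply,
      mul_add, add_mul]

include he₁ he₂ hK in
/-- **Peirce bijectivity** for an Azumaya algebra. -/
theorem bijective_K : Function.Bijective K := by
  have hPT : ∀ t : B₁ ⊗[R] B₂ᵐᵒᵖ,
      TensorProduct.map D₁.π (opMap D₂.π) (TensorProduct.map D₁.ι (opMap D₂.ι) t) = t := by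
    intro t
    induction t using TensorProduct.induction_on with
    | zero => simp
    | tmul b c =>
      rw [TensorProduct.map_tmul, TensorProduct.map_tmul, opMap_apply, opMap_apply, unop_op,
        D₁.π_ι, D₂.π_ι, op_unop]
    | add t t' ht ht' => rw [map_add, map_add, ht, ht']
  constructor
  · rw [injective_iff_map_eq_zero]
    intro t ht
    have h1 : AlgHom.mulLeftRight R A (TensorProduct.map D₁.ι (opMap D₂.ι) t) = 0 := by
      apply LinearMap.ext
      intro x
      rw [mulLeftRight_T he₁ he₂ D₁ D₂ DM K hK, ht, LinearMap.zero_apply, map_zero,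
        LinearMap.zero_apply]
    have h2 : TensorProduct.map D₁.ι (opMap D₂.ι) t = 0 :=
      (injective_iff_map_eq_zero _).mp (IsAzumaya.bij (R := R) (A := A)).1 _ h1
    rw [← hPT t, h2, map_zero]
  · intro φ
    obtain ⟨s, hs⟩ := (IsAzumaya.bij (R := R) (A := A)).2 (DM.ι ∘ₗ φ ∘ₗ DM.π)
    refine ⟨TensorProduct.map D₁.π (opMap D₂.π) s, ?_⟩
    apply LinearMap.ext
    intro y
    apply DM.ι_injective
    rw [K_P he₁ he₂ D₁ D₂ DM K hK, hs, LinearMap.comp_apply, LinearMap.comp_apply, DM.π_ι,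
      ← DM.ι_eq]

end Bij

end Groth.Agent.H74.AzCorner
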