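import Mathlib
import Groth.Prelude.Def_Dieu

/-! Generic lemmas on the semilinear base change `Dieu.BC`. -/

set_option autoImplicit false
universe u v w w' w''

namespace Groth.Agent.H74.BCLib

open Dieu TensorProduct

section

variable {A : Type u} {B : Type v} [CommRing A] [CommRing B] (g : A →+* B)
variable {P : Type w} [AddCommGroup P] [Module A P]
variable {P' : Type w'} [AddCommGroup P'] [Module A P']

theorem bcMap_id : BC.map g (LinearMap.id : P →ₗ[A] P) = LinearMap.id := by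
  apply BC.ext g
  intro x
  rw [BC.map_tmul]
  rfl

theorem bcMap_comp {P'' : Type w''} [AddCommGroup P''] [Module A P'']
    (ψ' : P' →ₗ[A] P'') (ψ : P →ₗ[A] P') :
    BC.map g (ψ'.comp ψ) = (BC.map g ψ').comp (BC.map g ψ) := by
  apply BC.ext g
  intro x
  rw [LinearMap.comp_apply, BC.map_tmul, BC.map_tmul, BC.map_tmul]
  rfl

theorem bcMap_add (ψ ψ' : P →ₗ[A] P') : BC.map g (ψ + ψ') = BC.map g ψ + BC.map g ψ' := by
  apply BC.ext g
  intro x
  rw [LinearMap.add_apply, BC.map_tmul, BC.map_tmul, BC.map_tmul, LinearMap.add_apply,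
    BC.tmul_add]

theorem semilinear_ext {C : Type*} [CommRing C] {τ : B →+* C} {N : Type*} [AddCommGroup N]
    [Module C N] {f₁ f₂ : BC g P →ₛₗ[τ] N}
    (h : ∀ b x, f₁ (BC.tmul g b x) = f₂ (BC.tmul g b x)) : f₁ = f₂ := by
  apply LinearMap.ext
  intro z
  induction z using BC.induction_on g with
  | zero => rw [map_zero, map_zero]
  | tmul b x => exact h b x
  | add z₁ z₂ h₁ h₂ => rw [map_add, map_add, h₁, h₂]

/-- `x ↦ 1 ⊗ φ x`, semilinear for `g.comp σA`. -/
noncomputable def ιcomp (σA : A →+* A) (φ : P →ₛₗ[σA] P') : P →ₛₗ[g.comp σA] BC g P' where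
  toFun x := BC.tmul g 1 (φ x)
  map_add' x y := by rw [map_add, BC.tmul_add]
  map_smul' a x := by
    rw [map_smulₛₗ, RingHom.comp_apply, ← BC.tmul_apply_eq, BC.tmul_eq_smul_tmul_one]

/-- The `σB`-semilinear extension `b ⊗ x ↦ σB b ⊗ φ x` of a `σA`-semilinear map. -/
noncomputable def semiMap (σA : A →+* A) (σB : B →+* B) (hσ : σB.comp g = g.comp σA)
    (φ : P →ₛₗ[σA] P') : BC g P →ₛₗ[σB] BC g P' :=
  (BC.lift (g.comp σA) (ιcomp g σA φ)).comp ((BC.castHom hσ).comp (BC.push g σB))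

theorem semiMap_tmul (σA : A →+* A) (σB : B →+* B) (hσ : σB.comp g = g.comp σA)
    (φ : P →ₛₗ[σA] P') (b : B) (x : P) :
    semiMap g σA σB hσ φ (BC.tmul g b x) = BC.tmul g (σB b) (φ x) := by
  change BC.lift (g.comp σA) (ιcomp g σA φ) (BC.castHom hσ (BC.push g σB (BC.tmul g b x))) = _
  rw [BC.push_tmul, BC.castHom_tmul, BC.lift_tmul]
  change σB b • BC.tmul g 1 (φ x) = _
  rw [BC.smul_tmul, mul_one]

/-! ### tensor-level descriptions -/

/-- The identity `BC g P → Res g ⊗ P`. -/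
def toT (z : BC g P) : Res g ⊗[A] P := z

/-- The identity `Res g ⊗ P → BC g P`. -/
def ofT (z : Res g ⊗[A] P) : BC g P := z

@[simp] theorem ofT_toT (z : BC g P) : ofT g (toT g z) = z := rfl
@[simp] theorem toT_ofT (z : Res g ⊗[A] P) : toT g (ofT g z) = z := rfl
theorem ofT_add (z z' : Res g ⊗[A] P) : ofT g (z + z') = ofT g z + ofT g z' := rfl
theorem ofT_zero : ofT g (0 : Res g ⊗[A] P) = 0 := rfl
theorem ofT_tmul (b : Res g) (x : P) : ofT g (b ⊗ₜ[A] x) = BC.tmul g b.val x := rfl
theorem toT_add (z z' : BC g P) : toT g (z + z') = toT g z + toT g z' := rfl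
theorem toT_zero : toT g (0 : BC g P) = 0 := rfl
theorem toT_tmul (b : B) (x : P) : toT g (BC.tmul g b x) = Res.mk g b ⊗ₜ[A] x := rfl

theorem map_eq_lTensor (ψ : P →ₗ[A] P') (z : Res g ⊗[A] P) :
    BC.map g ψ (ofT g z) = ofT g (LinearMap.lTensor (Res g) ψ z) := by
  induction z using TensorProduct.induction_on with
  | zero => rw [ofT_zero, map_zero, map_zero, ofT_zero]
  | tmul b x => rw [ofT_tmul, BC.map_tmul, LinearMap.lTensor_tmul, ofT_tmul]
  | add z₁ z₂ h₁ h₂ => rw [ofT_add, map_add, h₁, h₂, map_add, ofT_add]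

variable {C : Type w''} [CommRing C] (h : B →+* C)

/-- `h` as an `A`-linear map `Res g → Res (h.comp g)`. -/
def hlin : Res g →ₗ[A] Res (h.comp g) where
  toFun b := Res.mk (h.comp g) (h b.val)
  map_add' s t := by apply Res.ext; simp
  map_smul' a t := by apply Res.ext; simp

@[simp] theorem hlin_val (b : Res g) : (hlin g h b).val = h b.val := rfl

theorem push_eq_rTensor (z : Res g ⊗[A] P) :
    BC.push g h (ofT g z) = ofT (h.comp g) (LinearMap.rTensor P (hlin g h) z) := by
  induction z using TensorProduct.induction_on with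
  | zero => rw [ofT_zero, map_zero, map_zero, ofT_zero]
  | tmul b x => rw [ofT_tmul, BC.push_tmul, LinearMap.rTensor_tmul, ofT_tmul]; rfl
  | add z₁ z₂ h₁ h₂ => rw [ofT_add, map_add, h₁, h₂, map_add, ofT_add]

/-- Generation of the kernel of `P_B → C ⊗ (P/Q)`. -/
theorem mem_sup_of_push_map_mkQ_eq_zero (Q : Submodule A P) (hh : Function.Surjective h)
    (z : BC g P) (hz : BC.push g h (BC.map g Q.mkQ z) = 0) :
    z ∈ (RingHom.ker h) • (⊤ : Submodule B (BC g P)) ⊔ LinearMap.range (BC.map g Q.subtype) := by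
  have e1 : Function.Exact (LinearMap.ker (hlin g h)).subtype (hlin g h) :=
    LinearMap.exact_subtype_ker_map (hlin g h)
  have hs : Function.Surjective (hlin g h) := by
    intro c
    obtain ⟨b, hb⟩ := hh c.val
    exact ⟨Res.mk g b, Res.ext _ hb⟩
  have e2 := rTensor_exact (P ⧸ Q) e1 hs
  have e3 : Function.Exact (LinearMap.lTensor (Res g) Q.subtype)
      (LinearMap.lTensor (Res g) Q.mkQ) :=
    lTensor_exact (Res g) (LinearMap.exact_subtype_mkQ Q) (Submodule.mkQ_surjective Q)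
  set zt : Res g ⊗[A] P := toT g z with hzt
  have hz1 : LinearMap.rTensor (P ⧸ Q) (hlin g h) (LinearMap.lTensor (Res g) Q.mkQ zt) = 0 := by
    have h1 := hz
    rw [← ofT_toT g z, map_eq_lTensor, push_eq_rTensor] at h1
    exact h1
  obtain ⟨ζ, hζ⟩ := (e2 _).mp hz1
  obtain ⟨ζ', rfl⟩ := LinearMap.lTensor_surjective (LinearMap.ker (hlin g h))
    (Submodule.mkQ_surjective Q) ζ
  have hcomm : LinearMap.rTensor (P ⧸ Q) (LinearMap.ker (hlin g h)).subtype
      (LinearMap.lTensor (LinearMap.ker (hlin g h)) Q.mkQ ζ') =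
      LinearMap.lTensor (Res g) Q.mkQ
        (LinearMap.rTensor P (LinearMap.ker (hlin g h)).subtype ζ') := by
    rw [← LinearMap.comp_apply, ← LinearMap.comp_apply, LinearMap.rTensor_comp_lTensor,
      LinearMap.lTensor_comp_rTensor]
  have h4 : LinearMap.lTensor (Res g) Q.mkQ
      (zt - LinearMap.rTensor P (LinearMap.ker (hlin g h)).subtype ζ') = 0 := by
    rw [map_sub, ← hcomm, hζ]
    exact sub_self _
  obtain ⟨ζ'', hζ''⟩ := (e3 _).mp h4
  have hz_eq : z = ofT g (LinearMap.rTensor P (LinearMap.ker (hlin g h)).subtype ζ') +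
      ofT g (LinearMap.lTensor (Res g) Q.subtype ζ'') := by
    rw [hζ'', ← ofT_add, add_sub_cancel]
    rfl
  rw [hz_eq]
  refine Submodule.add_mem_sup ?_ ?_
  · clear hz_eq hζ'' h4 hcomm hζ
    induction ζ' using TensorProduct.induction_on with
    | zero => rw [map_zero, ofT_zero]; exact zero_mem _
    | tmul k x =>
      rw [LinearMap.rTensor_tmul, ofT_tmul, BC.tmul_eq_smul_tmul_one]
      refine Submodule.smul_mem_smul ?_ Submodule.mem_top
      have hk : hlin g h k.1 = 0 := k.2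
      rw [RingHom.mem_ker]
      exact congrArg Res.val hk
    | add a b ha hb => rw [map_add, ofT_add]; exact add_mem ha hb
  · refine ⟨ofT g ζ'', ?_⟩
    rw [map_eq_lTensor]

end

end Groth.Agent.H74.BCLib
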