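-- helper74: the degree-d divided power algebra (characterised by `PolLaw.IsGammaD`) is spanned,
-- as a module, by the coefficients of its universal law.
import Groth.Prelude.Def_PolLaw
import Groth.Agent.S13174
import Mathlib

set_option autoImplicit false
universe u

open scoped TensorProduct

namespace Groth.Agent.H74.GammaSpan

open PolLaw

section Expand

variable {A : Type u} [CommRing A] {σ : Type*} {N : Type*} [AddCommGroup N] [Module A N]

/-- the `ν`-th coefficient of an element of `A[σ] ⊗ N` -/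
noncomputable def cf (ν : σ →₀ ℕ) : MvPolynomial σ A ⊗[A] N →ₗ[A] N :=
  (TensorProduct.lid A N).toLinearMap ∘ₗ (MvPolynomial.lcoeff A ν).rTensor N

@[simp] theorem cf_tmul (ν : σ →₀ ℕ) (p : MvPolynomial σ A) (c : N) :
    cf ν (p ⊗ₜ[A] c) = MvPolynomial.coeff ν p • c := by
  simp [cf, MvPolynomial.lcoeff]

theorem exists_finset_expand (u : MvPolynomial σ A ⊗[A] N) :
    ∃ s : Finset (σ →₀ ℕ), ∀ t : Finset (σ →₀ ℕ), s ⊆ t →
      u = ∑ ν ∈ t, (MvPolynomial.monomial ν (1 : A)) ⊗ₜ[A] cf ν u := by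
  classical
  induction u using TensorProduct.induction_on with
  | zero => exact ⟨∅, fun t _ => by simp⟩
  | tmul p c =>
    refine ⟨p.support, fun t ht => ?_⟩
    have h1 : ∀ ν ∈ t, (MvPolynomial.monomial ν (1 : A)) ⊗ₜ[A] cf ν (p ⊗ₜ[A] c) =
        (MvPolynomial.monomial ν (MvPolynomial.coeff ν p)) ⊗ₜ[A] c := by
      intro ν _
      rw [cf_tmul, ← TensorProduct.smul_tmul, MvPolynomial.smul_monomial, smul_eq_mul, mul_one]
    rw [Finset.sum_congr rfl h1, ← TensorProduct.sum_tmul]
    congr 1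
    rw [← Finset.sum_subset ht, MvPolynomial.support_sum_monomial_coeff]
    intro ν _ hν
    rw [MvPolynomial.notMem_support_iff.1 hν, MvPolynomial.monomial_zero]
  | add x y hx hy =>
    obtain ⟨s, hs⟩ := hx
    obtain ⟨s', hs'⟩ := hy
    refine ⟨s ∪ s', fun t ht => ?_⟩
    have h1 := hs t (Finset.union_subset_left ht)
    have h2 := hs' t (Finset.union_subset_right ht)
    conv_lhs => rw [h1, h2]
    rw [← Finset.sum_add_distrib]
    refine Finset.sum_congr rfl (fun ν _ => ?_)
    rw [map_add, TensorProduct.tmul_add]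

theorem mem_range_lTensor_of_cf_mem (K : Submodule A N) (u : MvPolynomial σ A ⊗[A] N)
    (h : ∀ ν, cf ν u ∈ K) : u ∈ LinearMap.range (K.subtype.lTensor (MvPolynomial σ A)) := by
  obtain ⟨s, hs⟩ := exists_finset_expand u
  refine ⟨∑ ν ∈ s, (MvPolynomial.monomial ν (1 : A)) ⊗ₜ[A] (⟨cf ν u, h ν⟩ : K), ?_⟩
  rw [map_sum]
  conv_rhs => rw [hs s (Finset.Subset.refl s)]
  refine Finset.sum_congr rfl (fun ν _ => ?_)
  rw [LinearMap.lTensor_tmul]
  rfl

end Expand


section Span

variable {A : Type u} [CommRing A] {B : Type u} [CommRing B] [Algebra A B]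
  {C : Type u} [CommRing C] [Algebra A C]

/-- the "coefficient" of the value `F_S x` along a functional `ℓ : S → A` -/
noncomputable def coef (F : B →ₚₗ[A] C) (S : Type u) [CommSemiring S] [Algebra A S]
    (ℓ : S →ₗ[A] A) (x : S ⊗[A] B) : C :=
  TensorProduct.lid A C (ℓ.rTensor C (F.toFun' S x))

/-- the set of all coefficients of a law -/
def coefSet (F : B →ₚₗ[A] C) : Set C :=
  {c | ∃ (S : Type u) (_ : CommSemiring S) (_ : Algebra A S) (ℓ : S →ₗ[A] A) (x : S ⊗[A] B),
    c = coef F S ℓ x}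

/-- the submodule spanned by all coefficients of a law -/
def coefSpan (F : B →ₚₗ[A] C) : Submodule A C := Submodule.span A (coefSet F)

theorem coef_mem_coefSpan (F : B →ₚₗ[A] C) (S : Type u) [CommSemiring S] [Algebra A S]
    (ℓ : S →ₗ[A] A) (x : S ⊗[A] B) : coef F S ℓ x ∈ coefSpan F :=
  Submodule.subset_span ⟨S, _, _, ℓ, x, rfl⟩

theorem rTensor_algHom_apply {M : Type*} [CommRing M] [Algebra A M] {S S' : Type u}
    [CommSemiring S] [Algebra A S]
    [CommSemiring S'] [Algebra A S'] (ψ : S →ₐ[A] S') (z : S ⊗[A] M) :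
    ψ.toLinearMap.rTensor M z = Algebra.TensorProduct.map ψ (AlgHom.id A M) z := by
  induction z using TensorProduct.induction_on with
  | zero => simp
  | tmul a b => rfl
  | add a b ha hb => simp [ha, hb]

theorem lid_rTensor_mul {S S' : Type u} [CommSemiring S] [Algebra A S] [CommSemiring S']
    [Algebra A S'] (ℓ : S →ₗ[A] A) (ℓ' : S' →ₗ[A] A) (u : S ⊗[A] C) (v : S' ⊗[A] C) :
    TensorProduct.lid A C
      (((TensorProduct.lid A A).toLinearMap ∘ₗ TensorProduct.map ℓ ℓ').rTensor C
        ((Algebra.TensorProduct.includeLeft : S →ₐ[A] S ⊗[A] S').toLinearMap.rTensor C u *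
          (Algebra.TensorProduct.includeRight : S' →ₐ[A] S ⊗[A] S').toLinearMap.rTensor C v)) =
      TensorProduct.lid A C (ℓ.rTensor C u) * TensorProduct.lid A C (ℓ'.rTensor C v) := by
  induction u using TensorProduct.induction_on with
  | zero => simp
  | add u₁ u₂ h₁ h₂ => simp only [map_add, add_mul, h₁, h₂]
  | tmul s c =>
    induction v using TensorProduct.induction_on with
    | zero => simp
    | add v₁ v₂ h₁ h₂ => simp only [map_add, mul_add, h₁, h₂]
    | tmul s' c' =>
      simp only [LinearMap.rTensor_tmul, AlgHom.toLinearMap_apply,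
        Algebra.TensorProduct.includeLeft_apply, Algebra.TensorProduct.includeRight_apply,
        Algebra.TensorProduct.tmul_mul_tmul, mul_one, one_mul, LinearMap.comp_apply,
        TensorProduct.map_tmul, LinearEquiv.coe_coe, TensorProduct.lid_tmul, smul_eq_mul]
      rw [smul_mul_smul_comm]

theorem one_mem_coefSpan (F : B →ₚₗ[A] C) (hF : IsMult F) : (1 : C) ∈ coefSpan F := by
  have h := coef_mem_coefSpan F A LinearMap.id 1
  have h1 : coef F A LinearMap.id 1 = 1 := by
    rw [coef, (hF A).1, Algebra.TensorProduct.one_def]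
    simp
  rwa [h1] at h

theorem mul_mem_coefSet (F : B →ₚₗ[A] C) (hF : IsMult F) {c c' : C}
    (hc : c ∈ coefSet F) (hc' : c' ∈ coefSet F) : c * c' ∈ coefSet F := by
  obtain ⟨S, _, _, ℓ, x, rfl⟩ := hc
  obtain ⟨S', _, _, ℓ', x', rfl⟩ := hc'
  refine ⟨S ⊗[A] S', inferInstance, inferInstance,
    (TensorProduct.lid A A).toLinearMap ∘ₗ TensorProduct.map ℓ ℓ',
    (Algebra.TensorProduct.includeLeft : S →ₐ[A] S ⊗[A] S').toLinearMap.rTensor B x *
      (Algebra.TensorProduct.includeRight : S' →ₐ[A] S ⊗[A] S').toLinearMap.rTensor B x', ?_⟩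
  rw [coef, coef, coef, (hF _).2, ← lid_rTensor_mul]
  have e1 := congr_fun (F.isCompat' (Algebra.TensorProduct.includeLeft : S →ₐ[A] S ⊗[A] S')) x
  have e2 := congr_fun (F.isCompat' (Algebra.TensorProduct.includeRight : S' →ₐ[A] S ⊗[A] S')) x'
  simp only [Function.comp_apply] at e1 e2
  rw [e1, e2]

theorem mul_mem_coefSpan (F : B →ₚₗ[A] C) (hF : IsMult F) {c c' : C}
    (hc : c ∈ coefSpan F) (hc' : c' ∈ coefSpan F) : c * c' ∈ coefSpan F := by
  have h : coefSpan F * coefSpan F ≤ coefSpan F := by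
    rw [coefSpan, Submodule.span_mul_span]
    refine Submodule.span_mono ?_
    rintro _ ⟨a, ha, b, hb, rfl⟩
    exact mul_mem_coefSet F hF ha hb
  exact h (Submodule.mul_mem_mul hc hc')

/-- the subalgebra spanned (as a module) by the coefficients of a multiplicative law -/
def coefAlg (F : B →ₚₗ[A] C) (hF : IsMult F) : Subalgebra A C :=
  (coefSpan F).toSubalgebra (one_mem_coefSpan F hF) (fun _ _ hx hy => mul_mem_coefSpan F hF hx hy)

theorem mem_coefAlg (F : B →ₚₗ[A] C) (hF : IsMult F) (c : C) :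
    c ∈ coefAlg F hF ↔ c ∈ coefSpan F := Iff.rfl

end Span


section Lift

variable {A : Type u} [CommRing A] {M : Type u} [AddCommGroup M] [Module A M]

/-- two elements of `S ⊗ M` lift simultaneously to a polynomial ring -/
theorem exists_lift_pair {S : Type u} [CommSemiring S] [Algebra A S] (x y : S ⊗[A] M) :
    ∃ (n : ℕ) (ψ : MvPolynomial (Fin n) A →ₐ[A] S) (p q : MvPolynomial (Fin n) A ⊗[A] M),
      ψ.toLinearMap.rTensor M p = x ∧ ψ.toLinearMap.rTensor M q = y := by
  obtain ⟨n, ψ, p, hp⟩ := PolynomialLaw.exists_lift (R := A) x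
  obtain ⟨m, ψ', q, hq⟩ := PolynomialLaw.exists_lift (R := A) y
  let Ψ : MvPolynomial (Fin (n + m)) A →ₐ[A] S :=
    MvPolynomial.aeval (Fin.append (fun i => ψ (MvPolynomial.X i)) (fun i => ψ' (MvPolynomial.X i)))
  let ι₁ : MvPolynomial (Fin n) A →ₐ[A] MvPolynomial (Fin (n + m)) A :=
    MvPolynomial.rename (Fin.castAdd m)
  let ι₂ : MvPolynomial (Fin m) A →ₐ[A] MvPolynomial (Fin (n + m)) A :=
    MvPolynomial.rename (Fin.natAdd n)
  have h1 : Ψ.comp ι₁ = ψ := by
    apply MvPolynomial.algHom_ext; intro i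
    simp [Ψ, ι₁]
  have h2 : Ψ.comp ι₂ = ψ' := by
    apply MvPolynomial.algHom_ext; intro i
    simp [Ψ, ι₂]
  refine ⟨n + m, Ψ, ι₁.toLinearMap.rTensor M p, ι₂.toLinearMap.rTensor M q, ?_, ?_⟩
  · rw [← LinearMap.comp_apply, ← LinearMap.rTensor_comp, ← AlgHom.comp_toLinearMap, h1, hp]
  · rw [← LinearMap.comp_apply, ← LinearMap.rTensor_comp, ← AlgHom.comp_toLinearMap, h2, hq]

end Lift

section Factor

variable {A : Type u} [CommRing A] {B : Type u} [CommRing B] [Algebra A B]
  {C : Type u} [CommRing C] [Algebra A C] {d : ℕ}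

theorem lTensor_val_injective (K : Subalgebra A C) (n : ℕ) :
    Function.Injective (K.val.toLinearMap.lTensor (MvPolynomial (Fin n) A)) :=
  Module.Flat.lTensor_preserves_injective_linearMap _ Subtype.val_injective

theorem toFun'_mem_range (γ : MulLaw A B C d) (n : ℕ) (x : MvPolynomial (Fin n) A ⊗[A] B) :
    γ.law.toFun' (MvPolynomial (Fin n) A) x ∈
      LinearMap.range ((coefAlg γ.law γ.mult).val.toLinearMap.lTensor (MvPolynomial (Fin n) A)) := by
  have h := mem_range_lTensor_of_cf_mem (coefSpan γ.law) (γ.law.toFun' (MvPolynomial (Fin n) A) x)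
    (fun ν => coef_mem_coefSpan γ.law (MvPolynomial (Fin n) A) (MvPolynomial.lcoeff A ν) x)
  exact h

/-- the factorisation of the universal law through the coefficient subalgebra, on polynomial rings -/
noncomputable def T (γ : MulLaw A B C d) (n : ℕ) (x : MvPolynomial (Fin n) A ⊗[A] B) :
    MvPolynomial (Fin n) A ⊗[A] (coefAlg γ.law γ.mult) :=
  Classical.choose (toFun'_mem_range γ n x)

theorem T_spec (γ : MulLaw A B C d) (n : ℕ) (x : MvPolynomial (Fin n) A ⊗[A] B) :
    (coefAlg γ.law γ.mult).val.toLinearMap.lTensor (MvPolynomial (Fin n) A) (T γ n x) =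
      γ.law.toFun' (MvPolynomial (Fin n) A) x :=
  Classical.choose_spec (toFun'_mem_range γ n x)

theorem T_compat (γ : MulLaw A B C d) (n m : ℕ)
    (φ : MvPolynomial (Fin n) A →ₐ[A] MvPolynomial (Fin m) A) :
    φ.toLinearMap.rTensor (coefAlg γ.law γ.mult) ∘ T γ n = T γ m ∘ φ.toLinearMap.rTensor B := by
  funext x
  apply lTensor_val_injective (coefAlg γ.law γ.mult) m
  simp only [Function.comp_apply]
  rw [T_spec, ← LinearMap.comp_apply, LinearMap.lTensor_comp_rTensor,
    ← LinearMap.rTensor_comp_lTensor, LinearMap.comp_apply, T_spec]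
  exact congr_fun (γ.law.isCompat' φ) x

theorem exists_law (γ : MulLaw A B C d) :
    ∃ F₀ : B →ₚₗ[A] (coefAlg γ.law γ.mult),
      ∀ n, F₀.toFun' (MvPolynomial (Fin n) A) = T γ n := by
  obtain ⟨F₀, hF₀⟩ := (Groth.Agent.S13174.result (A := A) (M := B)
    (N := (coefAlg γ.law γ.mult))).2 ⟨T γ, T_compat γ⟩
  exact ⟨F₀, fun n => congr_fun (congrArg Subtype.val hF₀) n⟩

end Factor


section Main

variable {A : Type u} [CommRing A] {B : Type u} [CommRing B] [Algebra A B]
  {C : Type u} [CommRing C] [Algebra A C] {d : ℕ}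

theorem rTensor_smul_apply {M : Type u} [AddCommGroup M] [Module A M] {S S' : Type u}
    [CommSemiring S] [Algebra A S] [CommSemiring S'] [Algebra A S'] (ψ : S →ₐ[A] S')
    (q : S) (z : S ⊗[A] M) :
    ψ.toLinearMap.rTensor M (q • z) = ψ q • ψ.toLinearMap.rTensor M z := by
  induction z using TensorProduct.induction_on with
  | zero => simp
  | tmul a b =>
    simp only [TensorProduct.smul_tmul', LinearMap.rTensor_tmul, AlgHom.toLinearMap_apply,
      smul_eq_mul, map_mul]
  | add a b ha hb => simp only [smul_add, map_add, ha, hb]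

variable (γ : MulLaw A B C d) (F₀ : B →ₚₗ[A] (coefAlg γ.law γ.mult))
  (hF₀ : ∀ n, F₀.toFun' (MvPolynomial (Fin n) A) = T γ n)

include hF₀

theorem F₀_spec (n : ℕ) (x : MvPolynomial (Fin n) A ⊗[A] B) :
    (coefAlg γ.law γ.mult).val.toLinearMap.lTensor (MvPolynomial (Fin n) A)
      (F₀.toFun' (MvPolynomial (Fin n) A) x) = γ.law.toFun' (MvPolynomial (Fin n) A) x := by
  rw [hF₀, T_spec]

theorem postcomp_F₀ : postcomp (coefAlg γ.law γ.mult).val.toLinearMap F₀ = γ.law := by
  apply (Groth.Agent.S13174.result (A := A) (M := B) (N := C)).1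
  refine Subtype.ext (funext (fun n => funext (fun x => ?_)))
  exact F₀_spec γ F₀ hF₀ n x

theorem F₀_isMult : IsMult F₀ := by
  intro S _ _
  have hpoly_mul : ∀ (n : ℕ) (p q : MvPolynomial (Fin n) A ⊗[A] B),
      F₀.toFun' (MvPolynomial (Fin n) A) (p * q) =
        F₀.toFun' (MvPolynomial (Fin n) A) p * F₀.toFun' (MvPolynomial (Fin n) A) q := by
    intro n p q
    apply lTensor_val_injective (coefAlg γ.law γ.mult) n
    rw [F₀_spec γ F₀ hF₀, (γ.mult _).2, lTensor_algHom_apply, map_mul, ← lTensor_algHom_apply,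
      ← lTensor_algHom_apply, F₀_spec γ F₀ hF₀, F₀_spec γ F₀ hF₀]
  have hpoly_one : F₀.toFun' (MvPolynomial (Fin 0) A) 1 = 1 := by
    apply lTensor_val_injective (coefAlg γ.law γ.mult) 0
    rw [F₀_spec γ F₀ hF₀, (γ.mult _).1, lTensor_algHom_apply, map_one]
  refine ⟨?_, fun x y => ?_⟩
  · let ψ : MvPolynomial (Fin 0) A →ₐ[A] S := MvPolynomial.aeval Fin.elim0
    have h1 : ψ.toLinearMap.rTensor B 1 = 1 := by rw [rTensor_algHom_apply, map_one]
    have h := congr_fun (F₀.isCompat' ψ) 1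
    simp only [Function.comp_apply] at h
    rw [← h1, ← h, hpoly_one, rTensor_algHom_apply, map_one]
  · obtain ⟨n, ψ, p, q, rfl, rfl⟩ := exists_lift_pair x y
    have hmul : ψ.toLinearMap.rTensor B p * ψ.toLinearMap.rTensor B q =
        ψ.toLinearMap.rTensor B (p * q) := by
      rw [rTensor_algHom_apply, rTensor_algHom_apply, rTensor_algHom_apply, map_mul]
    have h := fun z => congr_fun (F₀.isCompat' ψ) z
    simp only [Function.comp_apply] at h
    rw [hmul, ← h, ← h, ← h, hpoly_mul, rTensor_algHom_apply, map_mul, ← rTensor_algHom_apply,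
      ← rTensor_algHom_apply]

theorem F₀_isHomog : IsHomog F₀ d := by
  intro S _ _ s x
  obtain ⟨n, ψ, p, q, rfl, rfl⟩ := PolynomialLaw.exists_lift' (R := A) x s
  have hpoly : F₀.toFun' (MvPolynomial (Fin n) A) (q • p) =
      q ^ d • F₀.toFun' (MvPolynomial (Fin n) A) p := by
    apply lTensor_val_injective (coefAlg γ.law γ.mult) n
    rw [F₀_spec γ F₀ hF₀, γ.homog, lTensor_algHom_apply, map_smul, ← lTensor_algHom_apply,
      F₀_spec γ F₀ hF₀]
  have h := fun z => congr_fun (F₀.isCompat' ψ) z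
  simp only [Function.comp_apply] at h
  rw [← rTensor_smul_apply, ← h, ← h, hpoly, rTensor_smul_apply, map_pow]

/-- the factorised law as a multiplicative law -/
noncomputable def mulLaw₀ : MulLaw A B (coefAlg γ.law γ.mult) d where
  law := F₀
  homog := F₀_isHomog γ F₀ hF₀
  mult := F₀_isMult γ F₀ hF₀

omit hF₀

theorem postcomp_comp {M N P Q : Type u} [AddCommGroup M] [Module A M]
    [AddCommGroup N] [Module A N] [AddCommGroup P] [Module A P] [AddCommGroup Q] [Module A Q]
    (g : P →ₗ[A] Q) (f : N →ₗ[A] P) (F : M →ₚₗ[A] N) :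
    postcomp (g ∘ₗ f) F = postcomp g (postcomp f F) := by
  refine PolynomialLaw.ext ?_
  funext S _ _ x
  show (g ∘ₗ f).lTensor S (F.toFun' S x) = g.lTensor S (f.lTensor S (F.toFun' S x))
  rw [LinearMap.lTensor_comp_apply]

theorem postcomp_id {M N : Type u} [AddCommGroup M] [Module A M]
    [AddCommGroup N] [Module A N] (F : M →ₚₗ[A] N) :
    postcomp (LinearMap.id) F = F := by
  refine PolynomialLaw.ext ?_
  funext S _ _ x
  show (LinearMap.id).lTensor S (F.toFun' S x) = _
  rw [LinearMap.lTensor_id, LinearMap.id_apply]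

/-- **Spanning**: the algebra of divided powers is spanned by the coefficients of its universal
law. -/
theorem coefSpan_eq_top (γ : MulLaw A B C d) (hγ : IsGammaD γ) : coefSpan γ.law = ⊤ := by
  obtain ⟨F₀, hF₀⟩ := exists_law γ
  obtain ⟨f, hf, -⟩ := hγ (coefAlg γ.law γ.mult) (mulLaw₀ γ F₀ hF₀)
  have hf' : postcomp f.toLinearMap γ.law = F₀ := hf
  obtain ⟨g, -, hguniq⟩ := hγ C γ
  have h1 : (coefAlg γ.law γ.mult).val.comp f = g := by
    apply hguniq
    show postcomp ((coefAlg γ.law γ.mult).val.comp f).toLinearMap γ.law = γ.law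
    rw [AlgHom.comp_toLinearMap, postcomp_comp, hf', postcomp_F₀ γ F₀ hF₀]
  have h2 : AlgHom.id A C = g := by
    apply hguniq
    show postcomp (AlgHom.id A C).toLinearMap γ.law = γ.law
    exact postcomp_id γ.law
  rw [eq_top_iff]
  intro c _
  have h3 : (coefAlg γ.law γ.mult).val (f c) = c := by
    rw [← AlgHom.comp_apply, h1, ← h2]; rfl
  rw [← h3]
  exact (f c).2

end Main


section Cor

variable {A : Type u} [CommRing A] {B : Type u} [CommRing B] [Algebra A B]
  {C : Type u} [CommRing C] [Algebra A C] {d : ℕ}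

theorem lid_rTensor_lTensor {N N' : Type u} [AddCommGroup N] [Module A N] [AddCommGroup N']
    [Module A N'] {S : Type u} [CommSemiring S] [Algebra A S]
    (L : N →ₗ[A] N') (ℓ : S →ₗ[A] A) (u : S ⊗[A] N) :
    TensorProduct.lid A N' (ℓ.rTensor N' (L.lTensor S u)) =
      L (TensorProduct.lid A N (ℓ.rTensor N u)) := by
  induction u using TensorProduct.induction_on with
  | zero => simp
  | tmul a b => simp
  | add a b ha hb => simp only [map_add, ha, hb]

theorem coef_postcomp {C' : Type u} [CommRing C'] [Algebra A C'] (F : B →ₚₗ[A] C)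
    (L : C →ₗ[A] C') (S : Type u) [CommSemiring S] [Algebra A S] (ℓ : S →ₗ[A] A) (x : S ⊗[A] B) :
    coef (postcomp L F) S ℓ x = L (coef F S ℓ x) :=
  lid_rTensor_lTensor L ℓ (F.toFun' S x)

/-- every coefficient is a combination of the coefficients taken over polynomial rings along
the monomial functionals -/
theorem coef_mem_of_cf_mem (F : B →ₚₗ[A] C) (N : Submodule A C)
    (h : ∀ (n : ℕ) (x : MvPolynomial (Fin n) A ⊗[A] B) (ν : Fin n →₀ ℕ),
      cf ν (F.toFun' (MvPolynomial (Fin n) A) x) ∈ N)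
    (S : Type u) [CommSemiring S] [Algebra A S] (ℓ : S →ₗ[A] A) (x : S ⊗[A] B) :
    coef F S ℓ x ∈ N := by
  obtain ⟨n, ψ, p, rfl⟩ := PolynomialLaw.exists_lift (R := A) x
  have hc := congr_fun (F.isCompat' ψ) p
  simp only [Function.comp_apply] at hc
  rw [coef, ← hc]
  obtain ⟨s, hs⟩ := exists_finset_expand (F.toFun' (MvPolynomial (Fin n) A) p)
  rw [hs s (Finset.Subset.refl s), map_sum, map_sum, map_sum]
  refine Submodule.sum_mem _ (fun ν _ => ?_)
  rw [LinearMap.rTensor_tmul, LinearMap.rTensor_tmul, TensorProduct.lid_tmul]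
  exact N.smul_mem _ (h n p ν)

theorem eq_top_of_cf_mem (γ : MulLaw A B C d) (hγ : IsGammaD γ) (N : Submodule A C)
    (h : ∀ (n : ℕ) (x : MvPolynomial (Fin n) A ⊗[A] B) (ν : Fin n →₀ ℕ),
      cf ν (γ.law.toFun' (MvPolynomial (Fin n) A) x) ∈ N) : N = ⊤ := by
  rw [eq_top_iff, ← coefSpan_eq_top γ hγ]
  refine Submodule.span_le.2 ?_
  rintro _ ⟨S, _, _, ℓ, x, rfl⟩
  exact coef_mem_of_cf_mem γ.law N h S ℓ x

/-- two linear maps out of `Γ^d` that agree after composing with the universal law (on polynomial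
rings) are equal -/
theorem linearMap_ext_of_postcomp {N : Type u} [AddCommGroup N] [Module A N]
    (γ : MulLaw A B C d) (hγ : IsGammaD γ) (L₁ L₂ : C →ₗ[A] N)
    (h : ∀ (n : ℕ) (x : MvPolynomial (Fin n) A ⊗[A] B),
      L₁.lTensor _ (γ.law.toFun' (MvPolynomial (Fin n) A) x) =
        L₂.lTensor _ (γ.law.toFun' (MvPolynomial (Fin n) A) x)) : L₁ = L₂ := by
  have htop := eq_top_of_cf_mem γ hγ (LinearMap.eqLocus L₁ L₂) (fun n x ν => by
    rw [LinearMap.mem_eqLocus]
    have := congrArg (fun z => TensorProduct.lid A N ((MvPolynomial.lcoeff A ν).rTensor N z))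
      (h n x)
    simp only [lid_rTensor_lTensor] at this
    exact this)
  ext c
  have : c ∈ LinearMap.eqLocus L₁ L₂ := htop ▸ Submodule.mem_top
  exact this

end Cor

end Groth.Agent.H74.GammaSpan
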