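-- helper74: coefficients of a multiplicative law along a finite family; finiteness / integrality of Γ^d.
import Groth.Agent.H74.GammaSpan

set_option autoImplicit false
universe u

open scoped TensorProduct

namespace Groth.Agent.H74.GammaFin

open PolLaw Groth.Agent.H74.GammaSpan

variable {A : Type u} [CommRing A] {B : Type u} [CommRing B] [Algebra A B]
  {C : Type u} [CommRing C] [Algebra A C]

section Family

variable (F : B →ₚₗ[A] C) {r : ℕ} (e : Fin r → B)

/-- the value of the law at the generic combination `Σ X_k ⊗ e_k` -/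
noncomputable def uE : MvPolynomial (Fin r) A ⊗[A] C :=
  F.toFun' (MvPolynomial (Fin r) A) (∑ k, (MvPolynomial.X k : MvPolynomial (Fin r) A) ⊗ₜ[A] e k)

/-- a finite set of exponents supporting `uE` -/
noncomputable def supp : Finset (Fin r →₀ ℕ) := Classical.choose (exists_finset_expand (uE F e))

theorem uE_eq : uE F e = ∑ ν ∈ supp F e, (MvPolynomial.monomial ν (1 : A)) ⊗ₜ[A] cf ν (uE F e) :=
  Classical.choose_spec (exists_finset_expand (uE F e)) _ (Finset.Subset.refl _)

/-- the (finitely generated) module spanned by the coefficients of `uE` -/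
noncomputable def NE : Submodule A C :=
  Submodule.span A ((fun ν => cf ν (uE F e)) '' (supp F e : Set (Fin r →₀ ℕ)))

theorem NE_fg : (NE F e).FG := Submodule.fg_span ((Finset.finite_toSet _).image _)

theorem toFun'_sum_tmul (S : Type u) [CommSemiring S] [Algebra A S] (s : Fin r → S) :
    F.toFun' S (∑ k, s k ⊗ₜ[A] e k) =
      (MvPolynomial.aeval s : MvPolynomial (Fin r) A →ₐ[A] S).toLinearMap.rTensor C (uE F e) := by
  have h := congr_fun (F.isCompat' (MvPolynomial.aeval s : MvPolynomial (Fin r) A →ₐ[A] S))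
    (∑ k, (MvPolynomial.X k : MvPolynomial (Fin r) A) ⊗ₜ[A] e k)
  simp only [Function.comp_apply] at h
  rw [uE, h]
  congr 1
  rw [map_sum]
  refine Finset.sum_congr rfl (fun k _ => ?_)
  rw [LinearMap.rTensor_tmul, AlgHom.toLinearMap_apply, MvPolynomial.aeval_X]

theorem coef_mem_NE (S : Type u) [CommSemiring S] [Algebra A S] (ℓ : S →ₗ[A] A) (s : Fin r → S) :
    coef F S ℓ (∑ k, s k ⊗ₜ[A] e k) ∈ NE F e := by
  rw [coef, toFun'_sum_tmul, uE_eq, map_sum, map_sum, map_sum]
  refine Submodule.sum_mem _ (fun ν hν => ?_)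
  rw [LinearMap.rTensor_tmul, LinearMap.rTensor_tmul, TensorProduct.lid_tmul]
  exact Submodule.smul_mem _ _ (Submodule.subset_span (Set.mem_image_of_mem _ (Finset.mem_coe.2 hν)))

end Family

/-- if `e` spans the image of `g`, every element of the image of `S ⊗ g` is a combination
`Σ s_k ⊗ e_k` -/
theorem exists_sum_tmul_of_span {r : ℕ} (e : Fin r → B) {N : Type u} [AddCommGroup N] [Module A N]
    (g : N →ₗ[A] B) (he : ∀ y, g y ∈ Submodule.span A (Set.range e))
    (S : Type u) [CommSemiring S] [Algebra A S] (x : S ⊗[A] B)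
    (hx : x ∈ LinearMap.range (g.lTensor S)) :
    ∃ s : Fin r → S, x = ∑ k, s k ⊗ₜ[A] e k := by
  obtain ⟨y, rfl⟩ := hx
  induction y using TensorProduct.induction_on with
  | zero => exact ⟨0, by simp⟩
  | tmul a b =>
    obtain ⟨c, hc⟩ := (Submodule.mem_span_range_iff_exists_fun A).1 (he b)
    refine ⟨fun k => c k • a, ?_⟩
    rw [LinearMap.lTensor_tmul, ← hc, TensorProduct.tmul_sum]
    refine Finset.sum_congr rfl (fun k _ => ?_)
    rw [TensorProduct.tmul_smul, TensorProduct.smul_tmul']
  | add y z hy hz =>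
    obtain ⟨s, hs⟩ := hy
    obtain ⟨t, ht⟩ := hz
    refine ⟨s + t, ?_⟩
    rw [map_add, hs, ht, ← Finset.sum_add_distrib]
    refine Finset.sum_congr rfl (fun k _ => ?_)
    rw [Pi.add_apply, TensorProduct.add_tmul]

theorem moduleFinite_of_isGammaD {d : ℕ} (γ : MulLaw A B C d) (hγ : IsGammaD γ)
    [Module.Finite A B] : Module.Finite A C := by
  obtain ⟨r, e, he⟩ := Module.Finite.exists_fin (R := A) (M := B)
  have hle : coefSpan γ.law ≤ NE γ.law e := by
    refine Submodule.span_le.2 ?_
    rintro _ ⟨S, _, _, ℓ, x, rfl⟩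
    obtain ⟨s, rfl⟩ := exists_sum_tmul_of_span e (LinearMap.id : B →ₗ[A] B)
      (fun y => he ▸ Submodule.mem_top) S x (by
        rw [LinearMap.lTensor_id]; exact ⟨x, rfl⟩)
    exact coef_mem_NE γ.law e S ℓ s
  have htop : NE γ.law e = ⊤ := by
    rw [eq_top_iff, ← coefSpan_eq_top γ hγ]; exact hle
  exact Module.finite_def.2 (htop ▸ NE_fg γ.law e)

end Groth.Agent.H74.GammaFin
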