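-- helper74: Γ^d of an integral algebra is integral.
import Groth.Agent.H74.GammaFin

set_option autoImplicit false
universe u

open scoped TensorProduct

namespace Groth.Agent.H74.GammaInt

open PolLaw Groth.Agent.H74.GammaSpan Groth.Agent.H74.GammaFin

variable {A : Type u} [CommRing A] {B : Type u} [CommRing B] [Algebra A B]
  {C : Type u} [CommRing C] [Algebra A C]

theorem coef_mul (F : B →ₚₗ[A] C) (hF : IsMult F) {S S' : Type u} [CommSemiring S] [Algebra A S]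
    [CommSemiring S'] [Algebra A S'] (ℓ : S →ₗ[A] A) (ℓ' : S' →ₗ[A] A) (x : S ⊗[A] B)
    (x' : S' ⊗[A] B) :
    coef F S ℓ x * coef F S' ℓ' x' =
      coef F (S ⊗[A] S') ((TensorProduct.lid A A).toLinearMap ∘ₗ TensorProduct.map ℓ ℓ')
        ((Algebra.TensorProduct.includeLeft : S →ₐ[A] S ⊗[A] S').toLinearMap.rTensor B x *
          (Algebra.TensorProduct.includeRight : S' →ₐ[A] S ⊗[A] S').toLinearMap.rTensor B x') := by
  rw [coef, coef, coef, (hF _).2, ← lid_rTensor_mul]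
  have e1 := congr_fun (F.isCompat' (Algebra.TensorProduct.includeLeft : S →ₐ[A] S ⊗[A] S')) x
  have e2 := congr_fun (F.isCompat' (Algebra.TensorProduct.includeRight : S' →ₐ[A] S ⊗[A] S')) x'
  simp only [Function.comp_apply] at e1 e2
  rw [e1, e2]

section Sub

variable (B₀ : Subalgebra A B)

/-- the image of `S ⊗ B₀` in `S ⊗ B` -/
def rng (S : Type u) [CommSemiring S] [Algebra A S] : Submodule A (S ⊗[A] B) :=
  LinearMap.range (B₀.val.toLinearMap.lTensor S)

theorem tmul_mem_rng (S : Type u) [CommSemiring S] [Algebra A S] (s : S) {b : B} (hb : b ∈ B₀) :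
    s ⊗ₜ[A] b ∈ rng B₀ S := ⟨s ⊗ₜ[A] ⟨b, hb⟩, rfl⟩

theorem mul_mem_rng (S : Type u) [CommSemiring S] [Algebra A S] {x y : S ⊗[A] B}
    (hx : x ∈ rng B₀ S) (hy : y ∈ rng B₀ S) : x * y ∈ rng B₀ S := by
  obtain ⟨x₀, rfl⟩ := hx
  obtain ⟨y₀, rfl⟩ := hy
  refine ⟨x₀ * y₀, ?_⟩
  rw [lTensor_algHom_apply, lTensor_algHom_apply, lTensor_algHom_apply, map_mul]

theorem rTensor_mem_rng {S S' : Type u} [CommSemiring S] [Algebra A S] [CommSemiring S']
    [Algebra A S'] (ψ : S →ₐ[A] S') {x : S ⊗[A] B} (hx : x ∈ rng B₀ S) :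
    ψ.toLinearMap.rTensor B x ∈ rng B₀ S' := by
  obtain ⟨x₀, rfl⟩ := hx
  refine ⟨ψ.toLinearMap.rTensor B₀ x₀, ?_⟩
  rw [← LinearMap.comp_apply, ← LinearMap.comp_apply, LinearMap.lTensor_comp_rTensor,
    LinearMap.rTensor_comp_lTensor]

end Sub

theorem isIntegral_coef {d : ℕ} (γ : MulLaw A B C d) [Algebra.IsIntegral A B]
    (S : Type u) [CommSemiring S] [Algebra A S] (ℓ : S →ₗ[A] A) (x : S ⊗[A] B) :
    IsIntegral A (coef γ.law S ℓ x) := by
  classical
  obtain ⟨t, rfl⟩ := TensorProduct.exists_finset x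
  set B₀ : Subalgebra A B := Algebra.adjoin A ((t.image Prod.snd : Finset B) : Set B) with hB₀
  have hfg : B₀.toSubmodule.FG :=
    fg_adjoin_of_finite (Finset.finite_toSet _) (fun b _ => Algebra.IsIntegral.isIntegral b)
  obtain ⟨r, e, he⟩ := Submodule.fg_iff_exists_fin_generating_family.1 hfg
  have hB₀e : ∀ y : B₀, B₀.val.toLinearMap y ∈ Submodule.span A (Set.range e) := by
    intro y; rw [he]; exact y.2
  have heB₀ : ∀ k, e k ∈ B₀ := by
    intro k
    have : e k ∈ Submodule.span A (Set.range e) := Submodule.subset_span ⟨k, rfl⟩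
    rw [he] at this; exact this
  -- every coefficient at an element of `rng B₀ S'` lies in `NE`
  have hmem : ∀ (S' : Type u) [CommSemiring S'] [Algebra A S'] (ℓ' : S' →ₗ[A] A) (x' : S' ⊗[A] B),
      x' ∈ rng B₀ S' → coef γ.law S' ℓ' x' ∈ NE γ.law e := by
    intro S' _ _ ℓ' x' hx'
    obtain ⟨s, rfl⟩ := exists_sum_tmul_of_span e B₀.val.toLinearMap hB₀e S' x' hx'
    exact coef_mem_NE γ.law e S' ℓ' s
  -- the generic element lies in the range
  have hξ : (∑ k, (MvPolynomial.X k : MvPolynomial (Fin r) A) ⊗ₜ[A] e k) ∈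
      rng B₀ (MvPolynomial (Fin r) A) :=
    Submodule.sum_mem _ (fun k _ => tmul_mem_rng B₀ _ _ (heB₀ k))
  have hone : (1 : C) ∈ NE γ.law e := by
    have h := hmem A LinearMap.id 1 (by
      rw [Algebra.TensorProduct.one_def]; exact tmul_mem_rng B₀ A 1 B₀.one_mem)
    have h1 : coef γ.law A LinearMap.id 1 = 1 := by
      rw [coef, (γ.mult A).1, Algebra.TensorProduct.one_def]
      simp
    rwa [h1] at h
  have hmul : ∀ c c', c ∈ NE γ.law e → c' ∈ NE γ.law e → c * c' ∈ NE γ.law e := by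
    have h : NE γ.law e * NE γ.law e ≤ NE γ.law e := by
      rw [NE, Submodule.span_mul_span]
      refine Submodule.span_le.2 ?_
      rintro _ ⟨_, ⟨ν, _, rfl⟩, _, ⟨ν', _, rfl⟩, rfl⟩
      show cf ν (uE γ.law e) * cf ν' (uE γ.law e) ∈ NE γ.law e
      have e1 : cf ν (uE γ.law e) = coef γ.law (MvPolynomial (Fin r) A) (MvPolynomial.lcoeff A ν)
          (∑ k, (MvPolynomial.X k : MvPolynomial (Fin r) A) ⊗ₜ[A] e k) := rfl
      have e2 : cf ν' (uE γ.law e) = coef γ.law (MvPolynomial (Fin r) A) (MvPolynomial.lcoeff A ν')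
          (∑ k, (MvPolynomial.X k : MvPolynomial (Fin r) A) ⊗ₜ[A] e k) := rfl
      rw [e1, e2, coef_mul γ.law γ.mult]
      exact hmem _ _ _ (mul_mem_rng B₀ _ (rTensor_mem_rng B₀ _ hξ) (rTensor_mem_rng B₀ _ hξ))
    intro c c' hc hc'
    exact h (Submodule.mul_mem_mul hc hc')
  have hx : (∑ i ∈ t, i.1 ⊗ₜ[A] i.2 : S ⊗[A] B) ∈ rng B₀ S :=
    Submodule.sum_mem _ (fun i hi => tmul_mem_rng B₀ S _
      (Algebra.subset_adjoin (Finset.mem_coe.2 (Finset.mem_image_of_mem _ hi))))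
  exact IsIntegral.of_mem_of_fg ((NE γ.law e).toSubalgebra hone hmul) (NE_fg γ.law e) _
    (hmem S ℓ _ hx)

theorem isIntegral_of_isGammaD {d : ℕ} (γ : MulLaw A B C d) (hγ : IsGammaD γ)
    [Algebra.IsIntegral A B] : Algebra.IsIntegral A C := by
  have hle : coefSpan γ.law ≤ (integralClosure A C).toSubmodule := by
    refine Submodule.span_le.2 ?_
    rintro _ ⟨S, _, _, ℓ, x, rfl⟩
    exact isIntegral_coef γ S ℓ x
  rw [coefSpan_eq_top γ hγ] at hle
  exact ⟨fun c => hle (Submodule.mem_top : c ∈ ⊤)⟩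

end Groth.Agent.H74.GammaInt
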