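-- helper74: coefficients of a homogeneous polynomial law with respect to a family / basis.
import Groth.Agent.H74.GammaSpan
import Mathlib

set_option autoImplicit false
universe u

open scoped TensorProduct

namespace Groth.Agent.H74.LawBasis

open PolLaw Groth.Agent.H74.GammaSpan

section Theta

variable {A : Type u} [CommRing A] {ι : Type*}

open scoped Classical in
/-- kill the variables outside `J` -/
noncomputable def theta (J : Finset ι) : MvPolynomial ι A →ₐ[A] MvPolynomial ι A :=
  MvPolynomial.aeval (fun i => if i ∈ J then MvPolynomial.X i else 0)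

open scoped Classical in
theorem theta_X (J : Finset ι) (i : ι) :
    theta (A := A) J (MvPolynomial.X i) = if i ∈ J then MvPolynomial.X i else 0 := by
  rw [theta, MvPolynomial.aeval_X]

open scoped Classical in
theorem theta_monomial (J : Finset ι) (ν : ι →₀ ℕ) (a : A) :
    theta J (MvPolynomial.monomial ν a) =
      if ν.support ⊆ J then MvPolynomial.monomial ν a else 0 := by
  rw [theta, MvPolynomial.aeval_monomial]
  split_ifs with h
  · rw [MvPolynomial.monomial_eq, MvPolynomial.algebraMap_eq]
    congr 1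
    refine Finsupp.prod_congr (fun i hi => ?_)
    rw [if_pos (h hi)]
  · obtain ⟨i, hi, hiJ⟩ := Finset.not_subset.1 h
    rw [Finsupp.prod, Finset.prod_eq_zero hi, mul_zero]
    rw [if_neg hiJ, zero_pow (Finsupp.mem_support_iff.1 hi)]

open scoped Classical in
theorem coeff_theta (J : Finset ι) (ν : ι →₀ ℕ) (p : MvPolynomial ι A) :
    MvPolynomial.coeff ν (theta J p) = if ν.support ⊆ J then MvPolynomial.coeff ν p else 0 := by
  induction p using MvPolynomial.induction_on' with
  | monomial l a =>
    rw [theta_monomial]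
    by_cases hl : l = ν
    · subst hl
      split_ifs <;> simp
    · split_ifs <;> simp [MvPolynomial.coeff_monomial, hl]
  | add p q hp hq =>
    rw [map_add, MvPolynomial.coeff_add, hp, hq, MvPolynomial.coeff_add]
    split_ifs <;> simp

variable {M : Type*} [AddCommGroup M] [Module A M]

open scoped Classical in
theorem cf_theta (J : Finset ι) (ν : ι →₀ ℕ) (y : MvPolynomial ι A ⊗[A] M) :
    cf ν ((theta J).toLinearMap.rTensor M y) = if ν.support ⊆ J then cf ν y else 0 := by
  induction y using TensorProduct.induction_on with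
  | zero => simp
  | tmul p c =>
    rw [LinearMap.rTensor_tmul, cf_tmul, AlgHom.toLinearMap_apply, coeff_theta]
    split_ifs <;> simp
  | add x y hx hy =>
    rw [map_add, map_add, hx, hy, map_add]
    split_ifs <;> simp

end Theta

section Homog

variable {A : Type u} [CommRing A] {ι : Type*}

/-- total degree of an exponent vector -/
def deg (ν : ι →₀ ℕ) : ℕ := ν.sum (fun _ k => k)

/-- scale all variables by a new variable -/
noncomputable def psi : MvPolynomial ι A →ₐ[A] Polynomial (MvPolynomial ι A) :=
  MvPolynomial.aeval (fun i => Polynomial.X * Polynomial.C (MvPolynomial.X i))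

theorem psi_monomial (ν : ι →₀ ℕ) (a : A) :
    psi (MvPolynomial.monomial ν a) =
      Polynomial.X ^ deg ν * Polynomial.C (MvPolynomial.monomial ν a) := by
  rw [psi, MvPolynomial.aeval_monomial]
  have h1 : (ν.prod fun i k => (Polynomial.X * Polynomial.C (MvPolynomial.X i :
      MvPolynomial ι A)) ^ k) =
      Polynomial.X ^ deg ν * Polynomial.C (ν.prod fun i k => (MvPolynomial.X i :
        MvPolynomial ι A) ^ k) := by
    simp only [mul_pow]
    rw [Finsupp.prod_mul, deg, Finsupp.sum, ← Finset.prod_pow_eq_pow_sum, Finsupp.prod,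
      Finsupp.prod]
    congr 1
    rw [Finsupp.prod, map_prod]
    simp only [map_pow]
  rw [h1, MvPolynomial.monomial_eq, Polynomial.algebraMap_apply, MvPolynomial.algebraMap_eq,
    map_mul]
  ring

/-- the functional "coefficient of `Xⁿ · x^ν`" -/
noncomputable def Phi (n : ℕ) (ν : ι →₀ ℕ) : Polynomial (MvPolynomial ι A) →ₗ[A] A :=
  (MvPolynomial.lcoeff A ν) ∘ₗ ((Polynomial.lcoeff (MvPolynomial ι A) n).restrictScalars A)

theorem Phi_apply (n : ℕ) (ν : ι →₀ ℕ) (q : Polynomial (MvPolynomial ι A)) :
    Phi n ν q = MvPolynomial.coeff ν (Polynomial.coeff q n) := rfl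

open scoped Classical in
theorem Phi_psi (n : ℕ) (ν : ι →₀ ℕ) (p : MvPolynomial ι A) :
    Phi n ν (psi p) = if deg ν = n then MvPolynomial.coeff ν p else 0 := by
  induction p using MvPolynomial.induction_on' with
  | monomial l a =>
    rw [psi_monomial, Phi_apply, Polynomial.coeff_X_pow_mul', Polynomial.coeff_C]
    by_cases hl : l = ν
    · subst hl
      by_cases hn : deg l = n
      · subst hn; simp
      · have : ¬ deg l ≤ n ∨ n - deg l ≠ 0 := by omega
        rcases this with h | h
        · simp [h, hn]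
        · simp [h, hn]
    · have h0 : MvPolynomial.coeff ν (MvPolynomial.monomial l a) = 0 := by
        rw [MvPolynomial.coeff_monomial, if_neg hl]
      split_ifs <;> simp [h0]
  | add p q hp hq =>
    rw [map_add, map_add, hp, hq, MvPolynomial.coeff_add]
    split_ifs <;> simp

open scoped Classical in
theorem Phi_X_pow_mul_C (n d : ℕ) (ν : ι →₀ ℕ) (p : MvPolynomial ι A) :
    Phi n ν (Polynomial.X ^ d * Polynomial.C p) =
      if d = n then MvPolynomial.coeff ν p else 0 := by
  rw [Phi_apply, Polynomial.coeff_X_pow_mul', Polynomial.coeff_C]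
  by_cases hn : d = n
  · subst hn; simp
  · have : ¬ d ≤ n ∨ n - d ≠ 0 := by omega
    rcases this with h | h
    · simp [h, hn]
    · simp [h, hn]

variable {M : Type*} [AddCommGroup M] [Module A M]

open scoped Classical in
theorem lid_Phi_psi (n : ℕ) (ν : ι →₀ ℕ) (y : MvPolynomial ι A ⊗[A] M) :
    TensorProduct.lid A M ((Phi n ν).rTensor M (psi.toLinearMap.rTensor M y)) =
      if deg ν = n then cf ν y else 0 := by
  induction y using TensorProduct.induction_on with
  | zero => simp
  | tmul p c =>
    rw [LinearMap.rTensor_tmul, LinearMap.rTensor_tmul, TensorProduct.lid_tmul,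
      AlgHom.toLinearMap_apply, Phi_psi, cf_tmul]
    split_ifs <;> simp
  | add x y hx hy =>
    rw [map_add, map_add, map_add, hx, hy, map_add]
    split_ifs <;> simp

open scoped Classical in
theorem lid_Phi_smul_C (n d : ℕ) (ν : ι →₀ ℕ) (y : MvPolynomial ι A ⊗[A] M) :
    TensorProduct.lid A M ((Phi n ν).rTensor M
      ((Polynomial.X ^ d : Polynomial (MvPolynomial ι A)) •
        (Polynomial.CAlgHom (R := A) (A := MvPolynomial ι A)).toLinearMap.rTensor M y)) =
      if d = n then cf ν y else 0 := by
  induction y using TensorProduct.induction_on with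
  | zero => simp
  | tmul p c =>
    rw [LinearMap.rTensor_tmul, TensorProduct.smul_tmul', LinearMap.rTensor_tmul,
      TensorProduct.lid_tmul, AlgHom.toLinearMap_apply, smul_eq_mul, Polynomial.CAlgHom_apply,
      Phi_X_pow_mul_C, cf_tmul]
    split_ifs <;> simp
  | add x y hx hy =>
    rw [map_add, smul_add, map_add, map_add, hx, hy, map_add]
    split_ifs <;> simp

end Homog

section Expand

variable {A : Type u} [CommRing A] {P M : Type u} [AddCommGroup P] [Module A P]
  [AddCommGroup M] [Module A M] {ι : Type u} (b : ι → P)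

/-- the generic element over a finite set of indices -/
noncomputable def gen (J : Finset ι) : MvPolynomial ι A ⊗[A] P :=
  ∑ i ∈ J, (MvPolynomial.X i : MvPolynomial ι A) ⊗ₜ[A] b i

theorem rTensor_theta_gen {J' J : Finset ι} (h : J' ⊆ J) :
    (theta (A := A) J').toLinearMap.rTensor P (gen b J) = gen b J' := by
  classical
  rw [gen, map_sum, gen]
  have h1 : ∀ i ∈ J, (theta (A := A) J').toLinearMap.rTensor P
      ((MvPolynomial.X i : MvPolynomial ι A) ⊗ₜ[A] b i) =
      if i ∈ J' then (MvPolynomial.X i : MvPolynomial ι A) ⊗ₜ[A] b i else 0 := by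
    intro i _
    rw [LinearMap.rTensor_tmul, AlgHom.toLinearMap_apply, theta_X]
    split_ifs <;> simp
  rw [Finset.sum_congr rfl h1, Finset.sum_ite_mem, Finset.inter_eq_right.mpr h]

/-- the coefficients of `F` at the generic element over `J` -/
noncomputable def cJ (F : P →ₚₗ[A] M) (J : Finset ι) (ν : ι →₀ ℕ) : M :=
  cf ν (F.toFun' (MvPolynomial ι A) (gen b J))

theorem rTensor_theta_toFun' (F : P →ₚₗ[A] M) {J' J : Finset ι} (h : J' ⊆ J) :
    (theta (A := A) J').toLinearMap.rTensor M (F.toFun' (MvPolynomial ι A) (gen b J)) =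
      F.toFun' (MvPolynomial ι A) (gen b J') := by
  have := congr_fun (F.isCompat' (theta (A := A) J')) (gen b J)
  simp only [Function.comp_apply] at this
  rw [this, rTensor_theta_gen b h]

theorem cJ_eq_zero_of_not_subset (F : P →ₚₗ[A] M) (J : Finset ι) (ν : ι →₀ ℕ)
    (h : ¬ ν.support ⊆ J) : cJ b F J ν = 0 := by
  classical
  have h1 := cf_theta (A := A) (M := M) J ν (F.toFun' (MvPolynomial ι A) (gen b J))
  rw [rTensor_theta_toFun' b F (Finset.Subset.refl J), if_neg h] at h1
  exact h1

theorem cJ_mono (F : P →ₚₗ[A] M) {J' J : Finset ι} (h : J' ⊆ J) (ν : ι →₀ ℕ)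
    (hν : ν.support ⊆ J') : cJ b F J ν = cJ b F J' ν := by
  classical
  have h1 := cf_theta (A := A) (M := M) J' ν (F.toFun' (MvPolynomial ι A) (gen b J))
  rw [rTensor_theta_toFun' b F h, if_pos hν] at h1
  exact h1.symm

theorem X_smul_C_gen (J : Finset ι) :
    (Polynomial.X : Polynomial (MvPolynomial ι A)) •
      (Polynomial.CAlgHom (R := A) (A := MvPolynomial ι A)).toLinearMap.rTensor P (gen b J) =
      (psi (A := A) (ι := ι)).toLinearMap.rTensor P (gen b J) := by
  rw [gen, map_sum, map_sum, Finset.smul_sum]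
  refine Finset.sum_congr rfl (fun i _ => ?_)
  rw [LinearMap.rTensor_tmul, LinearMap.rTensor_tmul, TensorProduct.smul_tmul',
    AlgHom.toLinearMap_apply, AlgHom.toLinearMap_apply, smul_eq_mul, Polynomial.CAlgHom_apply,
    psi, MvPolynomial.aeval_X]

theorem cJ_eq_zero_of_deg_ne (F : P →ₚₗ[A] M) {d : ℕ} (hF : IsHomog F d) (J : Finset ι)
    (ν : ι →₀ ℕ) (h : deg ν ≠ d) : cJ b F J ν = 0 := by
  classical
  set y := F.toFun' (MvPolynomial ι A) (gen b J) with hy
  have e1 := congr_fun (F.isCompat' (psi (A := A) (ι := ι))) (gen b J)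
  have e2 := congr_fun (F.isCompat'
    (Polynomial.CAlgHom (R := A) (A := MvPolynomial ι A))) (gen b J)
  simp only [Function.comp_apply] at e1 e2
  have e3 := hF (Polynomial (MvPolynomial ι A)) Polynomial.X
    ((Polynomial.CAlgHom (R := A) (A := MvPolynomial ι A)).toLinearMap.rTensor P (gen b J))
  rw [X_smul_C_gen, ← e1, ← e2, ← hy] at e3
  have h1 := lid_Phi_psi (A := A) (M := M) (deg ν) ν y
  rw [if_pos rfl, e3, lid_Phi_smul_C, if_neg (Ne.symm h)] at h1
  exact h1.symm

/-- the coefficients of a law with respect to the family `b` -/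
noncomputable def coeffB (F : P →ₚₗ[A] M) (μ : ι →₀ ℕ) : M := cJ b F μ.support μ

theorem rTensor_aeval_gen (S : Type u) [CommSemiring S] [Algebra A S] (s : ι → S)
    (J : Finset ι) :
    (MvPolynomial.aeval s : MvPolynomial ι A →ₐ[A] S).toLinearMap.rTensor P (gen b J) =
      ∑ i ∈ J, s i ⊗ₜ[A] b i := by
  rw [gen, map_sum]
  refine Finset.sum_congr rfl (fun i _ => ?_)
  rw [LinearMap.rTensor_tmul, AlgHom.toLinearMap_apply, MvPolynomial.aeval_X]

/-- **Expansion** of a homogeneous law on a finite combination of the family. -/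
theorem toFun'_sum_tmul [DecidableEq ι] (F : P →ₚₗ[A] M) {d : ℕ} (hF : IsHomog F d)
    (S : Type u) [CommSemiring S] [Algebra A S] (s : ι → S) (J : Finset ι) :
    F.toFun' S (∑ i ∈ J, s i ⊗ₜ[A] b i) =
      ∑ μ ∈ Finset.finsuppAntidiag J d, (μ.prod fun i k => s i ^ k) ⊗ₜ[A] coeffB b F μ := by
  have e1 := congr_fun (F.isCompat' (MvPolynomial.aeval s : MvPolynomial ι A →ₐ[A] S)) (gen b J)
  simp only [Function.comp_apply] at e1
  rw [rTensor_aeval_gen] at e1
  rw [← e1]
  obtain ⟨t, ht⟩ := exists_finset_expand (F.toFun' (MvPolynomial ι A) (gen b J))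
  have h2 := ht (t ∪ Finset.finsuppAntidiag J d) Finset.subset_union_left
  rw [h2, map_sum]
  rw [← Finset.sum_subset (Finset.subset_union_right (s₁ := t))]
  · refine Finset.sum_congr rfl (fun μ hμ => ?_)
    rw [Finset.mem_finsuppAntidiag] at hμ
    rw [LinearMap.rTensor_tmul, AlgHom.toLinearMap_apply, MvPolynomial.aeval_monomial, map_one,
      one_mul]
    congr 1
    exact cJ_mono b F hμ.2 μ (Finset.Subset.refl _)
  · intro μ _ hμ
    have : cf μ (F.toFun' (MvPolynomial ι A) (gen b J)) = 0 := by
      by_cases hs : μ.support ⊆ J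
      · apply cJ_eq_zero_of_deg_ne b F hF J μ
        intro hd
        apply hμ
        rw [Finset.mem_finsuppAntidiag]
        refine ⟨?_, hs⟩
        rw [← hd, deg, Finsupp.sum]
        exact (Finset.sum_subset hs (fun i _ hi => Finsupp.notMem_support_iff.1 hi)).symm
      · exact cJ_eq_zero_of_not_subset b F J μ hs
    rw [this, TensorProduct.tmul_zero, map_zero]

end Expand

end Groth.Agent.H74.LawBasis
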