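-- helper74: every homogeneous polynomial law of degree d on a free algebra factors through the
-- d-th tensor power law (the key step of "TS^d of a free algebra is its degree-d divided power algebra").
import Groth.Agent.H74.LawBasis
import Groth.Prelude.Def_PolLaw2
import Mathlib

set_option autoImplicit false
universe u

open scoped TensorProduct

namespace Groth.Agent.H74.TensorK

open PolLaw Groth.Agent.H74.GammaSpan Groth.Agent.H74.LawBasis

section Content

variable {d : ℕ} {ι : Type*}

/-- the content (multiset of values) of a `d`-tuple of indices, as a finitely supported function -/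
noncomputable def content (α : Fin d → ι) : ι →₀ ℕ := ∑ j, Finsupp.single (α j) 1

theorem content_prod {S : Type*} [CommMonoid S] (α : Fin d → ι) (s : ι → S) :
    ((content α).prod fun i k => s i ^ k) = ∏ j, s (α j) := by
  rw [content, ← Finsupp.prod_finsetSum_index (fun i => pow_zero _) (fun i k k' => pow_add _ _ _)]
  refine Finset.prod_congr rfl (fun j _ => ?_)
  rw [Finsupp.prod_single_index (h := fun i k => s i ^ k) (pow_zero _), pow_one]

theorem content_sum (α : Fin d → ι) : ((content α).sum fun _ k => k) = d := by
  rw [content, ← Finsupp.sum_finsetSum_index (fun i => rfl) (fun i k k' => rfl)]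
  simp

theorem support_content_subset [DecidableEq ι] (α : Fin d → ι) (J : Finset ι)
    (h : ∀ j, α j ∈ J) : (content α).support ⊆ J := by
  intro i hi
  rw [content] at hi
  obtain ⟨j, -, hj⟩ := Finset.mem_biUnion.1 (Finsupp.support_finsetSum hi)
  have : i = α j := by
    by_contra hne
    rw [Finsupp.mem_support_iff, Finsupp.single_apply, if_neg (Ne.symm hne)] at hj
    exact hj rfl
  rw [this]; exact h j

theorem mem_support_content (α : Fin d → ι) (j : Fin d) : α j ∈ (content α).support := by
  classical
  rw [Finsupp.mem_support_iff, content, Finsupp.finsetSum_apply]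
  have : (Finsupp.single (α j) 1 : ι →₀ ℕ) (α j) ≤ ∑ x, (Finsupp.single (α x) 1 : ι →₀ ℕ) (α j) :=
    Finset.single_le_sum (f := fun x => (Finsupp.single (α x) 1 : ι →₀ ℕ) (α j))
      (fun _ _ => Nat.zero_le _) (Finset.mem_univ j)
  rw [Finsupp.single_eq_same] at this
  omega

theorem content_mem_antidiag [DecidableEq ι] (α : Fin d → ι) (J : Finset ι)
    (h : ∀ j, α j ∈ J) : content α ∈ Finset.finsuppAntidiag J d := by
  rw [Finset.mem_finsuppAntidiag]
  refine ⟨?_, support_content_subset α J h⟩
  have h1 := content_sum α
  rw [Finsupp.sum] at h1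
  have h2 := Finset.sum_subset (support_content_subset α J h)
    (f := fun i => content α i) (fun i _ hi => Finsupp.notMem_support_iff.1 hi)
  exact h2.symm.trans h1

theorem exists_content_eq : ∀ (d : ℕ) (μ : ι →₀ ℕ), (μ.sum fun _ k => k) = d →
    ∃ α : Fin d → ι, content α = μ := by
  classical
  intro d
  induction d with
  | zero =>
    intro μ h
    refine ⟨Fin.elim0, ?_⟩
    rw [content, Finset.univ_eq_empty, Finset.sum_empty]
    ext i
    by_contra hne
    have hi : i ∈ μ.support := Finsupp.mem_support_iff.2 (Ne.symm hne)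
    have : μ i ≤ μ.sum fun _ k => k := Finset.single_le_sum (f := fun i => μ i)
      (fun _ _ => Nat.zero_le _) hi
    rw [h] at this
    exact hne (by simpa using (Nat.le_zero.1 this).symm)
  | succ d ih =>
    intro μ h
    have hne : μ.support.Nonempty := by
      by_contra hemp
      rw [Finset.not_nonempty_iff_eq_empty] at hemp
      rw [Finsupp.sum, hemp, Finset.sum_empty] at h
      omega
    obtain ⟨i, hi⟩ := hne
    have hμi : 1 ≤ μ i := Nat.one_le_iff_ne_zero.2 (Finsupp.mem_support_iff.1 hi)
    set μ' : ι →₀ ℕ := μ - Finsupp.single i 1 with hμ'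
    have hadd : μ = Finsupp.single i 1 + μ' := by
      ext k
      rw [Finsupp.add_apply, hμ', Finsupp.tsub_apply, Finsupp.single_apply]
      split_ifs with hk
      · subst hk; omega
      · omega
    have hsum : (μ'.sum fun _ k => k) = d := by
      have h2 : (μ.sum fun _ k => k) = ((Finsupp.single i 1 : ι →₀ ℕ).sum fun _ k => k) +
          (μ'.sum fun _ k => k) := by
        conv_lhs => rw [hadd]
        exact Finsupp.sum_add_index' (fun _ => rfl) (fun _ _ _ => rfl)
      rw [Finsupp.sum_single_index rfl] at h2
      omega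
    obtain ⟨α', hα'⟩ := ih μ' hsum
    refine ⟨Fin.cons i α', ?_⟩
    rw [content, Fin.sum_univ_succ, Fin.cons_zero]
    simp only [Fin.cons_succ]
    rw [hadd, ← hα', content]

theorem exists_of_mem_antidiag [DecidableEq ι] {J : Finset ι} {μ : ι →₀ ℕ}
    (hμ : μ ∈ Finset.finsuppAntidiag J d) : ∃ α : Fin d → ι, content α = μ := by
  refine exists_content_eq d μ ?_
  rw [Finset.mem_finsuppAntidiag] at hμ
  rw [Finsupp.sum, ← hμ.1]
  exact Finset.sum_subset hμ.2 (fun i _ hi => Finsupp.notMem_support_iff.1 hi)

/-- a chosen tuple with given content -/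
noncomputable def repOf (μ : ι →₀ ℕ) (h : ∃ α : Fin d → ι, content α = μ) : Fin d → ι :=
  Classical.choose h

theorem content_repOf (μ : ι →₀ ℕ) (h : ∃ α : Fin d → ι, content α = μ) :
    content (repOf μ h) = μ := Classical.choose_spec h

theorem repOf_congr {μ ν : ι →₀ ℕ} (e : μ = ν) (h : ∃ α : Fin d → ι, content α = μ)
    (h' : ∃ α : Fin d → ι, content α = ν) : repOf μ h = repOf ν h' := by
  subst e; rfl

/-- the chosen representative of the class of `α` -/
noncomputable def rep (α : Fin d → ι) : Fin d → ι := repOf (content α) ⟨α, rfl⟩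

theorem content_rep (α : Fin d → ι) : content (rep α) = content α := content_repOf _ _

theorem rep_congr {α β : Fin d → ι} (h : content α = content β) : rep α = rep β :=
  repOf_congr h _ _

theorem rep_rep (α : Fin d → ι) : rep (rep α) = rep α := rep_congr (content_rep α)

end Content

section K

variable {A : Type u} [CommRing A] {P : Type u} [CommRing P] [Algebra A P]
  {M : Type u} [AddCommGroup M] [Module A M] {ι : Type u} (d : ℕ)

theorem prod_tmul_prod {S T : Type u} [CommSemiring S] [Algebra A S]
    [CommRing T] [Algebra A T] {κ : Type} (t : Finset κ) (f : κ → S) (g : κ → T) :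
    ∏ j ∈ t, (f j ⊗ₜ[A] g j) = (∏ j ∈ t, f j) ⊗ₜ[A] (∏ j ∈ t, g j) := by
  classical
  induction t using Finset.induction_on with
  | empty => simp [Algebra.TensorProduct.one_def]
  | insert j s hj ih =>
    rw [Finset.prod_insert hj, Finset.prod_insert hj, Finset.prod_insert hj, ih,
      Algebra.TensorProduct.tmul_mul_tmul]

theorem tpowLaw_sum [DecidableEq ι] (S : Type u) [CommSemiring S] [Algebra A S] (s : ι → S)
    (J : Finset ι) (b : ι → P) :
    (SymTen.tpowLaw A P d).law.toFun' S (∑ i ∈ J, s i ⊗ₜ[A] b i) =
      ∑ α ∈ Fintype.piFinset (fun _ : Fin d => J),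
        (∏ j, s (α j)) ⊗ₜ[A] PiTensorProduct.tprod A (fun j => b (α j)) := by
  rw [SymTen.tpowLaw, PolLaw.MulLaw.prodMap_toFun']
  simp only [map_sum, Algebra.TensorProduct.map_tmul, AlgHom.id_apply]
  rw [Finset.prod_univ_sum]
  refine Finset.sum_congr rfl (fun α _ => ?_)
  rw [prod_tmul_prod]
  congr 1
  simp only [PiTensorProduct.singleAlgHom_apply, MonoidHom.mulSingle_apply]
  rw [← PiTensorProduct.tprod_prod]
  exact congrArg _ (Finset.univ_prod_mulSingle (fun j => b (α j)))

variable (bas : Module.Basis ι A P)

open scoped Classical in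
/-- the linear map on the tensor power attached to a law -/
noncomputable def Lmap (F : P →ₚₗ[A] M) : (⨂[A] _ : Fin d, P) →ₗ[A] M :=
  (Basis.piTensorProduct (fun _ : Fin d => bas)).constr A
    (fun α => if α = rep α then coeffB bas F (content α) else 0)

open scoped Classical in
theorem Lmap_tprod (F : P →ₚₗ[A] M) (α : Fin d → ι) :
    Lmap d bas F (PiTensorProduct.tprod A (fun j => bas (α j))) =
      if α = rep α then coeffB bas F (content α) else 0 := by
  have h := (Basis.piTensorProduct (fun _ : Fin d => bas)).constr_basis A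
    (fun α => if α = rep α then coeffB bas F (content α) else 0) α
  rw [Basis.piTensorProduct_apply] at h
  exact h

theorem key (F : P →ₚₗ[A] M) (hF : IsHomog F d) (S : Type u) [CommSemiring S] [Algebra A S]
    (s : ι → S) (J : Finset ι) :
    (Lmap d bas F).lTensor S ((SymTen.tpowLaw A P d).law.toFun' S (∑ i ∈ J, s i ⊗ₜ[A] bas i)) =
      F.toFun' S (∑ i ∈ J, s i ⊗ₜ[A] bas i) := by
  classical
  rw [tpowLaw_sum, map_sum, toFun'_sum_tmul bas F hF]
  have h1 : ∀ α ∈ Fintype.piFinset (fun _ : Fin d => J),
      (Lmap d bas F).lTensor S ((∏ j, s (α j)) ⊗ₜ[A] PiTensorProduct.tprod A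
        (fun j => bas (α j))) =
      if α = rep α then ((content α).prod fun i k => s i ^ k) ⊗ₜ[A] coeffB bas F (content α)
        else 0 := by
    intro α _
    rw [LinearMap.lTensor_tmul, Lmap_tprod, content_prod]
    split_ifs <;> simp
  rw [Finset.sum_congr rfl h1, ← Finset.sum_filter]
  refine Finset.sum_bij' (fun α _ => content α)
    (fun μ hμ => repOf μ (exists_of_mem_antidiag hμ)) ?_ ?_ ?_ ?_ ?_
  · intro α hα
    rw [Finset.mem_filter, Fintype.mem_piFinset] at hα
    exact content_mem_antidiag α J hα.1
  · intro μ hμ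
    rw [Finset.mem_filter, Fintype.mem_piFinset]
    have hc := content_repOf (d := d) μ (exists_of_mem_antidiag hμ)
    refine ⟨fun j => ?_, ?_⟩
    · have := mem_support_content (repOf (d := d) μ (exists_of_mem_antidiag hμ)) j
      rw [hc] at this
      exact (Finset.mem_finsuppAntidiag.1 hμ).2 this
    · rw [rep]
      exact repOf_congr hc.symm _ _
  · intro α hα
    rw [Finset.mem_filter] at hα
    conv_rhs => rw [hα.2]
    rfl
  · intro μ hμ
    exact content_repOf _ _
  · intro α hα
    rfl

theorem tmul_basis_expand (S : Type u) [CommSemiring S] [Algebra A S] (x : S ⊗[A] P) :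
    x = ∑ i ∈ ((Algebra.TensorProduct.basis S bas).repr x).support,
      ((Algebra.TensorProduct.basis S bas).repr x i) ⊗ₜ[A] bas i := by
  conv_lhs => rw [← (Algebra.TensorProduct.basis S bas).linearCombination_repr x,
    Finsupp.linearCombination_apply, Finsupp.sum]
  refine Finset.sum_congr rfl (fun i _ => ?_)
  rw [Algebra.TensorProduct.basis_apply, TensorProduct.smul_tmul', smul_eq_mul, mul_one]

/-- **Keystone**: a homogeneous law of degree `d` on a free algebra factors through the tensor
power law. -/
theorem postcomp_Lmap (F : P →ₚₗ[A] M) (hF : IsHomog F d) :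
    postcomp (Lmap d bas F) (SymTen.tpowLaw A P d).law = F := by
  refine PolynomialLaw.ext ?_
  funext S _ _ x
  rw [tmul_basis_expand bas S x]
  exact key d bas F hF S _ _

end K

end Groth.Agent.H74.TensorK
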