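-- helper74: Cayley–Hamilton for multiplicative polynomial laws (free case first).
import Groth.Agent.H74.TensorK
import Groth.Agent.H74.GammaInt
import Mathlib

set_option autoImplicit false
universe u

open scoped TensorProduct

namespace Groth.Agent.H74.CayleyHam

open PolLaw Groth.Agent.H74.GammaSpan Groth.Agent.H74.GammaInt Groth.Agent.H74.TensorK

section PolyExpand

variable {A : Type u} [CommRing A] {N : Type*} [AddCommGroup N] [Module A N]

/-- the `k`-th coefficient of an element of `A[t] ⊗ N` -/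
noncomputable def pcf (k : ℕ) : Polynomial A ⊗[A] N →ₗ[A] N :=
  (TensorProduct.lid A N).toLinearMap ∘ₗ (Polynomial.lcoeff A k).rTensor N

@[simp] theorem pcf_tmul (k : ℕ) (p : Polynomial A) (c : N) :
    pcf k (p ⊗ₜ[A] c) = Polynomial.coeff p k • c := by
  simp [pcf, Polynomial.lcoeff]

theorem exists_range_expand (y : Polynomial A ⊗[A] N) :
    ∃ n₀ : ℕ, ∀ n, n₀ ≤ n →
      y = ∑ k ∈ Finset.range n, (Polynomial.X ^ k : Polynomial A) ⊗ₜ[A] pcf k y := by
  induction y using TensorProduct.induction_on with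
  | zero => exact ⟨0, fun n _ => by simp⟩
  | tmul p c =>
    refine ⟨p.natDegree + 1, fun n hn => ?_⟩
    have h1 : ∀ k ∈ Finset.range n, (Polynomial.X ^ k : Polynomial A) ⊗ₜ[A] pcf k (p ⊗ₜ[A] c) =
        (Polynomial.C (p.coeff k) * Polynomial.X ^ k) ⊗ₜ[A] c := by
      intro k _
      rw [pcf_tmul, ← TensorProduct.smul_tmul, Polynomial.smul_eq_C_mul]
    rw [Finset.sum_congr rfl h1, ← TensorProduct.sum_tmul]
    congr 1
    exact Polynomial.as_sum_range_C_mul_X_pow' p (Nat.lt_of_succ_le hn)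
  | add x y hx hy =>
    obtain ⟨n₁, h₁⟩ := hx
    obtain ⟨n₂, h₂⟩ := hy
    refine ⟨max n₁ n₂, fun n hn => ?_⟩
    conv_lhs => rw [h₁ n (le_trans (le_max_left _ _) hn), h₂ n (le_trans (le_max_right _ _) hn)]
    rw [← Finset.sum_add_distrib]
    refine Finset.sum_congr rfl (fun k _ => ?_)
    rw [map_add, TensorProduct.tmul_add]

theorem coeff_rid_lTensor {T : Type*} [AddCommGroup T] [Module A T] (L : T →ₗ[A] A) (k : ℕ)
    (y : Polynomial A ⊗[A] T) :
    Polynomial.coeff (TensorProduct.rid A (Polynomial A) (L.lTensor (Polynomial A) y)) k =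
      L (pcf k y) := by
  induction y using TensorProduct.induction_on with
  | zero => simp
  | tmul p c => simp [mul_comm]
  | add x y hx hy => simp only [map_add, Polynomial.coeff_add, hx, hy]

end PolyExpand

section Mult

variable {A : Type u} [CommRing A] {P : Type u} [CommRing P] [Algebra A P]
  {T : Type u} [CommRing T] [Algebra A T] {d : ℕ}

/-- a linear map through which a multiplicative law factors is multiplicative on the span of the
coefficients -/
theorem L_mul (τ : MulLaw A P T d) (F : MulLaw A P A d) (L : T →ₗ[A] A)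
    (hL : postcomp L τ.law = F.law) {c c' : T} (hc : c ∈ coefSpan τ.law)
    (hc' : c' ∈ coefSpan τ.law) : L (c * c') = L c * L c' := by
  have h0 : ∀ a ∈ coefSet τ.law, ∀ a' ∈ coefSet τ.law, L (a * a') = L a * L a' := by
    rintro _ ⟨S, _, _, ℓ, x, rfl⟩ _ ⟨S', _, _, ℓ', x', rfl⟩
    rw [coef_mul τ.law τ.mult, ← coef_postcomp, ← coef_postcomp, ← coef_postcomp, hL,
      coef_mul F.law F.mult]
  have h1 : ∀ a ∈ coefSet τ.law, ∀ a' ∈ coefSpan τ.law, L (a * a') = L a * L a' := by
    intro a ha a' ha'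
    induction ha' using Submodule.span_induction with
    | mem y hy => exact h0 a ha y hy
    | zero => simp
    | add y z _ _ hy hz => rw [mul_add, map_add, hy, hz, map_add, mul_add]
    | smul r y _ hy => rw [mul_smul_comm, map_smul, hy, map_smul, smul_eq_mul, smul_eq_mul]; ring
  induction hc using Submodule.span_induction with
  | mem y hy => exact h1 y hy c' hc'
  | zero => simp
  | add y z _ _ hy hz => rw [add_mul, map_add, hy, hz, map_add, add_mul]
  | smul r y _ hy => rw [smul_mul_assoc, map_smul, hy, map_smul, smul_eq_mul, smul_eq_mul]; ring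

end Mult

section Root

variable (A : Type u) [CommRing A] {P : Type u} [CommRing P] [Algebra A P] (d : ℕ)

/-- the generic element `b - t` -/
noncomputable def u₀ (b : P) : Polynomial A ⊗[A] P :=
  (1 : Polynomial A) ⊗ₜ[A] b - Polynomial.X ⊗ₜ[A] (1 : P)

/-- the coefficients of `∏ⱼ (bⱼ - t)` in the tensor power -/
noncomputable def ecoef (b : P) (k : ℕ) : ⨂[A] _ : Fin d, P :=
  pcf k ((SymTen.tpowLaw A P d).law.toFun' (Polynomial A) (u₀ A b))

theorem ecoef_mem (b : P) (k : ℕ) : ecoef A d b k ∈ coefSpan (SymTen.tpowLaw A P d).law :=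
  coef_mem_coefSpan _ (Polynomial A) (Polynomial.lcoeff A k) (u₀ A b)

/-- evaluation `t ↦ bⱼ` -/
noncomputable def evj (b : P) (j : Fin d) :
    Polynomial A ⊗[A] (⨂[A] _ : Fin d, P) →ₐ[A] (⨂[A] _ : Fin d, P) :=
  Algebra.TensorProduct.lift
    (Polynomial.aeval (PiTensorProduct.singleAlgHom (R := A) (A := fun _ : Fin d => P) j b))
    (AlgHom.id A _) (fun _ _ => Commute.all _ _)

theorem evj_tpow (b : P) (j : Fin d) :
    evj A d b j ((SymTen.tpowLaw A P d).law.toFun' (Polynomial A) (u₀ A b)) = 0 := by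
  rw [SymTen.tpowLaw, PolLaw.MulLaw.prodMap_toFun', map_prod]
  apply Finset.prod_eq_zero (Finset.mem_univ j)
  rw [u₀, map_sub, Algebra.TensorProduct.map_tmul, Algebra.TensorProduct.map_tmul, map_sub, evj,
    Algebra.TensorProduct.lift_tmul, Algebra.TensorProduct.lift_tmul]
  simp

theorem sum_ecoef_mul_pow (b : P) :
    ∃ n₀ : ℕ, ∀ n, n₀ ≤ n → ∀ j : Fin d,
      ∑ k ∈ Finset.range n, ecoef A d b k *
        (PiTensorProduct.singleAlgHom (R := A) (A := fun _ : Fin d => P) j b) ^ k = 0 := by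
  obtain ⟨n₀, h⟩ := exists_range_expand
    ((SymTen.tpowLaw A P d).law.toFun' (Polynomial A) (u₀ A b))
  refine ⟨n₀, fun n hn j => ?_⟩
  have h1 := evj_tpow A d b j
  rw [h n hn, map_sum] at h1
  rw [← h1]
  refine Finset.sum_congr rfl (fun k _ => ?_)
  rw [evj, Algebra.TensorProduct.lift_tmul, map_pow, Polynomial.aeval_X, AlgHom.id_apply, mul_comm]
  rfl

end Root

section Main

variable {A : Type u} [CommRing A] {P : Type u} [CommRing P] [Algebra A P] {d : ℕ}
  (F : MulLaw A P A d) (L : (⨂[A] _ : Fin d, P) →ₗ[A] A)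
  (b : P) (n N : ℕ)

/-- `uᵢ ↦ uᵢ ⊗ 1`, `vₖ ↦ 1 ⊗ eₖ` -/
noncomputable def fE : MvPolynomial (Fin n ⊕ Fin N) A →ₐ[A]
    MvPolynomial (Fin n) A ⊗[A] (⨂[A] _ : Fin d, P) :=
  MvPolynomial.aeval (Sum.elim
    (fun i => (MvPolynomial.X i : MvPolynomial (Fin n) A) ⊗ₜ[A] (1 : ⨂[A] _ : Fin d, P))
    (fun k : Fin N => (1 : MvPolynomial (Fin n) A) ⊗ₜ[A] ecoef A d b k))

/-- evaluation of the `v`-variables at the `eₖ` -/
noncomputable def E : MvPolynomial (Fin n ⊕ Fin N) A ⊗[A] (⨂[A] _ : Fin d, P) →ₐ[A]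
    MvPolynomial (Fin n) A ⊗[A] (⨂[A] _ : Fin d, P) :=
  Algebra.TensorProduct.lift (fE (A := A) (d := d) b n N) Algebra.TensorProduct.includeRight
    (fun _ _ => Commute.all _ _)

/-- evaluation of the `v`-variables at the `L eₖ` -/
noncomputable def sigA : MvPolynomial (Fin n ⊕ Fin N) A →ₐ[A] MvPolynomial (Fin n) A :=
  MvPolynomial.aeval (Sum.elim MvPolynomial.X
    (fun k : Fin N => MvPolynomial.C (L (ecoef A d b k))))

/-- the inclusion of the `u`-variables -/
noncomputable def incl : MvPolynomial (Fin n) A →ₐ[A] MvPolynomial (Fin n ⊕ Fin N) A :=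
  MvPolynomial.rename Sum.inl

theorem lTensor_tmul_one_mul (s : MvPolynomial (Fin n) A)
    (y : MvPolynomial (Fin n) A ⊗[A] (⨂[A] _ : Fin d, P)) :
    L.lTensor (MvPolynomial (Fin n) A) ((s ⊗ₜ[A] 1) * y) =
      (s ⊗ₜ[A] (1 : A)) * L.lTensor (MvPolynomial (Fin n) A) y := by
  induction y using TensorProduct.induction_on with
  | zero => simp
  | tmul a c =>
    rw [Algebra.TensorProduct.tmul_mul_tmul, LinearMap.lTensor_tmul, LinearMap.lTensor_tmul,
      Algebra.TensorProduct.tmul_mul_tmul, one_mul, one_mul]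
  | add x y hx hy => rw [mul_add, map_add, hx, hy, map_add, mul_add]

variable (hL : postcomp L (SymTen.tpowLaw A P d).law = F.law)

include hL in
theorem EL_term (p : MvPolynomial (Fin n ⊕ Fin N) A) :
    ∀ c ∈ coefSpan (SymTen.tpowLaw A P d).law,
      L.lTensor (MvPolynomial (Fin n) A) (fE (A := A) (d := d) b n N p * ((1 : MvPolynomial (Fin n) A) ⊗ₜ[A] c)) =
        (sigA L b n N p) ⊗ₜ[A] L c := by
  induction p using MvPolynomial.induction_on with
  | C a =>
    intro c _
    rw [← MvPolynomial.algebraMap_eq, AlgHom.commutes, AlgHom.commutes, ← Algebra.smul_def,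
      map_smul, LinearMap.lTensor_tmul, Algebra.algebraMap_eq_smul_one, TensorProduct.smul_tmul']
  | add p q hp hq =>
    intro c hc
    rw [map_add, add_mul, map_add, hp c hc, hq c hc, map_add, TensorProduct.add_tmul]
  | mul_X p x hp =>
    intro c hc
    rcases x with i | k
    · have h1 : fE (A := A) (d := d) b n N (p * MvPolynomial.X (Sum.inl i)) *
          ((1 : MvPolynomial (Fin n) A) ⊗ₜ[A] c) =
          ((MvPolynomial.X i : MvPolynomial (Fin n) A) ⊗ₜ[A] (1 : ⨂[A] _ : Fin d, P)) *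
            (fE (A := A) (d := d) b n N p * ((1 : MvPolynomial (Fin n) A) ⊗ₜ[A] c)) := by
        rw [map_mul, fE, MvPolynomial.aeval_X, Sum.elim_inl]
        ring
      rw [h1, lTensor_tmul_one_mul, hp c hc, Algebra.TensorProduct.tmul_mul_tmul, one_mul,
        map_mul, sigA, MvPolynomial.aeval_X, Sum.elim_inl, mul_comm]
    · have h1 : fE (A := A) (d := d) b n N (p * MvPolynomial.X (Sum.inr k)) *
          ((1 : MvPolynomial (Fin n) A) ⊗ₜ[A] c) =
          fE (A := A) (d := d) b n N p * ((1 : MvPolynomial (Fin n) A) ⊗ₜ[A] (ecoef A d b k * c)) := by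
        rw [map_mul, fE, MvPolynomial.aeval_X, Sum.elim_inr, mul_assoc,
          Algebra.TensorProduct.tmul_mul_tmul, one_mul]
      rw [h1, hp _ (mul_mem_coefSpan _ (SymTen.tpowLaw A P d).mult (ecoef_mem A d b k) hc),
        L_mul (SymTen.tpowLaw A P d) F L hL (ecoef_mem A d b k) hc, map_mul, sigA,
        MvPolynomial.aeval_X, Sum.elim_inr, mul_comm _ (MvPolynomial.C _),
        ← MvPolynomial.smul_eq_C_mul, TensorProduct.smul_tmul, smul_eq_mul]

include hL in
theorem EL (y : MvPolynomial (Fin n ⊕ Fin N) A ⊗[A] (⨂[A] _ : Fin d, P))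
    (hy : ∀ ν, cf ν y ∈ coefSpan (SymTen.tpowLaw A P d).law) :
    L.lTensor (MvPolynomial (Fin n) A) (E (A := A) (d := d) b n N y) =
      (sigA L b n N).toLinearMap.rTensor A (L.lTensor (MvPolynomial (Fin n ⊕ Fin N) A) y) := by
  obtain ⟨t, ht⟩ := exists_finset_expand y
  rw [ht t (Finset.Subset.refl t)]
  simp only [map_sum]
  refine Finset.sum_congr rfl (fun ν _ => ?_)
  rw [E, Algebra.TensorProduct.lift_tmul, Algebra.TensorProduct.includeRight_apply,
    EL_term F L b n N hL _ _ (hy ν), LinearMap.lTensor_tmul, LinearMap.rTensor_tmul,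
    AlgHom.toLinearMap_apply]

theorem fE_incl (s : MvPolynomial (Fin n) A) :
    fE (A := A) (d := d) b n N (incl n N s) = s ⊗ₜ[A] 1 := by
  have h : (fE (A := A) (d := d) b n N).comp (incl n N) = Algebra.TensorProduct.includeLeft := by
    apply MvPolynomial.algHom_ext
    intro i
    rw [AlgHom.comp_apply, incl, MvPolynomial.rename_X, fE, MvPolynomial.aeval_X, Sum.elim_inl]
    rfl
  have := congrArg (fun g => g s) h
  simpa using this

/-- the `j`-th coordinate map followed by the evaluation -/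
noncomputable def Ej (j : Fin d) : MvPolynomial (Fin n ⊕ Fin N) A ⊗[A] P →ₐ[A]
    MvPolynomial (Fin n) A ⊗[A] (⨂[A] _ : Fin d, P) :=
  (E (A := A) (d := d) b n N).comp
    ((Algebra.TensorProduct.map (AlgHom.id (MvPolynomial (Fin n ⊕ Fin N) A)
        (MvPolynomial (Fin n ⊕ Fin N) A))
      (PiTensorProduct.singleAlgHom (R := A) (A := fun _ : Fin d => P) j)).restrictScalars A)

theorem Ej_tmul (j : Fin d) (p : MvPolynomial (Fin n ⊕ Fin N) A) (q : P) :
    Ej (A := A) (d := d) b n N j (p ⊗ₜ[A] q) =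
      fE (A := A) (d := d) b n N p * ((1 : MvPolynomial (Fin n) A) ⊗ₜ[A]
        PiTensorProduct.singleAlgHom (R := A) (A := fun _ : Fin d => P) j q) := by
  rw [Ej, AlgHom.comp_apply, AlgHom.restrictScalars_apply, Algebra.TensorProduct.map_tmul,
    AlgHom.id_apply, E, Algebra.TensorProduct.lift_tmul, Algebra.TensorProduct.includeRight_apply]

theorem Ej_incl (j : Fin d) (z : MvPolynomial (Fin n) A ⊗[A] P) :
    Ej (A := A) (d := d) b n N j ((incl n N).toLinearMap.rTensor P z) =
      Algebra.TensorProduct.map (AlgHom.id (MvPolynomial (Fin n) A) (MvPolynomial (Fin n) A))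
        (PiTensorProduct.singleAlgHom (R := A) (A := fun _ : Fin d => P) j) z := by
  induction z using TensorProduct.induction_on with
  | zero => simp
  | tmul s q =>
    rw [LinearMap.rTensor_tmul, AlgHom.toLinearMap_apply, Ej_tmul, fE_incl,
      Algebra.TensorProduct.tmul_mul_tmul, mul_one, one_mul, Algebra.TensorProduct.map_tmul,
      AlgHom.id_apply]
  | add x y hx hy => rw [map_add, map_add, hx, hy, map_add]

/-- the generic perturbation -/
noncomputable def gen (z w : MvPolynomial (Fin n) A ⊗[A] P) :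
    MvPolynomial (Fin n ⊕ Fin N) A ⊗[A] P :=
  (incl n N).toLinearMap.rTensor P z + (incl n N).toLinearMap.rTensor P w *
    ∑ k : Fin N, (MvPolynomial.X (Sum.inr k) : MvPolynomial (Fin n ⊕ Fin N) A) ⊗ₜ[A] (b ^ (k : ℕ))

theorem Ej_gen (j : Fin d) (z w : MvPolynomial (Fin n) A ⊗[A] P)
    (hN : ∑ k ∈ Finset.range N, ecoef A d b k *
        (PiTensorProduct.singleAlgHom (R := A) (A := fun _ : Fin d => P) j b) ^ k = 0) :
    Ej (A := A) (d := d) b n N j (gen b n N z w) =
      Algebra.TensorProduct.map (AlgHom.id (MvPolynomial (Fin n) A) (MvPolynomial (Fin n) A))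
        (PiTensorProduct.singleAlgHom (R := A) (A := fun _ : Fin d => P) j) z := by
  rw [gen, map_add, map_mul, Ej_incl, map_sum]
  have h1 : ∀ k : Fin N, Ej (A := A) (d := d) b n N j
      ((MvPolynomial.X (Sum.inr k) : MvPolynomial (Fin n ⊕ Fin N) A) ⊗ₜ[A] (b ^ (k : ℕ))) =
      (1 : MvPolynomial (Fin n) A) ⊗ₜ[A] (ecoef A d b k *
        (PiTensorProduct.singleAlgHom (R := A) (A := fun _ : Fin d => P) j b) ^ (k : ℕ)) := by
    intro k
    have h2 := Ej_tmul (A := A) (d := d) b n N j (MvPolynomial.X (Sum.inr k)) (b ^ (k : ℕ))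
    rw [h2, fE, MvPolynomial.aeval_X, Sum.elim_inr, Algebra.TensorProduct.tmul_mul_tmul,
      one_mul, map_pow]
  rw [Finset.sum_congr rfl (fun k _ => h1 k), ← TensorProduct.tmul_sum,
    Fin.sum_univ_eq_sum_range (fun k => ecoef A d b k *
      (PiTensorProduct.singleAlgHom (R := A) (A := fun _ : Fin d => P) j b) ^ k) N, hN,
    TensorProduct.tmul_zero, mul_zero, add_zero]

theorem E_tpow_gen (z w : MvPolynomial (Fin n) A ⊗[A] P)
    (hN : ∀ j : Fin d, ∑ k ∈ Finset.range N, ecoef A d b k *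
        (PiTensorProduct.singleAlgHom (R := A) (A := fun _ : Fin d => P) j b) ^ k = 0) :
    E (A := A) (d := d) b n N ((SymTen.tpowLaw A P d).law.toFun' _ (gen b n N z w)) =
      (SymTen.tpowLaw A P d).law.toFun' _ z := by
  rw [SymTen.tpowLaw, PolLaw.MulLaw.prodMap_toFun', PolLaw.MulLaw.prodMap_toFun', map_prod]
  refine Finset.prod_congr rfl (fun j _ => ?_)
  exact Ej_gen b n N j z w (hN j)

theorem sigA_incl : (sigA L b n N).comp (incl n N) = AlgHom.id A _ := by
  apply MvPolynomial.algHom_ext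
  intro i
  rw [AlgHom.comp_apply, incl, MvPolynomial.rename_X, sigA, MvPolynomial.aeval_X, Sum.elim_inl]
  rfl

theorem rTensor_sigA_incl (z : MvPolynomial (Fin n) A ⊗[A] P) :
    (sigA L b n N).toLinearMap.rTensor P ((incl n N).toLinearMap.rTensor P z) = z := by
  rw [← LinearMap.comp_apply, ← LinearMap.rTensor_comp, ← AlgHom.comp_toLinearMap, sigA_incl]
  simp

theorem rTensor_sigA_gen (z w : MvPolynomial (Fin n) A ⊗[A] P) :
    (sigA L b n N).toLinearMap.rTensor P (gen b n N z w) =
      z + w * ((1 : MvPolynomial (Fin n) A) ⊗ₜ[A]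
        ∑ k : Fin N, L (ecoef A d b k) • b ^ (k : ℕ)) := by
  rw [gen, map_add, PolLaw.rTensor_algHom_apply (sigA L b n N) (_ * _), map_mul,
    ← PolLaw.rTensor_algHom_apply, ← PolLaw.rTensor_algHom_apply, rTensor_sigA_incl,
    rTensor_sigA_incl, map_sum, TensorProduct.tmul_sum]
  congr 2
  refine Finset.sum_congr rfl (fun k _ => ?_)
  rw [LinearMap.rTensor_tmul, AlgHom.toLinearMap_apply, sigA, MvPolynomial.aeval_X, Sum.elim_inr,
    ← MvPolynomial.algebraMap_eq, Algebra.algebraMap_eq_smul_one, TensorProduct.smul_tmul]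

include hL in
/-- Cayley–Hamilton over polynomial test rings. -/
theorem CH_poly (z w : MvPolynomial (Fin n) A ⊗[A] P)
    (hN : ∀ j : Fin d, ∑ k ∈ Finset.range N, ecoef A d b k *
        (PiTensorProduct.singleAlgHom (R := A) (A := fun _ : Fin d => P) j b) ^ k = 0) :
    F.law.toFun' (MvPolynomial (Fin n) A) (z + w * ((1 : MvPolynomial (Fin n) A) ⊗ₜ[A]
        ∑ k : Fin N, L (ecoef A d b k) • b ^ (k : ℕ))) =
      F.law.toFun' (MvPolynomial (Fin n) A) z := by
  rw [← rTensor_sigA_gen L b n N z w]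
  have hc := congr_fun (F.law.isCompat' (sigA L b n N)) (gen b n N z w)
  simp only [Function.comp_apply] at hc
  rw [← hc, ← hL]
  show (sigA L b n N).toLinearMap.rTensor A (L.lTensor _
      ((SymTen.tpowLaw A P d).law.toFun' _ (gen b n N z w))) =
    L.lTensor _ ((SymTen.tpowLaw A P d).law.toFun' _ z)
  rw [← EL F L b n N hL, E_tpow_gen b n N z w hN]
  intro ν
  exact coef_mem_coefSpan _ _ (MvPolynomial.lcoeff A ν) _

end Main

section Final

variable {A : Type u} [CommRing A] {d : ℕ}

/-- the characteristic polynomial of `b` with respect to the multiplicative law `F` -/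
noncomputable def charpoly {B : Type u} [CommRing B] [Algebra A B] (F : MulLaw A B A d) (b : B) :
    Polynomial A :=
  TensorProduct.rid A (Polynomial A) (F.law.toFun' (Polynomial A) (u₀ A b))

theorem coeff_charpoly {P : Type u} [CommRing P] [Algebra A P] (F : MulLaw A P A d)
    (L : (⨂[A] _ : Fin d, P) →ₗ[A] A)
    (hL : postcomp L (SymTen.tpowLaw A P d).law = F.law) (b : P) (k : ℕ) :
    (charpoly F b).coeff k = L (ecoef A d b k) := by
  rw [charpoly, ← hL]
  exact coeff_rid_lTensor L k _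

theorem rTensor_add_mul_tmul {B : Type u} [CommRing B] [Algebra A B] {S S' : Type u}
    [CommSemiring S] [Algebra A S] [CommSemiring S'] [Algebra A S'] (ψ : S →ₐ[A] S')
    (p q : S ⊗[A] B) (r : B) :
    ψ.toLinearMap.rTensor B (p + q * ((1 : S) ⊗ₜ[A] r)) =
      ψ.toLinearMap.rTensor B p + ψ.toLinearMap.rTensor B q * ((1 : S') ⊗ₜ[A] r) := by
  rw [map_add, PolLaw.rTensor_algHom_apply ψ (q * _), map_mul, ← PolLaw.rTensor_algHom_apply,
    Algebra.TensorProduct.map_tmul, map_one, AlgHom.id_apply]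

/-- **Cayley–Hamilton** for a multiplicative law on an algebra which is free as a module. -/
theorem CH_free {P : Type u} [CommRing P] [Algebra A P] {ι : Type u} (bas : Module.Basis ι A P)
    (F : MulLaw A P A d) (b : P) : Polynomial.aeval b (charpoly F b) ∈ ker F.law := by
  set L := Lmap d bas F.law with hLdef
  have hL : postcomp L (SymTen.tpowLaw A P d).law = F.law := postcomp_Lmap d bas F.law F.homog
  obtain ⟨n₀, hn₀⟩ := sum_ecoef_mul_pow A d b
  set N := max n₀ ((charpoly F b).natDegree + 1) with hN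
  have hr : Polynomial.aeval b (charpoly F b) = ∑ k : Fin N, L (ecoef A d b k) • b ^ (k : ℕ) := by
    rw [Polynomial.aeval_eq_sum_range' (n := N) (by omega),
      Fin.sum_univ_eq_sum_range (fun k => L (ecoef A d b k) • b ^ k) N]
    refine Finset.sum_congr rfl (fun k _ => ?_)
    rw [coeff_charpoly F L hL]
  intro S _ _ x w
  obtain ⟨n, ψ, p, q, rfl, rfl⟩ := exists_lift_pair x w
  rw [← rTensor_add_mul_tmul]
  have hc := fun y => congr_fun (F.law.isCompat' ψ) y
  simp only [Function.comp_apply] at hc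
  rw [← hc, ← hc, hr, CH_poly F L b n N hL p q (fun j => hn₀ N (le_max_left _ _) j)]

theorem u₀_map {B B' : Type u} [CommRing B] [Algebra A B] [CommRing B'] [Algebra A B']
    (φ : B' →ₐ[A] B) (b' : B') :
    φ.toLinearMap.lTensor (Polynomial A) (u₀ A b') = u₀ A (φ b') := by
  rw [u₀, u₀, map_sub, LinearMap.lTensor_tmul, LinearMap.lTensor_tmul, AlgHom.toLinearMap_apply,
    AlgHom.toLinearMap_apply, map_one]

/-- **Cayley–Hamilton** for a multiplicative law: `χ_b(b)` lies in the kernel of the law. -/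
theorem CH {B : Type u} [CommRing B] [Algebra A B] (F : MulLaw A B A d) (b : B) :
    Polynomial.aeval b (charpoly F b) ∈ ker F.law := by
  let φ : MvPolynomial B A →ₐ[A] B := MvPolynomial.aeval id
  have hφ : Function.Surjective φ := fun y => ⟨MvPolynomial.X y, by simp [φ]⟩
  set F' := F.precomp φ with hF'
  have hχ : charpoly F' (MvPolynomial.X b) = charpoly F b := by
    rw [charpoly, charpoly]
    congr 1
    show F.law.toFun' _ (φ.toLinearMap.lTensor _ (u₀ A (MvPolynomial.X b))) = _
    rw [u₀_map]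
    simp [φ]
  have h1 := CH_free (MvPolynomial.basisMonomials B A) F' (MvPolynomial.X b)
  rw [hχ] at h1
  have hr : φ (Polynomial.aeval (MvPolynomial.X b : MvPolynomial B A) (charpoly F b)) =
      Polynomial.aeval b (charpoly F b) := by
    rw [← Polynomial.aeval_algHom_apply]
    simp [φ]
  intro S _ _ x w
  have hφ' : Function.Surjective φ.toLinearMap := hφ
  obtain ⟨x', rfl⟩ := LinearMap.lTensor_surjective S hφ' x
  obtain ⟨w', rfl⟩ := LinearMap.lTensor_surjective S hφ' w
  have h2 := h1 S x' w'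
  have h3 : φ.toLinearMap.lTensor S (x' + w' * ((1 : S) ⊗ₜ[A]
      Polynomial.aeval (MvPolynomial.X b : MvPolynomial B A) (charpoly F b))) =
      φ.toLinearMap.lTensor S x' + φ.toLinearMap.lTensor S w' *
        ((1 : S) ⊗ₜ[A] Polynomial.aeval b (charpoly F b)) := by
    rw [map_add, lTensor_algHom_apply φ S (w' * _), map_mul, ← lTensor_algHom_apply,
      Algebra.TensorProduct.map_tmul, AlgHom.id_apply, hr]
  rw [← h3]
  exact h2

end Final

end Groth.Agent.H74.CayleyHam
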