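import Mathlib
import Groth.Prelude.Def_PolLaw
import Groth.Agent.H76.PolLawBC

/-!
# Helper library (helper74): base change of a multiplicative law `B → A` along `A → R`

`bc R F : MulLaw R (R ⊗[A] B) R d`, with `ker (bc R F).law = kerBC F.law R`.
-/

set_option autoImplicit false
set_option linter.style.haveILetI false
universe u
open scoped TensorProduct
open PolLaw

namespace Groth.Agent.H74.LawBC

variable {A : Type u} [CommRing A] {B : Type u} [CommRing B] [Algebra A B]
variable (R : Type u) [CommRing R] [Algebra A R]

section Fun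

variable (f : B →ₚₗ[A] A) (S : Type u) [CommSemiring S] [Algebra R S] [Algebra A S]
  [IsScalarTower A R S]

/-- the member over `S` of the base-changed law, for explicit compatible instances -/
noncomputable def bcFun : S ⊗[R] (R ⊗[A] B) → S ⊗[R] R := fun x =>
  (Algebra.TensorProduct.rid R S S).symm
    (Algebra.TensorProduct.rid A S S
      (f.toFun' S (Algebra.TensorProduct.cancelBaseChange A R S S B x)))

theorem bcFun_def (x : S ⊗[R] (R ⊗[A] B)) : bcFun R f S x =
    (Algebra.TensorProduct.rid R S S).symm
      (Algebra.TensorProduct.rid A S S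
        (f.toFun' S (Algebra.TensorProduct.cancelBaseChange A R S S B x))) := rfl

variable {S}

theorem bcFun_smul {d : ℕ} (hf : IsHomog f d) (s : S) (x : S ⊗[R] (R ⊗[A] B)) :
    bcFun R f S (s • x) = s ^ d • bcFun R f S x := by
  rw [bcFun_def, bcFun_def, map_smul, hf S, map_smul, map_smul]

theorem bcFun_one (hf : IsMult f) : bcFun R f S 1 = 1 := by
  rw [bcFun_def, map_one, (hf S).1, map_one, map_one]

theorem bcFun_mul (hf : IsMult f) (x y : S ⊗[R] (R ⊗[A] B)) :
    bcFun R f S (x * y) = bcFun R f S x * bcFun R f S y := by
  rw [bcFun_def, bcFun_def, bcFun_def, map_mul, (hf S).2, map_mul, map_mul]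

end Fun


section Compat

variable (f : B →ₚₗ[A] A) {S S' : Type u} [CommSemiring S] [Algebra R S] [Algebra A S]
  [IsScalarTower A R S] [CommSemiring S'] [Algebra R S'] [Algebra A S'] [IsScalarTower A R S']

theorem cancel_rTensor (φ : S →ₐ[R] S') (x : S ⊗[R] (R ⊗[A] B)) :
    Algebra.TensorProduct.cancelBaseChange A R S' S' B (φ.toLinearMap.rTensor (R ⊗[A] B) x) =
      (φ.restrictScalars A).toLinearMap.rTensor B
        (Algebra.TensorProduct.cancelBaseChange A R S S B x) := by
  induction x using TensorProduct.induction_on with
  | zero => simp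
  | tmul s y =>
    induction y using TensorProduct.induction_on with
    | zero => simp
    | tmul r b => simp
    | add y y' h h' => simp only [TensorProduct.tmul_add, map_add, h, h']
  | add x x' h h' => simp only [map_add, h, h']

theorem rid_rTensorA (φ : S →ₐ[R] S') (y : S ⊗[A] A) :
    Algebra.TensorProduct.rid A S' S' ((φ.restrictScalars A).toLinearMap.rTensor A y) =
      φ (Algebra.TensorProduct.rid A S S y) := by
  induction y using TensorProduct.induction_on with
  | zero => simp
  | tmul s a =>
    simp
    exact (map_smul (φ.restrictScalars A) a s).symm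
  | add y y' h h' => simp only [map_add, h, h']

theorem rid_symm_rTensor (φ : S →ₐ[R] S') (s : S) :
    φ.toLinearMap.rTensor R ((Algebra.TensorProduct.rid R S S).symm s) =
      (Algebra.TensorProduct.rid R S' S').symm (φ s) := by
  simp

theorem bcFun_compat (φ : S →ₐ[R] S') (x : S ⊗[R] (R ⊗[A] B)) :
    φ.toLinearMap.rTensor R (bcFun R f S x) =
      bcFun R f S' (φ.toLinearMap.rTensor (R ⊗[A] B) x) := by
  rw [bcFun_def, bcFun_def, rid_symm_rTensor, cancel_rTensor, ← PolynomialLaw.isCompat_apply',
    rid_rTensorA]

end Compat


section Law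

/-- the `A`-algebra structure on an `R`-algebra -/
@[reducible] noncomputable def algA (S : Type u) [CommSemiring S] [Algebra R S] : Algebra A S :=
  Algebra.compHom S (algebraMap A R)

theorem towerA (S : Type u) [CommSemiring S] [Algebra R S] :
    @IsScalarTower A R S _ _ (algA (A := A) R S).toSMul := by
  letI := algA (A := A) R S
  exact IsScalarTower.of_algebraMap_eq (fun _ => rfl)

/-- the base change of a polynomial law `B → A` to `R` -/
noncomputable def bcLaw (f : B →ₚₗ[A] A) : (R ⊗[A] B) →ₚₗ[R] R where
  toFun' S _ _ := @bcFun A _ B _ _ R _ _ f S _ _ (algA R S) (towerA R S)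
  isCompat' {S} _ _ {S'} _ _ φ := by
    funext x
    letI := algA (A := A) R S
    letI := algA (A := A) R S'
    haveI := towerA (A := A) R S
    haveI := towerA (A := A) R S'
    exact bcFun_compat R f φ x

theorem bcLaw_toFun' (f : B →ₚₗ[A] A) (S : Type u) [CommSemiring S] [Algebra R S]
    (x : S ⊗[R] (R ⊗[A] B)) :
    (bcLaw R f).toFun' S x = @bcFun A _ B _ _ R _ _ f S _ _ (algA R S) (towerA R S) x := rfl

/-- independence of the auxiliary `A`-algebra structure -/
theorem bcFun_eq (f : B →ₚₗ[A] A) (S : Type u) [CommSemiring S] [Algebra R S] [i : Algebra A S]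
    [h : IsScalarTower A R S] (x : S ⊗[R] (R ⊗[A] B)) :
    (bcLaw R f).toFun' S x = bcFun R f S x := by
  have hi : algA (A := A) R S = i := by
    apply Algebra.algebra_ext
    intro a
    exact (IsScalarTower.algebraMap_apply A R S a).symm
  subst hi
  rfl

variable {d : ℕ}

/-- the base change of a multiplicative law -/
noncomputable def bc (F : MulLaw A B A d) : MulLaw R (R ⊗[A] B) R d where
  law := bcLaw R F.law
  homog S _ _ s x := by
    letI := algA (A := A) R S
    haveI := towerA (A := A) R S
    exact bcFun_smul R F.law F.homog s x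
  mult S _ _ := by
    letI := algA (A := A) R S
    haveI := towerA (A := A) R S
    exact ⟨bcFun_one R F.law F.mult, bcFun_mul R F.law F.mult⟩

end Law


section Ker

theorem cancel_one_tmul (S : Type u) [CommSemiring S] [Algebra R S] [Algebra A S]
    [IsScalarTower A R S] (b' : R ⊗[A] B) :
    Algebra.TensorProduct.cancelBaseChange A R S S B ((1 : S) ⊗ₜ[R] b') =
      Algebra.TensorProduct.map (IsScalarTower.toAlgHom A R S) (AlgHom.id A B) b' := by
  induction b' using TensorProduct.induction_on with
  | zero => simp
  | tmul r b => simp [Algebra.smul_def]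
  | add y y' h h' => simp only [TensorProduct.tmul_add, map_add, h, h']

/-- the kernel of the base-changed law is the base-change kernel of the prelude -/
theorem ker_bcLaw (f : B →ₚₗ[A] A) : ker (bcLaw R f) = kerBC f R := by
  apply le_antisymm
  · intro b' hb' R' _ _ _ _ x w
    have h := hb' R' ((Algebra.TensorProduct.cancelBaseChange A R R' R' B).symm x)
      ((Algebra.TensorProduct.cancelBaseChange A R R' R' B).symm w)
    rw [bcFun_eq, bcFun_eq, bcFun_def, bcFun_def] at h
    have h2 := (Algebra.TensorProduct.rid A R' R').injective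
      ((Algebra.TensorProduct.rid R R' R').symm.injective h)
    rw [map_add, map_mul, AlgEquiv.apply_symm_apply, AlgEquiv.apply_symm_apply,
      cancel_one_tmul] at h2
    exact h2
  · intro b' hb' S _ _ x w
    letI := algA (A := A) R S
    haveI := towerA (A := A) R S
    rw [bcLaw_toFun', bcLaw_toFun', bcFun_def, bcFun_def]
    congr 2
    rw [map_add, map_mul, cancel_one_tmul]
    exact hb' S _ _

end Ker

end Groth.Agent.H74.LawBC
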