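import Mathlib
import Groth.Prelude.Def_PolLaw
import Groth.Agent.H76.PolLawBC
import Groth.Agent.H76.PolLawBC2
import Groth.Agent.H74.LawBC

/-!
# Helper library (helper74): the base-change kernel of a law over multivariate polynomial rings

`kerBC f (MvPolynomial (Fin n) A) = (ker f)ᵉ`.  The one-variable case (`sum_pad`, `exists_sum_rep`,
`sum_mem`, copied from helper76's `S13699.lean`) is applied to the base-changed law `bcLaw R f`.
-/

set_option autoImplicit false
set_option linter.style.haveILetI false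
universe u
open scoped TensorProduct
open PolLaw

namespace Groth.Agent.H74.MvKer

open Groth.Agent.H76.PolLawBC Groth.Agent.H74.LawBC

section OneVar

theorem sum_pad {M : Type*} [AddCommMonoid M] (g : ℕ → M) {n1 n : ℕ} (h : n1 ≤ n) :
    ∑ i ∈ Finset.range n, (if i < n1 then g i else 0) = ∑ i ∈ Finset.range n1, g i := by
  rw [← Finset.sum_filter]
  congr 1
  ext i
  simp only [Finset.mem_filter, Finset.mem_range]
  omega

theorem exists_sum_rep {A : Type u} [CommRing A] {B : Type u} [CommRing B] [Algebra A B]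
    (z : Polynomial A ⊗[A] B) :
    ∃ (n : ℕ) (β : ℕ → B), z = ∑ i ∈ Finset.range n, (Polynomial.X ^ i : Polynomial A) ⊗ₜ[A] β i := by
  induction z using TensorProduct.induction_on with
  | zero => exact ⟨0, fun _ => 0, by simp⟩
  | tmul p b =>
    refine ⟨p.natDegree + 1, fun i => p.coeff i • b, ?_⟩
    conv_lhs => rw [p.as_sum_range_C_mul_X_pow]
    rw [TensorProduct.sum_tmul]
    refine Finset.sum_congr rfl (fun i _ => ?_)
    rw [← Polynomial.smul_eq_C_mul, TensorProduct.smul_tmul]
  | add z z' h h' =>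
    obtain ⟨n, β, rfl⟩ := h
    obtain ⟨n', β', rfl⟩ := h'
    refine ⟨n + n', fun i => (if i < n then β i else 0) + (if i < n' then β' i else 0), ?_⟩
    simp only [TensorProduct.tmul_add, Finset.sum_add_distrib]
    congr 1
    · rw [← sum_pad (fun i => (Polynomial.X ^ i : Polynomial A) ⊗ₜ[A] β i) (Nat.le_add_right n n')]
      refine Finset.sum_congr rfl (fun i _ => ?_)
      split_ifs <;> simp
    · rw [← sum_pad (fun i => (Polynomial.X ^ i : Polynomial A) ⊗ₜ[A] β' i) (Nat.le_add_left n' n)]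
      refine Finset.sum_congr rfl (fun i _ => ?_)
      split_ifs <;> simp

theorem sum_mem {A : Type u} [CommRing A] {B : Type u} [CommRing B] [Algebra A B]
    (f : B →ₚₗ[A] A) : ∀ (n : ℕ) (β : ℕ → B),
    (∑ i ∈ Finset.range n, (Polynomial.X ^ i : Polynomial A) ⊗ₜ[A] β i) ∈
      PolLaw.kerBC f (Polynomial A) →
    (∑ i ∈ Finset.range n, (Polynomial.X ^ i : Polynomial A) ⊗ₜ[A] β i) ∈
      (PolLaw.ker f).map (Algebra.TensorProduct.includeRight : B →ₐ[A] Polynomial A ⊗[A] B) := by
  intro n
  induction n with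
  | zero => intro β _; simp
  | succ n ih =>
    intro β h
    have hdec : (∑ i ∈ Finset.range (n + 1), (Polynomial.X ^ i : Polynomial A) ⊗ₜ[A] β i) =
        (1 : Polynomial A) ⊗ₜ[A] β 0 + ((Polynomial.X : Polynomial A) ⊗ₜ[A] (1 : B)) *
          ∑ i ∈ Finset.range n, (Polynomial.X ^ i : Polynomial A) ⊗ₜ[A] β (i + 1) := by
      rw [Finset.sum_range_succ', pow_zero, add_comm, Finset.mul_sum]
      congr 1
      refine Finset.sum_congr rfl (fun i _ => ?_)
      rw [Algebra.TensorProduct.tmul_mul_tmul, one_mul, pow_succ']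
    rw [hdec] at h ⊢
    have h0 : β 0 ∈ PolLaw.ker f := const_mem_ker h
    have h0' : (1 : Polynomial A) ⊗ₜ[A] β 0 ∈
        (PolLaw.ker f).map (Algebra.TensorProduct.includeRight : B →ₐ[A] Polynomial A ⊗[A] B) :=
      Ideal.mem_map_of_mem _ h0
    have h1 : ((Polynomial.X : Polynomial A) ⊗ₜ[A] (1 : B)) *
        ∑ i ∈ Finset.range n, (Polynomial.X ^ i : Polynomial A) ⊗ₜ[A] β (i + 1) ∈
        PolLaw.kerBC f (Polynomial A) := by
      have := (PolLaw.kerBC f (Polynomial A)).sub_mem h (map_ker_le_kerBC f _ h0')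
      rwa [add_sub_cancel_left] at this
    have h2 := ih (fun i => β (i + 1)) (kerBC_poly_of_X_mul h1)
    exact Ideal.add_mem _ h0' (Ideal.mul_mem_left _ _ h2)

/-- the one-variable theorem for an arbitrary law (helper76, S13699) -/
theorem kerBC_polynomial_le {A : Type u} [CommRing A] {B : Type u} [CommRing B] [Algebra A B]
    (f : B →ₚₗ[A] A) :
    PolLaw.kerBC f (Polynomial A) ≤
      (PolLaw.ker f).map (Algebra.TensorProduct.includeRight : B →ₐ[A] Polynomial A ⊗[A] B) := by
  intro z hz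
  obtain ⟨n, β, rfl⟩ := exists_sum_rep z
  exact sum_mem f n β hz

end OneVar

variable {A : Type u} [CommRing A] {B : Type u} [CommRing B] [Algebra A B]

/-- functoriality of the extended ideal -/
theorem map_mem_extend (I : Ideal B) {R R' : Type u} [CommRing R] [Algebra A R] [CommRing R']
    [Algebra A R'] (φ : R →ₐ[A] R') {c : R ⊗[A] B}
    (hc : c ∈ I.map (Algebra.TensorProduct.includeRight : B →ₐ[A] R ⊗[A] B)) :
    Algebra.TensorProduct.map φ (AlgHom.id A B) c ∈
      I.map (Algebra.TensorProduct.includeRight : B →ₐ[A] R' ⊗[A] B) := by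
  have hle : I.map (Algebra.TensorProduct.includeRight : B →ₐ[A] R ⊗[A] B) ≤
      (I.map (Algebra.TensorProduct.includeRight : B →ₐ[A] R' ⊗[A] B)).comap
        (Algebra.TensorProduct.map φ (AlgHom.id A B)) := by
    rw [Ideal.map_le_iff_le_comap]
    intro b hb
    rw [Ideal.mem_comap, Ideal.mem_comap]
    have e : Algebra.TensorProduct.map φ (AlgHom.id A B)
        ((Algebra.TensorProduct.includeRight : B →ₐ[A] R ⊗[A] B) b) =
        (Algebra.TensorProduct.includeRight : B →ₐ[A] R' ⊗[A] B) b := by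
      simp
    rw [e]
    exact Ideal.mem_map_of_mem _ hb
  exact hle hc

/-- transport of the statement along an isomorphism of base-change algebras -/
theorem kerBC_le_of_algEquiv (f : B →ₚₗ[A] A) {R R' : Type u} [CommRing R] [Algebra A R]
    [CommRing R'] [Algebra A R'] (ε : R ≃ₐ[A] R')
    (hR : kerBC f R ≤ (ker f).map (Algebra.TensorProduct.includeRight : B →ₐ[A] R ⊗[A] B)) :
    kerBC f R' ≤ (ker f).map (Algebra.TensorProduct.includeRight : B →ₐ[A] R' ⊗[A] B) := by
  intro c hc
  have h1 := hR (map_mem_kerBC f (ε.symm : R' →ₐ[A] R) hc)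
  have h2 := map_mem_extend (ker f) (ε : R →ₐ[A] R') h1
  rw [map_map_apply] at h2
  have e : (ε : R →ₐ[A] R').comp (ε.symm : R' →ₐ[A] R) = AlgHom.id A R' := by
    ext x
    simp
  rw [e, map_id_apply] at h2
  exact h2


/-- transitivity: an element of `kerBC f R₁` gives an element of the base-change kernel of the
base-changed law `bcLaw R f`. -/
theorem symm_mem_kerBC_bcLaw (f : B →ₚₗ[A] A) (R : Type u) [CommRing R] [Algebra A R]
    (R₁ : Type u) [CommRing R₁] [Algebra R R₁] [Algebra A R₁] [IsScalarTower A R R₁]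
    {c : R₁ ⊗[A] B} (hc : c ∈ kerBC f R₁) :
    (Algebra.TensorProduct.cancelBaseChange A R R₁ R₁ B).symm c ∈ kerBC (bcLaw R f) R₁ := by
  intro R' _ _ _ _ x' w'
  letI := algA (A := A) R R'
  haveI := towerA (A := A) R R'
  haveI : IsScalarTower A R₁ R' := IsScalarTower.of_algebraMap_eq (fun a => by
    show algebraMap R R' (algebraMap A R a) = algebraMap R₁ R' (algebraMap A R₁ a)
    rw [IsScalarTower.algebraMap_apply A R R₁, ← IsScalarTower.algebraMap_apply R R₁ R'])
  rw [bcLaw_toFun', bcLaw_toFun', bcFun_def, bcFun_def]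
  congr 2
  rw [map_add, map_mul]
  have key : Algebra.TensorProduct.cancelBaseChange A R R' R' B
      (Algebra.TensorProduct.map (IsScalarTower.toAlgHom R R₁ R') (AlgHom.id R (R ⊗[A] B))
        ((Algebra.TensorProduct.cancelBaseChange A R R₁ R₁ B).symm c)) =
      Algebra.TensorProduct.map (IsScalarTower.toAlgHom A R₁ R') (AlgHom.id A B) c := by
    rw [← rTensor_eq_map, cancel_rTensor, AlgEquiv.apply_symm_apply, rTensor_eq_map]
    rfl
  rw [key]
  exact hc R' _ _

/-- the polynomial step -/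
theorem kerBC_poly_le (f : B →ₚₗ[A] A) (R : Type u) [CommRing R] [Algebra A R]
    (hR : kerBC f R ≤ (ker f).map (Algebra.TensorProduct.includeRight : B →ₐ[A] R ⊗[A] B)) :
    kerBC f (Polynomial R) ≤
      (ker f).map (Algebra.TensorProduct.includeRight : B →ₐ[A] Polynomial R ⊗[A] B) := by
  intro c hc
  have h1 := kerBC_polynomial_le (bcLaw R f) (symm_mem_kerBC_bcLaw f R (Polynomial R) hc)
  rw [ker_bcLaw] at h1
  have h2 : Ideal.map (Algebra.TensorProduct.includeRight :
      (R ⊗[A] B) →ₐ[R] Polynomial R ⊗[R] (R ⊗[A] B)) (kerBC f R) ≤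
      ((ker f).map (Algebra.TensorProduct.includeRight : B →ₐ[A] Polynomial R ⊗[A] B)).comap
        (Algebra.TensorProduct.cancelBaseChange A R (Polynomial R) (Polynomial R) B) := by
    rw [Ideal.map_le_iff_le_comap]
    refine hR.trans ?_
    rw [Ideal.map_le_iff_le_comap]
    intro b hb
    rw [Ideal.mem_comap, Ideal.mem_comap, Ideal.mem_comap]
    have e : Algebra.TensorProduct.cancelBaseChange A R (Polynomial R) (Polynomial R) B
        ((Algebra.TensorProduct.includeRight : (R ⊗[A] B) →ₐ[R] Polynomial R ⊗[R] (R ⊗[A] B))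
          ((Algebra.TensorProduct.includeRight : B →ₐ[A] R ⊗[A] B) b)) =
        (Algebra.TensorProduct.includeRight : B →ₐ[A] Polynomial R ⊗[A] B) b := by
      simp
    rw [e]
    exact Ideal.mem_map_of_mem _ hb
  have h3 := h2 h1
  rw [Ideal.mem_comap, AlgEquiv.apply_symm_apply] at h3
  exact h3


theorem kerBC_self_le (f : B →ₚₗ[A] A) :
    kerBC f A ≤ (ker f).map (Algebra.TensorProduct.includeRight : B →ₐ[A] A ⊗[A] B) := by
  intro c hc
  obtain ⟨b, rfl⟩ : ∃ b, c = (1 : A) ⊗ₜ[A] b :=
    ⟨TensorProduct.lid A B c, by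
      rw [← TensorProduct.lid_symm_apply, LinearEquiv.symm_apply_apply]⟩
  have hb : b ∈ ker f := mem_ker_of_one_tmul_mem_kerBC f LinearMap.id rfl hc
  exact Ideal.mem_map_of_mem _ hb

/-- the base-change kernel over a multivariate polynomial ring is the extended kernel -/
theorem kerBC_mvPolynomial_le (f : B →ₚₗ[A] A) : ∀ n : ℕ,
    kerBC f (MvPolynomial (Fin n) A) ≤
      (ker f).map (Algebra.TensorProduct.includeRight : B →ₐ[A] MvPolynomial (Fin n) A ⊗[A] B)
  | 0 => kerBC_le_of_algEquiv f (MvPolynomial.isEmptyAlgEquiv A (Fin 0)).symm (kerBC_self_le f)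
  | n + 1 => kerBC_le_of_algEquiv f (MvPolynomial.finSuccEquiv A n).symm
      (kerBC_poly_le f _ (kerBC_mvPolynomial_le f n))

theorem kerBC_mvPolynomial (f : B →ₚₗ[A] A) (n : ℕ) :
    kerBC f (MvPolynomial (Fin n) A) =
      (ker f).map (Algebra.TensorProduct.includeRight : B →ₐ[A] MvPolynomial (Fin n) A ⊗[A] B) :=
  le_antisymm (kerBC_mvPolynomial_le f n) (map_ker_le_kerBC f _)

end Groth.Agent.H74.MvKer
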