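-- helper74: the characteristic polynomial of a multiplicative law of degree d has degree ≤ d and
-- leading coefficient (-1)^d; integrality of the image.
import Groth.Agent.H74.CayleyHam
import Mathlib

set_option autoImplicit false
universe u

open scoped TensorProduct

namespace Groth.Agent.H74.CharpolyDeg

open PolLaw Groth.Agent.H74.GammaSpan Groth.Agent.H74.LawBasis Groth.Agent.H74.CayleyHam

variable {A : Type u} [CommRing A] {B : Type u} [CommRing B] [Algebra A B] {d : ℕ}

/-- the two-element family `(b, 1)` -/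
def fam (b : B) : ULift.{u} (Fin 2) → B := fun i => if i.down = 0 then b else 1

theorem sum_ulift {M : Type*} [AddCommMonoid M] (f : ULift.{u} (Fin 2) → M) :
    ∑ i, f i = f ⟨0⟩ + f ⟨1⟩ := by
  rw [← Equiv.sum_comp Equiv.ulift.symm f, Fin.sum_univ_two]
  rfl

theorem prod_ulift {M : Type*} [CommMonoid M] (f : ULift.{u} (Fin 2) → M) :
    ∏ i, f i = f ⟨0⟩ * f ⟨1⟩ := by
  rw [← Equiv.prod_comp Equiv.ulift.symm f, Fin.prod_univ_two]
  rfl

theorem expand_two (F : MulLaw A B A d) (b : B) (S : Type u) [CommSemiring S] [Algebra A S]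
    (s₀ s₁ : S) :
    F.law.toFun' S (s₀ ⊗ₜ[A] b + s₁ ⊗ₜ[A] (1 : B)) =
      ∑ μ ∈ Finset.finsuppAntidiag (Finset.univ : Finset (ULift.{u} (Fin 2))) d,
        (s₀ ^ μ ⟨0⟩ * s₁ ^ μ ⟨1⟩) ⊗ₜ[A] coeffB (fam b) F.law μ := by
  have h := toFun'_sum_tmul (fam b) F.law F.homog S
    (fun i => if i.down = 0 then s₀ else s₁) Finset.univ
  rw [sum_ulift] at h
  simp only [fam] at h
  simp only [Fin.isValue, ↓reduceIte, one_ne_zero] at h
  rw [h]
  refine Finset.sum_congr rfl (fun μ _ => ?_)
  rw [Finsupp.prod_fintype _ _ (fun i => pow_zero _), prod_ulift]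
  simp

theorem sum_antidiag_two (μ : ULift.{u} (Fin 2) →₀ ℕ)
    (hμ : μ ∈ Finset.finsuppAntidiag (Finset.univ : Finset (ULift.{u} (Fin 2))) d) :
    μ ⟨0⟩ + μ ⟨1⟩ = d := by
  rw [Finset.mem_finsuppAntidiag] at hμ
  rw [← hμ.1, sum_ulift]

theorem charpoly_eq (F : MulLaw A B A d) (b : B) :
    charpoly F b = ∑ μ ∈ Finset.finsuppAntidiag (Finset.univ : Finset (ULift.{u} (Fin 2))) d,
      coeffB (fam b) F.law μ • (-(Polynomial.X : Polynomial A)) ^ μ ⟨1⟩ := by
  have h := expand_two F b (Polynomial A) 1 (-Polynomial.X)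
  rw [charpoly, u₀, sub_eq_add_neg, ← TensorProduct.neg_tmul, h, map_sum]
  refine Finset.sum_congr rfl (fun μ _ => ?_)
  rw [TensorProduct.rid_tmul, one_pow, one_mul]

theorem sum_coeffB_eq_one (F : MulLaw A B A d) (b : B) :
    ∑ μ ∈ Finset.finsuppAntidiag (Finset.univ : Finset (ULift.{u} (Fin 2))) d,
      (if μ ⟨0⟩ = 0 then coeffB (fam b) F.law μ else 0) = 1 := by
  have h := expand_two F b A 0 1
  have h1 : (0 : A) ⊗ₜ[A] b + (1 : A) ⊗ₜ[A] (1 : B) = 1 := by
    rw [TensorProduct.zero_tmul, zero_add, Algebra.TensorProduct.one_def]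
  rw [h1, (F.mult A).1] at h
  have h2 := congrArg (TensorProduct.lid A A) h
  rw [map_sum, Algebra.TensorProduct.one_def, TensorProduct.lid_tmul, smul_eq_mul, mul_one] at h2
  rw [h2]
  refine Finset.sum_congr rfl (fun μ _ => ?_)
  rw [TensorProduct.lid_tmul, one_pow, mul_one, smul_eq_mul]
  split_ifs with h0
  · rw [h0, pow_zero, one_mul]
  · rw [zero_pow h0, zero_mul]

theorem natDegree_charpoly_le (F : MulLaw A B A d) (b : B) : (charpoly F b).natDegree ≤ d := by
  rw [charpoly_eq]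
  refine Polynomial.natDegree_sum_le_of_forall_le _ _ (fun μ hμ => ?_)
  refine (Polynomial.natDegree_smul_le _ _).trans ?_
  refine (Polynomial.natDegree_pow_le).trans ?_
  have h1 : (-(Polynomial.X : Polynomial A)).natDegree ≤ 1 := by
    rw [Polynomial.natDegree_neg]; exact Polynomial.natDegree_X_le
  have h2 := sum_antidiag_two μ hμ
  calc μ ⟨1⟩ * (-(Polynomial.X : Polynomial A)).natDegree ≤ μ ⟨1⟩ * 1 :=
        Nat.mul_le_mul_left _ h1
    _ ≤ d := by omega

theorem coeff_term (F : MulLaw A B A d) (b : B) (μ : ULift.{u} (Fin 2) →₀ ℕ)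
    (hμ : μ ∈ Finset.finsuppAntidiag (Finset.univ : Finset (ULift.{u} (Fin 2))) d) :
    (coeffB (fam b) F.law μ • (-(Polynomial.X : Polynomial A)) ^ μ ⟨1⟩).coeff d =
      (-1 : A) ^ d * (if μ ⟨0⟩ = 0 then coeffB (fam b) F.law μ else 0) := by

  have h2 := sum_antidiag_two μ hμ
  rw [Polynomial.coeff_smul, neg_pow, Polynomial.coeff_mul_X_pow', smul_eq_mul]
  by_cases h0 : μ ⟨0⟩ = 0
  · have h1 : μ ⟨1⟩ = d := by omega
    rw [if_pos h0, h1, if_pos le_rfl, Nat.sub_self, ← Polynomial.C_1, ← Polynomial.C_neg,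
      ← Polynomial.C_pow, Polynomial.coeff_C_zero, mul_comm]
  · have h1 : μ ⟨1⟩ < d := by omega
    rw [if_neg h0, if_pos h1.le, mul_zero, ← Polynomial.C_1, ← Polynomial.C_neg,
      ← Polynomial.C_pow, Polynomial.coeff_C, if_neg (by omega), mul_zero]


theorem coeff_charpoly_d (F : MulLaw A B A d) (b : B) : (charpoly F b).coeff d = (-1) ^ d := by
  have key : (charpoly F b).coeff d = (-1 : A) ^ d *
      ∑ μ ∈ Finset.finsuppAntidiag (Finset.univ : Finset (ULift.{u} (Fin 2))) d,
        (if μ ⟨0⟩ = 0 then coeffB (fam b) F.law μ else 0) := by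
    rw [charpoly_eq, Polynomial.finsetSum_coeff, Finset.mul_sum]
    refine Finset.sum_congr rfl (fun μ hμ => ?_)
    exact coeff_term F b μ hμ
  rw [key, sum_coeffB_eq_one, mul_one]


/-- the monic version of the characteristic polynomial -/
noncomputable def monicCharpoly (F : MulLaw A B A d) (b : B) : Polynomial A :=
  Polynomial.C ((-1 : A) ^ d) * charpoly F b

theorem monicCharpoly_monic (F : MulLaw A B A d) (b : B) : (monicCharpoly F b).Monic := by
  apply Polynomial.monic_of_natDegree_le_of_coeff_eq_one d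
  · exact (Polynomial.natDegree_C_mul_le _ _).trans (natDegree_charpoly_le F b)
  · rw [monicCharpoly, Polynomial.coeff_C_mul, coeff_charpoly_d, ← mul_pow]
    simp

theorem aeval_monicCharpoly_mem (F : MulLaw A B A d) (b : B) :
    Polynomial.aeval b (monicCharpoly F b) ∈ ker F.law := by
  rw [monicCharpoly, map_mul]
  exact Ideal.mul_mem_left _ _ (CH F b)

/-- the image of a multiplicative law is integral over the base -/
theorem isIntegral_image (F : MulLaw A B A d) : Algebra.IsIntegral A (B ⧸ ker F.law) := by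
  refine ⟨fun x => ?_⟩
  obtain ⟨b, rfl⟩ := Ideal.Quotient.mk_surjective x
  refine ⟨monicCharpoly F b, monicCharpoly_monic F b, ?_⟩
  rw [← Polynomial.aeval_def]
  have h := Polynomial.aeval_algHom_apply (Ideal.Quotient.mkₐ A (ker F.law)) b (monicCharpoly F b)
  rw [Ideal.Quotient.mkₐ_eq_mk] at h
  rw [h]
  exact Ideal.Quotient.eq_zero_iff_mem.2 (aeval_monicCharpoly_mem F b)

end Groth.Agent.H74.CharpolyDeg
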