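import Mathlib
import Groth.Prelude.Def_PolLaw
import Groth.Agent.H74.CharpolyDeg
import Groth.Agent.H76.PolLawBC

/-!
# Helper library (helper74): the image of a basic open of `Spec (B ⧸ ker G)` in `Spec R`
for a multiplicative law `G : B → R` of degree `d` is the union of the basic opens of the
coefficients of the characteristic polynomial.
-/

set_option autoImplicit false
universe u
open scoped TensorProduct
open PolLaw

namespace Groth.Agent.H74.OpenImage

open Groth.Agent.H74.CayleyHam Groth.Agent.H74.CharpolyDeg Groth.Agent.H76.PolLawBC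

variable {R : Type u} [CommRing R] {B : Type u} [CommRing B] [Algebra R B] {d : ℕ}

theorem rid_eq (S : Type u) [CommSemiring S] [Algebra R S] (y : S ⊗[R] R) :
    TensorProduct.rid R S y = Algebra.TensorProduct.rid R S S y := by
  induction y using TensorProduct.induction_on with
  | zero => simp
  | tmul s r => simp
  | add a b ha hb => simp [ha, hb]

theorem val_mul (G : MulLaw R B R d) (S : Type u) [CommSemiring S] [Algebra R S]
    (x y : S ⊗[R] B) : val G.law S (x * y) = val G.law S x * val G.law S y := by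
  unfold val
  rw [(G.mult S).2, rid_eq, map_mul, ← rid_eq, ← rid_eq]

theorem val_one (G : MulLaw R B R d) (S : Type u) [CommSemiring S] [Algebra R S] :
    val G.law S 1 = 1 := by
  unfold val
  rw [(G.mult S).1, rid_eq, map_one]

theorem val_smul (G : MulLaw R B R d) (S : Type u) [CommSemiring S] [Algebra R S] (s : S)
    (x : S ⊗[R] B) : val G.law S (s • x) = s ^ d * val G.law S x := by
  unfold val
  rw [G.homog S, rid_eq, map_smul, smul_eq_mul, ← rid_eq]

/-- the characteristic polynomial after extension of scalars -/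
theorem map_charpoly (G : MulLaw R B R d) (Z : B) (K : Type u) [CommRing K] [Algebra R K] :
    (charpoly G Z).map (algebraMap R K) =
      val G.law (Polynomial K)
        ((1 : Polynomial K) ⊗ₜ[R] Z - Polynomial.X ⊗ₜ[R] (1 : B)) := by
  have h := val_map G.law (Polynomial.mapAlgHom (Algebra.ofId R K)) (u₀ R Z)
  have h1 : val G.law (Polynomial R) (u₀ R Z) = charpoly G Z := rfl
  rw [h1] at h
  have h2 : Algebra.TensorProduct.map (Polynomial.mapAlgHom (Algebra.ofId R K)) (AlgHom.id R B)
      (u₀ R Z) = (1 : Polynomial K) ⊗ₜ[R] Z - Polynomial.X ⊗ₜ[R] (1 : B) := by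
    rw [u₀, map_sub, Algebra.TensorProduct.map_tmul, Algebra.TensorProduct.map_tmul, map_one,
      map_one, AlgHom.id_apply]
    simp
  rw [h2] at h
  rw [h]
  rfl


/-- over a field `K`: if `Z ^ m` is in the kernel over `K[T]`, the lower coefficients of the
characteristic polynomial of `Z` vanish in `K`. -/
theorem coeff_map_eq_zero_of_kernel (G : MulLaw R B R d) (Z : B) (K : Type u) [Field K]
    [Algebra R K] (m : ℕ)
    (hker : ∀ x w : Polynomial K ⊗[R] B,
      G.law.toFun' (Polynomial K) (x + w * ((1 : Polynomial K) ⊗ₜ[R] Z) ^ m) =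
        G.law.toFun' (Polynomial K) x)
    (i : ℕ) (hi : i < d) : algebraMap R K ((charpoly G Z).coeff i) = 0 := by
  set S := Polynomial K
  set ζ : S ⊗[R] B := (1 : S) ⊗ₜ[R] Z with hζ
  set τ : S ⊗[R] B := (Polynomial.X : S) ⊗ₜ[R] (1 : B) with hτ
  obtain ⟨c, hc⟩ := sub_dvd_pow_sub_pow ζ τ m
  have h1 : val G.law S (ζ ^ m - τ ^ m) = val G.law S (ζ - τ) * val G.law S c := by
    rw [hc, val_mul]
  have h2 : val G.law S (ζ ^ m - τ ^ m) = (-(Polynomial.X : S) ^ m) ^ d := by
    have e1 : ζ ^ m - τ ^ m = (-τ ^ m) + 1 * ζ ^ m := by ring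
    have e2 : -τ ^ m = (-(Polynomial.X : S) ^ m) • (1 : S ⊗[R] B) := by
      rw [hτ, Algebra.TensorProduct.tmul_pow, one_pow, Algebra.TensorProduct.one_def,
        TensorProduct.smul_tmul', smul_eq_mul, mul_one, TensorProduct.neg_tmul]
    rw [e1]
    unfold val
    rw [hker, e2]
    have := val_smul G S (-(Polynomial.X : S) ^ m) 1
    unfold val at this
    rw [this]
    have := val_one G S
    unfold val at this
    rw [this, mul_one]
  have h3 : val G.law S (ζ - τ) = (charpoly G Z).map (algebraMap R K) := (map_charpoly G Z K).symm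
  set χ := (charpoly G Z).map (algebraMap R K) with hχ
  have hdvd : χ ∣ (Polynomial.X : S) ^ (m * d) := by
    refine ⟨val G.law S c * (-1) ^ d, ?_⟩
    rw [← mul_assoc, ← h3, ← h1, h2, neg_pow, ← pow_mul, mul_comm ((-1 : S) ^ d), mul_assoc,
      ← mul_pow]
    simp
  obtain ⟨j, -, hassoc⟩ := (dvd_prime_pow Polynomial.prime_X _).1 hdvd
  obtain ⟨u, hu⟩ := hassoc.symm
  obtain ⟨r, -, hr⟩ := Polynomial.isUnit_iff.mp u.isUnit
  have hχeq : χ = Polynomial.X ^ j * Polynomial.C r := by rw [← hu, hr]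
  have hcd : χ.coeff d = (-1) ^ d := by
    rw [hχ, Polynomial.coeff_map, coeff_charpoly_d, map_pow, map_neg, map_one]
  have hjd : j = d := by
    by_contra hne
    have h0 : χ.coeff d = 0 := by
      rw [hχeq, Polynomial.coeff_X_pow_mul']
      split_ifs with hle
      · rw [Polynomial.coeff_C, if_neg]
        omega
      · rfl
    rw [hcd] at h0
    exact (pow_ne_zero d (neg_ne_zero.mpr one_ne_zero)) h0
  have hfin : χ.coeff i = 0 := by
    rw [hχeq, Polynomial.coeff_X_pow_mul', if_neg]
    omega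
  rw [hχ, Polynomial.coeff_map] at hfin
  exact hfin


theorem algebraMap_K_eq_zero_iff (q : Ideal R) (r : R) :
    algebraMap R (FractionRing (R ⧸ q)) r = 0 ↔ r ∈ q := by
  rw [IsScalarTower.algebraMap_apply R (R ⧸ q) (FractionRing (R ⧸ q)),
    map_eq_zero_iff _ (IsFractionRing.injective (R ⧸ q) (FractionRing (R ⧸ q))),
    Ideal.Quotient.algebraMap_eq, Ideal.Quotient.eq_zero_iff_mem]

/-- a prime in the support over `q` avoiding `Z` forces a lower coefficient outside `q` -/
theorem exists_coeff_notMem (G : MulLaw R B R d) (Z : B) (q : Ideal R) (Q : Ideal B) [Q.IsPrime]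
    (hker : ker G.law ≤ Q) (hq : Q.comap (algebraMap R B) = q) (hZ : Z ∉ Q) :
    ∃ i < d, (charpoly G Z).coeff i ∉ q := by
  by_contra hcon
  push Not at hcon
  apply hZ
  have hmem : Polynomial.aeval Z (charpoly G Z) ∈ Q := hker (CH G Z)
  rw [Polynomial.aeval_eq_sum_range' (n := d + 1)
    (Nat.lt_succ_of_le (natDegree_charpoly_le G Z)), Finset.sum_range_succ,
    coeff_charpoly_d] at hmem
  have h1 : ∑ i ∈ Finset.range d, (charpoly G Z).coeff i • Z ^ i ∈ Q := by
    refine Q.sum_mem (fun i hi => ?_)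
    rw [Algebra.smul_def]
    refine Q.mul_mem_right _ ?_
    have : (charpoly G Z).coeff i ∈ Q.comap (algebraMap R B) := by
      rw [hq]; exact hcon i (Finset.mem_range.mp hi)
    exact this
  have h2 : ((-1 : R) ^ d) • Z ^ d ∈ Q := (Ideal.add_mem_iff_right Q h1).mp hmem
  have h3 : Z ^ d = ((-1 : R) ^ d) • (((-1 : R) ^ d) • Z ^ d) := by
    rw [smul_smul, ← mul_pow]
    simp
  have h4 : Z ^ d ∈ Q := by
    rw [h3, Algebra.smul_def]
    exact Q.mul_mem_left _ h2
  exact Ideal.IsPrime.mem_of_pow_mem inferInstance d h4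

/-- a lower coefficient outside `q` gives a prime in the support over `q` avoiding `Z` -/
theorem exists_prime_of_coeff_notMem (G : MulLaw R B R d) (Z : B) (q : Ideal R) [q.IsPrime]
    (h : ∃ i < d, (charpoly G Z).coeff i ∉ q) :
    ∃ Q : Ideal B, Q.IsPrime ∧ ker G.law ≤ Q ∧ Q.comap (algebraMap R B) = q ∧ Z ∉ Q := by
  set J : Ideal B := q.map (algebraMap R B) ⊔ ker G.law with hJ
  set M : Submonoid B :=
    (q.primeCompl.map (algebraMap R B : R →* B)) ⊔ Submonoid.powers Z with hM
  have hdisj : Disjoint (J : Set B) M := by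
    rw [Set.disjoint_left]
    intro y hyJ hyM
    obtain ⟨a, ha, b, hb, rfl⟩ := Submonoid.mem_sup.mp hyM
    obtain ⟨s, hs, rfl⟩ := Submonoid.mem_map.mp ha
    obtain ⟨m, rfl⟩ := (Submonoid.mem_powers_iff _ _).mp hb
    obtain ⟨j, hj, k, hk, hjk⟩ := Submodule.mem_sup.mp hyJ
    obtain ⟨i, hi, hci⟩ := h
    apply hci
    rw [← algebraMap_K_eq_zero_iff]
    refine coeff_map_eq_zero_of_kernel G Z (FractionRing (R ⧸ q)) m ?_ i hi
    intro x w
    set K := FractionRing (R ⧸ q)
    set S := Polynomial K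
    have hsK : algebraMap R K s ≠ 0 := fun h0 => hs ((algebraMap_K_eq_zero_iff q s).mp h0)
    set σ : S := Polynomial.C (algebraMap R K s) with hσ
    set σi : S := Polynomial.C (algebraMap R K s)⁻¹ with hσi
    have hσσ : σi * σ = 1 := by
      rw [hσ, hσi, ← Polynomial.C_mul, inv_mul_cancel₀ hsK, Polynomial.C_1]
    have hj0 : (1 : S) ⊗ₜ[R] j = 0 := by
      have hle : q.map (algebraMap R B) ≤
          RingHom.ker (Algebra.TensorProduct.includeRight : B →ₐ[R] S ⊗[R] B) := by
        rw [Ideal.map_le_iff_le_comap]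
        intro r hr
        rw [Ideal.mem_comap, RingHom.mem_ker]
        show (1 : S) ⊗ₜ[R] (algebraMap R B r) = 0
        rw [← Algebra.TensorProduct.tmul_one_eq_one_tmul, Polynomial.algebraMap_apply,
          (algebraMap_K_eq_zero_iff q r).mpr hr, Polynomial.C_0, TensorProduct.zero_tmul]
      exact hle hj
    have e1 : w * ((1 : S) ⊗ₜ[R] Z) ^ m = (σi • w) * ((1 : S) ⊗ₜ[R] k) := by
      have e2 : (1 : S) ⊗ₜ[R] k = σ • ((1 : S) ⊗ₜ[R] Z) ^ m := by
        rw [Algebra.TensorProduct.tmul_pow, one_pow, hσ, ← Polynomial.algebraMap_apply,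
          algebraMap_smul, ← TensorProduct.tmul_smul, Algebra.smul_def]
        have : (algebraMap R B) s * Z ^ m = j + k := hjk.symm
        rw [this, TensorProduct.tmul_add, hj0, zero_add]
      rw [e2, smul_mul_smul_comm, hσσ, one_smul]
    rw [e1]
    exact hk S x (σi • w)
  obtain ⟨Q, hQp, hJQ, hQM⟩ := Ideal.exists_le_prime_disjoint J M hdisj
  refine ⟨Q, hQp, le_sup_right.trans hJQ, ?_, ?_⟩
  · apply le_antisymm
    · intro a ha
      by_contra haq
      have h1 : algebraMap R B a ∈ M :=
        Submonoid.mem_sup_left (Submonoid.mem_map.mpr ⟨a, haq, rfl⟩)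
      exact Set.disjoint_left.mp hQM ha h1
    · rw [← Ideal.map_le_iff_le_comap]
      exact le_sup_left.trans hJQ
  · intro hZQ
    exact Set.disjoint_left.mp hQM hZQ (Submonoid.mem_sup_right (Submonoid.mem_powers Z))


/-- the image in `Spec R` of a basic open of the support is open -/
theorem isOpen_image (G : MulLaw R B R d) (Z : B) :
    IsOpen (PrimeSpectrum.comap (algebraMap R B) ''
      (PrimeSpectrum.zeroLocus (ker G.law : Set B) ∩
        (PrimeSpectrum.basicOpen Z : Set (PrimeSpectrum B)))) := by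
  have hset : PrimeSpectrum.comap (algebraMap R B) ''
      (PrimeSpectrum.zeroLocus (ker G.law : Set B) ∩
        (PrimeSpectrum.basicOpen Z : Set (PrimeSpectrum B))) =
      ⋃ i ∈ Finset.range d,
        (PrimeSpectrum.basicOpen ((charpoly G Z).coeff i) : Set (PrimeSpectrum R)) := by
    ext q
    simp only [Set.mem_image, Set.mem_iUnion, Set.mem_inter_iff, PrimeSpectrum.mem_zeroLocus,
      SetLike.mem_coe, PrimeSpectrum.mem_basicOpen, Finset.mem_range, exists_prop]
    constructor
    · rintro ⟨Q, ⟨hQ1, hQ2⟩, rfl⟩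
      obtain ⟨i, hi, hc⟩ := exists_coeff_notMem G Z _ Q.asIdeal hQ1 rfl hQ2
      exact ⟨i, hi, hc⟩
    · rintro ⟨i, hi, hc⟩
      obtain ⟨Q, hQp, hker, hcomap, hZ⟩ :=
        exists_prime_of_coeff_notMem G Z q.asIdeal ⟨i, hi, hc⟩
      exact ⟨⟨Q, hQp⟩, ⟨hker, hZ⟩, PrimeSpectrum.ext hcomap⟩
  rw [hset]
  exact isOpen_biUnion (fun i _ => (PrimeSpectrum.basicOpen _).isOpen)

/-- transfer along a surjection with kernel `I` -/
theorem image_comap_eq {C' : Type u} [CommRing C'] (θ : B →+* C') (hθ : Function.Surjective θ)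
    (γ : R →+* C') (hγ : γ = θ.comp (algebraMap R B)) (Z : B) :
    PrimeSpectrum.comap γ '' (PrimeSpectrum.basicOpen (θ Z) : Set (PrimeSpectrum C')) =
      PrimeSpectrum.comap (algebraMap R B) ''
        (PrimeSpectrum.zeroLocus (RingHom.ker θ : Set B) ∩
          (PrimeSpectrum.basicOpen Z : Set (PrimeSpectrum B))) := by
  subst hγ
  have h1 : (PrimeSpectrum.basicOpen (θ Z) : Set (PrimeSpectrum C')) =
      PrimeSpectrum.comap θ ⁻¹' (PrimeSpectrum.basicOpen Z : Set (PrimeSpectrum B)) := by
    ext Q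
    simp
  have h2 : PrimeSpectrum.comap (θ.comp (algebraMap R B)) =
      PrimeSpectrum.comap (algebraMap R B) ∘ PrimeSpectrum.comap θ := by
    ext Q : 1
    rfl
  rw [h1, h2, Set.image_comp, Set.image_preimage_eq_inter_range,
    _root_.range_comap_of_surjective _ θ hθ, Set.inter_comm]

end Groth.Agent.H74.OpenImage
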