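import Mathlib
import Groth.Prelude.Def_PolLaw
import Groth.Agent.H74.OpenImage
import Groth.Agent.H74.LawBC
import Groth.Agent.H74.MvKer

/-!
# Helper library (helper74): the characteristic polynomial of the base-changed law, and the radical of
the base-change kernel
-/

set_option autoImplicit false
universe u
open scoped TensorProduct
open PolLaw

namespace Groth.Agent.H74.CharpolyBC

open Groth.Agent.H74.LawBC Groth.Agent.H74.MvKer Groth.Agent.H74.OpenImage
  Groth.Agent.H74.CayleyHam Groth.Agent.H74.CharpolyDeg Groth.Agent.H76.PolLawBC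

variable {A : Type u} [CommRing A] {B : Type u} [CommRing B] [Algebra A B] {d : ℕ}

/-- the characteristic polynomial for the base-changed law, in terms of the original law -/
theorem charpoly_bc (F : MulLaw A B A d) (R : Type u) [CommRing R] [Algebra A R] (Z : R ⊗[A] B) :
    charpoly (bc R F) Z = val F.law (Polynomial R)
      (Algebra.TensorProduct.map (Polynomial.CAlgHom : R →ₐ[A] Polynomial R) (AlgHom.id A B) Z -
        (Polynomial.X : Polynomial R) ⊗ₜ[A] (1 : B)) := by
  unfold charpoly val
  show TensorProduct.rid R (Polynomial R) ((bcLaw R F.law).toFun' (Polynomial R) (u₀ R Z)) = _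
  rw [bcFun_eq, bcFun_def, rid_eq, AlgEquiv.apply_symm_apply, ← rid_eq]
  congr 2
  rw [u₀, map_sub, cancel_one_tmul, Algebra.TensorProduct.one_def,
    Algebra.TensorProduct.cancelBaseChange_tmul, one_smul]
  rfl


/-- an element of the base-change kernel has its `d`-th power in the extended kernel -/
theorem pow_mem_of_mem_kerBC (F : MulLaw A B A d) (A' : Type u) [CommRing A'] [Algebra A A']
    {z : A' ⊗[A] B} (hz : z ∈ kerBC F.law A') :
    z ^ d ∈ (ker F.law).map (Algebra.TensorProduct.includeRight : B →ₐ[A] A' ⊗[A] B) := by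
  obtain ⟨n, a', b, hzsum⟩ := TensorProduct.exists_sum_tmul_eq z
  set R := MvPolynomial (Fin n) A with hR
  set ψ : R →ₐ[A] A' := MvPolynomial.aeval a' with hψ
  set Z : R ⊗[A] B := ∑ j, (MvPolynomial.X j : R) ⊗ₜ[A] b j with hZ
  have hψZ : Algebra.TensorProduct.map ψ (AlgHom.id A B) Z = z := by
    rw [hZ, map_sum, hzsum]
    refine Finset.sum_congr rfl (fun j _ => ?_)
    rw [Algebra.TensorProduct.map_tmul, hψ, MvPolynomial.aeval_X, AlgHom.id_apply]
  set χ := charpoly (bc R F) Z with hχdef
  have hCH : Polynomial.aeval Z χ ∈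
      (ker F.law).map (Algebra.TensorProduct.includeRight : B →ₐ[A] R ⊗[A] B) := by
    have h := CH (bc R F) Z
    change _ ∈ ker (bcLaw R F.law) at h
    rwa [ker_bcLaw, kerBC_mvPolynomial] at h
  have h1 := map_mem_extend (ker F.law) ψ hCH
  -- the image of `χ(Z)`
  have h2 : Algebra.TensorProduct.map ψ (AlgHom.id A B) (Polynomial.aeval Z χ) =
      Polynomial.aeval z (χ.map (ψ : R →+* A')) := by
    rw [Polynomial.aeval_def, Polynomial.aeval_def, Polynomial.eval₂_map, ← hψZ]
    have hcomp : (algebraMap A' (A' ⊗[A] B)).comp (ψ : R →+* A') =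
        ((Algebra.TensorProduct.map ψ (AlgHom.id A B) : R ⊗[A] B →ₐ[A] A' ⊗[A] B) :
          R ⊗[A] B →+* A' ⊗[A] B).comp (algebraMap R (R ⊗[A] B)) := by
      refine RingHom.ext (fun r => ?_)
      simp [Algebra.TensorProduct.algebraMap_apply]
    rw [hcomp]
    exact Polynomial.hom_eval₂ χ (algebraMap R (R ⊗[A] B))
      ((Algebra.TensorProduct.map ψ (AlgHom.id A B) : R ⊗[A] B →ₐ[A] A' ⊗[A] B) :
          R ⊗[A] B →+* A' ⊗[A] B) Z
  -- the image of `χ`
  have hχ : χ.map (ψ : R →+* A') = (-(Polynomial.X : Polynomial A')) ^ d := by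
    have e0 : χ.map (ψ : R →+* A') = Polynomial.mapAlgHom ψ χ := rfl
    rw [e0, hχdef, charpoly_bc, ← val_map, map_sub, map_map_apply, Algebra.TensorProduct.map_tmul,
      AlgHom.id_apply]
    have e1 : (Polynomial.mapAlgHom ψ).comp (Polynomial.CAlgHom : R →ₐ[A] Polynomial R) =
        (Polynomial.CAlgHom : A' →ₐ[A] Polynomial A').comp ψ := by
      refine AlgHom.ext (fun r => ?_)
      simp
    rw [e1, ← map_map_apply, hψZ]
    have e2 : Polynomial.mapAlgHom ψ (Polynomial.X : Polynomial R) = Polynomial.X := by simp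
    rw [e2]
    have e3 : Algebra.TensorProduct.map (Polynomial.CAlgHom : A' →ₐ[A] Polynomial A')
        (AlgHom.id A B) z - (Polynomial.X : Polynomial A') ⊗ₜ[A] (1 : B) =
        (-(Polynomial.X : Polynomial A')) • (1 : Polynomial A' ⊗[A] B) +
          1 * Algebra.TensorProduct.map (IsScalarTower.toAlgHom A A' (Polynomial A'))
            (AlgHom.id A B) z := by
      rw [Algebra.TensorProduct.one_def, TensorProduct.smul_tmul', smul_eq_mul, mul_one,
        TensorProduct.neg_tmul, ← Algebra.TensorProduct.one_def, one_mul, neg_add_eq_sub]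
      rfl
    rw [e3]
    unfold val
    rw [hz (Polynomial A')]
    have e4 := val_smul F (Polynomial A') (-(Polynomial.X : Polynomial A')) 1
    unfold val at e4
    rw [e4]
    have e5 := val_one F (Polynomial A')
    unfold val at e5
    rw [e5, mul_one]
  rw [h2, hχ, map_pow, map_neg, Polynomial.aeval_X, neg_pow] at h1
  have h3 : z ^ d = (-1) ^ d * ((-1) ^ d * z ^ d) := by
    rw [← mul_assoc, ← mul_pow]
    simp
  rw [h3]
  exact Ideal.mul_mem_left _ _ h1

end Groth.Agent.H74.CharpolyBC
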