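import Groth.Agent.H81.DPTransfer
import Groth.Agent.H11.DPowPrime

/-!
# Divided powers from the `p`-th divided power over a `ℤ_(p)`-algebra: the candidate `gam`

`gam p d n x` is defined by `γ_n(x) = N(n)⁻¹ x^(n % p) γ_(n/p)(d x)` with
`N(n) = n!/(p!^(n/p) (n/p)!)`.  We prove the "one variable" properties by induction.
-/

set_option autoImplicit false
universe u
open Nat Finset

namespace Groth.Agent.H74.DPGam

/-- the integer `n! / (p!^(n/p) (n/p)!)` -/
def NN (p n : ℕ) : ℕ := Nat.uniformBell (n / p) p * n.descFactorial (n % p)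

theorem NN_spec (p n : ℕ) (hp : p ≠ 0) : NN p n * (p ! ^ (n / p) * (n / p)!) = n ! := by
  have h1 := Nat.uniformBell_mul_eq (n / p) hp
  have h2 : n - n % p = n / p * p := by
    have := Nat.div_add_mod n p
    have h3 : p * (n / p) = n / p * p := Nat.mul_comm _ _
    omega
  have h4 := Nat.factorial_mul_descFactorial (Nat.mod_le n p)
  rw [h2] at h4
  unfold NN
  calc uniformBell (n / p) p * n.descFactorial (n % p) * (p ! ^ (n / p) * (n / p)!)
      = (uniformBell (n / p) p * p ! ^ (n / p) * (n / p)!) * n.descFactorial (n % p) := by ring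
    _ = n ! := by rw [h1, h4]

theorem NN_not_dvd (p n : ℕ) (hp : p.Prime) : ¬ p ∣ NN p n := by
  unfold NN
  intro h
  rcases (Nat.Prime.dvd_mul hp).mp h with h | h
  · exact Groth.Agent.H11.not_dvd_uniformBell p hp _ h
  · rw [Nat.descFactorial_eq_prod_range] at h
    obtain ⟨i, hi, hdvd⟩ := (Prime.dvd_finset_prod_iff hp.prime _).mp h
    rw [Finset.mem_range] at hi
    have h1 := Nat.div_add_mod n p
    have h2 : n - i = p * (n / p) + (n % p - i) := by omega
    rw [h2] at hdvd
    have h3 : p ∣ n % p - i := (Nat.dvd_add_right (Dvd.intro _ rfl)).mp hdvd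
    have h4 : n % p - i < p := lt_of_le_of_lt (Nat.sub_le _ _) (Nat.mod_lt _ hp.pos)
    have h5 : 0 < n % p - i := by omega
    exact absurd (Nat.le_of_dvd h5 h3) (by omega)

theorem choose_fact (a b : ℕ) : (a + b).choose a * (a ! * b !) = (a + b)! := by
  have := Nat.add_choose_mul_factorial_mul_factorial b a
  rw [Nat.add_comm b a] at this
  rw [← this]; ring

variable {A : Type u} [CommRing A]

/-- the candidate divided powers -/
noncomputable def gam (p : ℕ) (d : A → A) (n : ℕ) (x : A) : A :=
  if h : n = 0 ∨ p < 2 then 1 else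
    Ring.inverse ((NN p n : ℕ) : A) * x ^ (n % p) * gam p d (n / p) (d x)
termination_by n
decreasing_by
  push_neg at h
  exact Nat.div_lt_self (Nat.pos_of_ne_zero h.1) h.2

theorem gam_zero (p : ℕ) (d : A → A) (x : A) : gam p d 0 x = 1 := by
  rw [gam]; simp

theorem gam_pos {p : ℕ} (hp2 : 2 ≤ p) (d : A → A) {n : ℕ} (hn : n ≠ 0) (x : A) :
    gam p d n x =
      Ring.inverse ((NN p n : ℕ) : A) * x ^ (n % p) * gam p d (n / p) (d x) := by
  rw [gam]
  rw [dif_neg]
  push_neg
  exact ⟨hn, hp2⟩

/-- the standing hypotheses -/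
structure Hyp (p : ℕ) (I : Ideal A) (d : A → A) : Prop where
  hp : p.Prime
  hA : ∀ n : ℕ, ¬ p ∣ n → IsUnit (n : A)
  hdI : ∀ x ∈ I, d x ∈ I
  h1 : ∀ x ∈ I, (p.factorial : A) * d x = x ^ p
  h2 : ∀ (a x : A), x ∈ I → d (a * x) = a ^ p * d x

variable {p : ℕ} {I : Ideal A} {d : A → A}

theorem Hyp.NN_isUnit (H : Hyp p I d) (n : ℕ) : IsUnit ((NN p n : ℕ) : A) :=
  H.hA _ (NN_not_dvd p n H.hp)

theorem gam_spec (H : Hyp p I d) (n : ℕ) (x : A) :
    ((NN p n : ℕ) : A) * gam p d n x = x ^ (n % p) * gam p d (n / p) (d x) := by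
  rcases Nat.eq_zero_or_pos n with rfl | hn
  · simp [NN, gam_zero, Nat.uniformBell_zero_left]
  · rw [gam_pos H.hp.two_le d hn.ne' x]
    calc ((NN p n : ℕ) : A) * (Ring.inverse ((NN p n : ℕ) : A) * x ^ (n % p) *
          gam p d (n / p) (d x))
        = (((NN p n : ℕ) : A) * Ring.inverse ((NN p n : ℕ) : A)) *
          (x ^ (n % p) * gam p d (n / p) (d x)) := by ring
      _ = x ^ (n % p) * gam p d (n / p) (d x) := by
        rw [Ring.mul_inverse_cancel _ (H.NN_isUnit n), one_mul]

theorem gam_one (H : Hyp p I d) (x : A) : gam p d 1 x = x := by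
  have hp2 := H.hp.two_le
  have h := gam_spec H 1 x
  have e1 : 1 % p = 1 := Nat.mod_eq_of_lt hp2
  have e2 : 1 / p = 0 := Nat.div_eq_of_lt hp2
  have e3 : NN p 1 = 1 := by
    unfold NN
    rw [e1, e2, Nat.uniformBell_zero_left]
    rfl
  rw [e1, e2, e3, gam_zero] at h
  simpa using h

theorem gam_p (H : Hyp p I d) (x : A) : gam p d p x = d x := by
  have hp2 := H.hp.two_le
  have h := gam_spec H p x
  have e1 : p % p = 0 := Nat.mod_self p
  have e2 : p / p = 1 := Nat.div_self H.hp.pos
  have e3 : NN p p = 1 := by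
    unfold NN
    rw [e1, e2, Nat.uniformBell_one_left]
    rfl
  rw [e1, e2, e3, gam_one H] at h
  simpa using h

theorem gam_mem (H : Hyp p I d) : ∀ (n : ℕ), n ≠ 0 → ∀ x ∈ I, gam p d n x ∈ I := by
  intro n
  induction n using Nat.strong_induction_on with
  | _ n ih =>
    intro hn x hx
    rw [gam_pos H.hp.two_le d hn x]
    by_cases hr : n % p = 0
    · have hm : n / p ≠ 0 := by
        intro h0
        have := Nat.div_add_mod n p
        rw [h0, hr] at this
        omega
      have hlt : n / p < n := Nat.div_lt_self (Nat.pos_of_ne_zero hn) H.hp.one_lt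
      exact Ideal.mul_mem_left _ _ (ih _ hlt hm _ (H.hdI x hx))
    · apply Ideal.mul_mem_right
      apply Ideal.mul_mem_left
      exact Ideal.pow_mem_of_mem _ hx _ (Nat.pos_of_ne_zero hr)

theorem gam_smul (H : Hyp p I d) : ∀ (n : ℕ) (a : A), ∀ x ∈ I,
    gam p d n (a * x) = a ^ n * gam p d n x := by
  intro n
  induction n using Nat.strong_induction_on with
  | _ n ih =>
    intro a x hx
    rcases Nat.eq_zero_or_pos n with rfl | hn
    · simp [gam_zero]
    have hlt : n / p < n := Nat.div_lt_self hn H.hp.one_lt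
    apply (H.NN_isUnit n).mul_left_cancel
    rw [gam_spec H n (a * x), H.h2 a x hx, ih _ hlt (a ^ p) (d x) (H.hdI x hx)]
    have e : a ^ n = a ^ (n % p) * (a ^ p) ^ (n / p) := by
      rw [← pow_mul, ← pow_add, Nat.mod_add_div]
    rw [e]
    calc (a * x) ^ (n % p) * ((a ^ p) ^ (n / p) * gam p d (n / p) (d x))
        = a ^ (n % p) * (a ^ p) ^ (n / p) * (x ^ (n % p) * gam p d (n / p) (d x)) := by
          rw [mul_pow]; ring
      _ = _ := by rw [← gam_spec H n x]; ring


/-- integer identity, no carry -/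
theorem NN_id_nocarry (p a b : ℕ) (hp : p ≠ 0) (e1 : (a + b) / p = a / p + b / p) :
    NN p a * NN p b * (a + b).choose a = (a / p + b / p).choose (a / p) * NN p (a + b) := by
  have Fa := NN_spec p a hp
  have Fb := NN_spec p b hp
  have Fc := NN_spec p (a + b) hp
  rw [e1] at Fc
  have hch := choose_fact a b
  have hch' := choose_fact (a / p) (b / p)
  have hT : 0 < p ! ^ (a / p) * (a / p)! * (p ! ^ (b / p) * (b / p)!) := by positivity
  apply Nat.eq_of_mul_eq_mul_right hT
  generalize a / p = a' at *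
  generalize b / p = b' at *
  generalize NN p a = Na at *
  generalize NN p b = Nb at *
  generalize NN p (a + b) = Nc at *
  calc Na * Nb * (a + b).choose a * (p ! ^ a' * a' ! * (p ! ^ b' * b' !))
      = (Na * (p ! ^ a' * a' !)) * (Nb * (p ! ^ b' * b' !)) * (a + b).choose a := by ring
    _ = (a + b).choose a * (a ! * b !) := by rw [Fa, Fb]; ring
    _ = Nc * (p ! ^ (a' + b') * (a' + b')!) := by rw [hch, Fc]
    _ = Nc * (p ! ^ (a' + b') * ((a' + b').choose a' * (a' ! * b' !))) := by rw [hch']
    _ = (a' + b').choose a' * Nc * (p ! ^ a' * a' ! * (p ! ^ b' * b' !)) := by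
      rw [pow_add]; ring

/-- integer identity, carry -/
theorem NN_id_carry (p a b : ℕ) (hp : p ≠ 0) (e1 : (a + b) / p = a / p + b / p + 1) :
    NN p a * NN p b * (a + b).choose a =
      (a / p + b / p).choose (a / p) * (p ! * (a / p + b / p + 1)) * NN p (a + b) := by
  have Fa := NN_spec p a hp
  have Fb := NN_spec p b hp
  have Fc := NN_spec p (a + b) hp
  rw [e1] at Fc
  have hch := choose_fact a b
  have hch' := choose_fact (a / p) (b / p)
  have hT : 0 < p ! ^ (a / p) * (a / p)! * (p ! ^ (b / p) * (b / p)!) := by positivity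
  apply Nat.eq_of_mul_eq_mul_right hT
  generalize a / p = a' at *
  generalize b / p = b' at *
  generalize NN p a = Na at *
  generalize NN p b = Nb at *
  generalize NN p (a + b) = Nc at *
  calc Na * Nb * (a + b).choose a * (p ! ^ a' * a' ! * (p ! ^ b' * b' !))
      = (Na * (p ! ^ a' * a' !)) * (Nb * (p ! ^ b' * b' !)) * (a + b).choose a := by ring
    _ = (a + b).choose a * (a ! * b !) := by rw [Fa, Fb]; ring
    _ = Nc * (p ! ^ (a' + b' + 1) * (a' + b' + 1)!) := by rw [hch, Fc]
    _ = Nc * (p ! ^ (a' + b' + 1) * ((a' + b' + 1) * ((a' + b').choose a' * (a' ! * b' !)))) := by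
      rw [Nat.factorial_succ, hch']
    _ = (a' + b').choose a' * (p ! * (a' + b' + 1)) * Nc *
        (p ! ^ a' * a' ! * (p ! ^ b' * b' !)) := by
      rw [pow_succ, pow_add]; ring

theorem gam_mul_gam (H : Hyp p I d) : ∀ (s a b : ℕ), a + b = s → ∀ x ∈ I,
    gam p d a x * gam p d b x = ((a + b).choose a : A) * gam p d (a + b) x := by
  intro s
  induction s using Nat.strong_induction_on with
  | _ s ih =>
    intro a b hab x hx
    have hp2 : 2 ≤ p := H.hp.two_le
    have hp0 : p ≠ 0 := H.hp.ne_zero
    rcases Nat.eq_zero_or_pos a with rfl | ha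
    · simp [gam_zero]
    rcases Nat.eq_zero_or_pos b with rfl | hb
    · simp [gam_zero]
    have hdx : d x ∈ I := H.hdI x hx
    have sa := gam_spec H a x
    have sb := gam_spec H b x
    have sc := gam_spec H (a + b) x
    have da := Nat.div_add_mod a p
    have db := Nat.div_add_mod b p
    have ra : a % p < p := Nat.mod_lt _ H.hp.pos
    have rb : b % p < p := Nat.mod_lt _ H.hp.pos
    have hlt1 : a / p + b / p < s := by
      have h1 : a / p < a := Nat.div_lt_self ha H.hp.one_lt
      have h2 : b / p < b := Nat.div_lt_self hb H.hp.one_lt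
      omega
    have ih1 := ih (a / p + b / p) hlt1 (a / p) (b / p) rfl (d x) hdx
    have hu := (H.NN_isUnit a).mul (H.NN_isUnit b)
    apply hu.mul_left_cancel
    have step1 : ((NN p a : ℕ) : A) * ((NN p b : ℕ) : A) * (gam p d a x * gam p d b x) =
        x ^ (a % p + b % p) * (((a / p + b / p).choose (a / p) : A) *
          gam p d (a / p + b / p) (d x)) := by
      calc ((NN p a : ℕ) : A) * ((NN p b : ℕ) : A) * (gam p d a x * gam p d b x)
          = (((NN p a : ℕ) : A) * gam p d a x) * (((NN p b : ℕ) : A) * gam p d b x) := by ring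
        _ = x ^ (a % p + b % p) * (gam p d (a / p) (d x) * gam p d (b / p) (d x)) := by
          rw [sa, sb, pow_add]; ring
        _ = _ := by rw [ih1]
    rw [step1]
    by_cases hrs : a % p + b % p < p
    · have hc' : a + b = (a % p + b % p) + p * (a / p + b / p) := by
        rw [Nat.mul_add]; omega
      have e1 : (a + b) / p = a / p + b / p := by
        rw [hc', Nat.add_mul_div_left _ _ H.hp.pos, Nat.div_eq_of_lt hrs, zero_add]
      have e2 : (a + b) % p = a % p + b % p := by
        rw [hc', Nat.add_mul_mod_self_left, Nat.mod_eq_of_lt hrs]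
      have E := NN_id_nocarry p a b hp0 e1
      have E' : ((NN p a : ℕ) : A) * ((NN p b : ℕ) : A) * ((a + b).choose a : A) =
          ((a / p + b / p).choose (a / p) : A) * ((NN p (a + b) : ℕ) : A) := by
        exact_mod_cast congrArg (Nat.cast : ℕ → A) E
      rw [e1, e2] at sc
      calc x ^ (a % p + b % p) * (((a / p + b / p).choose (a / p) : A) *
            gam p d (a / p + b / p) (d x))
          = ((a / p + b / p).choose (a / p) : A) *
            (x ^ (a % p + b % p) * gam p d (a / p + b / p) (d x)) := by ring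
        _ = ((a / p + b / p).choose (a / p) : A) *
            (((NN p (a + b) : ℕ) : A) * gam p d (a + b) x) := by rw [sc]
        _ = (((a / p + b / p).choose (a / p) : A) * ((NN p (a + b) : ℕ) : A)) *
            gam p d (a + b) x := by ring
        _ = _ := by rw [← E']; ring
    · have hrs' : p ≤ a % p + b % p := Nat.le_of_not_lt hrs
      have hc' : a + b = (a % p + b % p - p) + p * (a / p + b / p + 1) := by
        rw [Nat.mul_add, Nat.mul_add]; omega
      have hlt' : a % p + b % p - p < p := by omega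
      have e1 : (a + b) / p = a / p + b / p + 1 := by
        rw [hc', Nat.add_mul_div_left _ _ H.hp.pos, Nat.div_eq_of_lt hlt', zero_add]
      have e2 : (a + b) % p = a % p + b % p - p := by
        rw [hc', Nat.add_mul_mod_self_left, Nat.mod_eq_of_lt hlt']
      have E := NN_id_carry p a b hp0 e1
      have E' : ((NN p a : ℕ) : A) * ((NN p b : ℕ) : A) * ((a + b).choose a : A) =
          ((a / p + b / p).choose (a / p) : A) * ((p ! : A) * ((a / p + b / p + 1 : ℕ) : A)) *
            ((NN p (a + b) : ℕ) : A) := by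
        exact_mod_cast congrArg (Nat.cast : ℕ → A) E
      rw [e1, e2] at sc
      have hlt2 : 1 + (a / p + b / p) < s := by
        have h1 : a / p < a := Nat.div_lt_self ha H.hp.one_lt
        have h2 : b / p < b := Nat.div_lt_self hb H.hp.one_lt
        have h3 : 2 * (a / p) ≤ p * (a / p) := Nat.mul_le_mul_right _ hp2
        have h4 : 2 * (b / p) ≤ p * (b / p) := Nat.mul_le_mul_right _ hp2
        omega
      have ih2 := ih (1 + (a / p + b / p)) hlt2 1 (a / p + b / p) rfl (d x) hdx
      rw [gam_one H, Nat.choose_one_right, Nat.add_comm 1 (a / p + b / p)] at ih2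
      have hxp : x ^ (a % p + b % p) = x ^ (a % p + b % p - p) * ((p ! : A) * d x) := by
        rw [H.h1 x hx, ← pow_add]
        congr 1
        omega
      calc x ^ (a % p + b % p) * (((a / p + b / p).choose (a / p) : A) *
            gam p d (a / p + b / p) (d x))
          = ((a / p + b / p).choose (a / p) : A) * (p ! : A) * (x ^ (a % p + b % p - p) *
            (d x * gam p d (a / p + b / p) (d x))) := by rw [hxp]; ring
        _ = ((a / p + b / p).choose (a / p) : A) * (p ! : A) * (x ^ (a % p + b % p - p) *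
            (((a / p + b / p + 1 : ℕ) : A) * gam p d (a / p + b / p + 1) (d x))) := by rw [ih2]
        _ = ((a / p + b / p).choose (a / p) : A) * ((p ! : A) * ((a / p + b / p + 1 : ℕ) : A)) *
            (x ^ (a % p + b % p - p) * gam p d (a / p + b / p + 1) (d x)) := by ring
        _ = ((a / p + b / p).choose (a / p) : A) * ((p ! : A) * ((a / p + b / p + 1 : ℕ) : A)) *
            (((NN p (a + b) : ℕ) : A) * gam p d (a + b) x) := by rw [sc]
        _ = _ := by rw [← mul_assoc, ← E']; ring


/-- integer identity for `δ ∘ γ_n`, case `n < p` -/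
theorem bell_id_zero (p s : ℕ) (hp : p ≠ 0) (hm : (s + 1) / p = 0) :
    Nat.uniformBell (s + 1) p * p ! ^ s * NN p (s + 1) =
      Nat.uniformBell p (s + 1) * NN p (s + 1) ^ p := by
  have F1 := Nat.uniformBell_mul_eq (s + 1) hp
  have F3 := Nat.uniformBell_mul_eq p (Nat.succ_ne_zero s)
  have F5 := NN_spec p (s + 1) hp
  rw [hm, pow_zero, Nat.factorial_zero, mul_one, mul_one] at F5
  rw [F5]
  apply Nat.eq_of_mul_eq_mul_right (Nat.factorial_pos p)
  calc uniformBell (s + 1) p * p ! ^ s * (s + 1)! * p !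
      = uniformBell (s + 1) p * p ! ^ (s + 1) * (s + 1)! := by rw [pow_succ]; ring
    _ = ((s + 1) * p)! := F1
    _ = (p * (s + 1))! := by rw [Nat.mul_comm]
    _ = uniformBell p (s + 1) * (s + 1)! ^ p * p ! := F3.symm

/-- integer identity for `δ ∘ γ_n`, case `p ≤ n` -/
theorem bell_id (p n : ℕ) (hp : p ≠ 0) (hn : n ≠ 0) (hm : n / p ≠ 0) :
    Nat.uniformBell n p * p ! ^ (n % p) * Nat.uniformBell p (n / p) * NN p n =
      Nat.uniformBell p n * Nat.uniformBell (n / p) p * NN p n ^ p := by
  have F1 := Nat.uniformBell_mul_eq n hp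
  have F2 := Nat.uniformBell_mul_eq p hm
  have F3 := Nat.uniformBell_mul_eq p hn
  have F4 := Nat.uniformBell_mul_eq (n / p) hp
  have F5 := NN_spec p n hp
  have hpow : p ! ^ n = p ! ^ (n % p) * p ! ^ (p * (n / p)) := by
    rw [← pow_add, Nat.mod_add_div]
  have hT : 0 < p ! ^ (p * (n / p)) * n ! * ((n / p)! ^ p * p !) * (p ! ^ (n / p) * (n / p)!) := by
    positivity
  apply Nat.eq_of_mul_eq_mul_right hT
  generalize n / p = m at *
  generalize n % p = r at *
  generalize NN p n = N at *
  calc uniformBell n p * p ! ^ r * uniformBell p m * N *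
        (p ! ^ (p * m) * n ! * (m ! ^ p * p !) * (p ! ^ m * m !))
      = (uniformBell n p * (p ! ^ r * p ! ^ (p * m)) * n !) * (uniformBell p m * m ! ^ p * p !) *
        (N * (p ! ^ m * m !)) := by ring
    _ = (n * p)! * (p * m)! * n ! := by rw [← hpow, F1, F2, F5]
    _ = (p * n)! * (m * p)! * n ! := by rw [Nat.mul_comm n p, Nat.mul_comm p m]
    _ = (uniformBell p n * n ! ^ p * p !) * (uniformBell m p * p ! ^ m * m !) * n ! := by
      rw [F3, F4]
    _ = (uniformBell p n * (N * (p ! ^ m * m !)) ^ p * p !) * (uniformBell m p * p ! ^ m * m !) *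
        n ! := by rw [F5]
    _ = uniformBell p n * uniformBell m p * N ^ p *
        (p ! ^ (p * m) * n ! * (m ! ^ p * p !) * (p ! ^ m * m !)) := by ring

theorem delta_gam_aux (H : Hyp p I d) : ∀ (n : ℕ), n ≠ 0 → ∀ x ∈ I,
    ((Nat.uniformBell n p : ℕ) : A) * d (gam p d n x) =
      ((Nat.uniformBell p n : ℕ) : A) * gam p d n (d x) := by
  intro n
  induction n using Nat.strong_induction_on with
  | _ n ih =>
    intro hn x hx
    have hp0 := H.hp.ne_zero
    have hdx := H.hdI x hx
    have hmem : gam p d n x ∈ I := gam_mem H n hn x hx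
    have sn := gam_spec H n x
    have sn' := gam_spec H n (d x)
    have A1 : d (((NN p n : ℕ) : A) * gam p d n x) =
        ((NN p n : ℕ) : A) ^ p * d (gam p d n x) := H.h2 _ _ hmem
    have hxp : ∀ k, (x ^ k) ^ p = (p ! : A) ^ k * (d x) ^ k := by
      intro k
      calc (x ^ k) ^ p = (x ^ p) ^ k := by ring
        _ = ((p ! : A) * d x) ^ k := by rw [H.h1 x hx]
        _ = _ := by rw [mul_pow]
    by_cases hm : n / p = 0
    · have hnr : n % p = n := by
        have := Nat.div_add_mod n p
        rw [hm] at this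
        omega
      obtain ⟨s, rfl⟩ : ∃ s, n = s + 1 := ⟨n - 1, by omega⟩
      rw [hm, hnr, gam_zero, mul_one] at sn sn'
      have B1 : ((NN p (s + 1) : ℕ) : A) ^ p * d (gam p d (s + 1) x) =
          (p ! : A) ^ s * (d x) ^ (s + 1) := by
        rw [← A1, sn, pow_succ, H.h2 _ _ hx, hxp s]; ring
      have E := bell_id_zero p s hp0 hm
      have E' : ((uniformBell (s + 1) p : ℕ) : A) * (p ! : A) ^ s * ((NN p (s + 1) : ℕ) : A) =
          ((uniformBell p (s + 1) : ℕ) : A) * ((NN p (s + 1) : ℕ) : A) ^ p := by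
        exact_mod_cast congrArg (Nat.cast : ℕ → A) E
      apply ((H.NN_isUnit (s + 1)).pow p).mul_left_cancel
      calc ((NN p (s + 1) : ℕ) : A) ^ p *
            (((uniformBell (s + 1) p : ℕ) : A) * d (gam p d (s + 1) x))
          = ((uniformBell (s + 1) p : ℕ) : A) *
            (((NN p (s + 1) : ℕ) : A) ^ p * d (gam p d (s + 1) x)) := by ring
        _ = ((uniformBell (s + 1) p : ℕ) : A) * ((p ! : A) ^ s * (d x) ^ (s + 1)) := by rw [B1]
        _ = ((uniformBell (s + 1) p : ℕ) : A) * (p ! : A) ^ s *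
            (((NN p (s + 1) : ℕ) : A) * gam p d (s + 1) (d x)) := by rw [sn']; ring
        _ = (((uniformBell (s + 1) p : ℕ) : A) * (p ! : A) ^ s * ((NN p (s + 1) : ℕ) : A)) *
            gam p d (s + 1) (d x) := by ring
        _ = _ := by rw [E']; ring
    · have hmlt : n / p < n := Nat.div_lt_self (Nat.pos_of_ne_zero hn) H.hp.one_lt
      have hmem' : gam p d (n / p) (d x) ∈ I := gam_mem H _ hm _ hdx
      have ihm := ih (n / p) hmlt hm (d x) hdx
      have B1 : ((NN p n : ℕ) : A) ^ p * d (gam p d n x) =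
          (x ^ (n % p)) ^ p * d (gam p d (n / p) (d x)) := by
        rw [← A1, sn, H.h2 _ _ hmem']
      have E := bell_id p n hp0 hn hm
      have E' : ((uniformBell n p : ℕ) : A) * (p ! : A) ^ (n % p) *
          ((uniformBell p (n / p) : ℕ) : A) * ((NN p n : ℕ) : A) =
          ((uniformBell p n : ℕ) : A) * ((uniformBell (n / p) p : ℕ) : A) *
            ((NN p n : ℕ) : A) ^ p := by
        exact_mod_cast congrArg (Nat.cast : ℕ → A) E
      have hu := (H.hA _ (Groth.Agent.H11.not_dvd_uniformBell p H.hp (n / p))).mul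
        ((H.NN_isUnit n).pow p)
      apply hu.mul_left_cancel
      calc ((uniformBell (n / p) p : ℕ) : A) * ((NN p n : ℕ) : A) ^ p *
            (((uniformBell n p : ℕ) : A) * d (gam p d n x))
          = ((uniformBell n p : ℕ) : A) * (((uniformBell (n / p) p : ℕ) : A) *
            (((NN p n : ℕ) : A) ^ p * d (gam p d n x))) := by ring
        _ = ((uniformBell n p : ℕ) : A) * ((x ^ (n % p)) ^ p *
            (((uniformBell (n / p) p : ℕ) : A) * d (gam p d (n / p) (d x)))) := by
          rw [B1]; ring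
        _ = ((uniformBell n p : ℕ) : A) * ((p ! : A) ^ (n % p) * (d x) ^ (n % p) *
            (((uniformBell p (n / p) : ℕ) : A) * gam p d (n / p) (d (d x)))) := by
          rw [ihm, hxp]
        _ = ((uniformBell n p : ℕ) : A) * (p ! : A) ^ (n % p) *
            ((uniformBell p (n / p) : ℕ) : A) *
            ((d x) ^ (n % p) * gam p d (n / p) (d (d x))) := by ring
        _ = ((uniformBell n p : ℕ) : A) * (p ! : A) ^ (n % p) *
            ((uniformBell p (n / p) : ℕ) : A) *
            (((NN p n : ℕ) : A) * gam p d n (d x)) := by rw [sn']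
        _ = (((uniformBell n p : ℕ) : A) * (p ! : A) ^ (n % p) *
            ((uniformBell p (n / p) : ℕ) : A) * ((NN p n : ℕ) : A)) * gam p d n (d x) := by ring
        _ = _ := by rw [E']; ring

theorem delta_gam (H : Hyp p I d) (n : ℕ) (hn : n ≠ 0) (x : A) (hx : x ∈ I) :
    d (gam p d n x) = ((Nat.uniformBell p n : ℕ) : A) * gam p d (p * n) x := by
  have h := delta_gam_aux H n hn x hx
  have s := gam_spec H (p * n) x
  have e1 : p * n % p = 0 := Nat.mul_mod_right p n
  have e2 : p * n / p = n := Nat.mul_div_cancel_left n H.hp.pos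
  have e3 : NN p (p * n) = Nat.uniformBell n p := by
    unfold NN
    rw [e1, e2, Nat.descFactorial_zero, mul_one]
  rw [e1, e2, e3, pow_zero, one_mul] at s
  have hu : IsUnit ((Nat.uniformBell n p : ℕ) : A) :=
    H.hA _ (Groth.Agent.H11.not_dvd_uniformBell p H.hp n)
  apply hu.mul_left_cancel
  rw [h, ← s]; ring

end Groth.Agent.H74.DPGam
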