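import Groth.Agent.H74.DPGam
import Mathlib.Data.Nat.Prime.Factorial

/-!
# Divided powers from the `p`-th divided power: additivity and composition via the universal
divided power polynomial algebra (helper81's `DPB`).
-/

set_option autoImplicit false
universe u
open Nat Finset Finsupp

namespace Groth.Agent.H74.DPGam

open Groth.Agent.H81.DPPoly

variable {A : Type u} [CommRing A] {p : ℕ} {I : Ideal A} {d : A → A}

/-- additivity hypothesis (3) -/
def Hadd (p : ℕ) (I : Ideal A) (d : A → A) : Prop :=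
  ∀ x ∈ I, ∀ y ∈ I, d (x + y) = d x + d y +
      ((Finset.antidiagonal p).filter fun k => 0 < k.1 ∧ 0 < k.2).sum
        fun k => Ring.inverse ((k.1.factorial * k.2.factorial : ℕ) : A) * x ^ k.1 * y ^ k.2

theorem sum_antidiagonal_split {M : Type*} [AddCommMonoid M] (p : ℕ) (hp : p ≠ 0)
    (F : ℕ × ℕ → M) :
    (Finset.antidiagonal p).sum F = F (0, p) + F (p, 0) +
      ((Finset.antidiagonal p).filter fun k => 0 < k.1 ∧ 0 < k.2).sum F := by
  rw [← Finset.sum_filter_add_sum_filter_not (Finset.antidiagonal p)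
    (fun k => 0 < k.1 ∧ 0 < k.2) F]
  have : (Finset.antidiagonal p).filter (fun k => ¬ (0 < k.1 ∧ 0 < k.2)) =
      {(0, p), (p, 0)} := by
    ext ⟨a, b⟩
    simp only [Finset.mem_filter, Finset.mem_antidiagonal, Finset.mem_insert,
      Finset.mem_singleton, Prod.mk.injEq]
    omega
  have hne : ((0 : ℕ), p) ≠ (p, 0) := by
    intro h
    exact hp (Prod.ext_iff.mp h).1.symm
  rw [this, Finset.sum_pair hne, add_comm]

/-- the recursion satisfied by any divided power structure -/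
theorem dp_spec {P : Type*} [CommRing P] {J : Ideal P} (γ : DividedPowers J) (p : ℕ)
    (hp : p ≠ 0) (n : ℕ) {f : P} (hf : f ∈ J) :
    ((NN p n : ℕ) : P) * γ.dpow n f = f ^ (n % p) * γ.dpow (n / p) (γ.dpow p f) := by
  have h1 := γ.factorial_mul_dpow_eq_pow (n := n % p) hf
  have h2 := γ.dpow_comp (m := n / p) hp hf
  have h3 := γ.mul_dpow (m := n % p) (n := n / p * p) hf
  have h4 : n % p + n / p * p = n := by rw [Nat.mul_comm]; exact Nat.mod_add_div n p
  rw [h4] at h3
  rw [← h1, h2]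
  unfold NN
  rw [Nat.descFactorial_eq_factorial_mul_choose]
  push_cast
  calc (uniformBell (n / p) p : P) * (((n % p)! : P) * (n.choose (n % p) : P)) * γ.dpow n f
      = (uniformBell (n / p) p : P) * ((n % p)! : P) *
        ((n.choose (n % p) : P) * γ.dpow n f) := by ring
    _ = (uniformBell (n / p) p : P) * ((n % p)! : P) *
        (γ.dpow (n % p) f * γ.dpow (n / p * p) f) := by rw [h3]
    _ = _ := by ring

theorem d_zero (H : Hyp p I d) : d 0 = 0 := by
  have := H.h2 0 0 I.zero_mem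
  rw [zero_mul, zero_pow H.hp.ne_zero, zero_mul] at this
  exact this

theorem stepA (H : Hyp p I d) (h3 : Hadd p I d) {P : Type*} [CommRing P] {J : Ideal P}
    (ε : DividedPowers J) (S : Set P) (hS : Ideal.span S = J) (Φ : P →+* A)
    (hgen : ∀ y ∈ S, Φ y ∈ I ∧ Φ (ε.dpow p y) = d (Φ y)) :
    ∀ f ∈ J, Φ f ∈ I ∧ Φ (ε.dpow p f) = d (Φ f) := by
  have hp0 : p ≠ 0 := H.hp.ne_zero
  intro f hf
  have hf0 := hf
  rw [← hS] at hf
  induction hf using Submodule.span_induction with
  | mem y h => exact hgen y h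
  | zero =>
    refine ⟨by rw [map_zero]; exact zero_mem _, ?_⟩
    rw [ε.dpow_eval_zero hp0, map_zero, d_zero H]
  | add f g hf hg ihf ihg =>
    have hf' : f ∈ J := hS ▸ hf
    have hg' : g ∈ J := hS ▸ hg
    obtain ⟨hf1, hf2⟩ := ihf hf'
    obtain ⟨hg1, hg2⟩ := ihg hg'
    refine ⟨by rw [map_add]; exact add_mem hf1 hg1, ?_⟩
    rw [ε.dpow_add hf' hg', map_sum, map_add, h3 _ hf1 _ hg1, sum_antidiagonal_split p hp0]
    congr 1
    · rw [ε.dpow_zero hf', ε.dpow_zero hg', one_mul, mul_one, hf2, hg2, add_comm]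
    · apply Finset.sum_congr rfl
      intro k hk
      rw [Finset.mem_filter, Finset.mem_antidiagonal] at hk
      obtain ⟨hk0, hk1, hk2⟩ := hk
      have hu : IsUnit ((k.1 ! * k.2 ! : ℕ) : A) := by
        apply H.hA
        intro hdvd
        rcases (Nat.Prime.dvd_mul H.hp).mp hdvd with h | h
        · have := (Nat.Prime.dvd_factorial H.hp).mp h
          omega
        · have := (Nat.Prime.dvd_factorial H.hp).mp h
          omega
      have e1 := ε.factorial_mul_dpow_eq_pow (n := k.1) hf'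
      have e2 := ε.factorial_mul_dpow_eq_pow (n := k.2) hg'
      have e : ((k.1 ! * k.2 ! : ℕ) : A) * Φ (ε.dpow k.1 f * ε.dpow k.2 g) =
          (Φ f) ^ k.1 * (Φ g) ^ k.2 := by
        rw [← map_pow, ← map_pow, ← e1, ← e2]
        push_cast
        simp only [map_mul, map_natCast]
        ring
      rw [mul_assoc, ← e, Ring.inverse_mul_cancel_left _ _ hu]
  | smul a f hf ihf =>
    have hf' : f ∈ J := hS ▸ hf
    obtain ⟨hf1, hf2⟩ := ihf hf'
    refine ⟨by rw [smul_eq_mul, map_mul]; exact Ideal.mul_mem_left _ _ hf1, ?_⟩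
    rw [smul_eq_mul, ε.dpow_mul hf', map_mul, map_pow, hf2, map_mul, H.h2 _ _ hf1]

theorem stepB (H : Hyp p I d) {P : Type*} [CommRing P] {J : Ideal P}
    (ε : DividedPowers J) (Φ : P →+* A)
    (hA : ∀ f ∈ J, Φ f ∈ I ∧ Φ (ε.dpow p f) = d (Φ f)) :
    ∀ (n : ℕ), ∀ f ∈ J, Φ (ε.dpow n f) = gam p d n (Φ f) := by
  have hp0 : p ≠ 0 := H.hp.ne_zero
  intro n
  induction n using Nat.strong_induction_on with
  | _ n ih =>
    intro f hf
    rcases Nat.eq_zero_or_pos n with rfl | hn
    · rw [ε.dpow_zero hf, map_one, gam_zero]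
    have hlt : n / p < n := Nat.div_lt_self hn H.hp.one_lt
    have e := congrArg Φ (dp_spec ε p hp0 n hf)
    rw [map_mul, map_mul, map_pow, map_natCast, ih _ hlt _ (ε.dpow_mem hp0 hf), (hA f hf).2,
      ← gam_spec H n (Φ f)] at e
    exact (H.NN_isUnit n).mul_left_cancel e

/-- the universal situation -/
theorem exists_universal (H : Hyp p I d) (h3 : Hadd p I d) {x y : A} (hx : x ∈ I) (hy : y ∈ I) :
    ∃ (P : Type) (_ : CommRing P) (J : Ideal P) (ε : DividedPowers J) (Φ : P →+* A) (u v : P),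
      u ∈ J ∧ v ∈ J ∧ Φ u = x ∧ Φ v = y ∧
      ∀ (n : ℕ), ∀ f ∈ J, Φ (ε.dpow n f) = gam p d n (Φ f) := by
  have hinj : Function.Injective (algebraMap ℤ ℚ) := (algebraMap ℤ ℚ).injective_int
  let D := Model.dpb ℤ ℚ 2 hinj
  obtain ⟨ε, hε⟩ := exists_dp D
  let t : Fin 2 → ℕ → A := fun i n => gam p d n (![x, y] i)
  have hz : ∀ i, ![x, y] i ∈ I := by
    intro i
    fin_cases i
    · exact hx
    · exact hy
  obtain ⟨Φ, -, hΦ⟩ := exists_ringHom D (Int.castRingHom A) t (fun i => gam_zero p d _)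
    (fun i m n => gam_mul_gam H _ m n rfl _ (hz i))
  have hΦs : ∀ i k, Φ (D.b (single i k)) = t i k := by
    intro i k
    rw [hΦ, Finset.prod_eq_single i]
    · rw [single_eq_same]
    · intro j _ hji
      rw [single_eq_of_ne hji]
      exact gam_zero p d _
    · intro h
      exact absurd (Finset.mem_univ i) h
  have hgen : ∀ y' ∈ {y : Model.sub ℤ ℚ 2 | ∃ (i : Fin 2) (n : ℕ), 1 ≤ n ∧ y = D.b (single i n)},
      Φ y' ∈ I ∧ Φ (ε.dpow p y') = d (Φ y') := by
    rintro _ ⟨i, k, hk, rfl⟩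
    have hk0 : k ≠ 0 := by omega
    rw [hΦs]
    refine ⟨gam_mem H k hk0 _ (hz i), ?_⟩
    rw [← hε i k, ε.dpow_comp hk0 (D.single_mem_aug i 1 le_rfl), hε, map_mul, map_natCast, hΦs]
    exact (delta_gam H k hk0 _ (hz i)).symm
  have hAll := stepA H h3 ε _ rfl Φ hgen
  have hB := stepB H ε Φ hAll
  refine ⟨_, inferInstance, D.aug, ε, Φ, D.b (single 0 1), D.b (single 1 1),
    D.single_mem_aug 0 1 le_rfl, D.single_mem_aug 1 1 le_rfl, ?_, ?_, hB⟩
  · rw [hΦs]
    exact gam_one H x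
  · rw [hΦs]
    exact gam_one H y

theorem gam_add (H : Hyp p I d) (h3 : Hadd p I d) (n : ℕ) (x : A) (hx : x ∈ I) (y : A)
    (hy : y ∈ I) :
    gam p d n (x + y) = (Finset.antidiagonal n).sum fun k => gam p d k.1 x * gam p d k.2 y := by
  obtain ⟨P, _, J, ε, Φ, u, v, hu, hv, rfl, rfl, hB⟩ := exists_universal H h3 hx hy
  rw [← map_add, ← hB n _ (add_mem hu hv), ε.dpow_add hu hv, map_sum]
  apply Finset.sum_congr rfl
  intro k _
  rw [map_mul, hB _ _ hu, hB _ _ hv]

theorem gam_comp (H : Hyp p I d) (h3 : Hadd p I d) (m n : ℕ) (hn : n ≠ 0) (x : A) (hx : x ∈ I) :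
    gam p d m (gam p d n x) = (Nat.uniformBell m n : A) * gam p d (m * n) x := by
  obtain ⟨P, _, J, ε, Φ, u, v, hu, hv, rfl, -, hB⟩ := exists_universal H h3 hx hx
  rw [← hB n _ hu, ← hB m _ (ε.dpow_mem hn hu), ε.dpow_comp hn hu, map_mul, map_natCast,
    hB _ _ hu]

open Classical in
/-- the divided power structure -/
noncomputable def theDP (H : Hyp p I d) (h3 : Hadd p I d) : DividedPowers I where
  dpow n x := if x ∈ I then gam p d n x else 0
  dpow_null hx := if_neg hx
  dpow_zero hx := by rw [if_pos hx, gam_zero]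
  dpow_one hx := by rw [if_pos hx, gam_one H]
  dpow_mem hn hx := by rw [if_pos hx]; exact gam_mem H _ hn _ hx
  dpow_add hx hy := by
    rw [if_pos (add_mem hx hy), gam_add H h3 _ _ hx _ hy]
    apply Finset.sum_congr rfl
    intro k _
    rw [if_pos hx, if_pos hy]
  dpow_mul hx := by rw [if_pos (I.mul_mem_left _ hx), if_pos hx, gam_smul H _ _ _ hx]
  mul_dpow hx := by
    simp only [if_pos hx]
    exact gam_mul_gam H _ _ _ rfl _ hx
  dpow_comp hn hx := by
    simp only [if_pos hx, if_pos (gam_mem H _ hn _ hx)]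
    exact gam_comp H h3 _ _ hn _ hx

open Classical in
theorem theDP_p (H : Hyp p I d) (h3 : Hadd p I d) (x : A) (hx : x ∈ I) :
    (theDP H h3).dpow p x = d x := by
  show (if x ∈ I then gam p d p x else 0) = d x
  rw [if_pos hx, gam_p H]

end Groth.Agent.H74.DPGam
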