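import Mathlib

/-! Lifting idempotent endomorphisms of adically complete modules (Newton iteration), and
adic completeness of finite projective modules over adically complete rings. -/

namespace Groth.Agent.H74.IdemLift

open Polynomial

variable {W : Type*} [CommRing W] (I : Ideal W)

section basic
variable {M N : Type*} [AddCommGroup M] [Module W M] [AddCommGroup N] [Module W N]

theorem pow_smul_top_anti {k l : ℕ} (h : k ≤ l) :
    (I ^ l • ⊤ : Submodule W M) ≤ I ^ k • ⊤ :=
  Submodule.smul_mono_left (Ideal.pow_le_pow_right h)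

theorem map_mem (ψ : M →ₗ[W] N) {k : ℕ} {y : M} (hy : y ∈ (I ^ k • ⊤ : Submodule W M)) :
    ψ y ∈ (I ^ k • ⊤ : Submodule W N) := by
  have h1 : ψ y ∈ (I ^ k • ⊤ : Submodule W M).map ψ := Submodule.mem_map_of_mem hy
  rw [Submodule.map_smul''] at h1
  exact Submodule.smul_mono le_rfl le_top h1

theorem apply_mem {a b : ℕ} (ψ : M →ₗ[W] M)
    (hψ : LinearMap.range ψ ≤ (I ^ a • ⊤ : Submodule W M))
    {y : M} (hy : y ∈ (I ^ b • ⊤ : Submodule W M)) : ψ y ∈ (I ^ (a + b) • ⊤ : Submodule W M) := by
  have h1 : ψ y ∈ (I ^ b • ⊤ : Submodule W M).map ψ := Submodule.mem_map_of_mem hy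
  rw [Submodule.map_smul'', Submodule.map_top] at h1
  have h2 : (I ^ b • LinearMap.range ψ : Submodule W M) ≤ I ^ (a + b) • ⊤ := by
    calc (I ^ b • LinearMap.range ψ : Submodule W M)
        ≤ I ^ b • (I ^ a • ⊤ : Submodule W M) := Submodule.smul_mono le_rfl hψ
      _ = I ^ (a + b) • ⊤ := by rw [← Submodule.mul_smul, ← pow_add, add_comm]
  exact h2 h1

theorem eq_of_forall_sub_mem [IsHausdorff I M] {u v : M}
    (h : ∀ n, u - v ∈ (I ^ n • ⊤ : Submodule W M)) : u = v := by
  rw [← sub_eq_zero]
  apply IsHausdorff.haus' (I := I)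
  intro n
  rw [SModEq.sub_mem, sub_zero]
  exact h n

theorem exists_limit_of_step [IsPrecomplete I M] (f : ℕ → M)
    (h : ∀ n, f (n + 1) - f n ∈ (I ^ n • ⊤ : Submodule W M)) :
    ∃ y : M, ∀ n, f n - y ∈ (I ^ n • ⊤ : Submodule W M) := by
  have hc : ∀ {m n}, m ≤ n → f m ≡ f n [SMOD (I ^ m • ⊤ : Submodule W M)] := by
    apply (AdicCompletion.isAdicCauchy_iff _ _ _).mpr
    intro n
    rw [SModEq.sub_mem, ← neg_sub]
    exact neg_mem (h n)
  obtain ⟨L, hL⟩ := IsPrecomplete.prec' f hc
  exact ⟨L, fun n => SModEq.sub_mem.mp (hL n)⟩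

end basic

section newton

variable (W) in
/-- Newton iterates for the equation `x ^ 2 = x`. -/
noncomputable def pN : ℕ → W[X]
  | 0 => X
  | n + 1 => 3 * pN n ^ 2 - 2 * pN n ^ 3

theorem pN_succ_sub (n : ℕ) :
    pN W (n + 1) - pN W n = (pN W n ^ 2 - pN W n) * (-(2 * pN W n - 1)) := by
  simp only [pN]; ring

theorem pN_delta_succ (n : ℕ) :
    pN W (n + 1) ^ 2 - pN W (n + 1) = (pN W n ^ 2 - pN W n) *
      ((pN W n ^ 2 - pN W n) * (4 * (pN W n ^ 2 - pN W n) - 3)) := by
  simp only [pN]; ring

variable {P : Type*} [AddCommGroup P] [Module W P]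
variable (φ : Module.End W P)

theorem range_delta (h0 : LinearMap.range (φ * φ - φ) ≤ (I • ⊤ : Submodule W P)) (n : ℕ) :
    LinearMap.range (aeval φ (pN W n ^ 2 - pN W n)) ≤ (I ^ (n + 1) • ⊤ : Submodule W P) := by
  induction n with
  | zero =>
    have e : aeval φ (pN W 0 ^ 2 - pN W 0) = φ * φ - φ := by
      simp [pN, pow_two]
    rw [e, zero_add, pow_one]
    exact h0
  | succ n ih =>
    rw [pN_delta_succ, map_mul, map_mul]
    rintro _ ⟨x, rfl⟩
    rw [Module.End.mul_apply, Module.End.mul_apply]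
    have h1 : aeval φ (pN W n ^ 2 - pN W n)
        ((aeval φ (4 * (pN W n ^ 2 - pN W n) - 3)) x) ∈ (I ^ (n + 1) • ⊤ : Submodule W P) :=
      ih (LinearMap.mem_range_self _ _)
    have h2 := apply_mem I _ ih h1
    exact pow_smul_top_anti I (by omega) h2

theorem step_mem (h0 : LinearMap.range (φ * φ - φ) ≤ (I • ⊤ : Submodule W P)) (n : ℕ) (x : P) :
    aeval φ (pN W (n + 1)) x - aeval φ (pN W n) x ∈ (I ^ (n + 1) • ⊤ : Submodule W P) := by
  have e : aeval φ (pN W (n + 1)) x - aeval φ (pN W n) x
      = aeval φ (pN W n ^ 2 - pN W n) (aeval φ (-(2 * pN W n - 1)) x) := by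
    rw [← LinearMap.sub_apply, ← map_sub, pN_succ_sub, map_mul, Module.End.mul_apply]
  rw [e]
  exact range_delta I φ h0 n (LinearMap.mem_range_self _ _)

theorem sq_sub_mem (h0 : LinearMap.range (φ * φ - φ) ≤ (I • ⊤ : Submodule W P)) (n : ℕ) (x : P) :
    aeval φ (pN W n) (aeval φ (pN W n) x) - aeval φ (pN W n) x
      ∈ (I ^ (n + 1) • ⊤ : Submodule W P) := by
  have e : aeval φ (pN W n) (aeval φ (pN W n) x) - aeval φ (pN W n) x
      = aeval φ (pN W n ^ 2 - pN W n) x := by
    rw [map_sub, map_pow, pow_two, LinearMap.sub_apply, Module.End.mul_apply]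
  rw [e]
  exact range_delta I φ h0 n (LinearMap.mem_range_self _ _)

theorem exists_idempotent [IsAdicComplete I P]
    (h0 : LinearMap.range (φ * φ - φ) ≤ (I • ⊤ : Submodule W P)) :
    ∃ e : P →ₗ[W] P, IsIdempotentElem e ∧ ∀ x, e x - φ x ∈ (I • ⊤ : Submodule W P) := by
  have hlim : ∀ x : P, ∃ y : P, ∀ n, aeval φ (pN W n) x - y ∈ (I ^ n • ⊤ : Submodule W P) := by
    intro x
    apply exists_limit_of_step I (fun n => aeval φ (pN W n) x)
    intro n
    exact pow_smul_top_anti I (Nat.le_succ n) (step_mem I φ h0 n x)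
  choose e0 he0 using hlim
  have hadd : ∀ x y, e0 (x + y) = e0 x + e0 y := by
    intro x y
    apply eq_of_forall_sub_mem I
    intro n
    have e : e0 (x + y) - (e0 x + e0 y)
        = (aeval φ (pN W n) x - e0 x) + (aeval φ (pN W n) y - e0 y)
          - (aeval φ (pN W n) (x + y) - e0 (x + y)) := by
      rw [map_add]; abel
    rw [e]
    exact sub_mem (add_mem (he0 x n) (he0 y n)) (he0 (x + y) n)
  have hsmul : ∀ (c : W) x, e0 (c • x) = c • e0 x := by
    intro c x
    apply eq_of_forall_sub_mem I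
    intro n
    have e : e0 (c • x) - c • e0 x
        = c • (aeval φ (pN W n) x - e0 x) - (aeval φ (pN W n) (c • x) - e0 (c • x)) := by
      rw [map_smul, smul_sub]; abel
    rw [e]
    exact sub_mem (Submodule.smul_mem _ c (he0 x n)) (he0 (c • x) n)
  let e : P →ₗ[W] P :=
    { toFun := e0
      map_add' := hadd
      map_smul' := fun c x => by simpa using hsmul c x }
  refine ⟨e, ?_, ?_⟩
  · show e * e = e
    apply LinearMap.ext
    intro x
    show e0 (e0 x) = e0 x
    apply eq_of_forall_sub_mem I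
    intro n
    have e1 : e0 (e0 x) - e0 x
        = (aeval φ (pN W n) (aeval φ (pN W n) x) - aeval φ (pN W n) x)
          + (aeval φ (pN W n) x - e0 x)
          - (aeval φ (pN W n) (e0 x) - e0 (e0 x))
          - aeval φ (pN W n) (aeval φ (pN W n) x - e0 x) := by
      rw [map_sub]; abel
    rw [e1]
    refine sub_mem (sub_mem (add_mem ?_ (he0 x n)) (he0 (e0 x) n)) (map_mem I _ (he0 x n))
    exact pow_smul_top_anti I (Nat.le_succ n) (sq_sub_mem I φ h0 n x)
  · intro x
    show e0 x - φ x ∈ _
    have e1 : e0 x - φ x = (aeval φ (pN W 1) x - aeval φ (pN W 0) x)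
        - (aeval φ (pN W 1) x - e0 x) := by
      have : aeval φ (pN W 0) = φ := by simp [pN]
      rw [this]; abel
    rw [e1]
    have h1 := step_mem I φ h0 0 x
    have h2 := he0 x 1
    rw [zero_add, pow_one] at h1
    rw [pow_one] at h2
    exact sub_mem h1 h2

end newton

section complete

variable {M P : Type*} [AddCommGroup M] [Module W M] [AddCommGroup P] [Module W P]

theorem isAdicComplete_of_retract [IsAdicComplete I M] (ι : P →ₗ[W] M) (π : M →ₗ[W] P)
    (h : ∀ x, π (ι x) = x) : IsAdicComplete I P := by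
  have h1 : IsHausdorff I P := by
    refine ⟨fun x hx => ?_⟩
    have : ι x = 0 := by
      apply eq_of_forall_sub_mem I
      intro n
      rw [sub_zero]
      have := hx n
      rw [SModEq.sub_mem, sub_zero] at this
      exact map_mem I ι this
    rw [← h x, this, map_zero]
  have h2 : IsPrecomplete I P := by
    refine ⟨fun f hf => ?_⟩
    have hc : ∀ n, ι (f (n + 1)) - ι (f n) ∈ (I ^ n • ⊤ : Submodule W M) := by
      intro n
      have := hf (Nat.le_succ n)
      rw [SModEq.sub_mem] at this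
      rw [← map_sub, ← neg_sub, map_neg]
      exact neg_mem (map_mem I ι this)
    obtain ⟨L, hL⟩ := exists_limit_of_step I (fun n => ι (f n)) hc
    refine ⟨π L, fun n => ?_⟩
    rw [SModEq.sub_mem]
    have := map_mem I π (hL n)
    rwa [map_sub, h] at this
  exact { toIsHausdorff := h1, toIsPrecomplete := h2 }

theorem mem_pow_smul_top_pi {n : ℕ} (J : Ideal W) (y : Fin n → W) :
    y ∈ (J • ⊤ : Submodule W (Fin n → W)) ↔ ∀ i, y i ∈ J := by
  constructor
  · intro hy i
    have h1 : (LinearMap.proj i : (Fin n → W) →ₗ[W] W) y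
        ∈ (J • ⊤ : Submodule W (Fin n → W)).map (LinearMap.proj i) := Submodule.mem_map_of_mem hy
    rw [Submodule.map_smul''] at h1
    have h2 := Submodule.smul_mono (le_refl J) (le_top : Submodule.map (LinearMap.proj i) ⊤ ≤ ⊤) h1
    rw [smul_eq_mul, Ideal.mul_top] at h2
    exact h2
  · intro hy
    have e : y = ∑ i, y i • (Pi.single i 1 : Fin n → W) := by
      ext j
      simp [Finset.sum_apply, Pi.single_apply]
    rw [e]
    exact Submodule.sum_mem _ fun i _ => Submodule.smul_mem_smul (hy i) Submodule.mem_top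

theorem isAdicComplete_pi (n : ℕ) [IsAdicComplete I W] : IsAdicComplete I (Fin n → W) := by
  have h1 : IsHausdorff I (Fin n → W) := by
    refine ⟨fun x hx => ?_⟩
    funext i
    apply eq_of_forall_sub_mem I
    intro k
    have := hx k
    rw [SModEq.sub_mem, sub_zero, mem_pow_smul_top_pi] at this
    rw [Pi.zero_apply, sub_zero, smul_eq_mul, Ideal.mul_top]
    exact this i
  have h2 : IsPrecomplete I (Fin n → W) := by
    refine ⟨fun f hf => ?_⟩
    have hc : ∀ i, ∃ L : W, ∀ k, f k i - L ∈ (I ^ k • ⊤ : Submodule W W) := by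
      intro i
      apply exists_limit_of_step I (fun k => f k i)
      intro k
      have := hf (Nat.le_succ k)
      rw [SModEq.sub_mem, mem_pow_smul_top_pi] at this
      rw [smul_eq_mul, Ideal.mul_top, ← neg_sub]
      exact neg_mem (this i)
    choose L hL using hc
    refine ⟨L, fun k => ?_⟩
    rw [SModEq.sub_mem, mem_pow_smul_top_pi]
    intro i
    have := hL i k
    rwa [smul_eq_mul, Ideal.mul_top] at this
  exact { toIsHausdorff := h1, toIsPrecomplete := h2 }

theorem isAdicComplete_of_finite_projective [IsAdicComplete I W] [Module.Finite W P]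
    [Module.Projective W P] : IsAdicComplete I P := by
  obtain ⟨n, f, g, -, -, hfg⟩ := Module.Finite.exists_comp_eq_id_of_projective W P
  have := isAdicComplete_pi I n
  exact isAdicComplete_of_retract I g f (fun x => by
    have := LinearMap.congr_fun hfg x
    simpa using this)

end complete

end Groth.Agent.H74.IdemLift
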