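import Mathlib
import Groth.Agent.H74.AdicAux

/-! `W(R)` is `p`-adically and `I_R`-adically complete when `R` is `p`-adically complete. -/

namespace Groth.Agent.H74.WittAdic

open Finset MvPolynomial

/-- In a `p`-torsion-free ring, divisibility of the ghost components forces divisibility of the
Witt components. -/
theorem pow_dvd_of_ghost {S : Type*} [CommRing S] (p : ℕ) (hp : 1 < p)
    (htf : ∀ (n : ℕ) (a : S), (p : S) ^ n * a = 0 → a = 0) (x : ℕ → S) (s m : ℕ)
    (h : ∀ n ≤ m, (p : S) ^ (n + s) ∣ ∑ i ∈ range (n + 1), (p : S) ^ i * x i ^ p ^ (n - i)) :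
    ∀ n ≤ m, (p : S) ^ s ∣ x n := by
  rcases Nat.eq_zero_or_pos s with rfl | hs
  · intro n _; simp
  intro n
  induction n using Nat.strong_induction_on with
  | _ n ih =>
    intro hn
    have h1 := h n hn
    rw [Finset.sum_range_succ, Nat.sub_self, pow_zero, pow_one] at h1
    have h2 : (p : S) ^ (n + s) ∣ ∑ i ∈ range n, (p : S) ^ i * x i ^ p ^ (n - i) := by
      refine Finset.dvd_sum fun i hi => ?_
      have hin : i < n := Finset.mem_range.mp hi
      obtain ⟨y, hy⟩ := ih i hin (le_trans hin.le hn)
      rw [hy, mul_pow, ← pow_mul, ← mul_assoc, ← pow_add]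
      refine Dvd.dvd.mul_right (pow_dvd_pow _ ?_) _
      have hd : n - i + 1 ≤ p ^ (n - i) := Nat.lt_pow_self hp
      have h3 : n - i ≤ s * (n - i) := Nat.le_mul_of_pos_left _ hs
      have h5 : s * (n - i) + s ≤ s * p ^ (n - i) := by
        calc s * (n - i) + s = s * (n - i + 1) := by ring
          _ ≤ s * p ^ (n - i) := Nat.mul_le_mul_left s hd
      generalize s * (n - i) = A at h3 h5
      generalize s * p ^ (n - i) = B at h5 ⊢
      omega
    have h3 : (p : S) ^ (n + s) ∣ (p : S) ^ n * x n := (dvd_add_right h2).mp h1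
    obtain ⟨z, hz⟩ := h3
    refine ⟨z, ?_⟩
    have : (p : S) ^ n * (x n - (p : S) ^ s * z) = 0 := by
      rw [mul_sub, hz, pow_add]; ring
    exact sub_eq_zero.mp (htf n _ this)

variable (p : ℕ) [hp : Fact p.Prime]

theorem pow_dvd_wittMulN (N i : ℕ) (hi : i ≤ N) :
    (p : MvPolynomial ℕ ℤ) ^ (N - i) ∣ WittVector.wittMulN p (p ^ N) i := by
  refine pow_dvd_of_ghost p hp.out.one_lt ?_ (WittVector.wittMulN p (p ^ N)) (N - i) i ?_ i le_rfl
  · intro n a h
    rcases mul_eq_zero.mp h with h | h
    · exact absurd h (pow_ne_zero _ (Nat.cast_ne_zero.mpr hp.out.ne_zero))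
    · exact h
  · intro n hn
    have e : ∑ j ∈ range (n + 1),
        (p : MvPolynomial ℕ ℤ) ^ j * WittVector.wittMulN p (p ^ N) j ^ p ^ (n - j)
        = bind₁ (WittVector.wittMulN p (p ^ N)) (wittPolynomial p ℤ n) := by
      rw [wittPolynomial_eq_sum_C_mul_X_pow, map_sum]
      refine Finset.sum_congr rfl fun j _ => ?_
      simp only [map_mul, map_pow, bind₁_X_right, bind₁_C_right]
      simp
    rw [e, WittVector.bind₁_wittMulN_wittPolynomial, Nat.cast_pow]
    exact Dvd.dvd.mul_right (pow_dvd_pow _ (by omega)) _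

variable {R : Type*} [CommRing R]

theorem coeff_mul_pow_mem (N i : ℕ) (hi : i ≤ N) (y : WittVector p R) :
    (y * (p : WittVector p R) ^ N).coeff i ∈ Ideal.span {(p : R) ^ (N - i)} := by
  obtain ⟨ψ, hψ⟩ := pow_dvd_wittMulN p N i hi
  have h1 := WittVector.mulN_coeff (p ^ N) y i
  rw [Nat.cast_pow] at h1
  rw [h1, hψ, map_mul, map_pow, map_natCast]
  exact Ideal.mul_mem_right _ _ (Ideal.mem_span_singleton_self _)

variable (R)

/-- Witt vectors whose first `n` components lie in `(p^m)`. -/
noncomputable def K (n m : ℕ) : Ideal (WittVector p R) :=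
  Ideal.comap (WittVector.map (Ideal.Quotient.mk (Ideal.span {(p : R) ^ m})))
    (RingHom.ker (WittVector.truncate (p := p) (R := R ⧸ Ideal.span {(p : R) ^ m}) n))

variable {R}

theorem sub_mem_K {n m : ℕ} {x y : WittVector p R} :
    x - y ∈ K p R n m ↔ ∀ i < n, x.coeff i - y.coeff i ∈ Ideal.span {(p : R) ^ m} := by
  rw [K, Ideal.mem_comap, map_sub, RingHom.sub_mem_ker_iff, TruncatedWittVector.ext_iff]
  constructor
  · intro h i hi
    have := h ⟨i, hi⟩
    rw [WittVector.coeff_truncate, WittVector.coeff_truncate, WittVector.map_coeff,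
      WittVector.map_coeff, Ideal.Quotient.eq] at this
    exact this
  · intro h i
    rw [WittVector.coeff_truncate, WittVector.coeff_truncate, WittVector.map_coeff,
      WittVector.map_coeff, Ideal.Quotient.eq]
    exact h i i.2

variable (R)

/-- Witt vectors `x` with `x_i ∈ (p^(N-i))` for `i ≤ N`. -/
noncomputable def J (N : ℕ) : Ideal (WittVector p R) :=
  ⨅ i : Fin (N + 1), K p R ((i : ℕ) + 1) (N - (i : ℕ))

variable {R}

theorem sub_mem_J {N : ℕ} {x y : WittVector p R} :
    x - y ∈ J p R N ↔ ∀ i ≤ N, x.coeff i - y.coeff i ∈ Ideal.span {(p : R) ^ (N - i)} := by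
  rw [J, Ideal.mem_iInf]
  constructor
  · intro h i hi
    exact (sub_mem_K p).mp (h ⟨i, Nat.lt_succ_of_le hi⟩) i (Nat.lt_succ_self i)
  · intro h i
    rw [sub_mem_K]
    intro i' hi'
    have hi'' : i' ≤ N := by have := i.2; omega
    refine Ideal.span_singleton_le_span_singleton.mpr ?_ (h i' hi'')
    exact pow_dvd_pow _ (by omega)

theorem mem_J {N : ℕ} {x : WittVector p R} :
    x ∈ J p R N ↔ ∀ i ≤ N, x.coeff i ∈ Ideal.span {(p : R) ^ (N - i)} := by
  have := sub_mem_J p (N := N) (x := x) (y := 0)
  simpa using this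

theorem filt [IsAdicComplete (Ideal.span {(p : R)}) R] :
    AdicAux.Filt (J p R) (p : WittVector p R) where
  anti N := by
    intro x hx
    rw [mem_J] at hx ⊢
    intro i hi
    exact Ideal.span_singleton_le_span_singleton.mpr (pow_dvd_pow _ (by omega))
      (hx i (by omega))
  sep x hx := by
    ext i
    rw [WittVector.zero_coeff]
    apply IsHausdorff.haus' (I := Ideal.span {(p : R)})
    intro m
    rw [AdicAux.smodEq_pow_iff, sub_zero, Ideal.span_singleton_pow]
    have := (mem_J p).mp (hx (m + i)) i (by omega)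
    rwa [Nat.add_sub_cancel] at this
  compl s hs := by
    have hu : ∀ i, ∃ L, ∀ n, (s (n + i)).coeff i ≡ L
        [SMOD (Ideal.span {(p : R)} ^ n • ⊤ : Submodule R R)] := by
      intro i
      apply IsPrecomplete.prec'
      apply (AdicCompletion.isAdicCauchy_iff _ _ _).mpr
      intro n
      rw [AdicAux.smodEq_pow_iff, Ideal.span_singleton_pow]
      have h1 := (sub_mem_J p).mp (hs (n + i)) i (by omega)
      rw [Nat.add_sub_cancel] at h1
      have e : n + 1 + i = n + i + 1 := by omega
      rw [e, ← neg_sub]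
      exact neg_mem h1
    choose L hL using hu
    refine ⟨WittVector.mk p L, fun k => ?_⟩
    rw [sub_mem_J]
    intro i hi
    have h1 := hL i (k - i)
    rw [AdicAux.smodEq_pow_iff, Ideal.span_singleton_pow, Nat.sub_add_cancel hi] at h1
    rw [WittVector.coeff_mk, ← neg_sub]
    exact neg_mem h1
  pow_mem N a := by
    rw [mem_J]
    intro i hi
    exact coeff_mul_pow_mem p N i hi a

theorem mem_ker_constantCoeff_iff (z : WittVector p R) :
    z ∈ RingHom.ker (WittVector.constantCoeff : WittVector p R →+* R)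
      ↔ ∃ y, z = WittVector.verschiebung y := by
  rw [RingHom.mem_ker, WittVector.constantCoeff_apply]
  constructor
  · intro h
    refine ⟨WittVector.mk p (fun n => z.coeff (n + 1)), ?_⟩
    ext n
    cases n with
    | zero => rw [WittVector.verschiebung_coeff_zero, h]
    | succ n => rw [WittVector.verschiebung_coeff_succ, WittVector.coeff_mk]
  · rintro ⟨y, rfl⟩
    exact WittVector.verschiebung_coeff_zero y

theorem verschiebung_natCast_mul (x : WittVector p R) :
    WittVector.verschiebung ((p : WittVector p R) * x)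
      = (p : WittVector p R) * WittVector.verschiebung x := by
  rw [← nsmul_eq_mul, map_nsmul, nsmul_eq_mul]

theorem verschiebung_mul_verschiebung (x y : WittVector p R) :
    WittVector.verschiebung x * WittVector.verschiebung y
      = (p : WittVector p R) * WittVector.verschiebung (x * y) := by
  rw [← WittVector.verschiebung_mul_frobenius, WittVector.frobenius_verschiebung,
    ← verschiebung_natCast_mul]
  congr 1
  ring

theorem ker_mul_ker :
    RingHom.ker (WittVector.constantCoeff : WittVector p R →+* R)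
        * RingHom.ker (WittVector.constantCoeff : WittVector p R →+* R)
      = Ideal.span {(p : WittVector p R)}
        * RingHom.ker (WittVector.constantCoeff : WittVector p R →+* R) := by
  apply le_antisymm
  · rw [Ideal.mul_le]
    intro r hr s hs
    obtain ⟨x, rfl⟩ := (mem_ker_constantCoeff_iff p r).mp hr
    obtain ⟨y, rfl⟩ := (mem_ker_constantCoeff_iff p s).mp hs
    rw [verschiebung_mul_verschiebung]
    exact Ideal.mul_mem_mul (Ideal.mem_span_singleton_self _)
      ((mem_ker_constantCoeff_iff p _).mpr ⟨_, rfl⟩)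
  · rw [Ideal.span_singleton_mul_le_iff]
    intro z hz
    obtain ⟨y, rfl⟩ := (mem_ker_constantCoeff_iff p z).mp hz
    have e : (p : WittVector p R) * WittVector.verschiebung y
        = WittVector.verschiebung 1 * WittVector.verschiebung y := by
      rw [verschiebung_mul_verschiebung, one_mul]
    rw [e]
    exact Ideal.mul_mem_mul ((mem_ker_constantCoeff_iff p _).mpr ⟨_, rfl⟩)
      ((mem_ker_constantCoeff_iff p _).mpr ⟨_, rfl⟩)

theorem ker_pow (k : ℕ) :
    RingHom.ker (WittVector.constantCoeff : WittVector p R →+* R) ^ (k + 1)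
      = Ideal.span {(p : WittVector p R) ^ k}
        * RingHom.ker (WittVector.constantCoeff : WittVector p R →+* R) := by
  induction k with
  | zero => simp [Ideal.span_singleton_one]
  | succ k ih =>
    rw [pow_succ, ih, mul_assoc, ker_mul_ker, ← mul_assoc,
      Ideal.span_singleton_mul_span_singleton, ← pow_succ]

theorem mem_ker_pow_iff (k : ℕ) (z : WittVector p R) :
    z ∈ RingHom.ker (WittVector.constantCoeff : WittVector p R →+* R) ^ (k + 1)
      ↔ ∃ y, z = (p : WittVector p R) ^ k * WittVector.verschiebung y := by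
  rw [ker_pow, Ideal.mem_span_singleton_mul]
  constructor
  · rintro ⟨w, hw, rfl⟩
    obtain ⟨y, rfl⟩ := (mem_ker_constantCoeff_iff p w).mp hw
    exact ⟨y, rfl⟩
  · rintro ⟨y, rfl⟩
    exact ⟨_, (mem_ker_constantCoeff_iff p _).mpr ⟨y, rfl⟩, rfl⟩

theorem main [IsAdicComplete (Ideal.span {(p : R)}) R] :
    IsAdicComplete (Ideal.span {(p : WittVector p R)}) (WittVector p R) ∧
      IsAdicComplete (RingHom.ker (WittVector.constantCoeff : WittVector p R →+* R))
        (WittVector p R) := by
  have hF := filt p (R := R)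
  exact ⟨hF.isAdicComplete, hF.isAdicComplete_of _ WittVector.verschiebung
    (verschiebung_natCast_mul p) (mem_ker_pow_iff p)⟩

end Groth.Agent.H74.WittAdic
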