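import Mathlib
import Groth.Prelude.Def_W4c1extbt610Disp
import Groth.Agent.H74.WittAdic
import Groth.Agent.H74.IdemLift

/-! Normal decompositions over `W(R)` for `p`-adically complete `R`. -/

set_option autoImplicit false
universe u v

namespace Groth.Agent.H74.WittDisp

open W4c1extbt610

variable (p : ℕ) [Fact p.Prime] (R : Type u) [CommRing R]

theorem IV_eq_ker :
    IV p R = RingHom.ker (WittVector.constantCoeff : WittVector p R →+* R) := by
  apply le_antisymm
  · rw [IV, Ideal.span_le]
    rintro _ ⟨w, rfl⟩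
    exact (WittAdic.mem_ker_constantCoeff_iff p _).mpr ⟨w, rfl⟩
  · intro z hz
    obtain ⟨y, rfl⟩ := (WittAdic.mem_ker_constantCoeff_iff p z).mp hz
    exact verschiebung_mem_IV p R y

theorem isAdicComplete_IV [IsAdicComplete (Ideal.span {(p : R)}) R] :
    IsAdicComplete (IV p R) (WittVector p R) := by
  rw [IV_eq_ker]
  exact (WittAdic.main p).2

theorem normal_decomp [IsAdicComplete (Ideal.span {(p : R)}) R]
    (P : Type v) [AddCommGroup P] [Module (WittVector p R) P]
    [Module.Finite (WittVector p R) P] [Module.Projective (WittVector p R) P]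
    (Q : Submodule (WittVector p R) P)
    (hQ : ∃ C : Submodule (WittVector p R) P,
      Q ⊔ C = ⊤ ∧ Q ⊓ C = IV p R • (⊤ : Submodule (WittVector p R) P)) :
    ∃ L T : Submodule (WittVector p R) P, IsCompl L T ∧ Q = L ⊔ IV p R • T := by
  obtain ⟨C, hQC, hQC'⟩ := hQ
  have hW : IsAdicComplete (IV p R) (WittVector p R) := isAdicComplete_IV p R
  have hP : IsAdicComplete (IV p R) P := IdemLift.isAdicComplete_of_finite_projective (IV p R)
  -- a splitting of `Q × C → P`
  have hsurj : Function.Surjective (Q.subtype.coprod C.subtype) := by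
    rw [← LinearMap.range_eq_top, LinearMap.range_coprod, Submodule.range_subtype,
      Submodule.range_subtype]
    exact hQC
  obtain ⟨σ, hσ⟩ := Module.projective_lifting_property (Q.subtype.coprod C.subtype)
    LinearMap.id hsurj
  let φ : P →ₗ[WittVector p R] P := Q.subtype ∘ₗ (LinearMap.fst _ Q C) ∘ₗ σ
  have hφQ : ∀ x, φ x ∈ Q := fun x => ((σ x).1).2
  have hφC : ∀ x, x - φ x ∈ C := by
    intro x
    have h1 : (Q.subtype.coprod C.subtype) (σ x) = x := LinearMap.congr_fun hσ x
    have h2 : x - φ x = ((σ x).2 : P) := by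
      rw [LinearMap.coprod_apply] at h1
      have h1' : ((σ x).1 : P) + ((σ x).2 : P) = x := h1
      show x - ((σ x).1 : P) = _
      rw [sub_eq_iff_eq_add']
      exact h1'.symm
    rw [h2]
    exact ((σ x).2).2
  have hIP : ∀ y, y ∈ Q → y - φ y ∈ (IV p R • ⊤ : Submodule (WittVector p R) P) := by
    intro y hy
    rw [← hQC']
    exact ⟨sub_mem hy (hφQ y), hφC y⟩
  have h0 : LinearMap.range (φ * φ - φ) ≤ (IV p R • ⊤ : Submodule (WittVector p R) P) := by
    rintro _ ⟨x, rfl⟩
    have e : (φ * φ - φ) x = -(φ x - φ (φ x)) := by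
      rw [LinearMap.sub_apply, Module.End.mul_apply]; abel
    rw [e]
    exact neg_mem (hIP _ (hφQ x))
  obtain ⟨e, he, heφ⟩ := IdemLift.exists_idempotent (IV p R) φ h0
  have hee : ∀ x, e (e x) = e x := fun x => by
    have := LinearMap.congr_fun he.eq x
    simpa using this
  refine ⟨LinearMap.range e, LinearMap.ker e, LinearMap.IsIdempotentElem.isCompl he, ?_⟩
  have hIPQ : (IV p R • ⊤ : Submodule (WittVector p R) P) ≤ Q := by
    rw [← hQC']; exact inf_le_left
  apply le_antisymm
  · intro x hx
    have hx1 : x = e x + (x - e x) := by abel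
    rw [hx1]
    refine Submodule.add_mem_sup (LinearMap.mem_range_self e x) ?_
    -- `t = x - e x` lies in `IV • ker e`
    have ht : x - e x ∈ (IV p R • ⊤ : Submodule (WittVector p R) P) := by
      have e2 : x - e x = (x - φ x) - (e x - φ x) := by abel
      rw [e2]
      exact sub_mem (hIP x hx) (heφ x)
    have hte : (LinearMap.id - e : P →ₗ[WittVector p R] P) (x - e x) = x - e x := by
      rw [LinearMap.sub_apply, LinearMap.id_apply, map_sub, hee, sub_self, sub_zero]
    rw [← hte]
    have h1 : (LinearMap.id - e : P →ₗ[WittVector p R] P) (x - e x)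
        ∈ (IV p R • ⊤ : Submodule (WittVector p R) P).map (LinearMap.id - e : P →ₗ[WittVector p R] P) :=
      Submodule.mem_map_of_mem ht
    rw [Submodule.map_smul''] at h1
    refine Submodule.smul_mono le_rfl ?_ h1
    rintro _ ⟨-, y, rfl⟩
    rw [LinearMap.mem_ker, LinearMap.sub_apply, LinearMap.id_apply, map_sub, hee, sub_self]
  · refine sup_le ?_ ?_
    · rintro _ ⟨x, rfl⟩
      have e2 : e x = φ x + (e x - φ x) := by abel
      rw [e2]
      exact add_mem (hφQ x) (hIPQ (heφ x))
    · exact le_trans (Submodule.smul_mono le_rfl le_top) hIPQ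

end Groth.Agent.H74.WittDisp
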