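import Mathlib
import Groth.Prelude.Def_Disp2
import Groth.Agent.H74.WittDisp

/-! Existence and uniqueness of the operator `V^♯` of a 3n-display when `p` is nilpotent. -/

set_option autoImplicit false
universe u v

namespace Groth.Agent.H74.VSharp

open W4c1extbt610 Dieu TensorProduct

section BCgeneric

variable {A : Type u} {B : Type u} [CommRing A] [CommRing B] [Algebra A B]
variable (P : Type v) [AddCommGroup P] [Module A P]

/-- `x ↦ 1 ⊗ x` as a semilinear map into Mathlib's base change. -/
noncomputable def oneTmul : P →ₛₗ[algebraMap A B] B ⊗[A] P where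
  toFun x := (1 : B) ⊗ₜ[A] x
  map_add' x y := TensorProduct.tmul_add _ _ _
  map_smul' a x := by
    change (1 : B) ⊗ₜ[A] (a • x) = algebraMap A B a • ((1 : B) ⊗ₜ[A] x)
    rw [TensorProduct.smul_tmul', smul_eq_mul, mul_one, ← TensorProduct.smul_tmul,
      Algebra.smul_def, mul_one]

noncomputable def toTensor : BC (algebraMap A B) P →ₗ[B] B ⊗[A] P :=
  BC.lift (algebraMap A B) (oneTmul P)

theorem toTensor_tmul (b : B) (x : P) :
    toTensor P (BC.tmul (algebraMap A B) b x) = b ⊗ₜ[A] x := by
  rw [toTensor, BC.lift_tmul]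
  change b • ((1 : B) ⊗ₜ[A] x) = _
  rw [TensorProduct.smul_tmul', smul_eq_mul, mul_one]

noncomputable def toRes : B →ₗ[A] Res (algebraMap A B) where
  toFun b := Res.mk (algebraMap A B) b
  map_add' _ _ := rfl
  map_smul' a b := by
    rw [RingHom.id_apply, Res.smul_mk, Algebra.smul_def]

noncomputable def ofTensor : B ⊗[A] P →+ BC (algebraMap A B) P :=
  (TensorProduct.map (toRes (A := A) (B := B)) (LinearMap.id : P →ₗ[A] P)).toAddMonoidHom

theorem ofTensor_tmul (b : B) (x : P) :
    ofTensor P (b ⊗ₜ[A] x) = BC.tmul (algebraMap A B) b x := by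
  change TensorProduct.map _ _ (b ⊗ₜ[A] x) = _
  rw [TensorProduct.map_tmul]
  rfl

theorem ofTensor_toTensor (z : BC (algebraMap A B) P) : ofTensor P (toTensor P z) = z := by
  induction z using BC.induction_on (algebraMap A B) with
  | zero => rw [map_zero, map_zero]
  | tmul b x => rw [toTensor_tmul, ofTensor_tmul]
  | add z₁ z₂ h₁ h₂ => rw [map_add, map_add, h₁, h₂]

theorem toTensor_ofTensor (z : B ⊗[A] P) : toTensor P (ofTensor P z) = z := by
  induction z using TensorProduct.induction_on with
  | zero => rw [map_zero, map_zero]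
  | tmul b x => rw [ofTensor_tmul, toTensor_tmul]
  | add z₁ z₂ h₁ h₂ => rw [map_add, map_add, h₁, h₂]

noncomputable def equivTensor : BC (algebraMap A B) P ≃ₗ[B] B ⊗[A] P :=
  { toTensor P with
    invFun := ofTensor P
    left_inv := ofTensor_toTensor P
    right_inv := toTensor_ofTensor P }

theorem bc_props [Module.Finite A P] [Module.Flat A P] :
    Module.Finite B (BC (algebraMap A B) P) ∧ Module.Flat B (BC (algebraMap A B) P) ∧
      ∀ q : PrimeSpectrum B, Module.rankAtStalk (BC (algebraMap A B) P) q =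
        Module.rankAtStalk P (q.comap (algebraMap A B)) := by
  refine ⟨Module.Finite.equiv (equivTensor P).symm, Module.Flat.of_linearEquiv (equivTensor P),
    fun q => ?_⟩
  rw [Module.rankAtStalk_eq_of_equiv (equivTensor P), Module.rankAtStalk_baseChange]

end BCgeneric

theorem bc_props' {A B : Type u} [CommRing A] [CommRing B] (g : A →+* B) (P : Type v)
    [AddCommGroup P] [Module A P] [Module.Finite A P] [Module.Flat A P] :
    Module.Finite B (BC g P) ∧ Module.Flat B (BC g P) ∧
      ∀ q : PrimeSpectrum B, Module.rankAtStalk (BC g P) q =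
        Module.rankAtStalk P (q.comap g) := by
  letI : Algebra A B := g.toAlgebra
  exact bc_props (A := A) (B := B) P

theorem isAdicComplete_of_pow_eq_bot {A : Type*} [CommRing A] (I : Ideal A) (n : ℕ)
    (h : I ^ n = ⊥) : IsAdicComplete I A := by
  refine { toIsHausdorff := ⟨fun x hx => ?_⟩, toIsPrecomplete := ⟨fun f hf => ?_⟩ }
  · have h1 := hx n
    rw [h, Submodule.bot_smul, SModEq.bot] at h1
    exact h1
  · refine ⟨f n, fun k => ?_⟩
    rcases le_total k n with hk | hk
    · exact hf hk
    · have h1 : f n ≡ f k [SMOD (I ^ n • ⊤ : Submodule A A)] := hf hk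
      rw [h, Submodule.bot_smul, SModEq.bot] at h1
      rw [h1]

section Display

variable {p : ℕ} [Fact p.Prime] {R : Type u} [CommRing R]

theorem coeff_zero_frobenius (x : WittVector p R) :
    (WittVector.frobenius x).coeff 0 = x.coeff 0 ^ p +
      (p : R) * MvPolynomial.aeval x.coeff (WittVector.frobeniusPolyAux p 0) := by
  rw [WittVector.coeff_frobenius, WittVector.frobeniusPoly]
  simp

theorem comap_frobenius_eq (hp : IsNilpotent (p : R)) (m : Ideal (WittVector p R))
    [hm : m.IsMaximal] :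
    Ideal.comap (WittVector.frobenius : WittVector p R →+* WittVector p R) m = m := by
  haveI : IsAdicComplete (Ideal.span {(p : R)}) R := by
    obtain ⟨n, hn⟩ := hp
    refine isAdicComplete_of_pow_eq_bot _ n ?_
    rw [Ideal.span_singleton_pow, hn, Ideal.span_singleton_eq_bot]
  haveI : IsAdicComplete (IV p R) (WittVector p R) := WittDisp.isAdicComplete_IV p R
  have hker : RingHom.ker (WittVector.constantCoeff : WittVector p R →+* R) ≤ m := by
    rw [← WittDisp.IV_eq_ker]
    exact (IsAdicComplete.le_jacobson_bot (IV p R)).trans (sInf_le ⟨bot_le, hm⟩)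
  have hsurj : Function.Surjective (WittVector.constantCoeff : WittVector p R →+* R) :=
    WittVector.constantCoeff_surjective p
  have hmem : ∀ x : WittVector p R, x ∈ m ↔
      x.coeff 0 ∈ Ideal.map (WittVector.constantCoeff : WittVector p R →+* R) m := by
    intro x
    constructor
    · intro hx
      exact Ideal.mem_map_of_mem _ hx
    · intro hx
      obtain ⟨x', hx', hxx⟩ := (Ideal.mem_map_iff_of_surjective _ hsurj).mp hx
      have h1 : x - x' ∈ RingHom.ker (WittVector.constantCoeff : WittVector p R →+* R) := by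
        rw [RingHom.mem_ker, map_sub, hxx]
        exact sub_self _
      have h2 := add_mem (hker h1) hx'
      rwa [sub_add_cancel] at h2
  have hprime : (Ideal.map (WittVector.constantCoeff : WittVector p R →+* R) m).IsPrime :=
    Ideal.map_isPrime_of_surjective hsurj hker
  have hpm : (p : R) ∈ Ideal.map (WittVector.constantCoeff : WittVector p R →+* R) m := by
    obtain ⟨n, hn⟩ := hp
    exact hprime.mem_of_pow_mem n (hn ▸ zero_mem _)
  ext x
  rw [Ideal.mem_comap, hmem, hmem, coeff_zero_frobenius]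
  constructor
  · intro h
    have h2 := Ideal.sub_mem _ h (Ideal.mul_mem_right
      (MvPolynomial.aeval x.coeff (WittVector.frobeniusPolyAux p 0)) _ hpm)
    rw [add_sub_cancel_right] at h2
    exact hprime.mem_of_pow_mem p h2
  · intro h
    exact Ideal.add_mem _ (Ideal.pow_mem_of_mem _ h p (Fact.out : p.Prime).pos)
      (Ideal.mul_mem_right _ _ hpm)

variable {P : Type v} [AddCommGroup P] [Module (WittVector p R) P]

theorem Q_induction (D : Display3n p R P) (L T : Submodule (WittVector p R) P)
    (hQ : D.Q = L ⊔ IV p R • T) {M : Type*} [AddCommGroup M] (f : D.Q →+ M) (S : AddSubgroup M)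
    (hL : ∀ (l : P) (_ : l ∈ L) (h : l ∈ D.Q), f ⟨l, h⟩ ∈ S)
    (hT : ∀ (u : WittVector p R) (t : P) (_ : t ∈ T)
      (h : WittVector.verschiebung u • t ∈ D.Q), f ⟨WittVector.verschiebung u • t, h⟩ ∈ S) :
    ∀ y : D.Q, f y ∈ S := by
  have hIT : IV p R • T ≤ D.Q := by rw [hQ]; exact le_sup_right
  have hLQ : L ≤ D.Q := by rw [hQ]; exact le_sup_left
  have hz : ∀ z (hz : z ∈ IV p R • T), f ⟨z, hIT hz⟩ ∈ S := by
    intro z hz
    refine Submodule.smul_induction_on' (p := fun z hz => f ⟨z, hIT hz⟩ ∈ S) hz ?_ ?_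
    · intro r hr n hn
      have hr' : r ∈ RingHom.ker (WittVector.constantCoeff : WittVector p R →+* R) := by
        rw [← WittDisp.IV_eq_ker]; exact hr
      obtain ⟨w, hw⟩ := (WittAdic.mem_ker_constantCoeff_iff p r).mp hr'
      subst hw
      exact hT w n hn _
    · intro x hx y hy h1 h2
      have h3 := add_mem h1 h2
      rw [← map_add] at h3
      exact h3
  rintro ⟨q, hq⟩
  have hq' : q ∈ L ⊔ IV p R • T := hQ ▸ hq
  obtain ⟨l, hl, z, hz', rfl⟩ := Submodule.mem_sup.mp hq'
  have h3 := add_mem (hL l hl (hLQ hl)) (hz z hz')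
  rw [← map_add] at h3
  exact h3

theorem vSharp_unique (D : Display3n p R P)
    (Vs Vs' : P →ₗ[WittVector p R]
      BC (WittVector.frobenius : WittVector p R →+* WittVector p R) P)
    (h : IsVSharp D Vs) (h' : IsVSharp D Vs') : Vs = Vs' := by
  apply LinearMap.ext_on D.span_range_Vinv
  rintro _ ⟨y, rfl⟩
  have h1 := h.app_smul_Vinv 1 y
  have h2 := h'.app_smul_Vinv 1 y
  rw [one_smul] at h1 h2
  rw [h1, h2]

theorem exists_vSharp (hp : IsNilpotent (p : R)) (D : Display3n p R P) :
    ∃ Vs : P →ₗ[WittVector p R]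
      BC (WittVector.frobenius : WittVector p R →+* WittVector p R) P, IsVSharp D Vs := by
  obtain ⟨L, T, hLT, hQ⟩ := D.exists_normal
  haveI : Module.Finite (WittVector p R) P := D.finite
  haveI : Module.Projective (WittVector p R) P := D.projective
  haveI : Module.Flat (WittVector p R) P := Module.Flat.of_projective
  have hLQ : L ≤ D.Q := by rw [hQ]; exact le_sup_left
  let prL : P →ₗ[WittVector p R] L := Submodule.linearProjOfIsCompl L T hLT
  let prT : P →ₗ[WittVector p R] T := Submodule.linearProjOfIsCompl T L hLT.symm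
  have hprLL : ∀ l (hl : l ∈ L), prL l = ⟨l, hl⟩ := fun l hl =>
    Submodule.linearProjOfIsCompl_apply_left hLT ⟨l, hl⟩
  have hprTL : ∀ l (_ : l ∈ L), prT l = 0 := fun l hl =>
    Submodule.linearProjOfIsCompl_apply_right hLT.symm ⟨l, hl⟩
  have hprTT : ∀ t (ht : t ∈ T), prT t = ⟨t, ht⟩ := fun t ht =>
    Submodule.linearProjOfIsCompl_apply_left hLT.symm ⟨t, ht⟩
  have hprLT : ∀ t (_ : t ∈ T), prL t = 0 := fun t ht =>
    Submodule.linearProjOfIsCompl_apply_right hLT ⟨t, ht⟩
  let Φ : P →ₛₗ[(WittVector.frobenius : WittVector p R →+* WittVector p R)] P :=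
    (D.Vinv.comp ((Submodule.inclusion hLQ).comp prL)) + (D.F.comp (T.subtype.comp prT))
  have hΦ : ∀ x, Φ x = D.Vinv (Submodule.inclusion hLQ (prL x)) + D.F ((prT x : T) : P) :=
    fun x => rfl
  have hΦL : ∀ l (hl : l ∈ L), Φ l = D.Vinv ⟨l, hLQ hl⟩ := by
    intro l hl
    rw [hΦ, hprLL l hl, hprTL l hl, Submodule.coe_zero, map_zero, add_zero]
    rfl
  have hΦT : ∀ t (_ : t ∈ T), Φ t = D.F t := by
    intro t ht
    rw [hΦ, hprLT t ht, hprTT t ht, map_zero, map_zero, zero_add]
  let Φs : BC (WittVector.frobenius : WittVector p R →+* WittVector p R) P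
      →ₗ[WittVector p R] P := BC.lift _ Φ
  have hΦs : ∀ b x, Φs (BC.tmul _ b x) = b • Φ x := fun b x => BC.lift_tmul _ Φ b x
  -- surjectivity
  have hsurj : Function.Surjective Φs := by
    rw [← LinearMap.range_eq_top, ← top_le_iff, ← D.span_range_Vinv, Submodule.span_le]
    rintro _ ⟨y, rfl⟩
    refine Q_induction D L T hQ D.Vinv.toAddMonoidHom (LinearMap.range Φs).toAddSubgroup ?_ ?_ y
    · intro l hl h
      change D.Vinv ⟨l, h⟩ ∈ LinearMap.range Φs
      refine LinearMap.mem_range.mpr ⟨BC.tmul _ 1 l, ?_⟩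
      rw [hΦs, one_smul, hΦL l hl]
    · intro u t ht h
      change D.Vinv ⟨WittVector.verschiebung u • t, h⟩ ∈ LinearMap.range Φs
      refine LinearMap.mem_range.mpr ⟨BC.tmul _ u t, ?_⟩
      rw [hΦs, hΦT t ht]
      exact (D.Vinv_verschiebung_smul u t).symm
  -- bijectivity
  obtain ⟨hfin, hflat, hrank⟩ :=
    bc_props' (WittVector.frobenius : WittVector p R →+* WittVector p R) P
  haveI := hfin
  haveI := hflat
  have hbij : Function.Bijective Φs := by
    refine Module.bijective_of_surjective_of_rankAtStalk_eq hsurj (fun m hm => ?_)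
    rw [hrank]
    congr 1
    apply PrimeSpectrum.ext
    exact comap_frobenius_eq hp m
  let e : BC (WittVector.frobenius : WittVector p R →+* WittVector p R) P
      ≃ₗ[WittVector p R] P := LinearEquiv.ofBijective Φs hbij
  let ψ : P →ₗ[WittVector p R] P :=
    (L.subtype.comp prL) + (p : WittVector p R) • (T.subtype.comp prT)
  have hψ : ∀ x, ψ x = ((prL x : L) : P) + (p : WittVector p R) • ((prT x : T) : P) :=
    fun x => rfl
  have hψL : ∀ l (_ : l ∈ L), ψ l = l := by
    intro l hl
    rw [hψ, hprLL l hl, hprTL l hl, Submodule.coe_zero, smul_zero, add_zero]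
  have hψT : ∀ t (_ : t ∈ T), ψ t = (p : WittVector p R) • t := by
    intro t ht
    rw [hψ, hprLT t ht, hprTT t ht, Submodule.coe_zero, zero_add]
  let Vs : P →ₗ[WittVector p R]
      BC (WittVector.frobenius : WittVector p R →+* WittVector p R) P :=
    (BC.map _ ψ).comp e.symm.toLinearMap
  have hVsΦ : ∀ b x, Vs (b • Φ x) = BC.tmul _ b (ψ x) := by
    intro b x
    have h1 : e.symm (b • Φ x) = BC.tmul _ b x := by
      rw [LinearEquiv.symm_apply_eq]
      exact (hΦs b x).symm
    change BC.map _ ψ (e.symm (b • Φ x)) = _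
    rw [h1, BC.map_tmul]
  have key : ∀ y : D.Q, Vs (D.Vinv y) = BC.tmul _ 1 (y : P) := by
    intro y
    have h0 := Q_induction D L T hQ
      ((Vs.toAddMonoidHom.comp D.Vinv.toAddMonoidHom) -
        ((BC.ι (WittVector.frobenius : WittVector p R →+* WittVector p R) P).toAddMonoidHom.comp
          D.Q.subtype.toAddMonoidHom)) ⊥ ?_ ?_ y
    · rw [AddSubgroup.mem_bot] at h0
      exact sub_eq_zero.mp h0
    · intro l hl h
      rw [AddSubgroup.mem_bot]
      change Vs (D.Vinv ⟨l, h⟩) - BC.tmul _ 1 l = 0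
      rw [sub_eq_zero]
      have h1 := hVsΦ 1 l
      rw [one_smul, hΦL l hl, hψL l hl] at h1
      exact h1
    · intro u t ht h
      rw [AddSubgroup.mem_bot]
      change Vs (D.Vinv ⟨WittVector.verschiebung u • t, h⟩) -
        BC.tmul _ 1 (WittVector.verschiebung u • t) = 0
      rw [sub_eq_zero, D.Vinv_verschiebung_smul u t, ← hΦT t ht, hVsΦ u t, hψT t ht,
        ← BC.tmul_mul_apply _ u (p : WittVector p R) t,
        ← BC.tmul_apply_eq _ (WittVector.verschiebung u) t,
        WittVector.frobenius_verschiebung, map_natCast]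
  refine ⟨Vs, ⟨fun w x => ?_, fun w y => ?_⟩⟩
  · have hF : D.F x = D.Vinv ⟨WittVector.verschiebung 1 • x,
        D.IV_smul_le (Submodule.smul_mem_smul (verschiebung_mem_IV p R 1)
          Submodule.mem_top)⟩ := by
      rw [D.Vinv_verschiebung_smul 1 x, one_smul]
    rw [map_smul, hF, key]
    change w • BC.tmul _ 1 (WittVector.verschiebung 1 • x) = _
    rw [← BC.tmul_apply_eq _ (WittVector.verschiebung 1) x, WittVector.frobenius_verschiebung,
      one_mul, BC.smul_tmul, BC.smul_tmul, mul_comm]
  · rw [map_smul, key, BC.smul_tmul, mul_one]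

theorem existsUnique_vSharp (hp : IsNilpotent (p : R)) (D : Display3n p R P) :
    ∃! Vs : P →ₗ[WittVector p R]
      BC (WittVector.frobenius : WittVector p R →+* WittVector p R) P, IsVSharp D Vs := by
  obtain ⟨Vs, hVs⟩ := exists_vSharp hp D
  exact ⟨Vs, hVs, fun Vs' h' => vSharp_unique D Vs' Vs h' hVs⟩

end Display

end Groth.Agent.H74.VSharp
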