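import Mathlib
import Groth.Prelude.Def_Disp2
import Groth.Agent.H74.WittDisp
import Groth.Agent.H74.BCLib
import Groth.Agent.H74.VSharp

/-! Base change of a 3n-display along a ring map: existence and uniqueness. -/

set_option autoImplicit false
universe u v

namespace Groth.Agent.H74.DispBC

open W4c1extbt610 Dieu TensorProduct BCLib

theorem bc_projective {A B : Type u} [CommRing A] [CommRing B] (g : A →+* B) (P : Type v)
    [AddCommGroup P] [Module A P] [Module.Projective A P] : Module.Projective B (BC g P) := by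
  letI : Algebra A B := g.toAlgebra
  exact Module.Projective.of_equiv' (VSharp.equivTensor (A := A) (B := B) P).symm

theorem bcMap_congr {A B : Type u} [CommRing A] [CommRing B] (g : A →+* B) {P : Type v}
    [AddCommGroup P] [Module A P] (ψ ψ' : P →ₗ[A] P) (h : ∀ x, ψ x = ψ' x) :
    BC.map g ψ = BC.map g ψ' := by
  rw [LinearMap.ext h]

theorem bcMap_zero {A B : Type u} [CommRing A] [CommRing B] (g : A →+* B) {P : Type v}
    [AddCommGroup P] [Module A P] : BC.map g (0 : P →ₗ[A] P) = 0 := by
  apply BC.ext g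
  intro x
  rw [BC.map_tmul, LinearMap.zero_apply, BC.tmul_zero, LinearMap.zero_apply]

theorem exists_projections {A : Type u} [CommRing A] {P : Type v} [AddCommGroup P] [Module A P]
    (L T : Submodule A P) (hLT : IsCompl L T) :
    ∃ eL eT : P →ₗ[A] P, (∀ x, eL x ∈ L) ∧ (∀ x, eT x ∈ T) ∧ (∀ l ∈ L, eL l = l) ∧
      (∀ l ∈ L, eT l = 0) ∧ (∀ t ∈ T, eT t = t) ∧ (∀ t ∈ T, eL t = 0) ∧
      (∀ x, eL x + eT x = x) :=
  ⟨L.projection T hLT, T.projection L hLT.symm,
    fun x => Submodule.projection_apply_mem hLT x,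
    fun x => Submodule.projection_apply_mem hLT.symm x,
    fun _ hl => Submodule.projection_apply_of_mem_left hLT hl,
    fun _ hl => Submodule.projection_apply_of_mem_right hLT.symm hl,
    fun _ ht => Submodule.projection_apply_of_mem_left hLT.symm ht,
    fun _ ht => Submodule.projection_apply_of_mem_right hLT ht,
    fun x => Submodule.projection_add_projection_eq_self hLT x⟩

section Witt

variable {p : ℕ} [Fact p.Prime] {S R : Type u} [CommRing S] [CommRing R] (f : S →+* R)
variable {P : Type v} [AddCommGroup P] [Module (WittVector p S) P]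

local notation "gW" => (WittVector.map f : WittVector p S →+* WittVector p R)
local notation "σS" => (WittVector.frobenius : WittVector p S →+* WittVector p S)
local notation "σR" => (WittVector.frobenius : WittVector p R →+* WittVector p R)

theorem hσ : (σR).comp gW = (gW).comp σS :=
  RingHom.ext fun x => ((WittVector.frobenius_isPoly p).map f x).symm

/-- Verschiebung as an `A`-linear map between twisted copies of `W(R)`. -/
noncomputable def Vlin : Res ((σR).comp gW) →ₗ[WittVector p S] Res gW where
  toFun b := Res.mk _ (WittVector.verschiebung b.val)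
  map_add' s t := by apply Res.ext; simp
  map_smul' a t := by
    apply Res.ext
    simp only [Res.val_smul, Res.val_mk, RingHom.comp_apply, RingHom.id_apply]
    rw [mul_comm (WittVector.frobenius _) _, WittVector.verschiebung_mul_frobenius, mul_comm]

/-- `b ⊗ x ↦ V b ⊗ x`. -/
noncomputable def vt : BC ((σR).comp gW) P →+ BC gW P where
  toFun n := ofT _ (LinearMap.rTensor P (Vlin f) (toT _ n))
  map_zero' := by rw [toT_zero, map_zero, ofT_zero]
  map_add' a b := by rw [toT_add, map_add, ofT_add]

theorem vt_tmul (b : WittVector p R) (x : P) :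
    vt f (BC.tmul _ b x) = BC.tmul gW (WittVector.verschiebung b) x := rfl

theorem vt_injective [Module.Flat (WittVector p S) P] :
    Function.Injective (vt (p := p) f (P := P)) := by
  have h1 : Function.Injective (Vlin (p := p) f) := by
    intro s t hst
    apply Res.ext
    exact WittVector.verschiebung_injective p R (congrArg Res.val hst)
  have h2 := Module.Flat.rTensor_preserves_injective_linearMap (M := P) (Vlin f) h1
  intro a b hab
  exact h2 hab

theorem vt_smul (b : WittVector p R) (n : BC ((σR).comp gW) P) :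
    vt f (WittVector.frobenius b • n) = b • vt f n := by
  induction n using BC.induction_on ((σR).comp gW) with
  | zero => rw [smul_zero, map_zero, smul_zero]
  | tmul b' x =>
    rw [BC.smul_tmul, vt_tmul, vt_tmul, BC.smul_tmul, mul_comm (WittVector.frobenius b) b',
      WittVector.verschiebung_mul_frobenius, mul_comm]
  | add z₁ z₂ h₁ h₂ => rw [smul_add, map_add, h₁, h₂, map_add, smul_add]

open Classical in
/-- a set-theoretic inverse of `vt`. -/
noncomputable def u0 (y : BC gW P) : BC ((σR).comp gW) P :=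
  if h : ∃ n, vt f n = y then h.choose else 0

theorem u0_vt [Module.Flat (WittVector p S) P] (n : BC ((σR).comp gW) P) :
    u0 f (vt f n) = n := by
  have h : ∃ n', vt f n' = vt f n := ⟨n, rfl⟩
  rw [u0, dif_pos h]
  exact vt_injective f h.choose_spec

/-- `b ⊗ x ↦ b ⊗ φ x` on the Frobenius-twisted base change. -/
noncomputable def liftF (φ : P →ₛₗ[σS] P) :
    BC ((σR).comp gW) P →ₗ[WittVector p R] BC gW P :=
  (BC.lift ((gW).comp σS) (ιcomp gW σS φ)).comp (BC.castHom (hσ f))

theorem liftF_tmul (φ : P →ₛₗ[σS] P) (b : WittVector p R) (x : P) :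
    liftF f φ (BC.tmul _ b x) = BC.tmul gW b (φ x) := by
  change BC.lift ((gW).comp σS) (ιcomp gW σS φ) (BC.castHom (hσ f) (BC.tmul _ b x)) = _
  rw [BC.castHom_tmul, BC.lift_tmul]
  change b • BC.tmul gW 1 (φ x) = _
  rw [BC.smul_tmul, mul_one]

theorem exists_vt_eq_verschiebung_smul (w : WittVector p R) (z : BC gW P) :
    ∃ n, vt f n = WittVector.verschiebung w • z := by
  induction z using BC.induction_on gW with
  | zero => exact ⟨0, by rw [map_zero, smul_zero]⟩
  | tmul b x =>
    refine ⟨BC.tmul _ (w * WittVector.frobenius b) x, ?_⟩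
    rw [vt_tmul, BC.smul_tmul, WittVector.verschiebung_mul_frobenius]
  | add z₁ z₂ h₁ h₂ =>
    obtain ⟨n₁, h₁⟩ := h₁
    obtain ⟨n₂, h₂⟩ := h₂
    exact ⟨n₁ + n₂, by rw [map_add, h₁, h₂, smul_add]⟩

theorem exists_vt_eq_of_mem (y : BC gW P)
    (hy : y ∈ IV p R • (⊤ : Submodule (WittVector p R) (BC gW P))) :
    ∃ n, vt f n = y := by
  refine Submodule.smul_induction_on hy ?_ ?_
  · intro r hr z _
    have hr' : r ∈ RingHom.ker (WittVector.constantCoeff : WittVector p R →+* R) := by
      rw [← WittDisp.IV_eq_ker]; exact hr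
    obtain ⟨w, rfl⟩ := (WittAdic.mem_ker_constantCoeff_iff p r).mp hr'
    exact exists_vt_eq_verschiebung_smul f w z
  · rintro y₁ y₂ ⟨n₁, h₁⟩ ⟨n₂, h₂⟩
    exact ⟨n₁ + n₂, by rw [map_add, h₁, h₂]⟩

/-- The general shape of `V_R⁻¹`. -/
noncomputable def VinvR [Module.Flat (WittVector p S) P] (eL eT : P →ₗ[WittVector p S] P)
    (Φ φ : P →ₛₗ[σS] P) (QR : Submodule (WittVector p R) (BC gW P))
    (hK : ∀ q ∈ QR, ∃ n, vt f n = BC.map gW eT q) :
    QR →ₛₗ[σR] BC gW P where
  toFun q := semiMap gW σS σR (hσ f) Φ (BC.map gW eL q.1) + liftF f φ (u0 f (BC.map gW eT q.1))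
  map_add' q q' := by
    obtain ⟨n, hn⟩ := hK q.1 q.2
    obtain ⟨n', hn'⟩ := hK q'.1 q'.2
    have h3 : BC.map gW eT (q + q' : QR).1 = vt f (n + n') := by
      rw [Submodule.coe_add, map_add, map_add, hn, hn']
    rw [h3, ← hn, ← hn', u0_vt, u0_vt, u0_vt]
    simp only [Submodule.coe_add, map_add]
    abel
  map_smul' b q := by
    obtain ⟨n, hn⟩ := hK q.1 q.2
    have h3 : BC.map gW eT (b • q : QR).1 = vt f (WittVector.frobenius b • n) := by
      rw [Submodule.coe_smul, map_smul, vt_smul, hn]
    rw [h3, ← hn, u0_vt, u0_vt]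
    simp only [Submodule.coe_smul, map_smulₛₗ, RingHom.id_apply, smul_add]

theorem VinvR_apply [Module.Flat (WittVector p S) P] (eL eT : P →ₗ[WittVector p S] P)
    (Φ φ : P →ₛₗ[σS] P) (QR : Submodule (WittVector p R) (BC gW P))
    (hK : ∀ q ∈ QR, ∃ n, vt f n = BC.map gW eT q) (q : QR) (n : BC ((σR).comp gW) P)
    (hn : vt f n = BC.map gW eT q.1) :
    VinvR f eL eT Φ φ QR hK q =
      semiMap gW σS σR (hσ f) Φ (BC.map gW eL q.1) + liftF f φ n := by
  change semiMap gW σS σR (hσ f) Φ (BC.map gW eL q.1) +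
    liftF f φ (u0 f (BC.map gW eT q.1)) = _
  rw [← hn, u0_vt]

/-! ### The submodule `Q_R` -/

theorem tmul_mem_QR (Q : Submodule (WittVector p S) P) (b : WittVector p R) (y : P)
    (hy : y ∈ Q) : BC.tmul gW b y ∈ LinearMap.ker (bcQuotMap f Q) := by
  rw [LinearMap.mem_ker, bcQuotMap_tmul, Submodule.mkQ_apply,
    (Submodule.Quotient.mk_eq_zero Q).mpr hy, BC.tmul_zero]

theorem IV_smul_le_QR (Q : Submodule (WittVector p S) P) :
    IV p R • (⊤ : Submodule (WittVector p R) (BC gW P)) ≤ LinearMap.ker (bcQuotMap f Q) := by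
  refine Submodule.smul_le.mpr (fun r hr z _ => ?_)
  have hr' : (WittVector.constantCoeff : WittVector p R →+* R) r = 0 := by
    have h1 := hr
    rw [WittDisp.IV_eq_ker] at h1
    exact h1
  rw [LinearMap.mem_ker, map_smulₛₗ, hr', zero_smul]

theorem verschiebung_tmul_mem_QR (Q : Submodule (WittVector p S) P) (w : WittVector p R)
    (x : P) : BC.tmul gW (WittVector.verschiebung w) x ∈ LinearMap.ker (bcQuotMap f Q) := by
  apply IV_smul_le_QR f Q
  rw [BC.tmul_eq_smul_tmul_one]
  exact Submodule.smul_mem_smul (verschiebung_mem_IV p R w) Submodule.mem_top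

theorem map_mem_IV (r : WittVector p S) (hr : r ∈ IV p S) : gW r ∈ IV p R := by
  rw [WittDisp.IV_eq_ker, RingHom.mem_ker, WittVector.constantCoeff_apply, WittVector.map_coeff]
  have hr' : (WittVector.constantCoeff : WittVector p S →+* S) r = 0 := by
    have h1 := hr
    rw [WittDisp.IV_eq_ker] at h1
    exact h1
  rw [WittVector.constantCoeff_apply] at hr'
  rw [hr', map_zero]

theorem tmul_mem_IV_smul (t' : P) (ht' : t' ∈ IV p S • (⊤ : Submodule (WittVector p S) P))
    (b : WittVector p R) :
    BC.tmul gW b t' ∈ IV p R • (⊤ : Submodule (WittVector p R) (BC gW P)) := by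
  refine Submodule.smul_induction_on ht' ?_ ?_
  · intro r hr x _
    rw [← BC.tmul_mul_apply, mul_comm, ← BC.smul_tmul]
    exact Submodule.smul_mem_smul (map_mem_IV f r hr) Submodule.mem_top
  · intro x y hx hy
    rw [BC.tmul_add]
    exact add_mem hx hy

theorem mem_QR_gen (Q : Submodule (WittVector p S) P) (q : BC gW P)
    (hq : q ∈ LinearMap.ker (bcQuotMap f Q)) :
    q ∈ IV p R • (⊤ : Submodule (WittVector p R) (BC gW P)) ⊔
      LinearMap.range (BC.map gW Q.subtype) := by
  have hq' : BC.push gW (WittVector.constantCoeff : WittVector p R →+* R)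
      (BC.map gW Q.mkQ q) = 0 := hq
  have h1 := mem_sup_of_push_map_mkQ_eq_zero gW
    (WittVector.constantCoeff : WittVector p R →+* R) Q
    (WittVector.constantCoeff_surjective p) q hq'
  rw [← WittDisp.IV_eq_ker] at h1
  exact h1

theorem map_mem_of_mem_QR (Q : Submodule (WittVector p S) P) (eT : P →ₗ[WittVector p S] P)
    (heTQ : ∀ y ∈ Q, eT y ∈ IV p S • (⊤ : Submodule (WittVector p S) P))
    (q : BC gW P) (hq : q ∈ LinearMap.ker (bcQuotMap f Q)) :
    BC.map gW eT q ∈ IV p R • (⊤ : Submodule (WittVector p R) (BC gW P)) := by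
  have h1 := mem_QR_gen f Q q hq
  have h2 : IV p R • (⊤ : Submodule (WittVector p R) (BC gW P)) ⊔
      LinearMap.range (BC.map gW Q.subtype) ≤
      Submodule.comap (BC.map gW eT)
        (IV p R • (⊤ : Submodule (WittVector p R) (BC gW P))) := by
    refine sup_le ?_ ?_
    · refine Submodule.smul_le.mpr (fun r hr z _ => ?_)
      rw [Submodule.mem_comap, map_smul]
      exact Submodule.smul_mem_smul hr Submodule.mem_top
    · rintro _ ⟨ζ, rfl⟩
      rw [Submodule.mem_comap]
      induction ζ using BC.induction_on gW with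
      | zero => rw [map_zero, map_zero]; exact zero_mem _
      | tmul b y =>
        rw [BC.map_tmul, BC.map_tmul]
        exact tmul_mem_IV_smul f _ (heTQ _ y.2) b
      | add z₁ z₂ h₁ h₂ => rw [map_add, map_add]; exact add_mem h₁ h₂
  exact h2 h1

end Witt

end Groth.Agent.H74.DispBC
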