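import Mathlib
import Groth.Prelude.Def_Disp2
import Groth.Agent.H74.DispBC

/-! Base change of a 3n-display: the main theorems. -/

set_option autoImplicit false
universe u v

namespace Groth.Agent.H74.DispBC2

open W4c1extbt610 Dieu TensorProduct BCLib DispBC

theorem isCompl_range {B M : Type*} [CommRing B] [AddCommGroup M] [Module B M]
    (E1 E2 : M →ₗ[B] M) (hsum : ∀ z, E1 z + E2 z = z) (h21 : ∀ z, E2 (E1 z) = 0)
    (h12 : ∀ z, E1 (E2 z) = 0) : IsCompl (LinearMap.range E1) (LinearMap.range E2) := by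
  constructor
  · rw [Submodule.disjoint_def]
    rintro z ⟨a, rfl⟩ ⟨b, hb⟩
    have h1 := (hsum (E1 a)).symm
    rw [h21, add_zero] at h1
    rw [h1, ← hb, h12]
  · rw [codisjoint_iff_le_sup]
    intro z _
    rw [← hsum z]
    exact Submodule.add_mem_sup ⟨z, rfl⟩ ⟨z, rfl⟩

section

variable {p : ℕ} [Fact p.Prime] {S R : Type u} [CommRing S] [CommRing R] (f : S →+* R)
variable {P : Type v} [AddCommGroup P] [Module (WittVector p S) P]

local notation "gW" => (WittVector.map f : WittVector p S →+* WittVector p R)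
local notation "σS" => (WittVector.frobenius : WittVector p S →+* WittVector p S)
local notation "σR" => (WittVector.frobenius : WittVector p R →+* WittVector p R)

theorem exists_baseChange (D : Display3n p S P) :
    ∃ DR : Display3n p R (BC gW P), IsDispBaseChange f D DR := by
  obtain ⟨L, T, hLT, hQ⟩ := D.exists_normal
  haveI : Module.Finite (WittVector p S) P := D.finite
  haveI : Module.Projective (WittVector p S) P := D.projective
  haveI : Module.Flat (WittVector p S) P := Module.Flat.of_projective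
  have hLQ : L ≤ D.Q := by rw [hQ]; exact le_sup_left
  have hIT : IV p S • T ≤ D.Q := by rw [hQ]; exact le_sup_right
  obtain ⟨eL, eT, heLmem, heTmem, heLL, heTL, heTT, heLT, hsum⟩ := exists_projections L T hLT
  obtain ⟨Φ, hΦ⟩ : ∃ Φ : P →ₛₗ[σS] P,
      ∀ x, Φ x = D.Vinv ⟨eL x, hLQ (heLmem x)⟩ + D.F (eT x) :=
    ⟨D.Vinv.comp (eL.codRestrict D.Q (fun x => hLQ (heLmem x))) + D.F.comp eT, fun x => rfl⟩
  have hΦL : ∀ l (hl : l ∈ L), Φ l = D.Vinv ⟨l, hLQ hl⟩ := by
    intro l hl
    have e : (⟨eL l, hLQ (heLmem l)⟩ : D.Q) = ⟨l, hLQ hl⟩ := Subtype.ext (heLL l hl)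
    rw [hΦ, e, heTL l hl, map_zero, add_zero]
  have hFV : ∀ y : D.Q, D.F (y : P) = (p : WittVector p S) • D.Vinv y := by
    intro y
    have h1 := D.Vinv_verschiebung_smul 1 (y : P)
    have h2 : D.Vinv (WittVector.verschiebung (1 : WittVector p S) • y) =
        D.Vinv ⟨WittVector.verschiebung 1 • (y : P), D.IV_smul_le
          (Submodule.smul_mem_smul (verschiebung_mem_IV p S 1) Submodule.mem_top)⟩ := rfl
    rw [← h2, map_smulₛₗ, WittVector.frobenius_verschiebung, one_mul, one_smul] at h1
    exact h1.symm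
  have heTQ' : ∀ y ∈ D.Q, eT y ∈ IV p S • T := by
    intro y hy
    have hy' : y ∈ L ⊔ IV p S • T := hQ.le hy
    obtain ⟨l, hl, t', ht', rfl⟩ := Submodule.mem_sup.mp hy'
    rw [map_add, heTL l hl, heTT t' (Submodule.smul_le_right ht'), zero_add]
    exact ht'
  have heTQ : ∀ y ∈ D.Q, eT y ∈ IV p S • (⊤ : Submodule (WittVector p S) P) := fun y hy =>
    Submodule.smul_mono le_rfl le_top (heTQ' y hy)
  have hK' : ∀ q ∈ LinearMap.ker (bcQuotMap f D.Q), ∃ n, vt f n = BC.map gW eT q :=
    fun q hq => exists_vt_eq_of_mem f _ (map_mem_of_mem_QR f D.Q eT heTQ q hq)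
  obtain ⟨VR, hVR⟩ : ∃ VR : LinearMap.ker (bcQuotMap f D.Q) →ₛₗ[σR] BC gW P,
      ∀ (q : LinearMap.ker (bcQuotMap f D.Q)) (n : BC ((σR).comp gW) P),
        vt f n = BC.map gW eT q.1 →
        VR q = semiMap gW σS σR (hσ f) Φ (BC.map gW eL q.1) + liftF f D.F n :=
    ⟨VinvR f eL eT Φ D.F _ hK', fun q n hn => VinvR_apply f eL eT Φ D.F _ hK' q n hn⟩
  have hC : ∀ (t' : P) (ht' : t' ∈ IV p S • T) (b : WittVector p R),
      ∃ n, vt f n = BC.tmul gW b t' ∧
        liftF f D.F n = BC.tmul gW (WittVector.frobenius b) (D.Vinv ⟨t', hIT ht'⟩) := by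
    intro t' ht' b
    refine Submodule.smul_induction_on' (p := fun t' ht' => ∃ n, vt f n = BC.tmul gW b t' ∧
        liftF f D.F n = BC.tmul gW (WittVector.frobenius b) (D.Vinv ⟨t', hIT ht'⟩)) ht' ?_ ?_
    · intro r hr x hx
      have hr' : r ∈ RingHom.ker (WittVector.constantCoeff : WittVector p S →+* S) := by
        rw [← WittDisp.IV_eq_ker]; exact hr
      obtain ⟨a, rfl⟩ := (WittAdic.mem_ker_constantCoeff_iff p r).mp hr'
      refine ⟨BC.tmul _ (WittVector.frobenius b * gW a) x, ?_, ?_⟩
      · rw [vt_tmul, mul_comm (WittVector.frobenius b) (gW a),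
          WittVector.verschiebung_mul_frobenius, ← WittVector.map_verschiebung, mul_comm,
          BC.tmul_mul_apply]
      · rw [liftF_tmul, D.Vinv_verschiebung_smul a x, BC.tmul_mul_apply]
    · intro x hx y hy h₁ h₂
      obtain ⟨n₁, h₁, h₁'⟩ := h₁
      obtain ⟨n₂, h₂, h₂'⟩ := h₂
      refine ⟨n₁ + n₂, ?_, ?_⟩
      · rw [map_add, h₁, h₂, BC.tmul_add]
      · rw [map_add, h₁', h₂', ← BC.tmul_add, ← map_add]
        rfl
  have hV1 : ∀ (b : WittVector p R) (y : D.Q)
      (h : BC.tmul gW b (y : P) ∈ LinearMap.ker (bcQuotMap f D.Q)),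
      VR ⟨_, h⟩ = BC.tmul gW (WittVector.frobenius b) (D.Vinv y) := by
    intro b y h
    have hy' : (y : P) ∈ L ⊔ IV p S • T := hQ.le y.2
    obtain ⟨l, hl, t', ht', hy⟩ := Submodule.mem_sup.mp hy'
    have ht'T : t' ∈ T := Submodule.smul_le_right ht'
    have h1 : eL (y : P) = l := by rw [← hy, map_add, heLL l hl, heLT t' ht'T, add_zero]
    have h2 : eT (y : P) = t' := by rw [← hy, map_add, heTL l hl, heTT t' ht'T, zero_add]
    obtain ⟨n, hn, hn'⟩ := hC t' ht' b
    have h3 : vt f n = BC.map gW eT (BC.tmul gW b (y : P)) := by rw [BC.map_tmul, h2, hn]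
    have h4 := hVR ⟨_, h⟩ n h3
    rw [h4]
    change semiMap gW σS σR (hσ f) Φ (BC.map gW eL (BC.tmul gW b (y : P))) + liftF f D.F n = _
    have e : (⟨l, hLQ hl⟩ + ⟨t', hIT ht'⟩ : D.Q) = y := Subtype.ext hy
    rw [hn', BC.map_tmul, semiMap_tmul, h1, hΦL l hl, ← BC.tmul_add, ← map_add, e]
  have hV2 : ∀ (w : WittVector p R) (x : P)
      (h : BC.tmul gW (WittVector.verschiebung w) x ∈ LinearMap.ker (bcQuotMap f D.Q)),
      VR ⟨_, h⟩ = BC.tmul gW w (D.F x) := by
    intro w x h
    have h3 : vt f (BC.tmul _ w (eT x)) =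
        BC.map gW eT (BC.tmul gW (WittVector.verschiebung w) x) := by
      rw [vt_tmul, BC.map_tmul]
    have h4 := hVR ⟨_, h⟩ _ h3
    rw [h4]
    change semiMap gW σS σR (hσ f) Φ (BC.map gW eL (BC.tmul gW (WittVector.verschiebung w) x)) +
      liftF f D.F (BC.tmul _ w (eT x)) = _
    have e0 : D.F (eL x) = (p : WittVector p S) • D.Vinv ⟨eL x, hLQ (heLmem x)⟩ :=
      hFV ⟨eL x, hLQ (heLmem x)⟩
    have e2 : D.F x = D.F (eL x) + D.F (eT x) := by rw [← map_add, hsum]
    rw [liftF_tmul, BC.map_tmul, semiMap_tmul, WittVector.frobenius_verschiebung,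
      hΦL _ (heLmem x), e2, BC.tmul_add, e0, ← BC.tmul_mul_apply, map_natCast]
  have hfin : Module.Finite (WittVector p R) (BC gW P) := (VSharp.bc_props' gW P).1
  have hproj : Module.Projective (WittVector p R) (BC gW P) := bc_projective gW P
  have hIVQR := IV_smul_le_QR f D.Q
  have hEsum : ∀ z, BC.map gW eL z + BC.map gW eT z = z := by
    intro z
    rw [← LinearMap.add_apply, ← bcMap_add,
      bcMap_congr gW (eL + eT) LinearMap.id (fun x => hsum x), bcMap_id]
    rfl
  have hETEL : ∀ z, BC.map gW eT (BC.map gW eL z) = 0 := by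
    intro z
    rw [← LinearMap.comp_apply, ← bcMap_comp,
      bcMap_congr gW (eT.comp eL) 0 (fun x => heTL _ (heLmem x)), bcMap_zero]
    rfl
  have hELET : ∀ z, BC.map gW eL (BC.map gW eT z) = 0 := by
    intro z
    rw [← LinearMap.comp_apply, ← bcMap_comp,
      bcMap_congr gW (eL.comp eT) 0 (fun x => heLT _ (heTmem x)), bcMap_zero]
    rfl
  have hETET : ∀ z, BC.map gW eT (BC.map gW eT z) = BC.map gW eT z := by
    intro z
    rw [← LinearMap.comp_apply, ← bcMap_comp,
      bcMap_congr gW (eT.comp eT) eT (fun x => heTT _ (heTmem x))]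
  have hELQR : ∀ z, BC.map gW eL z ∈ LinearMap.ker (bcQuotMap f D.Q) := by
    intro z
    induction z using BC.induction_on gW with
    | zero => rw [map_zero]; exact zero_mem _
    | tmul b x => rw [BC.map_tmul]; exact tmul_mem_QR f D.Q b _ (hLQ (heLmem x))
    | add z₁ z₂ h₁ h₂ => rw [map_add]; exact add_mem h₁ h₂
  refine ⟨{ Q := LinearMap.ker (bcQuotMap f D.Q)
            F := semiMap gW σS σR (hσ f) D.F
            Vinv := VR
            finite := hfin
            projective := hproj
            IV_smul_le := hIVQR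
            exists_normal := ?_
            span_range_Vinv := ?_
            Vinv_verschiebung_smul := ?_ }, ?_⟩
  · refine ⟨LinearMap.range (BC.map gW eL), LinearMap.range (BC.map gW eT),
      isCompl_range _ _ hEsum hETEL hELET, le_antisymm ?_ ?_⟩
    · intro q hq
      rw [← hEsum q]
      refine Submodule.add_mem_sup ⟨q, rfl⟩ ?_
      have h1 := map_mem_of_mem_QR f D.Q eT heTQ q hq
      have h2 : BC.map gW eT (BC.map gW eT q) ∈ Submodule.map (BC.map gW eT)
          (IV p R • (⊤ : Submodule (WittVector p R) (BC gW P))) :=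
        Submodule.mem_map_of_mem h1
      rw [Submodule.map_smul'', Submodule.map_top, hETET] at h2
      exact h2
    · refine sup_le ?_ ?_
      · rintro _ ⟨z, rfl⟩
        exact hELQR z
      · exact (Submodule.smul_mono le_rfl le_top).trans hIVQR
  · rw [eq_top_iff]
    intro z hz
    clear hz
    have hι : (⊤ : Submodule (WittVector p S) P) ≤ Submodule.comap (BC.ι gW P)
        (Submodule.span (WittVector p R) (Set.range VR)) := by
      rw [← D.span_range_Vinv, Submodule.span_le]
      rintro _ ⟨y, rfl⟩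
      rw [SetLike.mem_coe, Submodule.mem_comap, BC.ι_apply]
      refine Submodule.subset_span ⟨⟨BC.tmul gW 1 (y : P), tmul_mem_QR f D.Q 1 _ y.2⟩, ?_⟩
      rw [hV1 1 y, map_one]
    induction z using BC.induction_on gW with
    | zero => exact zero_mem _
    | tmul b x =>
      rw [BC.tmul_eq_smul_tmul_one]
      exact Submodule.smul_mem _ b (hι (Submodule.mem_top : x ∈ ⊤))
    | add z₁ z₂ h₁ h₂ => exact add_mem h₁ h₂
  · intro w z
    have key : ∀ (z : BC gW P)
        (h : WittVector.verschiebung w • z ∈ LinearMap.ker (bcQuotMap f D.Q)),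
        VR ⟨_, h⟩ = w • semiMap gW σS σR (hσ f) D.F z := by
      intro z
      induction z using BC.induction_on gW with
      | zero =>
        intro h
        have e : (⟨WittVector.verschiebung w • (0 : BC gW P), h⟩ :
            LinearMap.ker (bcQuotMap f D.Q)) = 0 := Subtype.ext (smul_zero _)
        rw [e, map_zero, map_zero, smul_zero]
      | tmul b x =>
        intro h
        have e1 : WittVector.verschiebung w • BC.tmul gW b x =
            BC.tmul gW (WittVector.verschiebung (w * WittVector.frobenius b)) x := by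
          rw [BC.smul_tmul, WittVector.verschiebung_mul_frobenius]
        have e : (⟨WittVector.verschiebung w • BC.tmul gW b x, h⟩ :
            LinearMap.ker (bcQuotMap f D.Q)) =
            ⟨BC.tmul gW (WittVector.verschiebung (w * WittVector.frobenius b)) x,
              verschiebung_tmul_mem_QR f D.Q _ x⟩ := Subtype.ext e1
        rw [e, hV2, semiMap_tmul, BC.smul_tmul]
      | add z₁ z₂ h₁ h₂ =>
        intro h
        have hm : ∀ z, WittVector.verschiebung w • z ∈ LinearMap.ker (bcQuotMap f D.Q) :=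
          fun z => hIVQR (Submodule.smul_mem_smul (verschiebung_mem_IV p R w)
            Submodule.mem_top)
        have e : (⟨WittVector.verschiebung w • (z₁ + z₂), h⟩ :
            LinearMap.ker (bcQuotMap f D.Q)) = ⟨_, hm z₁⟩ + ⟨_, hm z₂⟩ :=
          Subtype.ext (smul_add _ _ _)
        rw [e, map_add, h₁ (hm z₁), h₂ (hm z₂), map_add, smul_add]
    exact key z _
  · exact ⟨rfl, fun w x => semiMap_tmul gW σS σR (hσ f) D.F w x, fun w y h => hV1 w y h,
      fun w x h => hV2 w x h⟩

theorem baseChange_unique (D : Display3n p S P) (DR DR' : Display3n p R (BC gW P))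
    (h : IsDispBaseChange f D DR) (h' : IsDispBaseChange f D DR') : DR = DR' := by
  obtain ⟨Q, F, Vinv, fin, proj, hIV, hnorm, hspan, hVv⟩ := DR
  obtain ⟨Q', F', Vinv', fin', proj', hIV', hnorm', hspan', hVv'⟩ := DR'
  have hQ : Q = Q' := h.Q_eq.trans h'.Q_eq.symm
  subst hQ
  have hF : F = F' :=
    semilinear_ext gW (fun b x => (h.F_tmul b x).trans (h'.F_tmul b x).symm)
  subst hF
  have hQker : Q = LinearMap.ker (bcQuotMap f D.Q) := h.Q_eq
  have hV : Vinv = Vinv' := by
    have hle : Q ≤ Submodule.map Q.subtype (LinearMap.eqLocus Vinv Vinv') := by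
      intro q hq
      have h1 := mem_QR_gen f D.Q q (hQker.le hq)
      have h2 : IV p R • (⊤ : Submodule (WittVector p R) (BC gW P)) ⊔
          LinearMap.range (BC.map gW D.Q.subtype) ≤
          Submodule.map Q.subtype (LinearMap.eqLocus Vinv Vinv') := by
        refine sup_le ?_ ?_
        · refine Submodule.smul_le.mpr (fun r hr z hz => ?_)
          clear hz
          have hr' : r ∈ RingHom.ker (WittVector.constantCoeff : WittVector p R →+* R) := by
            rw [← WittDisp.IV_eq_ker]; exact hr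
          obtain ⟨w, rfl⟩ := (WittAdic.mem_ker_constantCoeff_iff p r).mp hr'
          induction z using BC.induction_on gW with
          | zero => rw [smul_zero]; exact zero_mem _
          | tmul b x =>
            have e1 : WittVector.verschiebung w • BC.tmul gW b x =
                BC.tmul gW (WittVector.verschiebung (w * WittVector.frobenius b)) x := by
              rw [BC.smul_tmul, WittVector.verschiebung_mul_frobenius]
            rw [e1]
            have hm : BC.tmul gW (WittVector.verschiebung (w * WittVector.frobenius b)) x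
                ∈ Q := by
              rw [hQker]; exact verschiebung_tmul_mem_QR f D.Q _ x
            refine ⟨⟨_, hm⟩, ?_, rfl⟩
            show Vinv ⟨_, hm⟩ = Vinv' ⟨_, hm⟩
            exact (h.Vinv_verschiebung_tmul _ x hm).trans
              (h'.Vinv_verschiebung_tmul _ x hm).symm
          | add z₁ z₂ h₁ h₂ => rw [smul_add]; exact add_mem h₁ h₂
        · rintro _ ⟨ζ, rfl⟩
          induction ζ using BC.induction_on gW with
          | zero => rw [map_zero]; exact zero_mem _
          | tmul b y =>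
            rw [BC.map_tmul]
            have hm : BC.tmul gW b (D.Q.subtype y) ∈ Q := by
              rw [hQker]; exact tmul_mem_QR f D.Q b _ y.2
            refine ⟨⟨_, hm⟩, ?_, rfl⟩
            show Vinv ⟨_, hm⟩ = Vinv' ⟨_, hm⟩
            exact (h.Vinv_tmul b y hm).trans (h'.Vinv_tmul b y hm).symm
          | add z₁ z₂ h₁ h₂ => rw [map_add]; exact add_mem h₁ h₂
      exact h2 h1
    apply LinearMap.ext
    rintro ⟨q, hq⟩
    obtain ⟨⟨q', hq'⟩, hmem, hqq⟩ := hle hq
    have hqq' : q' = q := hqq
    subst hqq'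
    exact hmem
  subst hV
  rfl

theorem existsUnique_baseChange (D : Display3n p S P) :
    ∃! DR : Display3n p R (BC gW P), IsDispBaseChange f D DR := by
  obtain ⟨DR, hDR⟩ := exists_baseChange f D
  exact ⟨DR, hDR, fun DR' h' => baseChange_unique f D DR' DR h' hDR⟩

end

end Groth.Agent.H74.DispBC2
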