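import Mathlib
import Groth.Prelude.Def_Disp2
import Groth.Agent.H74.DispBC2

/-! Base change of a display is a display. -/

set_option autoImplicit false
universe u v

namespace Groth.Agent.H74.DispBC3

open W4c1extbt610 Dieu TensorProduct BCLib DispBC

section generic

variable {A B : Type u} [CommRing A] [CommRing B] (g : A →+* B)

theorem pow_comm (σA : A →+* A) (σB : B →+* B) (h : σB.comp g = g.comp σA) (n : ℕ) :
    (σB ^ n).comp g = g.comp (σA ^ n) := by
  induction n with
  | zero =>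
    rw [pow_zero, pow_zero, RingHom.one_def, RingHom.one_def, RingHom.id_comp, RingHom.comp_id]
  | succ n ih =>
    rw [pow_succ, pow_succ, RingHom.mul_def, RingHom.mul_def, RingHom.comp_assoc, h,
      ← RingHom.comp_assoc, ih, RingHom.comp_assoc]

variable (τA : A →+* A) (τB : B →+* B) (hτ : τB.comp g = g.comp τA)
variable (P : Type v) [AddCommGroup P] [Module A P]

/-- `x ↦ 1 ⊗ (1 ⊗ x)` -/
noncomputable def θ : P →ₛₗ[g.comp τA] BC τB (BC g P) where
  toFun x := BC.tmul τB 1 (BC.tmul g 1 x)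
  map_add' x y := by rw [BC.tmul_add, BC.tmul_add]
  map_smul' a x := by
    change BC.tmul τB 1 (BC.tmul g 1 (a • x)) = (g.comp τA) a • BC.tmul τB 1 (BC.tmul g 1 x)
    rw [← BC.tmul_apply_eq g a x, BC.tmul_eq_smul_tmul_one g (g a) x,
      ← BC.tmul_apply_eq τB (g a) (BC.tmul g 1 x), BC.tmul_eq_smul_tmul_one τB (τB (g a)),
      ← RingHom.comp_apply, hτ]

/-- `a ⊗ x ↦ g a ⊗ (1 ⊗ x)` -/
noncomputable def ψ : BC τA P →ₛₗ[g] BC τB (BC g P) :=
  (BC.lift (g.comp τA) (θ g τA τB hτ P)).comp (BC.push τA g)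

theorem ψ_tmul (a : A) (x : P) :
    ψ g τA τB hτ P (BC.tmul τA a x) = BC.tmul τB (g a) (BC.tmul g 1 x) := by
  change BC.lift (g.comp τA) (θ g τA τB hτ P) (BC.push τA g (BC.tmul τA a x)) = _
  rw [BC.push_tmul, BC.lift_tmul]
  change g a • BC.tmul τB 1 (BC.tmul g 1 x) = _
  rw [BC.smul_tmul, mul_one]

/-- `b ⊗ (a ⊗ x) ↦ (b * g a) ⊗ (1 ⊗ x)` -/
noncomputable def swap : BC g (BC τA P) →ₗ[B] BC τB (BC g P) := BC.lift g (ψ g τA τB hτ P)

theorem swap_tmul (b : B) (a : A) (x : P) :
    swap g τA τB hτ P (BC.tmul g b (BC.tmul τA a x)) =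
      BC.tmul τB (b * g a) (BC.tmul g 1 x) := by
  rw [swap, BC.lift_tmul, ψ_tmul, BC.smul_tmul]

end generic

/-- `a ⊗ (a' ⊗ x) ↦ (a * σ a') ⊗ x` -/
noncomputable def merge {A : Type u} [CommRing A] (σ : A →+* A) (n : ℕ) (P : Type v)
    [AddCommGroup P] [Module A P] :
    BC σ (BC (σ ^ (n + 1)) P) →ₗ[A] BC (σ ^ (n + 1 + 1)) P :=
  (BC.castHom (comp_pow_eq_pow_succ σ (n + 1))).comp (BC.lift σ (BC.push (σ ^ (n + 1)) σ))

theorem merge_tmul {A : Type u} [CommRing A] (σ : A →+* A) (n : ℕ) (P : Type v)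
    [AddCommGroup P] [Module A P] (a a' : A) (x : P) :
    merge σ n P (BC.tmul σ a (BC.tmul (σ ^ (n + 1)) a' x)) =
      BC.tmul (σ ^ (n + 1 + 1)) (a * σ a') x := by
  change BC.castHom _ (BC.lift σ (BC.push (σ ^ (n + 1)) σ)
    (BC.tmul σ a (BC.tmul (σ ^ (n + 1)) a' x))) = _
  rw [BC.lift_tmul, BC.push_tmul, BC.smul_tmul, BC.castHom_tmul]

section Witt

variable {p : ℕ} [Fact p.Prime] {S R : Type u} [CommRing S] [CommRing R] (f : S →+* R)
variable {P : Type v} [AddCommGroup P] [Module (WittVector p S) P]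

local notation "gW" => (WittVector.map f : WittVector p S →+* WittVector p R)
local notation "σS" => (WittVector.frobenius : WittVector p S →+* WittVector p S)
local notation "σR" => (WittVector.frobenius : WittVector p R →+* WittVector p R)

theorem vSharpPow_succ_eq_merge {R' : Type u} [CommRing R'] {P' : Type v} [AddCommGroup P']
    [Module (WittVector p R') P']
    (Vs : P' →ₗ[WittVector p R']
      BC (WittVector.frobenius : WittVector p R' →+* WittVector p R') P') (n : ℕ) (x : P') :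
    vSharpPow Vs (n + 1) x =
      merge (WittVector.frobenius : WittVector p R' →+* WittVector p R') n P'
        (BC.map (WittVector.frobenius : WittVector p R' →+* WittVector p R')
          (vSharpPow Vs n) (Vs x)) := rfl

theorem QR_semilinear_ext (Q : Submodule (WittVector p S) P)
    (QR : Submodule (WittVector p R) (BC gW P))
    (hQR : QR = LinearMap.ker (bcQuotMap f Q)) {C : Type*} [CommRing C] {N : Type*}
    [AddCommGroup N] [Module C N] {τ : WittVector p R →+* C} (f₁ f₂ : QR →ₛₗ[τ] N)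
    (h1 : ∀ (w : WittVector p R) (x : P)
      (hm : BC.tmul gW (WittVector.verschiebung w) x ∈ QR), f₁ ⟨_, hm⟩ = f₂ ⟨_, hm⟩)
    (h2 : ∀ (b : WittVector p R) (y : Q) (hm : BC.tmul gW b (y : P) ∈ QR),
      f₁ ⟨_, hm⟩ = f₂ ⟨_, hm⟩) : f₁ = f₂ := by
  subst hQR
  have hle : LinearMap.ker (bcQuotMap f Q) ≤
      Submodule.map (LinearMap.ker (bcQuotMap f Q)).subtype (LinearMap.eqLocus f₁ f₂) := by
    intro q hq
    have h1' := mem_QR_gen f Q q hq
    have h2' : IV p R • (⊤ : Submodule (WittVector p R) (BC gW P)) ⊔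
        LinearMap.range (BC.map gW Q.subtype) ≤
        Submodule.map (LinearMap.ker (bcQuotMap f Q)).subtype (LinearMap.eqLocus f₁ f₂) := by
      refine sup_le ?_ ?_
      · refine Submodule.smul_le.mpr (fun r hr z hz => ?_)
        clear hz
        have hr' : r ∈ RingHom.ker (WittVector.constantCoeff : WittVector p R →+* R) := by
          rw [← WittDisp.IV_eq_ker]; exact hr
        obtain ⟨w, rfl⟩ := (WittAdic.mem_ker_constantCoeff_iff p r).mp hr'
        induction z using BC.induction_on gW with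
        | zero => rw [smul_zero]; exact zero_mem _
        | tmul b x =>
          have e1 : WittVector.verschiebung w • BC.tmul gW b x =
              BC.tmul gW (WittVector.verschiebung (w * WittVector.frobenius b)) x := by
            rw [BC.smul_tmul, WittVector.verschiebung_mul_frobenius]
          rw [e1]
          have hm : BC.tmul gW (WittVector.verschiebung (w * WittVector.frobenius b)) x
              ∈ LinearMap.ker (bcQuotMap f Q) := verschiebung_tmul_mem_QR f Q _ x
          refine ⟨⟨_, hm⟩, ?_, rfl⟩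
          show f₁ ⟨_, hm⟩ = f₂ ⟨_, hm⟩
          exact h1 _ x hm
        | add z₁ z₂ h₁ h₂ => rw [smul_add]; exact add_mem h₁ h₂
      · rintro _ ⟨ζ, rfl⟩
        induction ζ using BC.induction_on gW with
        | zero => rw [map_zero]; exact zero_mem _
        | tmul b y =>
          rw [BC.map_tmul]
          have hm : BC.tmul gW b (Q.subtype y) ∈ LinearMap.ker (bcQuotMap f Q) :=
            tmul_mem_QR f Q b _ y.2
          refine ⟨⟨_, hm⟩, ?_, rfl⟩
          show f₁ ⟨_, hm⟩ = f₂ ⟨_, hm⟩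
          exact h2 b y hm
        | add z₁ z₂ h₁ h₂ => rw [map_add]; exact add_mem h₁ h₂
    exact h2' h1'
  apply LinearMap.ext
  rintro ⟨q, hq⟩
  obtain ⟨⟨q', hq'⟩, hmem, hqq⟩ := hle hq
  have hqq' : q' = q := hqq
  subst hqq'
  exact hmem

theorem isVSharp_baseChange (D : Display3n p S P) (DR : Display3n p R (BC gW P))
    (hDR : IsDispBaseChange f D DR) (Vs : P →ₗ[WittVector p S] BC σS P)
    (hVs : IsVSharp D Vs) :
    IsVSharp DR ((swap gW σS σR (hσ f) P).comp (BC.map gW Vs)) := by
  have hVsF : ∀ x, Vs (D.F x) = BC.tmul σS ((p : WittVector p S) * 1) x := by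
    intro x
    have h1 := hVs.app_smul_F 1 x
    rw [one_smul, BC.smul_tmul] at h1
    exact h1
  have hVsV : ∀ y : D.Q, Vs (D.Vinv y) = BC.tmul σS 1 (y : P) := by
    intro y
    have h1 := hVs.app_smul_Vinv 1 y
    rw [one_smul] at h1
    exact h1
  have hR_tmul : ∀ b x, ((swap gW σS σR (hσ f) P).comp (BC.map gW Vs)) (BC.tmul gW b x) =
      swap gW σS σR (hσ f) P (BC.tmul gW b (Vs x)) := by
    intro b x
    rw [LinearMap.comp_apply, BC.map_tmul]
  -- (a)
  have hFa : ∀ z, ((swap gW σS σR (hσ f) P).comp (BC.map gW Vs)) (DR.F z) =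
      (p : WittVector p R) • BC.tmul σR 1 z := by
    have hext : ((swap gW σS σR (hσ f) P).comp (BC.map gW Vs)).comp DR.F =
        (p : WittVector p R) • BC.ι σR (BC gW P) := by
      apply semilinear_ext gW
      intro b x
      rw [LinearMap.comp_apply, hDR.F_tmul, hR_tmul, hVsF, swap_tmul, LinearMap.smul_apply,
        BC.ι_apply, BC.tmul_eq_smul_tmul_one gW b x, ← BC.tmul_apply_eq σR b, BC.smul_tmul,
        mul_one, map_natCast, mul_comm]
    intro z
    have h1 := LinearMap.congr_fun hext z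
    rw [LinearMap.comp_apply, LinearMap.smul_apply, BC.ι_apply] at h1
    exact h1
  -- (b)
  have hVb : ∀ y : DR.Q, ((swap gW σS σR (hσ f) P).comp (BC.map gW Vs)) (DR.Vinv y) =
      BC.tmul σR 1 (y : BC gW P) := by
    have hext : ((swap gW σS σR (hσ f) P).comp (BC.map gW Vs)).comp DR.Vinv =
        (BC.ι σR (BC gW P)).comp DR.Q.subtype := by
      apply QR_semilinear_ext f D.Q DR.Q hDR.Q_eq
      · intro w x hm
        rw [LinearMap.comp_apply, hDR.Vinv_verschiebung_tmul w x hm, hR_tmul, hVsF, swap_tmul,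
          LinearMap.comp_apply, BC.ι_apply]
        change _ = BC.tmul σR 1 (BC.tmul gW (WittVector.verschiebung w) x)
        rw [BC.tmul_eq_smul_tmul_one gW (WittVector.verschiebung w) x,
          ← BC.tmul_apply_eq σR (WittVector.verschiebung w), WittVector.frobenius_verschiebung,
          mul_one, map_natCast]
      · intro b y hm
        rw [LinearMap.comp_apply, hDR.Vinv_tmul b y hm, hR_tmul, hVsV, swap_tmul,
          LinearMap.comp_apply, BC.ι_apply]
        change _ = BC.tmul σR 1 (BC.tmul gW b (y : P))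
        rw [BC.tmul_eq_smul_tmul_one gW b (y : P), ← BC.tmul_apply_eq σR b, map_one, mul_one]
    intro y
    exact LinearMap.congr_fun hext y
  refine ⟨fun w z => ?_, fun w y => ?_⟩
  · rw [map_smul, hFa, BC.tmul_eq_smul_tmul_one σR w z, smul_comm]
  · rw [map_smul, hVb, BC.smul_tmul, mul_one]

theorem L2 (n : ℕ) (a : WittVector p S) (v : BC (σS ^ (n + 1)) P) :
    merge σR n (BC gW P) (BC.tmul σR (1 * gW a)
        (swap gW (σS ^ (n + 1)) (σR ^ (n + 1)) (pow_comm gW σS σR (hσ f) (n + 1)) P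
          (BC.tmul gW 1 v))) =
      swap gW (σS ^ (n + 1 + 1)) (σR ^ (n + 1 + 1)) (pow_comm gW σS σR (hσ f) (n + 1 + 1)) P
        (BC.tmul gW 1 (merge σS n P (BC.tmul σS a v))) := by
  induction v using BC.induction_on (σS ^ (n + 1)) with
  | zero => simp only [BC.tmul_zero, map_zero]
  | tmul a' x =>
    rw [swap_tmul, merge_tmul, merge_tmul, swap_tmul]
    congr 1
    have h := RingHom.congr_fun (hσ f) a'
    simp only [RingHom.comp_apply] at h
    rw [one_mul, one_mul, one_mul, map_mul, h]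
  | add v₁ v₂ h₁ h₂ => simp only [BC.tmul_add, map_add, h₁, h₂]

theorem L1 (n : ℕ) (X : P →ₗ[WittVector p S] BC (σS ^ (n + 1)) P) (u : BC σS P) :
    merge σR n (BC gW P)
      (BC.map σR ((swap gW (σS ^ (n + 1)) (σR ^ (n + 1))
          (pow_comm gW σS σR (hσ f) (n + 1)) P).comp (BC.map gW X))
        (swap gW σS σR (hσ f) P (BC.tmul gW 1 u))) =
      swap gW (σS ^ (n + 1 + 1)) (σR ^ (n + 1 + 1)) (pow_comm gW σS σR (hσ f) (n + 1 + 1)) P
        (BC.tmul gW 1 (merge σS n P (BC.map σS X u))) := by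
  induction u using BC.induction_on σS with
  | zero => simp only [BC.tmul_zero, map_zero]
  | tmul a x' =>
    rw [swap_tmul, BC.map_tmul, BC.map_tmul, LinearMap.comp_apply, BC.map_tmul]
    exact L2 f n a (X x')
  | add u₁ u₂ h₁ h₂ => simp only [BC.tmul_add, map_add, h₁, h₂]

theorem vSharpPow_baseChange (Vs : P →ₗ[WittVector p S] BC σS P) (n : ℕ) :
    vSharpPow ((swap gW σS σR (hσ f) P).comp (BC.map gW Vs)) n =
      (swap gW (σS ^ (n + 1)) (σR ^ (n + 1)) (pow_comm gW σS σR (hσ f) (n + 1)) P).comp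
        (BC.map gW (vSharpPow Vs n)) := by
  induction n with
  | zero =>
    apply BC.ext gW
    intro x
    rw [vSharpPow_zero_apply, LinearMap.comp_apply, LinearMap.comp_apply, BC.map_tmul,
      BC.map_tmul, vSharpPow_zero_apply]
    generalize Vs x = u
    induction u using BC.induction_on σS with
    | zero => simp only [BC.tmul_zero, map_zero]
    | tmul a x' =>
      rw [swap_tmul, BC.castHom_tmul, BC.castHom_tmul]
      exact (swap_tmul gW _ _ _ P 1 a x').symm
    | add u₁ u₂ h₁ h₂ => simp only [BC.tmul_add, map_add, h₁, h₂]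
  | succ n ih =>
    apply BC.ext gW
    intro x
    rw [vSharpPow_succ_eq_merge, ih, LinearMap.comp_apply, LinearMap.comp_apply, BC.map_tmul,
      BC.map_tmul, vSharpPow_succ_eq_merge]
    exact L1 f n (vSharpPow Vs n) (Vs x)

theorem map_mem_J (r : WittVector p S)
    (hr : r ∈ IV p S ⊔ Ideal.span {(p : WittVector p S)}) :
    gW r ∈ IV p R ⊔ Ideal.span {(p : WittVector p R)} := by
  have h1 : IV p S ⊔ Ideal.span {(p : WittVector p S)} ≤
      Ideal.comap gW (IV p R ⊔ Ideal.span {(p : WittVector p R)}) := by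
    refine sup_le (fun r hr => Ideal.mem_sup_left (map_mem_IV f r hr)) ?_
    rw [Ideal.span_le]
    rintro _ rfl
    show gW (p : WittVector p S) ∈ IV p R ⊔ Ideal.span {(p : WittVector p R)}
    rw [map_natCast]
    exact Ideal.mem_sup_right (Ideal.subset_span rfl)
  exact h1 hr

theorem swap_mem (τA : WittVector p S →+* WittVector p S)
    (τB : WittVector p R →+* WittVector p R) (hτ : τB.comp gW = (gW).comp τA)
    (v : BC τA P)
    (hv : v ∈ (IV p S ⊔ Ideal.span {(p : WittVector p S)}) •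
      (⊤ : Submodule (WittVector p S) (BC τA P))) (b : WittVector p R) :
    swap gW τA τB hτ P (BC.tmul gW b v) ∈
      (IV p R ⊔ Ideal.span {(p : WittVector p R)}) •
        (⊤ : Submodule (WittVector p R) (BC τB (BC gW P))) := by
  refine Submodule.smul_induction_on hv ?_ ?_
  · intro r hr v' _
    rw [← BC.tmul_mul_apply, BC.tmul_eq_smul_tmul_one, map_smul]
    exact Submodule.smul_mem_smul (Ideal.mul_mem_left _ b (map_mem_J f r hr)) Submodule.mem_top
  · intro x y hx hy
    rw [BC.tmul_add, map_add]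
    exact add_mem hx hy

theorem isVNilpotent_baseChange (Vs : P →ₗ[WittVector p S] BC σS P) (hnil : IsVNilpotent Vs) :
    IsVNilpotent ((swap gW σS σR (hσ f) P).comp (BC.map gW Vs)) := by
  obtain ⟨n, hn⟩ := hnil
  refine ⟨n, fun z => ?_⟩
  rw [vSharpPow_baseChange]
  induction z using BC.induction_on gW with
  | zero => rw [map_zero]; exact zero_mem _
  | tmul b x =>
    rw [LinearMap.comp_apply, BC.map_tmul]
    exact swap_mem f _ _ _ _ (hn x) b
  | add z₁ z₂ h₁ h₂ => rw [map_add]; exact add_mem h₁ h₂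

theorem isDisplay_baseChange (D : Display3n p S P) (hD : IsDisplay D)
    (DR : Display3n p R (BC gW P)) (hDR : IsDispBaseChange f D DR) : IsDisplay DR := by
  obtain ⟨Vs, hVs, hnil⟩ := hD
  exact ⟨_, isVSharp_baseChange f D DR hDR Vs hVs, isVNilpotent_baseChange f Vs hnil⟩

end Witt

end Groth.Agent.H74.DispBC3
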