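import Mathlib
import Groth.Prelude.Def_Disp2
import Groth.Agent.H74.DispBC3
import Groth.Agent.H74.WittAdic

/-! The nilpotence condition of a display forces `V^{N#}` into the kernel of any truncation. -/

set_option autoImplicit false
set_option maxHeartbeats 400000
universe u v

namespace Groth.Agent.H74.VNil

open W4c1extbt610 Dieu BCLib DispBC3

section generic

variable {A : Type u} [CommRing A] (τ τ' : A →+* A) (P : Type v) [AddCommGroup P] [Module A P]

/-- `a ⊗ (a' ⊗ x) ↦ (a * τ a') ⊗ x` -/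
noncomputable def mergeGen : BC τ (BC τ' P) →ₗ[A] BC (τ.comp τ') P := BC.lift τ (BC.push τ' τ)

theorem mergeGen_tmul (a a' : A) (x : P) :
    mergeGen τ τ' P (BC.tmul τ a (BC.tmul τ' a' x)) = BC.tmul (τ.comp τ') (a * τ a') x := by
  rw [mergeGen, BC.lift_tmul, BC.push_tmul, BC.smul_tmul]

theorem pow_comp_pow (σ : A →+* A) (m m' : ℕ) :
    (σ ^ (m + 1)).comp (σ ^ (m' + 1)) = σ ^ (m' + (m + 1) + 1) := by
  rw [← RingHom.mul_def, ← pow_add]
  congr 1
  omega

end generic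

section Witt

variable {p : ℕ} [Fact p.Prime] {R : Type u} [CommRing R]
variable {P : Type v} [AddCommGroup P] [Module (WittVector p R) P]

local notation "σ" => (WittVector.frobenius : WittVector p R →+* WittVector p R)

theorem C3 (m m' : ℕ) (e₁ : (σ ^ (m + 1)).comp (σ ^ (m' + 1)) = σ ^ (m' + (m + 1) + 1))
    (e₂ : (σ ^ (m + 1 + 1)).comp (σ ^ (m' + 1)) = σ ^ (m' + (m + 1 + 1) + 1))
    (a b : WittVector p R) (w : BC (σ ^ (m' + 1)) P) :
    merge σ (m' + (m + 1)) P (BC.tmul σ a (BC.castHom e₁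
      (mergeGen (σ ^ (m + 1)) (σ ^ (m' + 1)) P (BC.tmul (σ ^ (m + 1)) b w)))) =
    BC.castHom e₂ (mergeGen (σ ^ (m + 1 + 1)) (σ ^ (m' + 1)) P
      (BC.tmul (σ ^ (m + 1 + 1)) (a * σ b) w)) := by
  induction w using BC.induction_on (σ ^ (m' + 1)) with
  | zero => simp only [BC.tmul_zero, map_zero]
  | tmul c z =>
    rw [mergeGen_tmul, BC.castHom_tmul, merge_tmul, mergeGen_tmul, BC.castHom_tmul]
    have h1 : a * σ (b * (σ ^ (m + 1)) c) = a * σ b * (σ ^ (m + 1 + 1)) c := by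
      rw [map_mul, pow_succ' σ (m + 1), RingHom.mul_def, RingHom.comp_apply, mul_assoc]
    rw [h1]
    rfl
  | add w₁ w₂ h₁ h₂ => simp only [BC.tmul_add, map_add, h₁, h₂]

theorem C2 (m m' : ℕ) (e₁ : (σ ^ (m + 1)).comp (σ ^ (m' + 1)) = σ ^ (m' + (m + 1) + 1))
    (e₂ : (σ ^ (m + 1 + 1)).comp (σ ^ (m' + 1)) = σ ^ (m' + (m + 1 + 1) + 1))
    (a : WittVector p R) (X' : P →ₗ[WittVector p R] BC (σ ^ (m' + 1)) P)
    (v : BC (σ ^ (m + 1)) P) :
    merge σ (m' + (m + 1)) P (BC.tmul σ a (BC.castHom e₁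
      (mergeGen (σ ^ (m + 1)) (σ ^ (m' + 1)) P (BC.map (σ ^ (m + 1)) X' v)))) =
    BC.castHom e₂ (mergeGen (σ ^ (m + 1 + 1)) (σ ^ (m' + 1)) P
      (BC.map (σ ^ (m + 1 + 1)) X' (merge σ m P (BC.tmul σ a v)))) := by
  induction v using BC.induction_on (σ ^ (m + 1)) with
  | zero => simp only [BC.tmul_zero, map_zero]
  | tmul b y =>
    rw [BC.map_tmul, merge_tmul, BC.map_tmul]
    exact C3 m m' e₁ e₂ a b (X' y)
  | add v₁ v₂ h₁ h₂ => simp only [BC.tmul_add, map_add, h₁, h₂]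

theorem C1 (m m' : ℕ) (e₁ : (σ ^ (m + 1)).comp (σ ^ (m' + 1)) = σ ^ (m' + (m + 1) + 1))
    (e₂ : (σ ^ (m + 1 + 1)).comp (σ ^ (m' + 1)) = σ ^ (m' + (m + 1 + 1) + 1))
    (X : P →ₗ[WittVector p R] BC (σ ^ (m + 1)) P)
    (X' : P →ₗ[WittVector p R] BC (σ ^ (m' + 1)) P) (u : BC σ P) :
    merge σ (m' + (m + 1)) P (BC.map σ ((BC.castHom e₁).comp
      ((mergeGen (σ ^ (m + 1)) (σ ^ (m' + 1)) P).comp ((BC.map (σ ^ (m + 1)) X').comp X))) u) =
    BC.castHom e₂ (mergeGen (σ ^ (m + 1 + 1)) (σ ^ (m' + 1)) P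
      (BC.map (σ ^ (m + 1 + 1)) X' (merge σ m P (BC.map σ X u)))) := by
  induction u using BC.induction_on σ with
  | zero => simp only [map_zero]
  | tmul a y =>
    rw [BC.map_tmul, BC.map_tmul, LinearMap.comp_apply, LinearMap.comp_apply,
      LinearMap.comp_apply]
    exact C2 m m' e₁ e₂ a X' (X y)
  | add u₁ u₂ h₁ h₂ => simp only [map_add, h₁, h₂]

theorem Z2 (m' : ℕ) (e : (σ ^ (0 + 1)).comp (σ ^ (m' + 1)) = σ ^ (m' + (0 + 1) + 1))
    (a : WittVector p R) (v : BC (σ ^ (m' + 1)) P) :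
    merge σ m' P (BC.tmul σ a v) =
      BC.castHom e (mergeGen (σ ^ (0 + 1)) (σ ^ (m' + 1)) P (BC.tmul (σ ^ (0 + 1)) a v)) := by
  induction v using BC.induction_on (σ ^ (m' + 1)) with
  | zero => simp only [BC.tmul_zero, map_zero]
  | tmul a' z =>
    rw [merge_tmul, mergeGen_tmul, BC.castHom_tmul]
    have h1 : (σ ^ (0 + 1)) a' = σ a' := by rw [zero_add, pow_one]
    rw [h1]
  | add v₁ v₂ h₁ h₂ => simp only [BC.tmul_add, map_add, h₁, h₂]

theorem Z1 (m' : ℕ) (e : (σ ^ (0 + 1)).comp (σ ^ (m' + 1)) = σ ^ (m' + (0 + 1) + 1))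
    (e0 : σ = σ ^ (0 + 1))
    (X' : P →ₗ[WittVector p R] BC (σ ^ (m' + 1)) P) (u : BC σ P) :
    merge σ m' P (BC.map σ X' u) =
      BC.castHom e (mergeGen (σ ^ (0 + 1)) (σ ^ (m' + 1)) P
        (BC.map (σ ^ (0 + 1)) X' (BC.castHom e0 u))) := by
  induction u using BC.induction_on σ with
  | zero => simp only [map_zero]
  | tmul a y =>
    rw [BC.map_tmul, BC.castHom_tmul, BC.map_tmul]
    exact Z2 m' e a (X' y)
  | add u₁ u₂ h₁ h₂ => simp only [map_add, h₁, h₂]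

theorem vSharpPow_comp (Vs : P →ₗ[WittVector p R] BC σ P) (m m' : ℕ) :
    ∀ (e : (σ ^ (m + 1)).comp (σ ^ (m' + 1)) = σ ^ (m' + (m + 1) + 1)),
    vSharpPow Vs (m' + (m + 1)) = (BC.castHom e).comp
      ((mergeGen (σ ^ (m + 1)) (σ ^ (m' + 1)) P).comp
        ((BC.map (σ ^ (m + 1)) (vSharpPow Vs m')).comp (vSharpPow Vs m))) := by
  induction m with
  | zero =>
    intro e
    apply LinearMap.ext
    intro x
    rw [LinearMap.comp_apply, LinearMap.comp_apply, LinearMap.comp_apply, vSharpPow_zero_apply]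
    have h1 : vSharpPow Vs (m' + (0 + 1)) x =
        merge σ m' P (BC.map σ (vSharpPow Vs m') (Vs x)) := vSharpPow_succ_eq_merge Vs m' x
    rw [h1]
    exact Z1 m' e (pow_one σ).symm (vSharpPow Vs m') (Vs x)
  | succ m ih =>
    intro e
    apply LinearMap.ext
    intro x
    rw [LinearMap.comp_apply, LinearMap.comp_apply, LinearMap.comp_apply]
    have h1 : vSharpPow Vs (m' + (m + 1 + 1)) x =
        merge σ (m' + (m + 1)) P (BC.map σ (vSharpPow Vs (m' + (m + 1))) (Vs x)) :=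
      vSharpPow_succ_eq_merge Vs (m' + (m + 1)) x
    rw [h1, ih (pow_comp_pow σ m m'), vSharpPow_succ_eq_merge Vs m x]
    exact C1 m m' (pow_comp_pow σ m m') e (vSharpPow Vs m) (vSharpPow Vs m') (Vs x)

/-! ### containment -/

theorem tail_mem (𝔞 : Ideal (WittVector p R)) (τ τ' τ'' : WittVector p R →+* WittVector p R)
    (e : τ.comp τ' = τ'') (hτ : ∀ r ∈ 𝔞, τ r ∈ 𝔞) (b : WittVector p R) (w : BC τ' P)
    (hw : w ∈ 𝔞 • (⊤ : Submodule (WittVector p R) (BC τ' P))) :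
    BC.castHom e (mergeGen τ τ' P (BC.tmul τ b w)) ∈
      𝔞 • (⊤ : Submodule (WittVector p R) (BC τ'' P)) := by
  refine Submodule.smul_induction_on hw ?_ ?_
  · intro j hj w' _
    rw [← BC.tmul_mul_apply, BC.tmul_eq_smul_tmul_one, map_smul, map_smul]
    exact Submodule.smul_mem_smul (Ideal.mul_mem_left _ b (hτ j hj)) Submodule.mem_top
  · intro x y hx hy
    rw [BC.tmul_add, map_add, map_add]
    exact add_mem hx hy

theorem step (Vs : P →ₗ[WittVector p R] BC σ P) (𝔞 𝔟 : Ideal (WittVector p R))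
    (h𝔞 : ∀ (k : ℕ), ∀ r ∈ 𝔞, (σ ^ k) r ∈ 𝔞) (m m' : ℕ)
    (hX' : ∀ y, vSharpPow Vs m' y ∈ 𝔞 • (⊤ : Submodule (WittVector p R) (BC (σ ^ (m' + 1)) P)))
    (hX : ∀ x, vSharpPow Vs m x ∈ 𝔟 • (⊤ : Submodule (WittVector p R) (BC (σ ^ (m + 1)) P)))
    (x : P) :
    vSharpPow Vs (m' + (m + 1)) x ∈
      (𝔟 * 𝔞) • (⊤ : Submodule (WittVector p R) (BC (σ ^ (m' + (m + 1) + 1)) P)) := by
  rw [vSharpPow_comp Vs m m' (pow_comp_pow σ m m'), LinearMap.comp_apply, LinearMap.comp_apply,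
    LinearMap.comp_apply]
  have key : ∀ v : BC (σ ^ (m + 1)) P,
      BC.castHom (pow_comp_pow σ m m') (mergeGen (σ ^ (m + 1)) (σ ^ (m' + 1)) P
        (BC.map (σ ^ (m + 1)) (vSharpPow Vs m') v)) ∈
      𝔞 • (⊤ : Submodule (WittVector p R) (BC (σ ^ (m' + (m + 1) + 1)) P)) := by
    intro v
    induction v using BC.induction_on (σ ^ (m + 1)) with
    | zero => rw [map_zero, map_zero, map_zero]; exact zero_mem _
    | tmul b y =>
      rw [BC.map_tmul]
      exact tail_mem 𝔞 _ _ _ _ (h𝔞 (m + 1)) b _ (hX' y)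
    | add v₁ v₂ h₁ h₂ => rw [map_add, map_add, map_add]; exact add_mem h₁ h₂
  refine Submodule.smul_induction_on (hX x) ?_ ?_
  · intro c hc v' _
    rw [map_smul, map_smul, map_smul, Submodule.mul_smul]
    exact Submodule.smul_mem_smul hc (key v')
  · intro v₁ v₂ h₁ h₂
    rw [map_add, map_add, map_add]
    exact add_mem h₁ h₂

/-- the indices `N, 2N+1, 3N+2, …` -/
def idx (N : ℕ) : ℕ → ℕ
  | 0 => N
  | k + 1 => N + (idx N k + 1)

theorem iterate (Vs : P →ₗ[WittVector p R] BC σ P) (𝔞 : Ideal (WittVector p R))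
    (h𝔞 : ∀ (k : ℕ), ∀ r ∈ 𝔞, (σ ^ k) r ∈ 𝔞) (N : ℕ)
    (hN : ∀ y, vSharpPow Vs N y ∈ 𝔞 • (⊤ : Submodule (WittVector p R) (BC (σ ^ (N + 1)) P)))
    (k : ℕ) : ∀ x, vSharpPow Vs (idx N k) x ∈
      (𝔞 ^ (k + 1)) • (⊤ : Submodule (WittVector p R) (BC (σ ^ (idx N k + 1)) P)) := by
  induction k with
  | zero =>
    intro x
    rw [zero_add, pow_one]
    exact hN x
  | succ k ih =>
    intro x
    rw [pow_succ 𝔞 (k + 1)]
    exact step Vs 𝔞 (𝔞 ^ (k + 1)) h𝔞 (idx N k) N hN ih x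

/-! ### ideals of `W(R)` -/

theorem J_stable (k : ℕ) (r : WittVector p R)
    (hr : r ∈ IV p R ⊔ Ideal.span {(p : WittVector p R)}) :
    (σ ^ k) r ∈ IV p R ⊔ Ideal.span {(p : WittVector p R)} := by
  have h1 : IV p R ⊔ Ideal.span {(p : WittVector p R)} ≤
      Ideal.comap σ (IV p R ⊔ Ideal.span {(p : WittVector p R)}) := by
    refine sup_le ?_ ?_
    · intro r hr
      have hr' : r ∈ RingHom.ker (WittVector.constantCoeff : WittVector p R →+* R) := by
        rw [← WittDisp.IV_eq_ker]; exact hr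
      obtain ⟨y, rfl⟩ := (WittAdic.mem_ker_constantCoeff_iff p r).mp hr'
      rw [Ideal.mem_comap, WittVector.frobenius_verschiebung]
      exact Ideal.mem_sup_right (Ideal.mul_mem_left _ _ (Ideal.subset_span rfl))
    · rw [Ideal.span_le]
      rintro _ rfl
      show σ (p : WittVector p R) ∈ IV p R ⊔ Ideal.span {(p : WittVector p R)}
      rw [map_natCast]
      exact Ideal.mem_sup_right (Ideal.subset_span rfl)
  induction k generalizing r with
  | zero => rw [pow_zero]; exact hr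
  | succ k ih =>
    rw [pow_succ, RingHom.mul_def, RingHom.comp_apply]
    exact ih _ (h1 hr)

theorem J_mul_J :
    (IV p R ⊔ Ideal.span {(p : WittVector p R)}) * (IV p R ⊔ Ideal.span {(p : WittVector p R)}) ≤
      Ideal.span {(p : WittVector p R)} * (IV p R ⊔ Ideal.span {(p : WittVector p R)}) := by
  have hII : IV p R * IV p R = Ideal.span {(p : WittVector p R)} * IV p R := by
    rw [WittDisp.IV_eq_ker]
    exact WittAdic.ker_mul_ker p
  rw [Ideal.sup_mul, Ideal.mul_sup, Ideal.mul_sup]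
  refine sup_le (sup_le ?_ ?_) (sup_le ?_ ?_)
  · rw [hII]
    exact le_sup_left
  · rw [mul_comm]
    exact le_sup_left
  · exact le_sup_left
  · exact le_sup_right

theorem J_pow (k : ℕ) :
    (IV p R ⊔ Ideal.span {(p : WittVector p R)}) ^ (k + 1) ≤
      Ideal.span {(p : WittVector p R)} ^ k * (IV p R ⊔ Ideal.span {(p : WittVector p R)}) := by
  induction k with
  | zero => rw [zero_add, pow_one, pow_zero, Ideal.one_eq_top, Ideal.top_mul]
  | succ k ih =>
    rw [pow_succ]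
    refine (Ideal.mul_mono_left ih).trans ?_
    rw [mul_assoc, pow_succ, mul_assoc]
    exact Ideal.mul_mono_right J_mul_J

theorem pow_mem_ker_truncate (c : ℕ) (hc : (p : R) ^ c = 0) (n : ℕ) :
    (p : WittVector p R) ^ (n + c) ∈ RingHom.ker (WittVector.truncate (p := p) (R := R) n) := by
  rw [WittVector.mem_ker_truncate]
  intro i hi
  have h1 := WittAdic.coeff_mul_pow_mem p (R := R) (n + c) i (by omega) 1
  rw [one_mul] at h1
  have h2 : (p : R) ^ (n + c - i) = 0 := by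
    have : n + c - i = c + (n - i) := by omega
    rw [this, pow_add, hc, zero_mul]
  rw [h2, Ideal.span_singleton_eq_bot.mpr rfl, Ideal.mem_bot] at h1
  exact h1

theorem J_pow_le_ker (c : ℕ) (hc : (p : R) ^ c = 0) (n : ℕ) :
    (IV p R ⊔ Ideal.span {(p : WittVector p R)}) ^ (n + c + 1) ≤
      RingHom.ker (WittVector.truncate (p := p) (R := R) n) := by
  refine (J_pow (n + c)).trans (Ideal.mul_le_left.trans ?_)
  rw [Ideal.span_singleton_pow, Ideal.span_le]
  rintro _ rfl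
  exact pow_mem_ker_truncate c hc n

theorem main (hp : IsNilpotent (p : R)) (Vs : P →ₗ[WittVector p R] BC σ P)
    (hnil : IsVNilpotent Vs) (n : ℕ) :
    ∃ N : ℕ, ∀ x : P, vSharpPow Vs N x ∈
      (RingHom.ker (WittVector.truncate (p := p) (R := R) n)) •
        (⊤ : Submodule (WittVector p R) (BC (σ ^ (N + 1)) P)) := by
  obtain ⟨c, hc⟩ := hp
  obtain ⟨N, hN⟩ := hnil
  refine ⟨idx N (n + c), fun x => ?_⟩
  have h1 := iterate Vs (IV p R ⊔ Ideal.span {(p : WittVector p R)})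
    (fun k r hr => J_stable k r hr) N hN (n + c) x
  exact Submodule.smul_mono (J_pow_le_ker c hc n) le_rfl h1

end Witt

end Groth.Agent.H74.VNil
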