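import Mathlib
import Groth.Prelude.Def_Disp2
import Groth.Agent.H74.VNil

/-! Dieudonné modules over a perfect ring: display ⇔ `V` topologically nilpotent. -/

set_option autoImplicit false
set_option maxHeartbeats 400000
universe u v

namespace Groth.Agent.H74.DieuDisp

open W4c1extbt610 Dieu BCLib DispBC3 VNil

section rho

variable {A : Type u} [CommRing A] (τ : A →+* A) (hτ : Function.Bijective τ)
variable (M : Type v) [AddCommGroup M] [Module A M]

/-- `b ⊗ x ↦ τ⁻¹ b • x` -/
noncomputable def ρ : BC τ M →+ M :=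
  TensorProduct.liftAddHom (R := A) (M := Res τ) (N := M)
    (AddMonoidHom.mk' (fun b : Res τ =>
        DistribMulAction.toAddMonoidHom M ((RingEquiv.ofBijective τ hτ).symm b.val))
      (by
        intro b b'
        ext x
        simp [add_smul]))
    (by
      intro a b x
      change (RingEquiv.ofBijective τ hτ).symm (a • b).val • x =
        (RingEquiv.ofBijective τ hτ).symm b.val • (a • x)
      have h1 : (RingEquiv.ofBijective τ hτ).symm (τ a) = a := by
        rw [RingEquiv.symm_apply_eq, RingEquiv.ofBijective_apply]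
      rw [Res.val_smul, map_mul, h1, mul_comm, mul_smul])

theorem ρ_tmul (b : A) (x : M) :
    ρ τ hτ M (BC.tmul τ b x) = (RingEquiv.ofBijective τ hτ).symm b • x := rfl

theorem ρ_smul (c : A) (z : BC τ M) :
    ρ τ hτ M (c • z) = (RingEquiv.ofBijective τ hτ).symm c • ρ τ hτ M z := by
  induction z using BC.induction_on τ with
  | zero => rw [smul_zero, map_zero, smul_zero]
  | tmul b x => rw [BC.smul_tmul, ρ_tmul, ρ_tmul, map_mul, mul_smul]
  | add z₁ z₂ h₁ h₂ => rw [smul_add, map_add, h₁, h₂, map_add, smul_add]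

theorem ρ_mem (c : A) (hc : τ c = c) (z : BC τ M)
    (hz : z ∈ Ideal.span {c} • (⊤ : Submodule A (BC τ M))) :
    ρ τ hτ M z ∈ Ideal.span {c} • (⊤ : Submodule A M) := by
  have h1 : (RingEquiv.ofBijective τ hτ).symm c = c := by
    rw [RingEquiv.symm_apply_eq, RingEquiv.ofBijective_apply, hc]
  refine Submodule.smul_induction_on hz ?_ ?_
  · intro r hr z' _
    obtain ⟨a, rfl⟩ := Ideal.mem_span_singleton'.mp hr
    rw [ρ_smul, map_mul, h1]
    exact Submodule.smul_mem_smul (Ideal.mul_mem_left _ _ (Ideal.subset_span rfl))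
      Submodule.mem_top
  · intro x y hx hy
    rw [map_add]
    exact add_mem hx hy

omit hτ in
theorem tmul_one_mem (c : A) (hc : τ c = c) (y : M)
    (hy : y ∈ Ideal.span {c} • (⊤ : Submodule A M)) :
    BC.tmul τ 1 y ∈ Ideal.span {c} • (⊤ : Submodule A (BC τ M)) := by
  refine Submodule.smul_induction_on hy ?_ ?_
  · intro r hr y' _
    obtain ⟨a, rfl⟩ := Ideal.mem_span_singleton'.mp hr
    rw [← BC.tmul_apply_eq, BC.tmul_eq_smul_tmul_one, map_mul, hc]
    exact Submodule.smul_mem_smul (Ideal.mul_mem_left _ _ (Ideal.subset_span rfl))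
      Submodule.mem_top
  · intro x y hx hy
    rw [BC.tmul_add]
    exact add_mem hx hy

end rho

section Witt

variable {p : ℕ} [Fact p.Prime] {k : Type u} [CommRing k] [CharP k p] [PerfectRing k p]
variable {M : Type v} [AddCommGroup M] [Module (WittVector p k) M]

local notation "σ" => (WittVector.frobenius : WittVector p k →+* WittVector p k)

theorem frob_symm (w : WittVector p k) :
    σ (((WittVector.frobeniusEquiv p k).symm : WittVector p k →+* WittVector p k) w) = w :=
  (WittVector.frobeniusEquiv p k).apply_symm_apply w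

/-- `m ↦ 1 ⊗ V m` -/
noncomputable def Vs0 (Dm : DieuMod p k M) : M →ₗ[WittVector p k] BC σ M where
  toFun m := BC.tmul σ 1 (Dm.V m)
  map_add' x y := by rw [map_add, BC.tmul_add]
  map_smul' w m := by
    rw [map_smulₛₗ, RingHom.id_apply, ← BC.tmul_apply_eq, frob_symm, BC.tmul_eq_smul_tmul_one]

theorem isVSharp_Vs0 (Dm : DieuMod p k M) (D : Display3n p k M) (hF : D.F = Dm.F)
    (hQ : ∀ x : M, x ∈ D.Q ↔ x ∈ Set.range Dm.V)
    (hV : ∀ (m : M) (h : Dm.V m ∈ D.Q), D.Vinv ⟨Dm.V m, h⟩ = m) : IsVSharp D (Vs0 Dm) := by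
  refine ⟨fun w x => ?_, fun w y => ?_⟩
  · rw [map_smul, hF]
    change w • BC.tmul σ 1 (Dm.V (Dm.F x)) = _
    rw [Dm.V_F, ← BC.tmul_apply_eq, map_natCast, BC.smul_tmul, BC.smul_tmul, mul_comm]
  · obtain ⟨y, hyQ⟩ := y
    obtain ⟨m, rfl⟩ := (hQ y).mp hyQ
    rw [map_smul]
    change w • BC.tmul σ 1 (Dm.V (D.Vinv ⟨Dm.V m, hyQ⟩)) = BC.tmul σ w (Dm.V m)
    rw [hV m hyQ, BC.smul_tmul, mul_one]

theorem vSharpPow_Vs0 (Dm : DieuMod p k M) (n : ℕ) (m : M) :
    vSharpPow (Vs0 Dm) n m = BC.tmul (σ ^ (n + 1)) 1 ((⇑Dm.V)^[n + 1] m) := by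
  induction n generalizing m with
  | zero =>
    rw [vSharpPow_zero_apply]
    change BC.castHom _ (BC.tmul σ 1 (Dm.V m)) = _
    rw [BC.castHom_tmul]
    rfl
  | succ n ih =>
    rw [vSharpPow_succ_eq_merge]
    change merge σ n M (BC.map σ (vSharpPow (Vs0 Dm) n) (BC.tmul σ 1 (Dm.V m))) = _
    rw [BC.map_tmul, ih, merge_tmul, map_one, mul_one,
      Function.iterate_succ_apply (⇑Dm.V) (n + 1) m]

theorem IV_le_span : IV p k ≤ Ideal.span {(p : WittVector p k)} := by
  intro r hr
  have hr' : r ∈ RingHom.ker (WittVector.constantCoeff : WittVector p k →+* k) := by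
    rw [← WittDisp.IV_eq_ker]; exact hr
  obtain ⟨y, rfl⟩ := (WittAdic.mem_ker_constantCoeff_iff p r).mp hr'
  obtain ⟨z, rfl⟩ := (WittVector.frobenius_bijective p k).2 y
  rw [WittVector.verschiebung_frobenius]
  exact Ideal.mul_mem_left _ _ (Ideal.subset_span rfl)

theorem J_eq : IV p k ⊔ Ideal.span {(p : WittVector p k)} =
    Ideal.span {(p : WittVector p k)} :=
  sup_eq_right.mpr IV_le_span

theorem pow_bijective (n : ℕ) :
    Function.Bijective ((σ ^ n : WittVector p k →+* WittVector p k)) := by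
  rw [RingHom.coe_pow]
  exact (WittVector.frobenius_bijective p k).iterate n

theorem main (Dm : DieuMod p k M) (D : Display3n p k M) (hF : D.F = Dm.F)
    (hQ : ∀ x : M, x ∈ D.Q ↔ x ∈ Set.range Dm.V)
    (hV : ∀ (m : M) (h : Dm.V m ∈ D.Q), D.Vinv ⟨Dm.V m, h⟩ = m) :
    IsDisplay D ↔ Dm.VTopNilp := by
  have hVs0 := isVSharp_Vs0 Dm D hF hQ hV
  constructor
  · rintro ⟨Vs, hVs, hnil⟩
    have hVsEq : Vs = Vs0 Dm := VSharp.vSharp_unique D Vs (Vs0 Dm) hVs hVs0
    subst hVsEq
    obtain ⟨N, hN⟩ := hnil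
    intro e
    refine ⟨idx N e + 1, fun m => ?_⟩
    have h1 := iterate (Vs0 Dm) (IV p k ⊔ Ideal.span {(p : WittVector p k)})
      (fun j r hr => J_stable j r hr) N hN e m
    rw [J_eq, vSharpPow_Vs0, Ideal.span_singleton_pow] at h1
    have h2 := ρ_mem (σ ^ (idx N e + 1)) (pow_bijective _) M ((p : WittVector p k) ^ (e + 1))
      (by rw [map_pow, map_natCast]) _ h1
    rw [ρ_tmul, map_one, one_smul] at h2
    rw [Ideal.span_singleton_pow]
    refine Submodule.smul_mono ?_ le_rfl h2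
    rw [Ideal.span_singleton_le_span_singleton]
    exact pow_dvd_pow _ (Nat.le_succ e)
  · intro h
    obtain ⟨n, hn⟩ := h 1
    refine ⟨Vs0 Dm, hVs0, n, fun m => ?_⟩
    rw [vSharpPow_Vs0, Function.iterate_succ_apply]
    have h1 := hn (Dm.V m)
    rw [pow_one] at h1
    have h2 := tmul_one_mem (σ ^ (n + 1)) M (p : WittVector p k) (map_natCast _ p) _ h1
    exact Submodule.smul_mono (le_sup_right : Ideal.span {(p : WittVector p k)} ≤
      IV p k ⊔ Ideal.span {(p : WittVector p k)}) le_rfl h2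

end Witt

end Groth.Agent.H74.DieuDisp
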