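import Mathlib
import Groth.Prelude.Def_W4c1extbt610Disp
import Groth.Agent.H74.DieuDisp
import Groth.Agent.H74.WittDisp

/-! Dieudonné modules over a perfect ring `k`: `M/VM` is projective over `k = W(k)/p`
(Tor criterion at the maximal ideals), and the passage to 3n-displays. -/

set_option autoImplicit false
set_option maxHeartbeats 400000
universe u v

open scoped TensorProduct

namespace Groth.Agent.H74.DieuProj

open W4c1extbt610

/-! ### Pure commutative algebra -/

section Crit

variable {B : Type*} [CommRing B] {N : Type*} [AddCommGroup N] [Module B N]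

theorem exists_smul_mem_of_mk_mem (I : Ideal B) [I.IsPrime] (n : N) (s : I.primeCompl)
    (h : LocalizedModule.mk n s ∈ IsLocalRing.maximalIdeal (Localization.AtPrime I) •
      (⊤ : Submodule (Localization.AtPrime I) (LocalizedModule I.primeCompl N))) :
    ∃ t : I.primeCompl, (t : B) • n ∈ I • (⊤ : Submodule B N) := by
  have hker : IsLocalRing.maximalIdeal (Localization.AtPrime I) •
      (⊤ : Submodule (Localization.AtPrime I) (LocalizedModule I.primeCompl N)) ≤
      LinearMap.ker (LocalizedModule.map I.primeCompl (I • (⊤ : Submodule B N)).mkQ) := by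
    rw [Submodule.smul_le]
    intro r hr w _
    rw [LinearMap.mem_ker, map_smul]
    generalize (LocalizedModule.map I.primeCompl (I • (⊤ : Submodule B N)).mkQ) w = v
    obtain ⟨a, u, rfl⟩ := IsLocalization.exists_mk'_eq I.primeCompl r
    rw [IsLocalization.AtPrime.mk'_mem_maximal_iff (Localization.AtPrime I) I] at hr
    induction v using LocalizedModule.induction_on with
    | h m s' =>
      rw [← Localization.mk_eq_mk'_apply, LocalizedModule.mk_smul_mk]
      obtain ⟨m, rfl⟩ := Submodule.Quotient.mk_surjective _ m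
      have : a • (Submodule.Quotient.mk m : N ⧸ I • (⊤ : Submodule B N)) = 0 := by
        rw [← Submodule.Quotient.mk_smul, Submodule.Quotient.mk_eq_zero]
        exact Submodule.smul_mem_smul hr Submodule.mem_top
      rw [this, LocalizedModule.zero_mk]
  have h0 := hker h
  rw [LinearMap.mem_ker, LocalizedModule.map_mk, ← LocalizedModule.zero_mk s,
    LocalizedModule.mk_eq] at h0
  obtain ⟨t, ht⟩ := h0
  simp only [Submonoid.smul_def, smul_zero, Submodule.mkQ_apply] at ht
  refine ⟨t * s, ?_⟩
  rw [← Submodule.Quotient.mk_eq_zero (I • (⊤ : Submodule B N)), Submonoid.coe_mul, mul_smul,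
    Submodule.Quotient.mk_smul, Submodule.Quotient.mk_smul]
  exact ht

/-- Tor criterion: if `K ∩ 𝔪N ⊆ 𝔪K` for all maximal ideals `𝔪`, then `N/K` is projective. -/
theorem projective_quotient_of_maximal [Module.Finite B N] [Module.Projective B N]
    (K : Submodule B N) (hK : K.FG)
    (h : ∀ I : Ideal B, I.IsMaximal → ∀ x ∈ K, x ∈ I • (⊤ : Submodule B N) → x ∈ I • K) :
    Module.Projective B (N ⧸ K) := by
  haveI : Module.FinitePresentation B N := Module.finitePresentation_of_projective B N
  haveI : Module.FinitePresentation B (N ⧸ K) :=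
    Module.finitePresentation_of_surjective K.mkQ K.mkQ_surjective (by rwa [Submodule.ker_mkQ])
  refine Module.projective_of_localization_maximal (fun I hI => ?_)
  haveI := hI
  haveI : Module.Finite B K := Module.Finite.iff_fg.mpr hK
  have hg : Function.Surjective (LocalizedModule.map I.primeCompl K.mkQ) :=
    LocalizedModule.map_surjective I.primeCompl _ K.mkQ_surjective
  have hex : Function.Exact (LocalizedModule.map I.primeCompl K.subtype)
      (LocalizedModule.map I.primeCompl K.mkQ) :=
    LocalizedModule.map_exact I.primeCompl K.subtype K.mkQ (LinearMap.exact_subtype_mkQ K)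
  haveI : Module.Free (Localization.AtPrime I) (LocalizedModule I.primeCompl N) :=
    Module.free_of_flat_of_isLocalRing
  suffices hinj : Function.Injective ((LocalizedModule.map I.primeCompl K.subtype).lTensor
      (IsLocalRing.ResidueField (Localization.AtPrime I))) by
    haveI := Module.free_of_lTensor_residueField_injective _ _ hg hex hinj
    infer_instance
  rw [injective_iff_map_eq_zero]
  intro z hz
  obtain ⟨x, rfl⟩ := TensorProduct.mk_surjective (Localization.AtPrime I)
    (LocalizedModule I.primeCompl K) (IsLocalRing.ResidueField (Localization.AtPrime I))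
    IsLocalRing.residue_surjective z
  rw [TensorProduct.mk_apply, LinearMap.lTensor_tmul] at hz
  induction x using LocalizedModule.induction_on with
  | h y s =>
    have hz' : (LocalizedModule.map I.primeCompl K.subtype) (LocalizedModule.mk y s) ∈
        IsLocalRing.maximalIdeal (Localization.AtPrime I) •
          (⊤ : Submodule (Localization.AtPrime I) (LocalizedModule I.primeCompl N)) := by
      rw [← LinearMap.ker_tensorProductMk]; exact hz
    rw [LocalizedModule.map_mk] at hz'
    obtain ⟨t, ht⟩ := exists_smul_mem_of_mk_mem I (K.subtype y) s hz'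
    have h1 : (t : B) • (y : N) ∈ I • K := h I hI _ (K.smul_mem _ y.2) ht
    have h2 : (t : B) • y ∈ I • (⊤ : Submodule B K) := (Submodule.mem_smul_top_iff I K _).mpr h1
    have h3 : ∀ w ∈ I • (⊤ : Submodule B K), LocalizedModule.mk w (1 : I.primeCompl) ∈
        IsLocalRing.maximalIdeal (Localization.AtPrime I) •
          (⊤ : Submodule (Localization.AtPrime I) (LocalizedModule I.primeCompl K)) := by
      intro w hw
      refine Submodule.smul_induction_on hw (fun a ha w₀ _ => ?_) (fun w₁ w₂ h₁ h₂ => ?_)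
      · have : LocalizedModule.mk (a • w₀) (1 : I.primeCompl) =
            (algebraMap B (Localization.AtPrime I) a) • LocalizedModule.mk w₀ (1 : I.primeCompl) := by
          rw [algebraMap_smul, LocalizedModule.smul'_mk]
        rw [this]
        exact Submodule.smul_mem_smul
          ((IsLocalization.AtPrime.to_map_mem_maximal_iff (Localization.AtPrime I) I a).mpr ha)
          Submodule.mem_top
      · have : LocalizedModule.mk (w₁ + w₂) (1 : I.primeCompl) =
            LocalizedModule.mk w₁ 1 + LocalizedModule.mk w₂ 1 := by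
          rw [← LocalizedModule.mkLinearMap_apply, ← LocalizedModule.mkLinearMap_apply,
            ← LocalizedModule.mkLinearMap_apply, map_add]
        rw [this]; exact Submodule.add_mem _ h₁ h₂
    have h4 : LocalizedModule.mk y s = (Localization.mk (1 : B) (t * s) : Localization.AtPrime I) •
        LocalizedModule.mk ((t : B) • y) (1 : I.primeCompl) := by
      rw [LocalizedModule.mk_smul_mk, one_smul, mul_one, ← Submonoid.smul_def,
        LocalizedModule.mk_cancel_common_left]
    have h5 : LocalizedModule.mk y s ∈ IsLocalRing.maximalIdeal (Localization.AtPrime I) •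
        (⊤ : Submodule (Localization.AtPrime I) (LocalizedModule I.primeCompl K)) := by
      rw [h4]; exact Submodule.smul_mem _ _ (h3 _ h2)
    rw [← LinearMap.ker_tensorProductMk] at h5
    exact h5

/-- A colon-ideal statement for projective modules. -/
theorem proj_colon {A A' : Type*} [CommRing A] [CommRing A'] [Algebra A A']
    (hsurj : Function.Surjective (algebraMap A A'))
    {P : Type*} [AddCommGroup P] [Module A P] [Module A' P] [IsScalarTower A A' P]
    [Module.Projective A' P]
    (r : A) (𝔟 𝔠 : Ideal A)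
    (h : ∀ a : A, algebraMap A A' (r * a) ∈ 𝔟.map (algebraMap A A') →
      algebraMap A A' a ∈ 𝔠.map (algebraMap A A'))
    (m : P) (hm : r • m ∈ 𝔟 • (⊤ : Submodule A P)) : m ∈ 𝔠 • (⊤ : Submodule A P) := by
  obtain ⟨s, hs⟩ := (Module.projective_def' (R := A') (P := P)).mp inferInstance
  have h1 : ∀ x ∈ 𝔟 • (⊤ : Submodule A P), ∀ j : P, s x j ∈ 𝔟.map (algebraMap A A') := by
    intro x hx
    refine Submodule.smul_induction_on hx (fun b hb x₀ _ j => ?_) (fun x y hx hy j => ?_)
    · rw [← algebraMap_smul A' b x₀, map_smul, Finsupp.smul_apply, smul_eq_mul]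
      exact Ideal.mul_mem_right _ _ (Ideal.mem_map_of_mem _ hb)
    · rw [map_add, Finsupp.add_apply]
      exact Ideal.add_mem _ (hx j) (hy j)
  have h2 : ∀ j : P, s m j ∈ 𝔠.map (algebraMap A A') := by
    intro j
    obtain ⟨a, ha⟩ := hsurj (s m j)
    rw [← ha]
    apply h a
    rw [map_mul, ha]
    have := h1 _ hm j
    rwa [← algebraMap_smul A' r m, map_smul, Finsupp.smul_apply, smul_eq_mul] at this
  have h3 : m = Finsupp.linearCombination A' id (s m) := (LinearMap.congr_fun hs m).symm
  rw [h3, Finsupp.linearCombination_apply, Finsupp.sum]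
  refine Submodule.sum_mem _ (fun j _ => ?_)
  obtain ⟨c, hc, hcj⟩ := (Ideal.mem_map_iff_of_surjective _ hsurj).mp (h2 j)
  show s m j • j ∈ _
  rw [← hcj, algebraMap_smul]
  exact Submodule.smul_mem_smul hc Submodule.mem_top

/-- Reduction of a projective module over `W/𝔡` modulo a larger ideal `I`. -/
theorem projective_quot {W : Type*} [CommRing W] (𝔡 I : Ideal W) (h𝔡 : 𝔡 ≤ I)
    {P : Type*} [AddCommGroup P] [Module W P] [Module (W ⧸ 𝔡) P] [IsScalarTower W (W ⧸ 𝔡) P]
    [Module.Projective (W ⧸ 𝔡) P] :
    Module.Projective (W ⧸ I) (P ⧸ (I • ⊤ : Submodule W P)) := by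
  obtain ⟨s, hs⟩ := (Module.projective_def' (R := W ⧸ 𝔡) (P := P)).mp inferInstance
  let φ : (W ⧸ 𝔡) →ₗ[W] (W ⧸ I) := (Ideal.Quotient.factorₐ W h𝔡).toLinearMap
  have hφ : ∀ w : W, φ (Ideal.Quotient.mk 𝔡 w) = Ideal.Quotient.mk I w := fun w => rfl
  let i₀ : P →ₗ[W] (P →₀ (W ⧸ I)) := (Finsupp.mapRange.linearMap φ) ∘ₗ (s.restrictScalars W)
  have hi₀ : (I • ⊤ : Submodule W P) ≤ LinearMap.ker i₀ := by
    rw [Submodule.smul_le]
    intro a ha x _
    rw [LinearMap.mem_ker, map_smul]
    ext j
    rw [Finsupp.smul_apply, Finsupp.zero_apply, ← algebraMap_smul (W ⧸ I) a, smul_eq_mul,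
      Ideal.Quotient.algebraMap_eq, Ideal.Quotient.eq_zero_iff_mem.mpr ha, zero_mul]
  let i₁ : (P ⧸ (I • ⊤ : Submodule W P)) →ₗ[W] (P →₀ (W ⧸ I)) := Submodule.liftQ _ i₀ hi₀
  let i : (P ⧸ (I • ⊤ : Submodule W P)) →ₗ[W ⧸ I] (P →₀ (W ⧸ I)) :=
    LinearMap.extendScalarsOfSurjective Ideal.Quotient.mk_surjective i₁
  let π : (P →₀ (W ⧸ I)) →ₗ[W ⧸ I] (P ⧸ (I • ⊤ : Submodule W P)) :=
    Finsupp.linearCombination (W ⧸ I) (fun x : P => Submodule.Quotient.mk x)
  refine Module.Projective.of_split i π ?_
  refine LinearMap.ext fun x => ?_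
  obtain ⟨x, rfl⟩ := Submodule.Quotient.mk_surjective _ x
  have hx : x = Finsupp.linearCombination (W ⧸ 𝔡) id (s x) := (LinearMap.congr_fun hs x).symm
  have e1 : i (Submodule.Quotient.mk x) = Finsupp.mapRange φ (map_zero φ) (s x) := rfl
  rw [LinearMap.comp_apply, LinearMap.id_apply, e1]
  conv_rhs => rw [hx]
  rw [Finsupp.linearCombination_apply, Finsupp.linearCombination_apply,
    Finsupp.sum_mapRange_index
      (h := fun (i : P) (a : W ⧸ I) => a • (Submodule.Quotient.mk i : P ⧸ (I • ⊤ : Submodule W P)))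
      (fun _ => zero_smul _ _), Finsupp.sum, Finsupp.sum,
    ← Submodule.mkQ_apply, map_sum]
  refine Finset.sum_congr rfl fun j _ => ?_
  obtain ⟨w, hw⟩ := Ideal.Quotient.mk_surjective (s x j)
  rw [← hw, hφ]
  show Ideal.Quotient.mk I w • (Submodule.Quotient.mk j : P ⧸ (I • ⊤ : Submodule W P)) =
    Submodule.Quotient.mk (Ideal.Quotient.mk 𝔡 w • j)
  rw [Module.Quotient.mk_smul_mk, ← Ideal.Quotient.algebraMap_eq, algebraMap_smul]

end Crit

/-! ### Witt vector facts -/

section Witt

variable {p : ℕ} [Fact p.Prime] {k : Type u} [CommRing k] [CharP k p] [PerfectRing k p]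

variable (p k) in
/-- the kernel of `W(k) → W(k/𝔪)` -/
noncomputable def J (𝔪 : Ideal k) : Ideal (WittVector p k) :=
  RingHom.ker (WittVector.map (Ideal.Quotient.mk 𝔪) : WittVector p k →+* WittVector p (k ⧸ 𝔪))

theorem symm_frob (w : WittVector p k) :
    ((WittVector.frobeniusEquiv p k).symm : WittVector p k →+* WittVector p k)
      (WittVector.frobenius w) = w :=
  (WittVector.frobeniusEquiv p k).symm_apply_apply w

theorem frobenius_mem_J (𝔪 : Ideal k) (w : WittVector p k) (hw : w ∈ J p k 𝔪) :
    WittVector.frobenius w ∈ J p k 𝔪 := by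
  rw [J, RingHom.mem_ker] at hw ⊢
  have h1 := (WittVector.frobenius_isPoly p).map (Ideal.Quotient.mk 𝔪) w
  rw [h1, hw, map_zero]

theorem charP_quot (𝔪 : Ideal k) [h𝔪 : 𝔪.IsMaximal] : CharP (k ⧸ 𝔪) p := by
  haveI : Nontrivial (k ⧸ 𝔪) := Ideal.Quotient.nontrivial_iff.mpr h𝔪.ne_top
  refine (CharP.charP_iff_prime_eq_zero (Fact.out : p.Prime)).mpr ?_
  rw [← map_natCast (Ideal.Quotient.mk 𝔪), CharP.cast_eq_zero k p, map_zero]

theorem mem_J_of_p_mul_mem (𝔪 : Ideal k) [𝔪.IsMaximal] (a : WittVector p k)
    (h : (p : WittVector p k) * a ∈ J p k 𝔪) : a ∈ J p k 𝔪 := by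
  haveI := charP_quot (p := p) 𝔪
  rw [J, RingHom.mem_ker] at h ⊢
  rw [map_mul, map_natCast] at h
  exact (mul_eq_zero.mp h).resolve_left (WittVector.p_nonzero p (k ⧸ 𝔪))

theorem frobSymm_mem_J (𝔪 : Ideal k) [𝔪.IsMaximal] (w : WittVector p k) (hw : w ∈ J p k 𝔪) :
    ((WittVector.frobeniusEquiv p k).symm : WittVector p k →+* WittVector p k) w ∈ J p k 𝔪 := by
  haveI := charP_quot (p := p) 𝔪
  have hσ := DieuDisp.frob_symm w
  rw [J, RingHom.mem_ker] at hw ⊢
  have h1 := (WittVector.frobenius_isPoly p).map (Ideal.Quotient.mk 𝔪)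
    (((WittVector.frobeniusEquiv p k).symm : WittVector p k →+* WittVector p k) w)
  rw [hσ, hw] at h1
  have hinj : Function.Injective
      (WittVector.frobenius : WittVector p (k ⧸ 𝔪) →+* WittVector p (k ⧸ 𝔪)) := by
    rw [WittVector.frobenius_eq_map_frobenius]
    exact WittVector.map_injective _ (frobenius_inj (k ⧸ 𝔪) p)
  exact hinj (by rw [← h1, map_zero])

theorem p_mem_IV : (p : WittVector p k) ∈ IV p k := by
  have h := WittVector.verschiebung_frobenius (p := p) (1 : WittVector p k)
  rw [one_mul] at h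
  rw [← h]
  exact verschiebung_mem_IV p k _

theorem p_mul_eq_zero (a : WittVector p k) (h : (p : WittVector p k) * a = 0) : a = 0 := by
  rw [mul_comm, ← WittVector.verschiebung_frobenius] at h
  have h2 : WittVector.frobenius a = 0 :=
    WittVector.verschiebung_injective p k (by rw [h, map_zero])
  exact (WittVector.frobenius_bijective p k).1 (by rw [h2, map_zero])

/-- For a maximal ideal `𝔫 ∋ p` of `W(k)`, `𝔪 = constantCoeff(𝔫)` is maximal and
`J(𝔪) ≤ 𝔫 ≤ J(𝔪) ⊔ (p)`. -/
theorem exists_max (𝔫 : Ideal (WittVector p k)) [h𝔫 : 𝔫.IsMaximal]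
    (hp : (p : WittVector p k) ∈ 𝔫) :
    ∃ 𝔪 : Ideal k, 𝔪.IsMaximal ∧ J p k 𝔪 ≤ 𝔫 ∧
      𝔫 ≤ J p k 𝔪 ⊔ Ideal.span {(p : WittVector p k)} := by
  have hsurj : Function.Surjective (WittVector.constantCoeff : WittVector p k →+* k) :=
    WittVector.constantCoeff_surjective p
  have hker : RingHom.ker (WittVector.constantCoeff : WittVector p k →+* k) ≤ 𝔫 := by
    rw [← WittDisp.IV_eq_ker]
    exact DieuDisp.IV_le_span.trans ((Ideal.span_singleton_le_iff_mem _).mpr hp)
  have hcomap : Ideal.comap (WittVector.constantCoeff : WittVector p k →+* k)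
      (Ideal.map (WittVector.constantCoeff : WittVector p k →+* k) 𝔫) = 𝔫 := by
    rw [Ideal.comap_map_of_surjective _ hsurj, sup_eq_left]
    exact hker
  refine ⟨Ideal.map (WittVector.constantCoeff : WittVector p k →+* k) 𝔫, ?_, ?_, ?_⟩
  · rcases Ideal.map_eq_top_or_isMaximal_of_surjective _ hsurj h𝔫 with h | h
    · exfalso
      rw [h, Ideal.comap_top] at hcomap
      exact h𝔫.ne_top hcomap.symm
    · exact h
  · intro w hw
    rw [← hcomap, Ideal.mem_comap]
    rw [J, RingHom.mem_ker] at hw
    have h0 : (Ideal.Quotient.mk (Ideal.map (WittVector.constantCoeff : WittVector p k →+* k) 𝔫))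
        (w.coeff 0) = 0 := by
      rw [← WittVector.map_coeff, hw, WittVector.zero_coeff]
    rw [WittVector.constantCoeff_apply]
    exact Ideal.Quotient.eq_zero_iff_mem.mp h0
  · intro w hw
    have hw0 : w.coeff 0 ∈ Ideal.map (WittVector.constantCoeff : WittVector p k →+* k) 𝔫 := by
      have := Ideal.mem_map_of_mem (WittVector.constantCoeff : WittVector p k →+* k) hw
      rwa [WittVector.constantCoeff_apply] at this
    have h1 : WittVector.teichmuller p (w.coeff 0) ∈
        J p k (Ideal.map (WittVector.constantCoeff : WittVector p k →+* k) 𝔫) := by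
      rw [J, RingHom.mem_ker, WittVector.map_teichmuller,
        Ideal.Quotient.eq_zero_iff_mem.mpr hw0, WittVector.teichmuller_zero]
    have h2 : w - WittVector.teichmuller p (w.coeff 0) ∈ Ideal.span {(p : WittVector p k)} := by
      apply DieuDisp.IV_le_span
      rw [WittDisp.IV_eq_ker, RingHom.mem_ker, map_sub, WittVector.constantCoeff_apply,
        WittVector.constantCoeff_apply, WittVector.teichmuller_coeff_zero, sub_self]
    have h3 : w = WittVector.teichmuller p (w.coeff 0) +
        (w - WittVector.teichmuller p (w.coeff 0)) := by ring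
    rw [h3]
    exact Ideal.add_mem _ (Ideal.mem_sup_left h1) (Ideal.mem_sup_right h2)

end Witt

end Groth.Agent.H74.DieuProj
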