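import Mathlib
import Groth.Agent.H74.DieuProj

/-! Dieudonné modules over a perfect ring: `M/VM` projective, level-one conditions, displays. -/

set_option autoImplicit false
set_option maxHeartbeats 400000
universe u v

open scoped TensorProduct

namespace Groth.Agent.H74.DieuProj

open W4c1extbt610

section Core

variable {p : ℕ} [Fact p.Prime] {k : Type u} [CommRing k] [CharP k p] [PerfectRing k p]
variable {M : Type v} [AddCommGroup M] [Module (WittVector p k) M]

local notation "σ" => (WittVector.frobenius : WittVector p k →+* WittVector p k)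
local notation "σi" =>
  (RingEquiv.symm (WittVector.frobeniusEquiv p k) : WittVector p k →+* WittVector p k)
local notation "pI" => (Ideal.span {(p : WittVector p k)})
local notation "pM" =>
  (Ideal.span {(p : WittVector p k)} • (⊤ : Submodule (WittVector p k) M))
local notation "BB" => (WittVector p k ⧸ Ideal.span {(p : WittVector p k)})
local notation "NN" =>
  (M ⧸ (Ideal.span {(p : WittVector p k)} • (⊤ : Submodule (WittVector p k) M)))

theorem semilin_mem {τ : WittVector p k →+* WittVector p k} (G : M →ₛₗ[τ] M)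
    (𝔠 𝔠' : Ideal (WittVector p k)) (h : ∀ c ∈ 𝔠, τ c ∈ 𝔠')
    (y : M) (hy : y ∈ 𝔠 • (⊤ : Submodule (WittVector p k) M)) :
    G y ∈ 𝔠' • (⊤ : Submodule (WittVector p k) M) := by
  refine Submodule.smul_induction_on hy (fun c hc x _ => ?_) (fun x y hx hy => ?_)
  · rw [LinearMap.map_smulₛₗ]
    exact Submodule.smul_mem_smul (h c hc) Submodule.mem_top
  · rw [map_add]; exact Submodule.add_mem _ hx hy

theorem frob_mem_pI (c : WittVector p k) (hc : c ∈ pI) : σ c ∈ pI := by
  obtain ⟨c', rfl⟩ := Ideal.mem_span_singleton'.mp hc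
  rw [map_mul, map_natCast]
  exact Ideal.mul_mem_left _ _ (Ideal.mem_span_singleton_self _)

theorem frobSymm_mem_pI (c : WittVector p k) (hc : c ∈ pI) : σi c ∈ pI := by
  obtain ⟨c', rfl⟩ := Ideal.mem_span_singleton'.mp hc
  rw [map_mul, map_natCast]
  exact Ideal.mul_mem_left _ _ (Ideal.mem_span_singleton_self _)

variable (F : M →ₛₗ[(WittVector.frobenius : WittVector p k →+* WittVector p k)] M)
  (V : M →ₛₗ[(RingEquiv.symm (WittVector.frobeniusEquiv p k) :
    WittVector p k →+* WittVector p k)] M)

theorem V_wd (m m' : M) (h : (pM).mkQ m = (pM).mkQ m') :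
    (pM).mkQ (V m) = (pM).mkQ (V m') := by
  rw [Submodule.mkQ_apply, Submodule.mkQ_apply, Submodule.Quotient.eq] at h ⊢
  rw [← map_sub]
  exact semilin_mem V pI pI frobSymm_mem_pI _ h

theorem key (hFV : ∀ m : M, F (V m) = (p : WittVector p k) • m)
    (hVF : ∀ m : M, V (F m) = (p : WittVector p k) • m)
    (𝔪 : Ideal k) [𝔪.IsMaximal]
    (hcolon : ∀ u : M, (p : WittVector p k) • u ∈
        J p k 𝔪 • (⊤ : Submodule (WittVector p k) M) →
      u ∈ pM ⊔ J p k 𝔪 • (⊤ : Submodule (WittVector p k) M))
    (z : M) (hz : V z ∈ pM ⊔ J p k 𝔪 • (⊤ : Submodule (WittVector p k) M)) :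
    ∃ y j' : M, j' ∈ J p k 𝔪 • (⊤ : Submodule (WittVector p k) M) ∧
      V z = (p : WittVector p k) • y + V j' := by
  obtain ⟨q, hq, j, hj, hqj⟩ := Submodule.mem_sup.mp hz
  rw [Submodule.ideal_span_singleton_smul, Submodule.mem_smul_pointwise_iff_exists] at hq
  obtain ⟨y₀, -, rfl⟩ := hq
  have hVu : V (z - F y₀) = j := by
    rw [map_sub, hVF, ← hqj]; abel
  have hpu : (p : WittVector p k) • (z - F y₀) ∈
      J p k 𝔪 • (⊤ : Submodule (WittVector p k) M) := by
    rw [← hFV, hVu]
    exact semilin_mem F _ _ (frobenius_mem_J 𝔪) _ hj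
  obtain ⟨q', hq', j', hj', hu⟩ := Submodule.mem_sup.mp (hcolon _ hpu)
  rw [Submodule.ideal_span_singleton_smul, Submodule.mem_smul_pointwise_iff_exists] at hq'
  obtain ⟨m, -, rfl⟩ := hq'
  refine ⟨V m + y₀, j', hj', ?_⟩
  have h1 : z = ((p : WittVector p k) • m + j') + F y₀ := by rw [hu]; abel
  rw [h1, map_add, map_add, hVF, LinearMap.map_smulₛₗ, map_natCast, smul_add]
  abel

theorem core (hFV : ∀ m : M, F (V m) = (p : WittVector p k) • m)
    (hVF : ∀ m : M, V (F m) = (p : WittVector p k) • m)
    [Module.Finite BB NN] [Module.Projective BB NN]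
    (hcolon : ∀ 𝔪 : Ideal k, 𝔪.IsMaximal → ∀ u : M, (p : WittVector p k) • u ∈
        J p k 𝔪 • (⊤ : Submodule (WittVector p k) M) →
      u ∈ pM ⊔ J p k 𝔪 • (⊤ : Submodule (WittVector p k) M)) :
    Module.Projective BB
      (NN ⧸ Submodule.span BB (Set.range fun m : M => (pM).mkQ (V m))) := by
  set K := Submodule.span BB (Set.range fun m : M => (pM).mkQ (V m)) with hKdef
  have hsmul : ∀ (w : WittVector p k) (m : M),
      (pM).mkQ (V (w • m)) = Ideal.Quotient.mk pI (σi w) • (pM).mkQ (V m) := by
    intro w m; rw [LinearMap.map_smulₛₗ]; rfl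
  have hKim : ∀ x ∈ K, ∃ z : M, (pM).mkQ (V z) = x := by
    intro x hx
    refine Submodule.span_induction (p := fun x _ => ∃ z : M, (pM).mkQ (V z) = x)
      ?_ ?_ ?_ ?_ hx
    · rintro _ ⟨m, rfl⟩; exact ⟨m, rfl⟩
    · exact ⟨0, by rw [map_zero, map_zero]⟩
    · rintro _ _ _ _ ⟨a, rfl⟩ ⟨b, rfl⟩; exact ⟨a + b, by rw [map_add, map_add]⟩
    · rintro b _ _ ⟨a, rfl⟩
      obtain ⟨w, rfl⟩ := Ideal.Quotient.mk_surjective b
      exact ⟨σ w • a, by rw [hsmul, symm_frob]⟩
  have hK : K.FG := by
    obtain ⟨s, hs⟩ := (inferInstance : Module.Finite BB NN).fg_top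
    have hlift : ∀ n : NN, ∃ m : M, (pM).mkQ m = n := fun n => Submodule.mkQ_surjective _ n
    choose lift hlift using hlift
    classical
    refine ⟨s.image (fun n => (pM).mkQ (V (lift n))), ?_⟩
    apply le_antisymm
    · rw [Submodule.span_le]
      intro x hx
      rw [Finset.coe_image] at hx
      obtain ⟨n, _, rfl⟩ := hx
      exact Submodule.subset_span ⟨lift n, rfl⟩
    · rw [hKdef, Submodule.span_le]
      rintro _ ⟨m, rfl⟩
      have hm : (pM).mkQ m ∈ Submodule.span BB (s : Set NN) := by
        rw [hs]; exact Submodule.mem_top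
      have hex : ∃ m' : M, (pM).mkQ m' = (pM).mkQ m ∧ (pM).mkQ (V m') ∈
          Submodule.span BB (↑(s.image (fun n => (pM).mkQ (V (lift n)))) : Set NN) := by
        refine Submodule.span_induction (p := fun n _ => ∃ m' : M, (pM).mkQ m' = n ∧
          (pM).mkQ (V m') ∈
            Submodule.span BB (↑(s.image (fun n => (pM).mkQ (V (lift n)))) : Set NN))
          ?_ ?_ ?_ ?_ hm
        · intro n hn
          exact ⟨lift n, hlift n,
            Submodule.subset_span (by rw [Finset.coe_image]; exact ⟨n, hn, rfl⟩)⟩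
        · exact ⟨0, map_zero _, by rw [map_zero, map_zero]; exact zero_mem _⟩
        · rintro _ _ _ _ ⟨a, rfl, ha⟩ ⟨b, rfl, hb⟩
          exact ⟨a + b, map_add _ _ _, by rw [map_add, map_add]; exact add_mem ha hb⟩
        · rintro b _ _ ⟨a, rfl, ha⟩
          obtain ⟨w, rfl⟩ := Ideal.Quotient.mk_surjective b
          exact ⟨w • a, rfl, by rw [hsmul]; exact Submodule.smul_mem _ _ ha⟩
      obtain ⟨m', hm', hm'2⟩ := hex
      show (pM).mkQ (V m) ∈ _
      rw [← V_wd V m' m hm']
      exact hm'2
  refine projective_quotient_of_maximal K hK ?_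
  intro 𝔫 h𝔫 x hxK hx𝔫
  haveI := h𝔫
  haveI h𝔫'max : (Ideal.comap (Ideal.Quotient.mk pI) 𝔫).IsMaximal :=
    Ideal.comap_isMaximal_of_surjective (Ideal.Quotient.mk pI) Ideal.Quotient.mk_surjective
  have hp𝔫 : (p : WittVector p k) ∈ Ideal.comap (Ideal.Quotient.mk pI) 𝔫 := by
    rw [Ideal.mem_comap, Ideal.Quotient.eq_zero_iff_mem.mpr (Ideal.mem_span_singleton_self _)]
    exact zero_mem _
  have hpI𝔫 : pI ≤ Ideal.comap (Ideal.Quotient.mk pI) 𝔫 :=
    (Ideal.span_singleton_le_iff_mem _).mpr hp𝔫
  obtain ⟨𝔪, h𝔪, hJ𝔫, h𝔫J⟩ := exists_max (Ideal.comap (Ideal.Quotient.mk pI) 𝔫) hp𝔫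
  haveI := h𝔪
  obtain ⟨z, rfl⟩ := hKim x hxK
  have hlift : ∀ xb ∈ 𝔫 • (⊤ : Submodule BB NN),
      ∃ m₀ ∈ Ideal.comap (Ideal.Quotient.mk pI) 𝔫 • (⊤ : Submodule (WittVector p k) M),
        (pM).mkQ m₀ = xb := by
    intro xb hxb
    refine Submodule.smul_induction_on hxb (fun b hb n _ => ?_) (fun a b ha hb => ?_)
    · obtain ⟨w, rfl⟩ := Ideal.Quotient.mk_surjective b
      obtain ⟨m₁, rfl⟩ := Submodule.mkQ_surjective _ n
      exact ⟨w • m₁, Submodule.smul_mem_smul (Ideal.mem_comap.mpr hb) Submodule.mem_top, rfl⟩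
    · obtain ⟨a', ha', rfl⟩ := ha
      obtain ⟨b', hb', rfl⟩ := hb
      exact ⟨a' + b', Submodule.add_mem _ ha' hb', map_add _ _ _⟩
  obtain ⟨m₀, hm₀, hm₀z⟩ := hlift _ hx𝔫
  have hVz : V z ∈ Ideal.comap (Ideal.Quotient.mk pI) 𝔫 •
      (⊤ : Submodule (WittVector p k) M) := by
    have h1 : V z - m₀ ∈ pM := by
      rw [← Submodule.Quotient.eq, ← Submodule.mkQ_apply, ← Submodule.mkQ_apply, hm₀z]
    have h2 : V z - m₀ ∈ Ideal.comap (Ideal.Quotient.mk pI) 𝔫 •
        (⊤ : Submodule (WittVector p k) M) := Submodule.smul_mono_left hpI𝔫 h1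
    have h3 := Submodule.add_mem _ h2 hm₀
    rwa [sub_add_cancel] at h3
  have hVz' : V z ∈ pM ⊔ J p k 𝔪 • (⊤ : Submodule (WittVector p k) M) := by
    have h4 := Submodule.smul_mono_left (N := (⊤ : Submodule (WittVector p k) M)) h𝔫J hVz
    rwa [Submodule.sup_smul, sup_comm] at h4
  obtain ⟨y, j', hj', hzy⟩ := key F V hFV hVF 𝔪 (hcolon 𝔪 h𝔪) z hVz'
  have hx : (pM).mkQ (V z) = (pM).mkQ (V j') := by
    rw [hzy, map_add]
    have h5 : (pM).mkQ ((p : WittVector p k) • y) = 0 := by
      rw [Submodule.mkQ_apply, Submodule.Quotient.mk_eq_zero]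
      exact Submodule.smul_mem_smul (Ideal.mem_span_singleton_self _) Submodule.mem_top
    rw [h5, zero_add]
  rw [hx]
  refine Submodule.smul_induction_on hj' (fun c hc x₀ _ => ?_) (fun a b ha hb => ?_)
  · rw [hsmul]
    refine Submodule.smul_mem_smul ?_ (Submodule.subset_span ⟨x₀, rfl⟩)
    exact Ideal.mem_comap.mp (hJ𝔫 (frobSymm_mem_J 𝔪 c hc))
  · rw [map_add, map_add]; exact Submodule.add_mem _ ha hb

theorem trunc_main (n : ℕ) (hn : 2 ≤ n)
    [Module (WittVector p k ⧸ Ideal.span {(p : WittVector p k) ^ n}) M]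
    [IsScalarTower (WittVector p k) (WittVector p k ⧸ Ideal.span {(p : WittVector p k) ^ n}) M]
    [Module.Finite (WittVector p k ⧸ Ideal.span {(p : WittVector p k) ^ n}) M]
    [Module.Projective (WittVector p k ⧸ Ideal.span {(p : WittVector p k) ^ n}) M]
    (hFV : ∀ m : M, F (V m) = (p : WittVector p k) • m)
    (hVF : ∀ m : M, V (F m) = (p : WittVector p k) • m) :
    Module.Projective BB
      (NN ⧸ Submodule.span BB (Set.range fun m : M => (pM).mkQ (V m))) := by
  have hle : Ideal.span {(p : WittVector p k) ^ n} ≤ pI :=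
    Ideal.span_singleton_le_span_singleton.mpr (dvd_pow_self _ (by omega))
  haveI : Module.Finite (WittVector p k) M :=
    Module.Finite.trans (WittVector p k ⧸ Ideal.span {(p : WittVector p k) ^ n}) M
  haveI : Module.Finite BB NN := Module.Finite.of_restrictScalars_finite (WittVector p k) BB NN
  haveI : Module.Projective BB NN :=
    projective_quot (Ideal.span {(p : WittVector p k) ^ n}) pI hle
  refine core F V hFV hVF (fun 𝔪 h𝔪 u hu => ?_)
  haveI := h𝔪
  have hcond : ∀ a : WittVector p k,
      algebraMap (WittVector p k) (WittVector p k ⧸ Ideal.span {(p : WittVector p k) ^ n})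
        ((p : WittVector p k) * a) ∈ (J p k 𝔪).map (algebraMap (WittVector p k)
          (WittVector p k ⧸ Ideal.span {(p : WittVector p k) ^ n})) →
      algebraMap (WittVector p k) (WittVector p k ⧸ Ideal.span {(p : WittVector p k) ^ n}) a ∈
        (pI ⊔ J p k 𝔪).map (algebraMap (WittVector p k)
          (WittVector p k ⧸ Ideal.span {(p : WittVector p k) ^ n})) := by
    intro a ha
    rw [Ideal.Quotient.algebraMap_eq] at ha ⊢
    obtain ⟨j, hj, hja⟩ :=
      (Ideal.mem_map_iff_of_surjective _ Ideal.Quotient.mk_surjective).mp ha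
    have h1 : j - (p : WittVector p k) * a ∈ Ideal.span {(p : WittVector p k) ^ n} :=
      Ideal.Quotient.eq.mp hja
    obtain ⟨c, hc⟩ := Ideal.mem_span_singleton'.mp h1
    obtain ⟨n', rfl⟩ : ∃ n', n = n' + 2 := ⟨n - 2, by omega⟩
    have h2 : (p : WittVector p k) * (a + (p : WittVector p k) ^ (n' + 1) * c) ∈ J p k 𝔪 := by
      have e1 : (p : WittVector p k) * (a + (p : WittVector p k) ^ (n' + 1) * c) =
          p * a + c * (p : WittVector p k) ^ (n' + 2) := by ring
      have e2 : (p : WittVector p k) * a + c * (p : WittVector p k) ^ (n' + 2) = j := by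
        rw [hc]; ring
      rw [e1, e2]; exact hj
    have h3 := mem_J_of_p_mul_mem 𝔪 _ h2
    apply Ideal.mem_map_of_mem
    have h4 : a = (a + (p : WittVector p k) ^ (n' + 1) * c) -
        (p : WittVector p k) * ((p : WittVector p k) ^ n' * c) := by ring
    rw [h4]
    exact Ideal.sub_mem _ (Ideal.mem_sup_right h3)
      (Ideal.mem_sup_left (Ideal.mul_mem_right _ _ (Ideal.mem_span_singleton_self _)))
  have h5 := proj_colon (A := WittVector p k)
    (A' := WittVector p k ⧸ Ideal.span {(p : WittVector p k) ^ n})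
    Ideal.Quotient.mk_surjective (p : WittVector p k) (J p k 𝔪) (pI ⊔ J p k 𝔪) hcond u hu
  rwa [Submodule.sup_smul] at h5

theorem ptf [Module.Projective (WittVector p k) M] (m : M)
    (h : (p : WittVector p k) • m = 0) : m = 0 := by
  have hcond : ∀ a : WittVector p k,
      algebraMap (WittVector p k) (WittVector p k) ((p : WittVector p k) * a) ∈
        (⊥ : Ideal (WittVector p k)).map (algebraMap (WittVector p k) (WittVector p k)) →
      algebraMap (WittVector p k) (WittVector p k) a ∈
        (⊥ : Ideal (WittVector p k)).map (algebraMap (WittVector p k) (WittVector p k)) := by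
    intro a ha
    simp only [Algebra.algebraMap_self, Ideal.map_id, RingHom.id_apply, Ideal.mem_bot] at ha ⊢
    exact p_mul_eq_zero a ha
  have h1 := proj_colon (A := WittVector p k) (A' := WittVector p k) Function.surjective_id
    (p : WittVector p k) ⊥ ⊥ hcond m (by rw [h]; exact zero_mem _)
  rwa [Submodule.bot_smul, Submodule.mem_bot] at h1

theorem full_main [Module.Finite (WittVector p k) M] [Module.Projective (WittVector p k) M]
    (hFV : ∀ m : M, F (V m) = (p : WittVector p k) • m)
    (hVF : ∀ m : M, V (F m) = (p : WittVector p k) • m) :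
    Module.Projective BB
      (NN ⧸ Submodule.span BB (Set.range fun m : M => (pM).mkQ (V m))) := by
  haveI : Module.Finite BB NN := Module.Finite.of_restrictScalars_finite (WittVector p k) BB NN
  haveI : Module.Projective BB NN :=
    Module.Projective.of_equiv ((TensorProduct.quotTensorEquivQuotSMul M pI).extendScalarsOfSurjective
      Ideal.Quotient.mk_surjective)
  refine core F V hFV hVF (fun 𝔪 h𝔪 u hu => ?_)
  haveI := h𝔪
  have hcond : ∀ a : WittVector p k,
      algebraMap (WittVector p k) (WittVector p k) ((p : WittVector p k) * a) ∈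
        (J p k 𝔪).map (algebraMap (WittVector p k) (WittVector p k)) →
      algebraMap (WittVector p k) (WittVector p k) a ∈
        (J p k 𝔪).map (algebraMap (WittVector p k) (WittVector p k)) := by
    intro a ha
    simp only [Algebra.algebraMap_self, Ideal.map_id, RingHom.id_apply] at ha ⊢
    exact mem_J_of_p_mul_mem 𝔪 a ha
  exact Submodule.mem_sup_right (proj_colon (A := WittVector p k) (A' := WittVector p k)
    Function.surjective_id _ _ _ hcond u hu)

theorem comap_F [Module.Projective (WittVector p k) M]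
    (hFV : ∀ m : M, F (V m) = (p : WittVector p k) • m)
    (hVF : ∀ m : M, V (F m) = (p : WittVector p k) • m) :
    (pM).comap F = Submodule.span (WittVector p k) (Set.range V) ⊔ pM := by
  ext x
  rw [Submodule.mem_comap]
  constructor
  · intro hx
    rw [Submodule.ideal_span_singleton_smul, Submodule.mem_smul_pointwise_iff_exists] at hx
    obtain ⟨y, -, hy⟩ := hx
    have h0 : (p : WittVector p k) • (x - V y) = 0 := by
      rw [← hVF, map_sub, hFV, hy, sub_self, map_zero]
    have h1 := ptf _ h0
    rw [sub_eq_zero.mp h1]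
    exact Submodule.mem_sup_left (Submodule.subset_span ⟨y, rfl⟩)
  · intro hx
    obtain ⟨a, ha, b, hb, rfl⟩ := Submodule.mem_sup.mp hx
    rw [map_add]
    refine Submodule.add_mem _ ?_ (semilin_mem F pI pI frob_mem_pI b hb)
    refine Submodule.span_induction (p := fun a _ => F a ∈ pM) ?_ ?_ ?_ ?_ ha
    · rintro _ ⟨m, rfl⟩
      rw [hFV]
      exact Submodule.smul_mem_smul (Ideal.mem_span_singleton_self _) Submodule.mem_top
    · rw [map_zero]; exact zero_mem _
    · intro a b _ _ ha hb; rw [map_add]; exact Submodule.add_mem _ ha hb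
    · intro c a _ ha; rw [LinearMap.map_smulₛₗ]; exact Submodule.smul_mem _ _ ha

theorem comap_V [Module.Projective (WittVector p k) M]
    (hFV : ∀ m : M, F (V m) = (p : WittVector p k) • m)
    (hVF : ∀ m : M, V (F m) = (p : WittVector p k) • m) :
    (pM).comap V = Submodule.span (WittVector p k) (Set.range F) ⊔ pM := by
  ext x
  rw [Submodule.mem_comap]
  constructor
  · intro hx
    rw [Submodule.ideal_span_singleton_smul, Submodule.mem_smul_pointwise_iff_exists] at hx
    obtain ⟨y, -, hy⟩ := hx
    have h0 : (p : WittVector p k) • (x - F y) = 0 := by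
      rw [← hFV, map_sub, hVF, hy, sub_self, map_zero]
    have h1 := ptf _ h0
    rw [sub_eq_zero.mp h1]
    exact Submodule.mem_sup_left (Submodule.subset_span ⟨y, rfl⟩)
  · intro hx
    obtain ⟨a, ha, b, hb, rfl⟩ := Submodule.mem_sup.mp hx
    rw [map_add]
    refine Submodule.add_mem _ ?_ (semilin_mem V pI pI frobSymm_mem_pI b hb)
    refine Submodule.span_induction (p := fun a _ => V a ∈ pM) ?_ ?_ ?_ ?_ ha
    · rintro _ ⟨m, rfl⟩
      rw [hVF]
      exact Submodule.smul_mem_smul (Ideal.mem_span_singleton_self _) Submodule.mem_top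
    · rw [map_zero]; exact zero_mem _
    · intro a b _ _ ha hb; rw [map_add]; exact Submodule.add_mem _ ha hb
    · intro c a _ ha; rw [LinearMap.map_smulₛₗ]; exact Submodule.smul_mem _ _ ha

theorem exists_display [Module.Finite (WittVector p k) M] [Module.Projective (WittVector p k) M]
    (hFV : ∀ m : M, F (V m) = (p : WittVector p k) • m)
    (hVF : ∀ m : M, V (F m) = (p : WittVector p k) • m) :
    ∃ D : Display3n p k M, D.F = F ∧ (∀ x : M, x ∈ D.Q ↔ x ∈ Set.range V) ∧
      ∀ (m : M) (h : V m ∈ D.Q), D.Vinv ⟨V m, h⟩ = m := by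
  have hVinj : Function.Injective V := by
    intro a b hab
    have h1 : V (a - b) = 0 := by rw [map_sub, hab, sub_self]
    have h2 := congrArg F h1
    rw [hFV, map_zero] at h2
    exact sub_eq_zero.mp (ptf _ h2)
  have hQ : ∀ x : M, x ∈ Submodule.span (WittVector p k) (Set.range V) ↔ x ∈ Set.range V := by
    intro x
    constructor
    · intro hx
      refine Submodule.span_induction (p := fun x _ => x ∈ Set.range V) ?_ ?_ ?_ ?_ hx
      · intro x hx; exact hx
      · exact ⟨0, map_zero V⟩
      · rintro _ _ _ _ ⟨a, rfl⟩ ⟨b, rfl⟩; exact ⟨a + b, map_add V a b⟩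
      · rintro c _ _ ⟨a, rfl⟩
        exact ⟨σ c • a, by rw [LinearMap.map_smulₛₗ, symm_frob]⟩
    · exact fun hx => Submodule.subset_span hx
  have hex : ∀ q : Submodule.span (WittVector p k) (Set.range V), ∃ m, V m = (q : M) :=
    fun q => (hQ q).mp q.2
  choose vinv hvinv using hex
  have hIV : IV p k • (⊤ : Submodule (WittVector p k) M) ≤
      Submodule.span (WittVector p k) (Set.range V) := by
    refine (Submodule.smul_mono_left DieuDisp.IV_le_span).trans ?_
    rw [Submodule.smul_le]
    intro c hc x _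
    obtain ⟨c', rfl⟩ := Ideal.mem_span_singleton'.mp hc
    rw [mul_smul, ← hVF]
    exact Submodule.smul_mem _ _ (Submodule.subset_span ⟨_, rfl⟩)
  have hnormal : ∃ L T : Submodule (WittVector p k) M, IsCompl L T ∧
      Submodule.span (WittVector p k) (Set.range V) = L ⊔ IV p k • T := by
    haveI : IsAdicComplete (Ideal.span {(p : k)}) k := by
      rw [CharP.cast_eq_zero k p, Ideal.span_singleton_eq_bot.mpr rfl]
      exact IsAdicComplete.bot k
    apply WittDisp.normal_decomp p k M
    haveI := full_main F V hFV hVF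
    obtain ⟨s, hs⟩ := Module.projective_lifting_property
      (Submodule.span BB (Set.range fun m : M => (pM).mkQ (V m))).mkQ LinearMap.id
      (Submodule.mkQ_surjective _)
    have hs' : ∀ y, (Submodule.span BB (Set.range fun m : M => (pM).mkQ (V m))).mkQ (s y) = y :=
      fun y => LinearMap.congr_fun hs y
    refine ⟨Submodule.comap (pM).mkQ ((LinearMap.range s).restrictScalars (WittVector p k)),
      ?_, ?_⟩
    · rw [eq_top_iff]
      intro x _
      have hk : (pM).mkQ x - s ((Submodule.span BB (Set.range fun m : M => (pM).mkQ (V m))).mkQ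
          ((pM).mkQ x)) ∈ Submodule.span BB (Set.range fun m : M => (pM).mkQ (V m)) := by
        have hk' : (pM).mkQ x - s ((Submodule.span BB
            (Set.range fun m : M => (pM).mkQ (V m))).mkQ ((pM).mkQ x)) ∈ LinearMap.ker
            (Submodule.span BB (Set.range fun m : M => (pM).mkQ (V m))).mkQ := by
          rw [LinearMap.mem_ker, map_sub, hs', sub_self]
        rwa [Submodule.ker_mkQ] at hk'
      -- elements of `K` are images of `V z`
      have hKim : ∀ x ∈ Submodule.span BB (Set.range fun m : M => (pM).mkQ (V m)),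
          ∃ z : M, (pM).mkQ (V z) = x := by
        intro x hx
        refine Submodule.span_induction (p := fun x _ => ∃ z : M, (pM).mkQ (V z) = x)
          ?_ ?_ ?_ ?_ hx
        · rintro _ ⟨m, rfl⟩; exact ⟨m, rfl⟩
        · exact ⟨0, by rw [map_zero, map_zero]⟩
        · rintro _ _ _ _ ⟨a, rfl⟩ ⟨b, rfl⟩; exact ⟨a + b, by rw [map_add, map_add]⟩
        · rintro b _ _ ⟨a, rfl⟩
          obtain ⟨w, rfl⟩ := Ideal.Quotient.mk_surjective b
          refine ⟨σ w • a, ?_⟩
          rw [LinearMap.map_smulₛₗ, symm_frob]; rfl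
      obtain ⟨z, hz⟩ := hKim _ hk
      have hxz : x = V z + (x - V z) := by abel
      rw [hxz]
      refine Submodule.add_mem_sup (Submodule.subset_span ⟨z, rfl⟩) ?_
      show (pM).mkQ (x - V z) ∈ LinearMap.range s
      rw [map_sub, hz, sub_sub_cancel]
      exact LinearMap.mem_range_self _ _
    · apply le_antisymm
      · rintro x ⟨hxQ, hxC⟩
        have h1 : (pM).mkQ x ∈ Submodule.span BB (Set.range fun m : M => (pM).mkQ (V m)) := by
          obtain ⟨m, rfl⟩ := (hQ x).mp hxQ
          exact Submodule.subset_span ⟨m, rfl⟩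
        obtain ⟨y, hy⟩ : (pM).mkQ x ∈ LinearMap.range s := hxC
        have h2 : (Submodule.span BB (Set.range fun m : M => (pM).mkQ (V m))).mkQ
            ((pM).mkQ x) = 0 := by
          rw [Submodule.mkQ_apply, Submodule.Quotient.mk_eq_zero]; exact h1
        have h3 : y = 0 := by
          have h4 := hs' y
          rw [hy, h2] at h4
          exact h4.symm
        rw [h3, map_zero] at hy
        have h5 : x ∈ pM := by
          rw [← Submodule.Quotient.mk_eq_zero, ← Submodule.mkQ_apply]; exact hy.symm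
        exact Submodule.smul_mono_left
          ((Ideal.span_singleton_le_iff_mem _).mpr p_mem_IV) h5
      · refine le_inf hIV ?_
        intro x hx
        have h5 : x ∈ pM := Submodule.smul_mono_left DieuDisp.IV_le_span hx
        show (pM).mkQ x ∈ LinearMap.range s
        rw [Submodule.mkQ_apply, (Submodule.Quotient.mk_eq_zero _).mpr h5]
        exact zero_mem _
  refine ⟨{ Q := Submodule.span (WittVector p k) (Set.range V)
            F := F
            Vinv :=
              { toFun := vinv
                map_add' := fun a b => hVinj (by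
                  rw [map_add, hvinv, hvinv, hvinv]; rfl)
                map_smul' := fun c a => hVinj (by
                  rw [LinearMap.map_smulₛₗ, symm_frob, hvinv, hvinv]; rfl) }
            finite := inferInstance
            projective := inferInstance
            IV_smul_le := hIV
            exists_normal := hnormal
            span_range_Vinv := ?_
            Vinv_verschiebung_smul := ?_ }, rfl, hQ, ?_⟩
  · rw [eq_top_iff]
    intro m _
    exact Submodule.subset_span ⟨⟨V m, (hQ _).mpr ⟨m, rfl⟩⟩, hVinj (hvinv _)⟩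
  · intro w x
    apply hVinj
    show V (vinv _) = _
    rw [hvinv, LinearMap.map_smulₛₗ, hVF, smul_smul]
    show WittVector.verschiebung w • x = _
    have e : WittVector.verschiebung w = σi w * p := by
      conv_lhs => rw [← DieuDisp.frob_symm w]
      exact WittVector.verschiebung_frobenius _
    rw [e]
  · intro m h
    exact hVinj (hvinv _)

end Core

end Groth.Agent.H74.DieuProj
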