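import Mathlib
import Groth.Prelude.Def_W4c1extbt610Disp
import Groth.Agent.H74.WittDisp

/-! In a 3n-display with a normal decomposition, `V⁻¹ ⊕ F` carries a basis to a basis. -/

set_option autoImplicit false
universe u v w

namespace Groth.Agent.H74.DispBasis

open W4c1extbt610

theorem display_basis (p : ℕ) [Fact p.Prime] (R : Type u) [CommRing R]
    (P : Type v) [AddCommGroup P] [Module (WittVector p R) P] (D : Display3n p R P)
    (L T : Submodule (WittVector p R) P) (hLT : IsCompl L T)
    (hQ : D.Q = L ⊔ IV p R • T) (hLQ : L ≤ D.Q)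
    (ιL ιT : Type w) (bL : Module.Basis ιL (WittVector p R) L)
    (bT : Module.Basis ιT (WittVector p R) T) :
    LinearIndependent (WittVector p R)
        (Sum.elim (fun i : ιL => D.Vinv ⟨(bL i : P), hLQ (bL i).2⟩)
          (fun j : ιT => D.F (bT j : P))) ∧
      Submodule.span (WittVector p R)
        (Set.range (Sum.elim (fun i : ιL => D.Vinv ⟨(bL i : P), hLQ (bL i).2⟩)
          (fun j : ιT => D.F (bT j : P)))) = ⊤ := by
  set v : ιL ⊕ ιT → P := Sum.elim (fun i : ιL => D.Vinv ⟨(bL i : P), hLQ (bL i).2⟩)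
    (fun j : ιT => D.F (bT j : P)) with hv
  set S := Submodule.span (WittVector p R) (Set.range v) with hS
  have hvL : ∀ i, D.Vinv ⟨(bL i : P), hLQ (bL i).2⟩ ∈ S := fun i =>
    Submodule.subset_span ⟨Sum.inl i, rfl⟩
  have hvT : ∀ j, D.F (bT j : P) ∈ S := fun j => Submodule.subset_span ⟨Sum.inr j, rfl⟩
  have hFT : ∀ t : T, D.F (t : P) ∈ S := by
    have h1 : (⊤ : Submodule (WittVector p R) T) ≤ (S.comap D.F).comap T.subtype := by
      rw [← bT.span_eq, Submodule.span_le]
      rintro _ ⟨j, rfl⟩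
      exact hvT j
    intro t
    exact h1 (Submodule.mem_top : t ∈ ⊤)
  have hVL : ∀ l : L, D.Vinv ⟨(l : P), hLQ l.2⟩ ∈ S := by
    have h1 : (⊤ : Submodule (WittVector p R) L)
        ≤ S.comap (D.Vinv.comp (Submodule.inclusion hLQ)) := by
      rw [← bL.span_eq, Submodule.span_le]
      rintro _ ⟨i, rfl⟩
      exact hvL i
    intro l
    exact h1 (Submodule.mem_top : l ∈ ⊤)
  have hIT : IV p R • T ≤ D.Q := by rw [hQ]; exact le_sup_right
  have hVT : ∀ y (hy : y ∈ IV p R • T), D.Vinv ⟨y, hIT hy⟩ ∈ S := by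
    intro y hy
    refine Submodule.smul_induction_on' (p := fun y hy => D.Vinv ⟨y, hIT hy⟩ ∈ S) hy ?_ ?_
    · intro r hr n hn
      have hr' : r ∈ RingHom.ker (WittVector.constantCoeff : WittVector p R →+* R) := by
        rw [← WittDisp.IV_eq_ker]; exact hr
      obtain ⟨w, hw⟩ := (WittAdic.mem_ker_constantCoeff_iff p r).mp hr'
      subst hw
      have h2 := Submodule.smul_mem S w (hFT ⟨n, hn⟩)
      convert h2 using 1
      exact D.Vinv_verschiebung_smul w n
    · intro x hx y hy h1 h2
      have h3 := add_mem h1 h2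
      rw [← map_add] at h3
      exact h3
  have hrange : Set.range D.Vinv ⊆ S := by
    rintro _ ⟨⟨q, hq⟩, rfl⟩
    have hq' : q ∈ L ⊔ IV p R • T := hQ ▸ hq
    obtain ⟨l, hl, y, hy, rfl⟩ := Submodule.mem_sup.mp hq'
    have h3 := add_mem (hVL ⟨l, hl⟩) (hVT y hy)
    rw [← map_add] at h3
    exact h3
  have hspan : S = ⊤ := by
    apply top_le_iff.mp
    rw [← D.span_range_Vinv]
    exact Submodule.span_le.mpr hrange
  refine ⟨?_, hspan⟩
  haveI : Module.Finite (WittVector p R) P := D.finite
  let b : Module.Basis (ιL ⊕ ιT) (WittVector p R) P :=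
    (bL.prod bT).map (Submodule.prodEquivOfIsCompl L T hLT)
  let g : P →ₗ[WittVector p R] P := b.constr ℕ v
  have hg : LinearMap.range g = ⊤ := by
    rw [Module.Basis.constr_range, ← hS, hspan]
  have hinj : Function.Injective g :=
    OrzechProperty.injective_of_surjective_endomorphism g (LinearMap.range_eq_top.mp hg)
  have hli : LinearIndependent (WittVector p R) (g ∘ b) :=
    b.linearIndependent.map' g (LinearMap.ker_eq_bot.mpr hinj)
  have e : g ∘ b = v := funext fun i => b.constr_basis ℕ v i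
  rwa [e] at hli

end Groth.Agent.H74.DispBasis
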