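import Mathlib
import Groth.Prelude.Def_Disp2
import Groth.Agent.H74.WittDisp

/-! Membership in `Q` can be tested after a faithfully flat base change. -/

set_option autoImplicit false
set_option maxHeartbeats 400000
universe u v

namespace Groth.Agent.H74.DispFF

open W4c1extbt610 Dieu TensorProduct

theorem tmul_one_eq_zero {A S R : Type*} [CommRing A] [CommRing S] [CommRing R] [Algebra S R]
    [Module.FaithfullyFlat S R] (w : A →+* S) (hw : Function.Surjective w) (τ : A →+* R)
    (hτ : ∀ a, τ a = algebraMap S R (w a))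
    {N : Type*} [AddCommGroup N] [Module A N] (hN : ∀ a : A, w a = 0 → ∀ y : N, a • y = 0)
    (y : N) (hy : BC.tmul τ 1 y = 0) : y = 0 := by
  classical
  letI : SMul S N := ⟨fun s y => Function.surjInv hw s • y⟩
  have hsmul : ∀ (c : A) (x : N), w c • x = c • x := by
    intro c x
    change Function.surjInv hw (w c) • x = c • x
    have h1 : w (Function.surjInv hw (w c) - c) = 0 := by
      rw [map_sub, Function.surjInv_eq hw, sub_self]
    have h2 := hN _ h1 x
    rwa [sub_smul, sub_eq_zero] at h2
  letI : Module S N := Function.Surjective.moduleLeft w hw hsmul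
  let Φ : Res τ ⊗[A] N →+ R ⊗[S] N := TensorProduct.liftAddHom
    (AddMonoidHom.mk' (fun r : Res τ => ((TensorProduct.mk S R N r.val).toAddMonoidHom)) (by
      intro r r'
      ext y
      simp))
    (by
      intro a r y
      change ((a • r).val) ⊗ₜ[S] y = r.val ⊗ₜ[S] (a • y)
      have e1 : (a • r).val = w a • r.val := by rw [Res.val_smul, hτ, Algebra.smul_def]
      have e2 : a • y = w a • y := (hsmul a y).symm
      rw [e1, e2, TensorProduct.smul_tmul])
  have hy' : (Res.mk τ 1 ⊗ₜ[A] y : Res τ ⊗[A] N) = 0 := hy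
  have h1 : Φ (Res.mk τ 1 ⊗ₜ[A] y) = (1 : R) ⊗ₜ[S] y := by
    rw [TensorProduct.liftAddHom_tmul]
    rfl
  rw [hy', map_zero] at h1
  refine Module.FaithfullyFlat.tensorProduct_mk_injective (A := S) (B := R) N ?_
  rw [map_zero]
  exact h1.symm

theorem main (p : ℕ) [Fact p.Prime] (S R : Type u) [CommRing S] [CommRing R] [Algebra S R]
    [Module.FaithfullyFlat S R]
    (P : Type v) [AddCommGroup P] [Module (WittVector p S) P] (D : Display3n p S P)
    (DR : Display3n p R
      (BC (WittVector.map (algebraMap S R) : WittVector p S →+* WittVector p R) P))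
    (hDR : IsDispBaseChange (algebraMap S R) D DR) (x : P) :
    x ∈ D.Q ↔
      BC.ι (WittVector.map (algebraMap S R) : WittVector p S →+* WittVector p R) P x ∈ DR.Q := by
  rw [hDR.Q_eq, LinearMap.mem_ker, BC.ι_apply, bcQuotMap_tmul, map_one]
  constructor
  · intro hx
    have h0 : D.Q.mkQ x = 0 := (Submodule.Quotient.mk_eq_zero D.Q).mpr hx
    rw [h0, BC.tmul_zero]
  · intro h
    have hN : ∀ a : WittVector p S, (WittVector.constantCoeff : WittVector p S →+* S) a = 0 →
        ∀ y : P ⧸ D.Q, a • y = 0 := by
      intro a ha y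
      obtain ⟨x', rfl⟩ := Submodule.mkQ_surjective D.Q y
      rw [← map_smul]
      refine (Submodule.Quotient.mk_eq_zero D.Q).mpr (D.IV_smul_le ?_)
      refine Submodule.smul_mem_smul ?_ Submodule.mem_top
      rw [WittDisp.IV_eq_ker]
      exact RingHom.mem_ker.mpr ha
    have h2 := tmul_one_eq_zero (WittVector.constantCoeff : WittVector p S →+* S)
      (WittVector.constantCoeff_surjective p) _ (fun a => rfl) hN (D.Q.mkQ x) h
    exact (Submodule.Quotient.mk_eq_zero D.Q).mp h2

end Groth.Agent.H74.DispFF
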