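import Mathlib
import Groth.Prelude.Def_Dieu
import Groth.Prelude.Def_WittGrp
import Groth.Agent.H74.BCLib

/-! Equalizer exactness `0 → M → M_R ⇉ M_{R⊗R}` for Witt vectors along faithfully flat maps,
for flat modules `M` (the Witt vector functor preserves the equalizer componentwise). -/

set_option autoImplicit false
set_option maxHeartbeats 400000
universe u v w w'

namespace Groth.Agent.H74.WittDescent

open Dieu TensorProduct BCLib

section abstract

variable {A : Type u} {B : Type v} {C : Type w'} [CommRing A] [CommRing B] [CommRing C]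
variable {M : Type w} [AddCommGroup M] [Module A M]

/-- identity `Res g' → Res g''` for equal twisting maps -/
def castLin {g' g'' : A →+* C} : g' = g'' → (Res g' →ₗ[A] Res g'')
  | rfl => LinearMap.id

theorem castLin_val {g' g'' : A →+* C} (e : g' = g'') (c : Res g') :
    (castLin e c).val = c.val := by
  subst e
  rfl

theorem castHom_eq_rTensor {g' g'' : A →+* C} (e : g' = g'') (z : Res g' ⊗[A] M) :
    BC.castHom e (ofT g' z) = ofT g'' (LinearMap.rTensor M (castLin e) z) := by
  subst e
  change ofT g' z = ofT g' (LinearMap.rTensor M LinearMap.id z)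
  rw [LinearMap.rTensor_id]
  rfl

variable (g : A →+* B) (h₁ h₂ : B →+* C) (e : h₁.comp g = h₂.comp g)

/-- `g` as an `A`-linear map `A → Res g` -/
def glin : A →ₗ[A] Res g where
  toFun a := Res.mk g (g a)
  map_add' a a' := by apply Res.ext; simp
  map_smul' a a' := by apply Res.ext; simp

theorem glin_val (a : A) : (glin g a).val = g a := rfl

theorem ι_eq (x : M) :
    BC.ι g M x = ofT g (LinearMap.rTensor M (glin g) ((TensorProduct.lid A M).symm x)) := by
  rw [TensorProduct.lid_symm_apply, LinearMap.rTensor_tmul, ofT_tmul, glin_val, map_one]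
  rfl

/-- `b ↦ h₁ b` as a map to `Res (h₂.comp g)` -/
def l₁ : Res g →ₗ[A] Res (h₂.comp g) := (castLin e).comp (hlin g h₁)

theorem l₁_val (b : Res g) : (l₁ g h₁ h₂ e b).val = h₁ b.val := by
  rw [l₁, LinearMap.comp_apply, castLin_val, hlin_val]

theorem equalizer_of_flat [Module.Flat A M] (hinj : Function.Injective g)
    (heq : ∀ b : B, h₁ b = h₂ b → b ∈ Set.range g) :
    Function.Injective (BC.ι g M) ∧
      ∀ z : BC g M, (BC.castHom e (BC.push g h₁ z) = BC.push g h₂ z ↔
        z ∈ Set.range (BC.ι g M)) := by
  have hex : Function.Exact (glin g) (l₁ g h₁ h₂ e - hlin g h₂) := by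
    intro b
    constructor
    · intro hb
      rw [LinearMap.sub_apply, sub_eq_zero] at hb
      have hb' := congrArg Res.val hb
      rw [l₁_val, hlin_val] at hb'
      obtain ⟨a, ha⟩ := heq b.val hb'
      exact ⟨a, Res.ext g ha⟩
    · rintro ⟨a, rfl⟩
      rw [LinearMap.sub_apply, sub_eq_zero]
      apply Res.ext
      rw [l₁_val, hlin_val, glin_val]
      exact RingHom.congr_fun e a
  have hex' := Module.Flat.rTensor_exact M hex
  have hinj' : Function.Injective (LinearMap.rTensor M (glin g)) :=
    Module.Flat.rTensor_preserves_injective_linearMap (glin g)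
      (fun a a' haa => hinj (congrArg Res.val haa))
  have hcond : ∀ zt : Res g ⊗[A] M,
      (BC.castHom e (BC.push g h₁ (ofT g zt)) = BC.push g h₂ (ofT g zt)) ↔
        LinearMap.rTensor M (l₁ g h₁ h₂ e - hlin g h₂) zt = 0 := by
    intro zt
    rw [push_eq_rTensor, push_eq_rTensor, castHom_eq_rTensor, LinearMap.rTensor_sub,
      LinearMap.sub_apply, sub_eq_zero, l₁, LinearMap.rTensor_comp_apply]
    exact Iff.rfl
  constructor
  · intro x y hxy
    rw [ι_eq, ι_eq] at hxy
    exact (TensorProduct.lid A M).symm.injective (hinj' hxy)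
  · intro z
    refine (hcond (toT g z)).trans ?_
    constructor
    · intro h0
      obtain ⟨y, hy⟩ := (hex' (toT g z)).mp h0
      refine ⟨TensorProduct.lid A M y, ?_⟩
      rw [ι_eq, LinearEquiv.symm_apply_apply, hy]
      rfl
    · rintro ⟨x, hx⟩
      rw [ι_eq] at hx
      exact (hex' (toT g z)).mpr ⟨(TensorProduct.lid A M).symm x, hx⟩

/-- The Mathlib-tensor version. -/
theorem flat_equalizer {A B C : Type*} [CommRing A] [CommRing B] [CommRing C] [Algebra A B]
    [Algebra A C] (ψ₁ ψ₂ : B →ₐ[A] C) (hinj : Function.Injective (algebraMap A B))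
    (heq : ∀ y : B, ψ₁ y = ψ₂ y → y ∈ Set.range (algebraMap A B))
    (M : Type*) [AddCommGroup M] [Module A M] [Module.Flat A M] :
    Function.Injective (fun m : M => m ⊗ₜ[A] (1 : B)) ∧
      ∀ x : M ⊗[A] B, LinearMap.lTensor M ψ₁.toLinearMap x = LinearMap.lTensor M ψ₂.toLinearMap x →
        x ∈ Set.range (fun m : M => m ⊗ₜ[A] (1 : B)) := by
  have hex : Function.Exact (Algebra.linearMap A B) (ψ₁.toLinearMap - ψ₂.toLinearMap) := by
    intro y
    constructor
    · intro h
      rw [LinearMap.sub_apply, sub_eq_zero] at h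
      obtain ⟨a, ha⟩ := heq y h
      exact ⟨a, ha⟩
    · rintro ⟨a, rfl⟩
      rw [LinearMap.sub_apply, sub_eq_zero]
      simp
  have hex' := Module.Flat.lTensor_exact M hex
  have hinj' := Module.Flat.lTensor_preserves_injective_linearMap (M := M)
    (Algebra.linearMap A B) hinj
  have key : ∀ m : M, (Algebra.linearMap A B).lTensor M ((TensorProduct.rid A M).symm m) =
      m ⊗ₜ[A] (1 : B) := by
    intro m
    rw [TensorProduct.rid_symm_apply, LinearMap.lTensor_tmul, Algebra.linearMap_apply, map_one]
  constructor
  · intro m m' h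
    simp only at h
    rw [← key, ← key] at h
    exact (TensorProduct.rid A M).symm.injective (hinj' h)
  · intro x hx
    have h0 : (ψ₁.toLinearMap - ψ₂.toLinearMap).lTensor M x = 0 := by
      rw [LinearMap.lTensor_sub, LinearMap.sub_apply, hx, sub_self]
    obtain ⟨y, hy⟩ := (hex' x).mp h0
    refine ⟨TensorProduct.rid A M y, ?_⟩
    simp only
    rw [← key, LinearEquiv.symm_apply_apply, hy]

end abstract

section witt

variable (p : ℕ) [Fact p.Prime] (S R : Type u) [CommRing S] [CommRing R] [Algebra S R]
  [Module.FaithfullyFlat S R]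

theorem mem_range_of_eq (r : R)
    (h : (Algebra.TensorProduct.includeLeftRingHom : R →+* R ⊗[S] R) r =
      (Algebra.TensorProduct.includeRight : R →ₐ[S] R ⊗[S] R) r) :
    r ∈ Set.range (algebraMap S R) := by
  have h1 := Algebra.IsEffective.of_faithfullyFlat S R
  have h2 : Algebra.TensorProduct.includeLeftSubRight S R r = 0 := by
    rw [Algebra.TensorProduct.includeLeftSubRight_apply, sub_eq_zero]
    exact h
  obtain ⟨s, hs⟩ := (h1 r).mp h2
  exact ⟨s, hs⟩

theorem witt_mem_range (b : WittVector p R)
    (h : WittVector.map (Algebra.TensorProduct.includeLeftRingHom : R →+* R ⊗[S] R) b =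
      WittVector.map ((Algebra.TensorProduct.includeRight : R →ₐ[S] R ⊗[S] R) :
        R →+* R ⊗[S] R) b) :
    b ∈ Set.range (WittVector.map (p := p) (algebraMap S R)) := by
  have h1 : ∀ n, b.coeff n ∈ Set.range (algebraMap S R) := by
    intro n
    refine mem_range_of_eq S R _ ?_
    have h2 := congrArg (fun y => y.coeff n) h
    exact h2
  choose s hs using h1
  refine ⟨WittVector.mk p s, ?_⟩
  ext n
  rw [WittVector.map_coeff, WittVector.coeff_mk, hs]

theorem main_full (M : Type v) [AddCommGroup M] [Module (WittVector p S) M]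
    [Module.Flat (WittVector p S) M]
    (e : (WittVector.map (Algebra.TensorProduct.includeLeftRingHom : R →+* R ⊗[S] R) :
          WittVector p R →+* WittVector p (R ⊗[S] R)).comp
        (WittVector.map (algebraMap S R) : WittVector p S →+* WittVector p R) =
      (WittVector.map ((Algebra.TensorProduct.includeRight : R →ₐ[S] R ⊗[S] R) :
          R →+* R ⊗[S] R) : WittVector p R →+* WittVector p (R ⊗[S] R)).comp
        (WittVector.map (algebraMap S R) : WittVector p S →+* WittVector p R)) :
    Function.Injective (BC.ι (WittVector.map (algebraMap S R) :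
        WittVector p S →+* WittVector p R) M) ∧
      ∀ z : BC (WittVector.map (algebraMap S R) : WittVector p S →+* WittVector p R) M,
        (BC.castHom e (BC.push (WittVector.map (algebraMap S R) :
            WittVector p S →+* WittVector p R)
          (WittVector.map (Algebra.TensorProduct.includeLeftRingHom : R →+* R ⊗[S] R) :
            WittVector p R →+* WittVector p (R ⊗[S] R)) z) =
          BC.push (WittVector.map (algebraMap S R) : WittVector p S →+* WittVector p R)
            (WittVector.map ((Algebra.TensorProduct.includeRight : R →ₐ[S] R ⊗[S] R) :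
              R →+* R ⊗[S] R) : WittVector p R →+* WittVector p (R ⊗[S] R)) z ↔
          z ∈ Set.range (BC.ι (WittVector.map (algebraMap S R) :
            WittVector p S →+* WittVector p R) M)) :=
  equalizer_of_flat _ _ _ e
    (WittVector.map_injective _ (FaithfulSMul.algebraMap_injective S R))
    (witt_mem_range p S R)

theorem truncMap_injective (n : ℕ) {R₁ R₂ : Type*} [CommRing R₁] [CommRing R₂] (f : R₁ →+* R₂)
    (hf : Function.Injective f) : Function.Injective (WittGrp.truncMap p n f) := by
  intro x y h
  refine TruncatedWittVector.ext (fun i => ?_)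
  have h1 := congrArg (fun z => z.coeff i) h
  simp only [WittGrp.coeff_truncMap] at h1
  exact hf h1

theorem main_trunc (n : ℕ)
    [Algebra (TruncatedWittVector p n S) (TruncatedWittVector p n R)]
    (h₁ : algebraMap (TruncatedWittVector p n S) (TruncatedWittVector p n R) =
      WittGrp.truncMap p n (algebraMap S R))
    [Algebra (TruncatedWittVector p n S) (TruncatedWittVector p n (R ⊗[S] R))]
    (ψ₁ ψ₂ : TruncatedWittVector p n R →ₐ[TruncatedWittVector p n S]
      TruncatedWittVector p n (R ⊗[S] R))
    (hψ₁ : (ψ₁ : TruncatedWittVector p n R →+* TruncatedWittVector p n (R ⊗[S] R)) =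
      WittGrp.truncMap p n (Algebra.TensorProduct.includeLeftRingHom : R →+* R ⊗[S] R))
    (hψ₂ : (ψ₂ : TruncatedWittVector p n R →+* TruncatedWittVector p n (R ⊗[S] R)) =
      WittGrp.truncMap p n ((Algebra.TensorProduct.includeRight : R →ₐ[S] R ⊗[S] R) :
        R →+* R ⊗[S] R))
    (M : Type v) [AddCommGroup M] [Module (TruncatedWittVector p n S) M]
    [Module.Flat (TruncatedWittVector p n S) M] :
    Function.Injective (fun m : M => m ⊗ₜ[TruncatedWittVector p n S]
        (1 : TruncatedWittVector p n R)) ∧
      ∀ x : M ⊗[TruncatedWittVector p n S] TruncatedWittVector p n R,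
        LinearMap.lTensor M ψ₁.toLinearMap x = LinearMap.lTensor M ψ₂.toLinearMap x →
          x ∈ Set.range (fun m : M => m ⊗ₜ[TruncatedWittVector p n S]
            (1 : TruncatedWittVector p n R)) := by
  refine flat_equalizer ψ₁ ψ₂ ?_ ?_ M
  · rw [h₁]
    exact truncMap_injective p n _ (FaithfulSMul.algebraMap_injective S R)
  · intro y hy
    have e1 : ψ₁ y = WittGrp.truncMap p n
        (Algebra.TensorProduct.includeLeftRingHom : R →+* R ⊗[S] R) y := by
      rw [← hψ₁]
      rfl
    have e2 : ψ₂ y = WittGrp.truncMap p n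
        ((Algebra.TensorProduct.includeRight : R →ₐ[S] R ⊗[S] R) : R →+* R ⊗[S] R) y := by
      rw [← hψ₂]
      rfl
    rw [e1, e2] at hy
    have h1 : ∀ i, y.coeff i ∈ Set.range (algebraMap S R) := by
      intro i
      refine mem_range_of_eq S R _ ?_
      have h2 := congrArg (fun z => z.coeff i) hy
      simp only [WittGrp.coeff_truncMap] at h2
      exact h2
    choose s hs using h1
    refine ⟨TruncatedWittVector.mk p s, ?_⟩
    rw [h₁]
    refine TruncatedWittVector.ext (fun i => ?_)
    rw [WittGrp.coeff_truncMap, TruncatedWittVector.coeff_mk, hs]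

end witt

end Groth.Agent.H74.WittDescent
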