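import Mathlib
import Groth.Prelude.Def_Disp2
import Groth.Agent.H74.WittDescent
import Groth.Agent.H74.DispFF

/-! Descent of homomorphisms of displays along a faithfully flat ring map. -/

set_option autoImplicit false
set_option maxHeartbeats 400000
universe u v w w' w''

namespace Groth.Agent.H74.DispDescent

open W4c1extbt610 Dieu TensorProduct

section abstract

variable {A : Type u} {B : Type v} {C : Type w'} [CommRing A] [CommRing B] [CommRing C]
variable {P : Type w} [AddCommGroup P] [Module A P] {P' : Type w''} [AddCommGroup P'] [Module A P']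

theorem castHom_castHom {g g' g'' : A →+* B} (e : g = g') (e' : g' = g'') (z : BC g P) :
    BC.castHom e' (BC.castHom e z) = BC.castHom (e.trans e') z := by
  subst e
  subst e'
  rfl

variable (g : A →+* B) (h₁ h₂ : B →+* C) (g₂ : A →+* C) (e₁ : h₁.comp g = g₂)
  (e₂ : h₂.comp g = g₂)

theorem exists_descent (χ : BC g P →ₗ[B] BC g P')
    (hdesc : ∀ (z₁ : BC h₁ (BC g P)) (z₂ : BC h₂ (BC g P)),
      (BC.castHom (P := P) e₁).comp (BC.lift h₁ (BC.push g h₁)) z₁ =
        (BC.castHom (P := P) e₂).comp (BC.lift h₂ (BC.push g h₂)) z₂ →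
      (BC.castHom (P := P') e₁).comp (BC.lift h₁ (BC.push g h₁)) (BC.map h₁ χ z₁) =
        (BC.castHom (P := P') e₂).comp (BC.lift h₂ (BC.push g h₂)) (BC.map h₂ χ z₂))
    (hinj : Function.Injective (BC.ι g P'))
    (hrange : ∀ z : BC g P',
      BC.castHom (e₁.trans e₂.symm) (BC.push g h₁ z) = BC.push g h₂ z →
        z ∈ Set.range (BC.ι g P')) :
    ∃ ψ : P →ₗ[A] P', ∀ x, BC.ι g P' (ψ x) = χ (BC.ι g P x) := by
  have h1 : ∀ x : P, χ (BC.ι g P x) ∈ Set.range (BC.ι g P') := by
    intro x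
    apply hrange
    have h2 := hdesc (BC.tmul h₁ 1 (BC.tmul g 1 x)) (BC.tmul h₂ 1 (BC.tmul g 1 x)) (by
      rw [LinearMap.comp_apply, LinearMap.comp_apply, BC.lift_tmul, BC.lift_tmul, one_smul,
        one_smul, BC.push_tmul, BC.push_tmul, BC.castHom_tmul, BC.castHom_tmul, map_one, map_one])
    rw [LinearMap.comp_apply, LinearMap.comp_apply, BC.map_tmul, BC.map_tmul, BC.lift_tmul,
      BC.lift_tmul, one_smul, one_smul] at h2
    have h3 := congrArg (BC.castHom (P := P') e₂.symm) h2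
    rw [castHom_castHom, castHom_castHom] at h3
    have h4 : ∀ z : BC (h₂.comp g) P', BC.castHom (e₂.trans e₂.symm) z = z := fun z => rfl
    rw [h4] at h3
    exact h3
  choose ψf hψf using h1
  refine ⟨{ toFun := ψf, map_add' := ?_, map_smul' := ?_ }, hψf⟩
  · intro x y
    apply hinj
    rw [hψf, map_add, map_add, map_add, hψf, hψf]
  · intro a x
    apply hinj
    have e1 : BC.ι g P' (ψf (a • x)) = g a • χ (BC.ι g P x) := by
      rw [hψf, map_smulₛₗ, map_smul]
    have e2 : BC.ι g P' ((RingHom.id A) a • ψf x) = g a • χ (BC.ι g P x) := by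
      rw [RingHom.id_apply, map_smulₛₗ, hψf]
    rw [e1, e2]

end abstract

section main

variable (p : ℕ) [Fact p.Prime] (S R : Type u) [CommRing S] [CommRing R] [Algebra S R]
  [Module.FaithfullyFlat S R]

local notation "gSR" => (WittVector.map (algebraMap S R) : WittVector p S →+* WittVector p R)
local notation "hL" => (WittVector.map (Algebra.TensorProduct.includeLeftRingHom :
  R →+* TensorProduct S R R) : WittVector p R →+* WittVector p (TensorProduct S R R))
local notation "hR" => (WittVector.map ((Algebra.TensorProduct.includeRight :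
  R →ₐ[S] TensorProduct S R R) : R →+* TensorProduct S R R) :
    WittVector p R →+* WittVector p (TensorProduct S R R))
local notation "gSRR" => (WittVector.map (algebraMap S (TensorProduct S R R)) :
  WittVector p S →+* WittVector p (TensorProduct S R R))

theorem main (e₁ : RingHom.comp hL gSR = gSRR) (e₂ : RingHom.comp hR gSR = gSRR)
    (P P' : Type v) [AddCommGroup P] [Module (WittVector p S) P] [AddCommGroup P']
    [Module (WittVector p S) P']
    (D : Display3n p S P) (D' : Display3n p S P')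
    (DR : Display3n p R (BC gSR P)) (hDR : IsDispBaseChange (algebraMap S R) D DR)
    (DR' : Display3n p R (BC gSR P')) (hDR' : IsDispBaseChange (algebraMap S R) D' DR')
    (χ : BC gSR P →ₗ[WittVector p R] BC gSR P') (hχ : IsHom DR DR' χ)
    (hdesc : ∀ (z₁ : BC hL (BC gSR P)) (z₂ : BC hR (BC gSR P)),
      (BC.castHom (P := P) e₁).comp (BC.lift hL (BC.push gSR hL)) z₁ =
        (BC.castHom (P := P) e₂).comp (BC.lift hR (BC.push gSR hR)) z₂ →
      (BC.castHom (P := P') e₁).comp (BC.lift hL (BC.push gSR hL)) (BC.map hL χ z₁) =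
        (BC.castHom (P := P') e₂).comp (BC.lift hR (BC.push gSR hR)) (BC.map hR χ z₂)) :
    ∃! ψ : P →ₗ[WittVector p S] P', IsHom D D' ψ ∧ BC.map gSR ψ = χ := by
  haveI hproj : Module.Projective (WittVector p S) P' := D'.projective
  haveI hflat : Module.Flat (WittVector p S) P' := Module.Flat.of_projective
  obtain ⟨hinj, hrange⟩ := WittDescent.main_full p S R P' (e₁.trans e₂.symm)
  obtain ⟨ψ, hψ⟩ := exists_descent gSR hL hR gSRR e₁ e₂ χ hdesc hinj
    (fun z hz => (hrange z).mp hz)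
  have hψ' : ∀ x, χ (BC.tmul gSR 1 x) = BC.tmul gSR 1 (ψ x) := fun x => (hψ x).symm
  have hmap : BC.map gSR ψ = χ := by
    apply BC.ext gSR
    intro x
    rw [BC.map_tmul, hψ']
  have hmaps : ∀ q : P, q ∈ D.Q → ψ q ∈ D'.Q := by
    intro x hx
    rw [DispFF.main p S R P' D' DR' hDR', hψ]
    exact hχ.mapsTo _ ((DispFF.main p S R P D DR hDR x).mp hx)
  refine ⟨ψ, ⟨⟨hmaps, ?_, ?_⟩, hmap⟩, ?_⟩
  · intro x
    apply hinj
    rw [hψ, BC.ι_apply, BC.ι_apply]
    have h1 : BC.tmul gSR 1 (D.F x) = DR.F (BC.tmul gSR 1 x) := by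
      rw [hDR.F_tmul, map_one]
    rw [h1, hχ.comm_F, hψ', hDR'.F_tmul, map_one]
  · intro q
    apply hinj
    rw [hψ, BC.ι_apply, BC.ι_apply]
    have hq : BC.tmul gSR 1 (q : P) ∈ DR.Q := (DispFF.main p S R P D DR hDR q).mp q.2
    have h1 : BC.tmul gSR 1 (D.Vinv q) = DR.Vinv ⟨_, hq⟩ := by
      rw [hDR.Vinv_tmul 1 q hq, map_one]
    have hq' : BC.tmul gSR 1 (ψ q) ∈ DR'.Q :=
      (DispFF.main p S R P' D' DR' hDR' (ψ q)).mp (hmaps q q.2)
    have h3 : BC.tmul gSR 1 (D'.Vinv ⟨ψ q, hmaps q q.2⟩) = DR'.Vinv ⟨_, hq'⟩ := by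
      rw [hDR'.Vinv_tmul 1 ⟨ψ q, hmaps q q.2⟩ hq', map_one]
    rw [h1, hχ.comm_Vinv, h3]
    congr 1
    apply Subtype.ext
    exact hψ' q
  · rintro ψ₂ ⟨_, hψ₂⟩
    ext x
    apply hinj
    rw [hψ, BC.ι_apply, BC.ι_apply, ← hψ₂, BC.map_tmul]

end main

end Groth.Agent.H74.DispDescent
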