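import Mathlib
import Groth.Prelude.Def_Disp2
import Groth.Agent.H74.VNil

/-! Matrix description of `V^♯` and its iterates for a 3n-display with free normal decomposition. -/

set_option autoImplicit false
set_option maxHeartbeats 400000
universe u v

namespace Groth.Agent.H74.DispMat

open W4c1extbt610 Dieu BCLib DispBC3

section generic

variable {A : Type u} [CommRing A] (τ : A →+* A) {P : Type v} [AddCommGroup P] [Module A P]

/-- `c ↦ c ⊗ x` -/
def tmulLeftHom (x : P) : A →+ BC τ P where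
  toFun c := BC.tmul τ c x
  map_zero' := BC.zero_tmul τ x
  map_add' c c' := BC.add_tmul τ c c' x

/-- `x ↦ c ⊗ x` -/
def tmulRightHom (c : A) : P →+ BC τ P where
  toFun x := BC.tmul τ c x
  map_zero' := BC.tmul_zero τ c
  map_add' x y := BC.tmul_add τ c x y

theorem tmul_sum_left {ι : Type*} (s : Finset ι) (c : ι → A) (x : P) :
    BC.tmul τ (∑ i ∈ s, c i) x = ∑ i ∈ s, BC.tmul τ (c i) x :=
  map_sum (tmulLeftHom τ x) c s

theorem tmul_sum_right {ι : Type*} (s : Finset ι) (c : A) (x : ι → P) :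
    BC.tmul τ c (∑ i ∈ s, x i) = ∑ i ∈ s, BC.tmul τ c (x i) :=
  map_sum (tmulRightHom τ c) x s

variable {ι : Type*} [Fintype ι] [DecidableEq ι] (b : Module.Basis ι A P)

/-- `x ↦ τ (x_j)` -/
noncomputable def coordSemi (j : ι) : P →ₛₗ[τ] A where
  toFun x := τ (b.repr x j)
  map_add' x y := by rw [map_add, Finsupp.add_apply, map_add]
  map_smul' a x := by rw [map_smul, Finsupp.smul_apply, smul_eq_mul, map_mul, smul_eq_mul]

/-- the `j`-th coordinate of `BC τ P` -/
noncomputable def coord (j : ι) : BC τ P →ₗ[A] A := BC.lift τ (coordSemi τ b j)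

theorem coord_tmul (j i : ι) (c : A) :
    coord τ b j (BC.tmul τ c (b i)) = if i = j then c else 0 := by
  rw [coord, BC.lift_tmul]
  change c • τ (b.repr (b i) j) = _
  rw [b.repr_self, Finsupp.single_apply]
  split_ifs with h
  · rw [map_one, smul_eq_mul, mul_one]
  · rw [map_zero, smul_zero]

theorem coord_sum (j : ι) (c : ι → A) :
    coord τ b j (∑ i, BC.tmul τ (c i) (b i)) = c j := by
  rw [map_sum]
  simp only [coord_tmul]
  rw [Finset.sum_ite_eq' Finset.univ j c]
  simp

theorem coord_mem (𝔞 : Ideal A) (j : ι) (z : BC τ P)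
    (hz : z ∈ 𝔞 • (⊤ : Submodule A (BC τ P))) : coord τ b j z ∈ 𝔞 := by
  refine Submodule.smul_induction_on hz ?_ ?_
  · intro r hr z' _
    rw [map_smul, smul_eq_mul]
    exact Ideal.mul_mem_right _ _ hr
  · intro x y hx hy
    rw [map_add]
    exact add_mem hx hy

theorem sum_mem_iff (𝔞 : Ideal A) (c : ι → A) :
    (∑ i, BC.tmul τ (c i) (b i)) ∈ 𝔞 • (⊤ : Submodule A (BC τ P)) ↔ ∀ i, c i ∈ 𝔞 := by
  constructor
  · intro h j
    have h1 := coord_mem τ b 𝔞 j _ h
    rwa [coord_sum] at h1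
  · intro h
    refine Submodule.sum_mem _ (fun i _ => ?_)
    rw [BC.tmul_eq_smul_tmul_one]
    exact Submodule.smul_mem_smul (h i) Submodule.mem_top

theorem map_mem_iff (𝔞 : Ideal A) (X : P →ₗ[A] BC τ P) (c : ι → ι → A)
    (hX : ∀ m, X (b m) = ∑ j, BC.tmul τ (c j m) (b j)) :
    (∀ x, X x ∈ 𝔞 • (⊤ : Submodule A (BC τ P))) ↔ ∀ j m, c j m ∈ 𝔞 := by
  constructor
  · intro h j m
    have h1 := h (b m)
    rw [hX, sum_mem_iff] at h1
    exact h1 j
  · intro h x
    rw [← b.sum_repr x, map_sum]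
    refine Submodule.sum_mem _ (fun m _ => ?_)
    rw [map_smul, hX]
    exact Submodule.smul_mem _ _ ((sum_mem_iff τ b 𝔞 _).mpr (fun j => h j m))

/-- `Vs` on a basis from the matrix of a `τ`-linear isomorphism. -/
theorem vs_of_matrix (Vs : P →ₗ[A] BC τ P) (e Φe : ι → P) (d : ι → A) (α β : Matrix ι ι A)
    (hαβ : α * β = 1) (hΦ : ∀ i, Φe i = ∑ i', α i' i • e i')
    (hVsΦ : ∀ i, Vs (Φe i) = BC.tmul τ (d i) (e i)) (m : ι) :
    Vs (e m) = ∑ j, BC.tmul τ (β j m * d j) (e j) := by
  have he : e m = ∑ i, β i m • Φe i := by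
    simp only [hΦ, Finset.smul_sum, smul_smul]
    rw [Finset.sum_comm]
    have h1 : ∀ i', ∑ i, (β i m * α i' i) • e i' = ((α * β) i' m) • e i' := by
      intro i'
      rw [← Finset.sum_smul, Matrix.mul_apply]
      congr 1
      exact Finset.sum_congr rfl (fun i _ => mul_comm _ _)
    simp only [h1, hαβ, Matrix.one_apply, ite_smul, one_smul, zero_smul]
    rw [Finset.sum_ite_eq' Finset.univ m e]
    simp
  conv_lhs => rw [he]
  rw [map_sum]
  refine Finset.sum_congr rfl (fun i _ => ?_)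
  rw [map_smul, hVsΦ, BC.smul_tmul]

end generic

section Witt

variable {p : ℕ} [Fact p.Prime] {R : Type u} [CommRing R]
variable {P : Type v} [AddCommGroup P] [Module (WittVector p R) P]

local notation "σ" => (WittVector.frobenius : WittVector p R →+* WittVector p R)

variable {ι : Type*} [Fintype ι] [DecidableEq ι] (b : Module.Basis ι (WittVector p R) P)

/-- iterated coefficient matrices -/
noncomputable def Cn (C : ι → ι → WittVector p R) : ℕ → ι → ι → WittVector p R
  | 0 => C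
  | n + 1 => fun j m => ∑ i, C i m * σ (Cn C n j i)

theorem vSharpPow_basis (Vs : P →ₗ[WittVector p R] BC σ P) (C : ι → ι → WittVector p R)
    (hVs : ∀ m, Vs (b m) = ∑ j, BC.tmul σ (C j m) (b j)) (n : ℕ) (m : ι) :
    vSharpPow Vs n (b m) = ∑ j, BC.tmul (σ ^ (n + 1)) (Cn C n j m) (b j) := by
  induction n generalizing m with
  | zero =>
    rw [vSharpPow_zero_apply, hVs, map_sum]
    refine Finset.sum_congr rfl (fun j _ => ?_)
    rw [BC.castHom_tmul]
    rfl
  | succ n ih =>
    rw [vSharpPow_succ_eq_merge, hVs, map_sum, map_sum]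
    have h1 : ∀ i, merge σ n P (BC.map σ (vSharpPow Vs n) (BC.tmul σ (C i m) (b i))) =
        ∑ j, BC.tmul (σ ^ (n + 1 + 1)) (C i m * σ (Cn C n j i)) (b j) := by
      intro i
      rw [BC.map_tmul, ih, tmul_sum_right, map_sum]
      refine Finset.sum_congr rfl (fun j _ => ?_)
      rw [merge_tmul]
    simp only [h1]
    rw [Finset.sum_comm]
    refine Finset.sum_congr rfl (fun j _ => ?_)
    rw [← tmul_sum_left]
    rfl

theorem isVNilpotent_iff (Vs : P →ₗ[WittVector p R] BC σ P) (C : ι → ι → WittVector p R)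
    (hVs : ∀ m, Vs (b m) = ∑ j, BC.tmul σ (C j m) (b j)) :
    IsVNilpotent Vs ↔ ∃ n, ∀ j m, Cn C n j m ∈ IV p R ⊔ Ideal.span {(p : WittVector p R)} :=
  exists_congr (fun n => map_mem_iff (σ ^ (n + 1)) b _ (vSharpPow Vs n) (Cn C n)
    (vSharpPow_basis b Vs C hVs n))

end Witt

end Groth.Agent.H74.DispMat
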