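import Mathlib
import Groth.Prelude.Def_Disp2
import Groth.Agent.H74.DispMat

/-! The matrix criterion for a 3n-display with free normal decomposition to be a display. -/

set_option autoImplicit false
set_option maxHeartbeats 400000
universe u v

namespace Groth.Agent.H74.DispMat2

open W4c1extbt610 Dieu BCLib DispBC3 DispMat

section

variable {p : ℕ} [Fact p.Prime] {R : Type u} [CommRing R]

local notation "σ" => (WittVector.frobenius : WittVector p R →+* WittVector p R)
local notation "JJ" => (IV p R ⊔ Ideal.span {(p : WittVector p R)})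
local notation "q" => Ideal.Quotient.mk (IV p R ⊔ Ideal.span {(p : WittVector p R)})

theorem sigma_mem (x : WittVector p R) (hx : x ∈ JJ) : σ x ∈ JJ := by
  have h1 := VNil.J_stable 1 x hx
  rwa [pow_one] at h1

theorem q_sigma_congr (x y : WittVector p R) (h : q x = q y) : q (σ x) = q (σ y) := by
  rw [Ideal.Quotient.eq] at h ⊢
  rw [← map_sub]
  exact sigma_mem _ h

variable {ιT ιL : Type*} [Fintype ιT] [Fintype ιL] [DecidableEq ιT] [DecidableEq ιL]
variable (β : Matrix (ιT ⊕ ιL) (ιT ⊕ ιL) (WittVector p R))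

/-- `p` on the `T`-indices, `1` on the `L`-indices -/
noncomputable def dvec : ιT ⊕ ιL → WittVector p R := Sum.elim (fun _ => (p : WittVector p R)) (fun _ => 1)

/-- `C j m = β j m * d j` -/
noncomputable def Cmat : ιT ⊕ ιL → ιT ⊕ ιL → WittVector p R := fun j m => β j m * dvec j

/-- `σ^i` applied to the `L`-block of `β` -/
noncomputable def bσ (i : ℕ) : Matrix ιL ιL (WittVector p R) :=
  Matrix.of fun k l => (σ ^ i) (β (Sum.inr k) (Sum.inr l))

/-- the twisted product -/
noncomputable def Pn (N : ℕ) : Matrix ιL ιL (WittVector p R) := ((List.range N).reverse.map (bσ β)).prod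

theorem map_bσ (i : ℕ) : (bσ β i).map σ = bσ β (i + 1) := by
  ext k l
  simp only [Matrix.map_apply, bσ, Matrix.of_apply]
  rw [pow_succ' σ i, RingHom.mul_def, RingHom.comp_apply]

theorem Pn_succ (N : ℕ) : Pn β (N + 1) = (Pn β N).map σ * bσ β 0 := by
  have h2 : (Pn β N).map σ = ((List.range N).reverse.map (fun i => bσ β (i + 1))).prod := by
    have h3 : (Pn β N).map σ =
        (WittVector.frobenius : WittVector p R →+* WittVector p R).mapMatrix (Pn β N) := rfl
    rw [h3, Pn, map_list_prod, List.map_map]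
    congr 1
    apply List.map_congr_left
    intro i _
    exact map_bσ β i
  rw [h2]
  simp only [Pn, List.range_succ_eq_map, List.reverse_cons, List.map_append, List.prod_append,
    List.map_cons, List.map_nil, List.prod_cons, List.prod_nil, mul_one, List.map_reverse,
    List.map_map]
  rfl

theorem Pn_succ_apply (N : ℕ) (k l : ιL) :
    Pn β (N + 1) k l = ∑ k', ((Pn β N).map σ) k k' * β (Sum.inr k') (Sum.inr l) := by
  rw [Pn_succ, Matrix.mul_apply]
  refine Finset.sum_congr rfl (fun k' _ => ?_)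
  simp [bσ]

theorem inv (n : ℕ) :
    (∀ (t : ιT) (m : ιT ⊕ ιL), Cn (Cmat β) n (Sum.inl t) m ∈ JJ) ∧
    (∀ (k₀ : ιL) (m : ιT ⊕ ιL), q (Cn (Cmat β) n (Sum.inr k₀) m) =
      q (∑ k, ((Pn β n).map σ) k₀ k * β (Sum.inr k) m)) := by
  induction n with
  | zero =>
    refine ⟨fun t m => ?_, fun k₀ m => ?_⟩
    · change β (Sum.inl t) m * (p : WittVector p R) ∈ JJ
      exact Ideal.mem_sup_right (Ideal.mul_mem_left _ _ (Ideal.subset_span rfl))
    · congr 1
      change β (Sum.inr k₀) m * 1 = _
      have h1 : (Pn β 0).map σ = (1 : Matrix ιL ιL (WittVector p R)) := by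
        change ((1 : Matrix ιL ιL (WittVector p R))).map σ = 1
        exact Matrix.map_one σ (map_zero σ) (map_one σ)
      rw [h1, mul_one]
      simp [Matrix.one_apply]
  | succ n ih =>
    obtain ⟨ih1, ih2⟩ := ih
    refine ⟨fun t m => ?_, fun k₀ m => ?_⟩
    · change ∑ i, Cmat β i m * σ (Cn (Cmat β) n (Sum.inl t) i) ∈ JJ
      exact sum_mem (fun i _ => Ideal.mul_mem_left _ _ (sigma_mem _ (ih1 t i)))
    · change q (∑ i, Cmat β i m * σ (Cn (Cmat β) n (Sum.inr k₀) i)) = _
      rw [Fintype.sum_sum_type, map_add, map_sum, map_sum, map_sum]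
      have hl : ∀ t : ιT,
          q (Cmat β (Sum.inl t) m * σ (Cn (Cmat β) n (Sum.inr k₀) (Sum.inl t))) = 0 := by
        intro t
        rw [Ideal.Quotient.eq_zero_iff_mem]
        refine Ideal.mul_mem_right _ _ ?_
        change β (Sum.inl t) m * (p : WittVector p R) ∈ JJ
        exact Ideal.mem_sup_right (Ideal.mul_mem_left _ _ (Ideal.subset_span rfl))
      rw [Finset.sum_eq_zero (fun t _ => hl t), zero_add]
      refine Finset.sum_congr rfl (fun k _ => ?_)
      have h3 : q (σ (Cn (Cmat β) n (Sum.inr k₀) (Sum.inr k))) =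
          q (((Pn β (n + 1)).map σ) k₀ k) := by
        rw [Matrix.map_apply]
        apply q_sigma_congr
        rw [ih2 k₀ (Sum.inr k), Pn_succ_apply]
      rw [map_mul, map_mul, h3]
      change q (β (Sum.inr k) m * 1) * _ = _
      rw [mul_one, mul_comm]

theorem nil_iff :
    (∃ n, ∀ j m, Cn (Cmat β) n j m ∈ JJ) ↔ ∃ N, 0 < N ∧ ∀ k l, (Pn β N) k l ∈ JJ := by
  constructor
  · rintro ⟨n, h⟩
    refine ⟨n + 1, Nat.succ_pos n, fun k l => ?_⟩
    rw [← Ideal.Quotient.eq_zero_iff_mem, Pn_succ_apply, ← (inv β n).2 k (Sum.inr l),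
      Ideal.Quotient.eq_zero_iff_mem]
    exact h (Sum.inr k) (Sum.inr l)
  · rintro ⟨N, hN, h⟩
    obtain ⟨n, rfl⟩ := Nat.exists_eq_succ_of_ne_zero hN.ne'
    refine ⟨n + 1, fun j m => ?_⟩
    rcases j with t | k₀
    · exact (inv β (n + 1)).1 t m
    · rw [← Ideal.Quotient.eq_zero_iff_mem, (inv β (n + 1)).2 k₀ m,
        Ideal.Quotient.eq_zero_iff_mem]
      refine sum_mem (fun k _ => Ideal.mul_mem_right _ _ ?_)
      rw [Matrix.map_apply]
      exact sigma_mem _ (h k₀ k)

/-- `W → R/p` -/
noncomputable def π : WittVector p R →+* R ⧸ Ideal.span {(p : R)} :=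
  (Ideal.Quotient.mk _).comp WittVector.constantCoeff

theorem π_sigma (w : WittVector p R) : π (σ w) = (π w) ^ p := by
  change Ideal.Quotient.mk _ ((σ w).coeff 0) = (Ideal.Quotient.mk _ (w.coeff 0)) ^ p
  rw [VSharp.coeff_zero_frobenius, map_add, map_mul, map_pow]
  have h1 : Ideal.Quotient.mk (Ideal.span {(p : R)}) (p : R) = 0 :=
    Ideal.Quotient.eq_zero_iff_mem.mpr (Ideal.subset_span rfl)
  rw [h1, zero_mul, add_zero]

theorem π_sigma_pow (i : ℕ) (w : WittVector p R) : π ((σ ^ i) w) = (π w) ^ p ^ i := by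
  induction i with
  | zero =>
    rw [pow_zero, pow_zero, pow_one]
    rfl
  | succ i ih =>
    rw [pow_succ' σ i, RingHom.mul_def, RingHom.comp_apply, π_sigma, ih, ← pow_mul, ← pow_succ]

theorem π_eq_zero_iff (w : WittVector p R) : π w = 0 ↔ w ∈ JJ := by
  constructor
  · intro h
    have h1 : w.coeff 0 ∈ Ideal.span {(p : R)} := Ideal.Quotient.eq_zero_iff_mem.mp h
    obtain ⟨r, hr⟩ := Ideal.mem_span_singleton'.mp h1
    obtain ⟨y, hy⟩ := WittVector.constantCoeff_surjective p (R := R) r
    have h2 : w - y * (p : WittVector p R) ∈ IV p R := by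
      rw [WittDisp.IV_eq_ker, RingHom.mem_ker, map_sub, map_mul, hy, map_natCast,
        WittVector.constantCoeff_apply, hr, sub_self]
    have h3 : w = (w - y * p) + y * p := by ring
    rw [h3]
    exact Ideal.add_mem _ (Ideal.mem_sup_left h2)
      (Ideal.mem_sup_right (Ideal.mul_mem_left _ _ (Ideal.subset_span rfl)))
  · intro h
    have h1 : JJ ≤ RingHom.ker (π (p := p) (R := R)) := by
      refine sup_le ?_ ?_
      · intro x hx
        rw [WittDisp.IV_eq_ker] at hx
        rw [RingHom.mem_ker]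
        change Ideal.Quotient.mk _ (WittVector.constantCoeff x) = 0
        rw [RingHom.mem_ker.mp hx, map_zero]
      · rw [Ideal.span_le]
        rintro _ rfl
        rw [SetLike.mem_coe, RingHom.mem_ker]
        change Ideal.Quotient.mk _ (WittVector.constantCoeff (p : WittVector p R)) = 0
        rw [map_natCast]
        exact Ideal.Quotient.eq_zero_iff_mem.mpr (Ideal.subset_span rfl)
    exact h1 h

theorem stmt_iff (N : ℕ) :
    ((List.range N).reverse.map fun i : ℕ =>
        (Matrix.of fun k l : ιL =>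
            Ideal.Quotient.mk (Ideal.span {(p : R)})
              (WittVector.constantCoeff (β (Sum.inr k) (Sum.inr l)))).map
          fun x : R ⧸ Ideal.span {(p : R)} => x ^ p ^ i).prod = 0
      ↔ ∀ k l, (Pn β N) k l ∈ JJ := by
  have h1 : (fun i : ℕ =>
        (Matrix.of fun k l : ιL =>
            Ideal.Quotient.mk (Ideal.span {(p : R)})
              (WittVector.constantCoeff (β (Sum.inr k) (Sum.inr l)))).map
          fun x : R ⧸ Ideal.span {(p : R)} => x ^ p ^ i) =
      fun i => (π (p := p) (R := R)).mapMatrix (bσ β i) := by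
    funext i
    ext k l
    simp only [Matrix.map_apply, Matrix.of_apply, RingHom.mapMatrix_apply, bσ]
    exact (π_sigma_pow i _).symm
  rw [h1]
  have h2 : ((List.range N).reverse.map
      fun i => (π (p := p) (R := R)).mapMatrix (bσ β i)).prod =
      (π (p := p) (R := R)).mapMatrix (Pn β N) := by
    rw [Pn, map_list_prod, List.map_map]
    rfl
  rw [h2]
  constructor
  · intro h k l
    rw [← π_eq_zero_iff]
    have h3 := congrFun (congrFun h k) l
    simpa [RingHom.mapMatrix_apply] using h3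
  · intro h
    ext k l
    rw [RingHom.mapMatrix_apply, Matrix.map_apply, Matrix.zero_apply, π_eq_zero_iff]
    exact h k l

theorem main (hp : IsNilpotent (p : R)) {P : Type v} [AddCommGroup P]
    [Module (WittVector p R) P] (D : Display3n p R P)
    (L T : Submodule (WittVector p R) P) (hLT : IsCompl L T) (hLQ : L ≤ D.Q)
    (bT : Module.Basis ιT (WittVector p R) T) (bL : Module.Basis ιL (WittVector p R) L)
    (α β : Matrix (ιT ⊕ ιL) (ιT ⊕ ιL) (WittVector p R)) (hαβ : α * β = 1)
    (hF : ∀ j : ιT, D.F (bT j : P) =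
      Finset.univ.sum fun i : ιT ⊕ ιL => α i (Sum.inl j) •
        Sum.elim (fun a : ιT => (bT a : P)) (fun a : ιL => (bL a : P)) i)
    (hV : ∀ k : ιL, D.Vinv ⟨(bL k : P), hLQ (bL k).2⟩ =
      Finset.univ.sum fun i : ιT ⊕ ιL => α i (Sum.inr k) •
        Sum.elim (fun a : ιT => (bT a : P)) (fun a : ιL => (bL a : P)) i) :
    IsDisplay D ↔
      ∃ N : ℕ, 0 < N ∧
        (((List.range N).reverse.map fun i : ℕ =>
            (Matrix.of fun k l : ιL =>
                Ideal.Quotient.mk (Ideal.span {(p : R)})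
                  (WittVector.constantCoeff (β (Sum.inr k) (Sum.inr l)))).map
              fun x : R ⧸ Ideal.span {(p : R)} => x ^ p ^ i).prod
          = 0) := by
  obtain ⟨Vs, hVs⟩ := VSharp.exists_vSharp hp D
  let b : Module.Basis (ιT ⊕ ιL) (WittVector p R) P :=
    (bT.prod bL).map (Submodule.prodEquivOfIsCompl T L hLT.symm)
  have hb : ∀ i, b i = Sum.elim (fun a : ιT => (bT a : P)) (fun a : ιL => (bL a : P)) i := by
    rintro (j | k)
    · simp [b, Module.Basis.prod_apply, Submodule.coe_prodEquivOfIsCompl']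
    · simp [b, Module.Basis.prod_apply, Submodule.coe_prodEquivOfIsCompl']
  have hVsb : ∀ m, Vs (b m) = ∑ j, BC.tmul σ (Cmat β j m) (b j) := by
    intro m
    simp only [hb]
    refine vs_of_matrix σ Vs _
      (Sum.elim (fun j => D.F (bT j : P)) (fun k => D.Vinv ⟨(bL k : P), hLQ (bL k).2⟩))
      dvec α β hαβ ?_ ?_ m
    · rintro (j | k)
      · exact hF j
      · exact hV k
    · rintro (j | k)
      · have h := hVs.app_smul_F 1 (bT j : P)
        rw [one_smul, BC.smul_tmul, mul_one] at h
        exact h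
      · have h := hVs.app_smul_Vinv 1 ⟨(bL k : P), hLQ (bL k).2⟩
        rw [one_smul] at h
        exact h
  have h1 : IsDisplay D ↔ IsVNilpotent Vs := by
    constructor
    · rintro ⟨Vs', hVs', hnil⟩
      rwa [VSharp.vSharp_unique D Vs' Vs hVs' hVs] at hnil
    · intro h
      exact ⟨Vs, hVs, h⟩
  rw [h1, isVNilpotent_iff b Vs (Cmat β) hVsb, nil_iff]
  exact exists_congr (fun N => and_congr Iff.rfl (stmt_iff β N).symm)

end

end Groth.Agent.H74.DispMat2
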