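import Mathlib
import Groth.Prelude.Def_W4c1extbt610Disp
import Groth.Agent.H74.WittDisp

/-! A general constructor of 3n-displays from a projector and a Frobenius-semilinear map. -/

set_option autoImplicit false
set_option maxHeartbeats 400000
universe u v w

namespace Groth.Agent.H74.DispMk

open W4c1extbt610

theorem isCompl_range {B M : Type*} [CommRing B] [AddCommGroup M] [Module B M]
    (E1 E2 : M →ₗ[B] M) (hsum : ∀ z, E1 z + E2 z = z) (h21 : ∀ z, E2 (E1 z) = 0)
    (h12 : ∀ z, E1 (E2 z) = 0) : IsCompl (LinearMap.range E1) (LinearMap.range E2) := by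
  constructor
  · rw [Submodule.disjoint_def]
    rintro z ⟨a, rfl⟩ ⟨b, hb⟩
    have h1 := (hsum (E1 a)).symm
    rw [h21, add_zero] at h1
    rw [h1, ← hb, h12]
  · rw [codisjoint_iff_le_sup]
    intro z _
    rw [← hsum z]
    exact Submodule.add_mem_sup ⟨z, rfl⟩ ⟨z, rfl⟩

variable {p : ℕ} [Fact p.Prime] {R : Type u} [CommRing R]

local notation "σ" => (WittVector.frobenius : WittVector p R →+* WittVector p R)

theorem exists_verschiebung_eq (ξ : WittVector p R) (hξ : ξ ∈ IV p R) :
    ∃ w : WittVector p R, WittVector.verschiebung w = ξ := by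
  have h : ξ ∈ RingHom.ker (WittVector.constantCoeff : WittVector p R →+* R) := by
    rw [← WittDisp.IV_eq_ker]; exact hξ
  obtain ⟨y, rfl⟩ := (WittAdic.mem_ker_constantCoeff_iff p ξ).mp h
  exact ⟨y, rfl⟩

/-- the inverse of Verschiebung on its image -/
noncomputable def vinv0 (ξ : ↥(IV p R)) : WittVector p R :=
  (exists_verschiebung_eq ξ.1 ξ.2).choose

theorem vinv0_spec (ξ : ↥(IV p R)) : WittVector.verschiebung (vinv0 ξ) = ξ.1 :=
  (exists_verschiebung_eq ξ.1 ξ.2).choose_spec

theorem vinv0_eq (ξ : ↥(IV p R)) (u : WittVector p R) (h : WittVector.verschiebung u = ξ.1) :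
    vinv0 ξ = u :=
  WittVector.verschiebung_injective p R ((vinv0_spec ξ).trans h.symm)

/-- the inverse of Verschiebung on its image, as a Frobenius-semilinear map -/
noncomputable def vinvW : ↥(IV p R) →ₛₗ[σ] WittVector p R where
  toFun := vinv0
  map_add' ξ η := by
    apply vinv0_eq
    rw [map_add, vinv0_spec, vinv0_spec]
    rfl
  map_smul' a ξ := by
    apply vinv0_eq
    rw [smul_eq_mul, mul_comm, WittVector.verschiebung_mul_frobenius, vinv0_spec, mul_comm]
    rfl

theorem vinvW_eq (ξ : ↥(IV p R)) (u : WittVector p R) (h : WittVector.verschiebung u = ξ.1) :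
    vinvW ξ = u := vinv0_eq ξ u h

theorem exists_Psi {M : Type v} {N : Type w} [AddCommGroup M] [Module (WittVector p R) M]
    [Module.Finite (WittVector p R) M] [Module.Projective (WittVector p R) M]
    [AddCommGroup N] [Module (WittVector p R) N] (Φ : M →ₛₗ[σ] N) :
    ∃ Ψ : ↥(IV p R • (⊤ : Submodule (WittVector p R) M)) →ₛₗ[σ] N,
      ∀ (w : WittVector p R) (m : M)
        (h : WittVector.verschiebung w • m ∈ IV p R • (⊤ : Submodule (WittVector p R) M)),
        Ψ ⟨WittVector.verschiebung w • m, h⟩ = w • Φ m := by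
  classical
  obtain ⟨n, f, g, -, -, hfg⟩ :=
    Module.Finite.exists_comp_eq_id_of_projective (WittVector p R) M
  obtain ⟨mm, hmm⟩ : ∃ mm : Fin n → M, ∀ j, mm j = f (fun k => if j = k then 1 else 0) :=
    ⟨_, fun j => rfl⟩
  have hsum : ∀ x : M, x = ∑ j : Fin n, g x j • mm j := by
    intro x
    have h1 : f (g x) = x := by rw [← LinearMap.comp_apply, hfg]; rfl
    conv_lhs => rw [← h1]
    rw [LinearMap.pi_apply_eq_sum_univ f (g x)]
    exact Finset.sum_congr rfl (fun j _ => by rw [hmm])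
  have hmap : ∀ (j : Fin n) (x : M), x ∈ IV p R • (⊤ : Submodule (WittVector p R) M) →
      g x j ∈ IV p R := by
    intro j x hx
    refine Submodule.smul_induction_on hx ?_ ?_
    · intro r hr y _
      rw [map_smul, Pi.smul_apply, smul_eq_mul]
      exact Ideal.mul_mem_right _ _ hr
    · intro y z hy hz
      rw [map_add, Pi.add_apply]
      exact Ideal.add_mem _ hy hz
  refine ⟨{ toFun := fun x => ∑ j : Fin n, vinvW ⟨g x.1 j, hmap j x.1 x.2⟩ • Φ (mm j)
            map_add' := ?_
            map_smul' := ?_ }, ?_⟩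
  · intro x y
    rw [← Finset.sum_add_distrib]
    refine Finset.sum_congr rfl (fun j _ => ?_)
    have e : (⟨g (x + y).1 j, hmap j _ (x + y).2⟩ : ↥(IV p R)) =
        ⟨g x.1 j, hmap j x.1 x.2⟩ + ⟨g y.1 j, hmap j y.1 y.2⟩ := by
      apply Subtype.ext
      show g ((x + y : ↥(IV p R • (⊤ : Submodule (WittVector p R) M))) : M) j = g x.1 j + g y.1 j
      rw [Submodule.coe_add, map_add, Pi.add_apply]
    rw [e, map_add, add_smul]
  · intro a x
    rw [Finset.smul_sum]
    refine Finset.sum_congr rfl (fun j _ => ?_)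
    have e : (⟨g (a • x).1 j, hmap j _ (a • x).2⟩ : ↥(IV p R)) =
        a • ⟨g x.1 j, hmap j x.1 x.2⟩ := by
      apply Subtype.ext
      show g ((a • x : ↥(IV p R • (⊤ : Submodule (WittVector p R) M))) : M) j = a • g x.1 j
      rw [Submodule.coe_smul, map_smul, Pi.smul_apply]
    rw [e, map_smulₛₗ, smul_eq_mul, mul_smul]
  · intro w x h
    show ∑ j : Fin n, vinvW ⟨g (WittVector.verschiebung w • x) j, hmap j _ h⟩ • Φ (mm j) = w • Φ x
    have e : ∀ j, vinvW ⟨g (WittVector.verschiebung w • x) j, hmap j _ h⟩ =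
        w * WittVector.frobenius (g x j) := by
      intro j
      apply vinvW_eq
      show WittVector.verschiebung (w * WittVector.frobenius (g x j)) =
        g (WittVector.verschiebung w • x) j
      rw [WittVector.verschiebung_mul_frobenius, map_smul, Pi.smul_apply, smul_eq_mul]
    rw [Finset.sum_congr rfl (fun j _ => by rw [e j])]
    conv_rhs => rw [hsum x, map_sum, Finset.smul_sum]
    refine Finset.sum_congr rfl (fun j _ => ?_)
    rw [map_smulₛₗ, mul_smul]

theorem exists_display {M : Type v} [AddCommGroup M] [Module (WittVector p R) M]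
    [hfin : Module.Finite (WittVector p R) M] [hproj : Module.Projective (WittVector p R) M]
    (eL : M →ₗ[WittVector p R] M) (hLL : ∀ x, eL (eL x) = eL x)
    (Φ : M →ₛₗ[σ] M) (hΦ : Submodule.span (WittVector p R) (Set.range Φ) = ⊤)
    (Q : Submodule (WittVector p R) M)
    (hQ1 : ∀ x ∈ Q, x - eL x ∈ IV p R • (⊤ : Submodule (WittVector p R) M))
    (hQ2 : ∀ x, eL x ∈ Q)
    (hQ3 : IV p R • (⊤ : Submodule (WittVector p R) M) ≤ Q) :
    ∃ E : Display3n p R M, E.Q = Q ∧
      (LinearMap.range eL ⊔ IV p R • LinearMap.range (LinearMap.id - eL) = Q ∧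
        IsCompl (LinearMap.range eL) (LinearMap.range (LinearMap.id - eL))) ∧
      ∀ (x : M) (hx : x ∈ E.Q) (n : ℕ) (w : Fin n → WittVector p R) (m : Fin n → M),
        x - eL x = ∑ j, WittVector.verschiebung (w j) • m j →
        E.Vinv ⟨x, hx⟩ = Φ (eL x) + ∑ j, w j • Φ (m j) := by
  obtain ⟨Ψ, hΨ⟩ := exists_Psi (p := p) (R := R) Φ
  obtain ⟨eT, heT⟩ : ∃ eT : M →ₗ[WittVector p R] M, eT = LinearMap.id - eL := ⟨_, rfl⟩
  have heT_apply : ∀ x, eT x = x - eL x := fun x => by rw [heT]; rfl
  have hTL : ∀ x, eL (eT x) = 0 := by intro x; rw [heT_apply, map_sub, hLL, sub_self]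
  have hLT : ∀ x, eT (eL x) = 0 := by intro x; rw [heT_apply, hLL, sub_self]
  have hTT : ∀ x, eT (eT x) = eT x := by intro x; rw [heT_apply (eT x), hTL, sub_zero]
  have hsum : ∀ x, eL x + eT x = x := by intro x; rw [heT_apply]; abel
  obtain ⟨Vinv, hVinv⟩ : ∃ Vinv : ↥Q →ₛₗ[σ] M,
      ∀ (x : M) (hx : x ∈ Q), Vinv ⟨x, hx⟩ = Φ (eL x) + Ψ ⟨x - eL x, hQ1 x hx⟩ :=
    ⟨(Φ.comp (eL.comp Q.subtype) : ↥Q →ₛₗ[σ] M) +
      (Ψ.comp ((LinearMap.id - eL).restrict (fun x hx => hQ1 x hx)) : ↥Q →ₛₗ[σ] M),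
      fun x hx => rfl⟩
  have hmemV : ∀ (w : WittVector p R) (m : M),
      WittVector.verschiebung w • m ∈ IV p R • (⊤ : Submodule (WittVector p R) M) :=
    fun w m => Submodule.smul_mem_smul (verschiebung_mem_IV p R w) Submodule.mem_top
  have hVsum : ∀ (x : M) (hx : x ∈ Q) (n : ℕ) (w : Fin n → WittVector p R) (m : Fin n → M),
      x - eL x = ∑ j, WittVector.verschiebung (w j) • m j →
      Vinv ⟨x, hx⟩ = Φ (eL x) + ∑ j, w j • Φ (m j) := by
    intro x hx n w m h
    rw [hVinv]
    congr 1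
    have e : (⟨x - eL x, hQ1 x hx⟩ : ↥(IV p R • (⊤ : Submodule (WittVector p R) M))) =
        ∑ j, ⟨WittVector.verschiebung (w j) • m j, hmemV (w j) (m j)⟩ := by
      apply Subtype.ext
      rw [Submodule.coe_sum]
      exact h
    rw [e, map_sum]
    exact Finset.sum_congr rfl (fun j _ => hΨ (w j) (m j) (hmemV (w j) (m j)))
  have hV1 : ∀ (x : M) (hx : x ∈ Q) (w : WittVector p R) (m : M),
      x - eL x = WittVector.verschiebung w • m → Vinv ⟨x, hx⟩ = Φ (eL x) + w • Φ m := by
    intro x hx w m h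
    rw [hVinv]
    congr 1
    have e : (⟨x - eL x, hQ1 x hx⟩ : ↥(IV p R • (⊤ : Submodule (WittVector p R) M))) =
        ⟨WittVector.verschiebung w • m, hmemV w m⟩ := Subtype.ext h
    rw [e]
    exact hΨ w m _
  have hnormal : LinearMap.range eL ⊔ IV p R • LinearMap.range eT = Q := by
    apply le_antisymm
    · refine sup_le ?_ ?_
      · rintro _ ⟨x, rfl⟩; exact hQ2 x
      · exact le_trans (Submodule.smul_mono le_rfl le_top) hQ3
    · intro x hx
      have h1 : eT x ∈ IV p R • LinearMap.range eT := by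
        have h2 : eT x ∈ Submodule.map eT (IV p R • (⊤ : Submodule (WittVector p R) M)) :=
          ⟨eT x, by rw [heT_apply]; exact hQ1 x hx, hTT x⟩
        rwa [Submodule.map_smul'', Submodule.map_top] at h2
      rw [← hsum x]
      exact Submodule.add_mem_sup ⟨x, rfl⟩ h1
  have hcompl : IsCompl (LinearMap.range eL) (LinearMap.range eT) :=
    isCompl_range eL eT hsum hLT hTL
  refine ⟨{ Q := Q
            F := (Φ.comp ((p : WittVector p R) • eL + (LinearMap.id - eL)) : M →ₛₗ[σ] M)
            Vinv := Vinv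
            finite := hfin
            projective := hproj
            IV_smul_le := hQ3
            exists_normal := ⟨LinearMap.range eL, LinearMap.range eT, hcompl, hnormal.symm⟩
            span_range_Vinv := ?_
            Vinv_verschiebung_smul := ?_ }, rfl, ⟨heT ▸ hnormal, heT ▸ hcompl⟩, hVsum⟩
  · rw [eq_top_iff, ← hΦ, Submodule.span_le]
    rintro _ ⟨x, rfl⟩
    have h1 : Φ x = Φ (eL x) + Φ (eT x) := by rw [← map_add, hsum]
    have h2 : Φ (eL x) = Vinv ⟨eL x, hQ2 x⟩ := by
      have := hV1 (eL x) (hQ2 x) 0 0 (by rw [hLL, sub_self, smul_zero])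
      rw [this, hLL, zero_smul, add_zero]
    have hm : WittVector.verschiebung (1 : WittVector p R) • eT x ∈ Q := hQ3 (hmemV 1 (eT x))
    have h3 : Φ (eT x) = Vinv ⟨WittVector.verschiebung (1 : WittVector p R) • eT x, hm⟩ := by
      have := hV1 (WittVector.verschiebung (1 : WittVector p R) • eT x) hm 1 (eT x)
        (by rw [map_smul, hTL, smul_zero, sub_zero])
      rw [this, map_smul, hTL, smul_zero, map_zero, zero_add, one_smul]
    rw [SetLike.mem_coe, h1, h2, h3]
    exact add_mem (Submodule.subset_span ⟨_, rfl⟩) (Submodule.subset_span ⟨_, rfl⟩)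
  · intro w x
    have h1 := hV1 (WittVector.verschiebung w • x) (hQ3 (hmemV w x)) w (eT x)
      (by rw [map_smul, ← smul_sub, heT_apply])
    refine h1.trans ?_
    show Φ (eL (WittVector.verschiebung w • x)) + w • Φ (eT x) =
      w • Φ (((p : WittVector p R) • eL + (LinearMap.id - eL) : M →ₗ[WittVector p R] M) x)
    have h2 : ((p : WittVector p R) • eL + (LinearMap.id - eL) : M →ₗ[WittVector p R] M) x =
        (p : WittVector p R) • eL x + eT x := by rw [heT_apply]; rfl
    rw [h2, map_smul, map_smulₛₗ, WittVector.frobenius_verschiebung, map_add, map_smulₛₗ,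
      map_natCast, smul_add, smul_smul]

end Groth.Agent.H74.DispMk
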