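import Mathlib

/-!
Helper: a morphism of schemes `f : X ⟶ Y` which is surjective on points and such that all
`f.app U` are monomorphisms (e.g. isomorphisms) is an epimorphism of schemes.
Also: a proper-type criterion for surjectivity from `f.app U` being isomorphisms.
-/

universe u

namespace Groth.Agent.H74

open CategoryTheory AlgebraicGeometry TopologicalSpace Opposite

lemma sheafedSpace_epi_of_base_surjective_of_c_mono {C : Type*} [Category C]
    {X Y : SheafedSpace C} (f : X ⟶ Y)
    (h₁ : Function.Surjective f.hom.base) (h₂ : ∀ U, Mono (f.hom.c.app U)) : Epi f := by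
  constructor
  intro Z ⟨g, gc⟩ ⟨h, hc⟩ e
  apply_fun InducedCategory.Hom.hom at e
  obtain rfl : g = h := ConcreteCategory.hom_ext _ _ fun y ↦ by
    rw [← (h₁ y).choose_spec]
    simpa using congr(($e).base.hom (h₁ y).choose)
  have : gc = hc := by
    ext U
    have h := PresheafedSpace.congr_app e (op U)
    change gc.app (op U) ≫ f.hom.c.app _ = (hc.app (op U) ≫ f.hom.c.app _) ≫ _ at h
    erw [eqToHom_refl, X.presheaf.map_id, Category.comp_id] at h
    exact (cancel_mono _).mp h
  subst this
  rfl

lemma scheme_epi_of_surjective_of_app_mono {X Y : Scheme.{u}} (f : X ⟶ Y)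
    (h₁ : Function.Surjective f.base) (h₂ : ∀ U : Y.Opens, Mono (f.app U)) : Epi f := by
  apply CategoryTheory.Functor.epi_of_epi_map (Scheme.forgetToLocallyRingedSpace)
  apply CategoryTheory.Functor.epi_of_epi_map (LocallyRingedSpace.forgetToSheafedSpace)
  apply sheafedSpace_epi_of_base_surjective_of_c_mono _ h₁
  intro U
  exact h₂ U.unop

lemma surjective_of_isClosedMap_of_app_iso {X Y : Scheme.{u}} (f : X ⟶ Y)
    (hcl : IsClosedMap f.base) (h : ∀ U : Y.Opens, IsIso (f.app U)) :
    Function.Surjective f.base := by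
  let U : Y.Opens := ⟨(Set.range f.base)ᶜ, (hcl.isClosed_range).isOpen_compl⟩
  have hpre : f ⁻¹ᵁ U = ⊥ := by
    ext x
    simp only [Opens.coe_bot, Set.mem_empty_iff_false, iff_false]
    intro hx
    exact hx ⟨x, rfl⟩
  have h1 : Subsingleton Γ(X, f ⁻¹ᵁ U) :=
    CommRingCat.subsingleton_of_isTerminal (X.sheaf.isTerminalOfEqEmpty hpre)
  have hinj : Function.Injective (f.app U).hom :=
    ((ConcreteCategory.isIso_iff_bijective (f.app U)).mp (h U)).1
  have h2 : Subsingleton Γ(Y, U) := hinj.subsingleton
  intro y
  by_contra hy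
  have hyU : y ∈ U := hy
  have : Nontrivial Γ(Y, U) := (Y.presheaf.germ U y hyU).hom.domain_nontrivial
  exact not_subsingleton _ h2

/-- If `f` is universally closed and all `f.app U` are isomorphisms, `f` is an epimorphism. -/
lemma epi_of_universallyClosed_of_app_iso {X Y : Scheme.{u}} (f : X ⟶ Y) [UniversallyClosed f]
    (h : ∀ U : Y.Opens, IsIso (f.app U)) : Epi f :=
  scheme_epi_of_surjective_of_app_mono f
    (surjective_of_isClosedMap_of_app_iso f f.isClosedMap h) (fun U => by
      have := h U
      infer_instance)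

end Groth.Agent.H74
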