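import Mathlib

/-! Descent of morphisms for extension of scalars, in `ModuleCat` form:
if `A → B ⇉ C` is an equalizer of rings and `N` is a flat `A`-module, a `B`-linear map
`B ⊗ M → B ⊗ N` compatible with the two base changes to `C` comes from a unique `A`-linear map. -/

set_option autoImplicit false
set_option maxHeartbeats 400000
set_option backward.isDefEq.respectTransparency false
universe u

namespace Groth.Agent.H74.ExtDesc

open CategoryTheory TensorProduct ChangeOfRings ModuleCat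

section

variable {A B C : Type u} [CommRing A] [CommRing B] [CommRing C]

/-- `B` as an `A`-module through `g`. -/
noncomputable abbrev XS (g : A →+* B) : ModuleCat.{u} A :=
  (ModuleCat.restrictScalars g).obj (ModuleCat.of B B)

/-- an element of `B` as an element of `XS g` -/
def XS.mk (g : A →+* B) (b : B) : XS g := b

/-- the underlying element of `B` -/
def XS.val {g : A →+* B} (x : XS g) : B := x

theorem XS.smul_val (g : A →+* B) (a : A) (x : XS g) : XS.val (a • x) = g a * XS.val x := rfl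

theorem XS.ext {g : A →+* B} {x y : XS g} (h : XS.val x = XS.val y) : x = y := h

theorem XS.mk_val {g : A →+* B} (x : XS g) : XS.mk g (XS.val x) = x := rfl

/-- `ψ` as an `A`-linear map `XS g → XS q` when `ψ ∘ g = q`. -/
def ell (g : A →+* B) (ψ : B →+* C) (q : A →+* C) (e : ψ.comp g = q) : XS g →ₗ[A] XS q where
  toFun x := XS.mk q (ψ (XS.val x))
  map_add' x y := map_add ψ (XS.val x) (XS.val y)
  map_smul' a x := by
    apply XS.ext
    show ψ (g a * XS.val x) = q a * ψ (XS.val x)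
    rw [map_mul, ← e]
    rfl

theorem ell_val (g : A →+* B) (ψ : B →+* C) (q : A →+* C) (e : ψ.comp g = q) (x : XS g) :
    XS.val (ell g ψ q e x) = ψ (XS.val x) := rfl

/-- `g` as an `A`-linear map `A → XS g`. -/
def ellg (g : A →+* B) : A →ₗ[A] XS g where
  toFun a := XS.mk g (g a)
  map_add' a a' := map_add g a a'
  map_smul' a a' := by
    apply XS.ext
    show g (a * a') = g a * g a'
    rw [map_mul]

theorem ellg_val (g : A →+* B) (a : A) : XS.val (ellg g a) = g a := rfl

/-- the pure tensor `c ⊗ x` in `(extendScalars q).obj N` -/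
noncomputable abbrev tm (q : A →+* C) (N : ModuleCat.{u} A) (c : C) (x : N) :
    (extendScalars q).obj N :=
  (XS.mk q c) ⊗ₜ[A] x

theorem tm_smul (q : A →+* C) (N : ModuleCat.{u} A) (c c' : C) (x : N) :
    c • tm q N c' x = tm q N (c * c') x := rfl

theorem tm_add (q : A →+* C) (N : ModuleCat.{u} A) (c : C) (x y : N) :
    tm q N c (x + y) = tm q N c x + tm q N c y := TensorProduct.tmul_add _ _ _

theorem map_tm (q : A →+* C) {M N : ModuleCat.{u} A} (θ : M ⟶ N) (c : C) (m : M) :
    (extendScalars q).map θ (tm q M c m) = tm q N c (θ m) := rfl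

theorem tm_smul_right (q : A →+* C) (N : ModuleCat.{u} A) (c : C) (a : A) (x : N) :
    tm q N c (a • x) = tm q N (q a * c) x :=
  (TensorProduct.smul_tmul a (XS.mk q c) x).symm

variable (g : A →+* B) (ψ₁ ψ₂ : B →+* C) (q : A →+* C)
  (e₁ : ψ₁.comp g = q) (e₂ : ψ₂.comp g = q)

theorem exact_ell (heq : ∀ b : B, ψ₁ b = ψ₂ b → b ∈ Set.range g) :
    Function.Exact (ellg g) (ell g ψ₁ q e₁ - ell g ψ₂ q e₂) := by
  intro b
  constructor
  · intro hb
    rw [LinearMap.sub_apply, sub_eq_zero] at hb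
    have hb' := congrArg XS.val hb
    rw [ell_val, ell_val] at hb'
    obtain ⟨a, ha⟩ := heq (XS.val b) hb'
    exact ⟨a, XS.ext ha⟩
  · rintro ⟨a, rfl⟩
    rw [LinearMap.sub_apply, sub_eq_zero]
    apply XS.ext
    rw [ell_val, ell_val, ellg_val]
    exact (RingHom.congr_fun e₁ a).trans (RingHom.congr_fun e₂ a).symm

variable {g ψ₁ ψ₂ q}

/-- the key compatibility: the canonical iso `C ⊗_A N ≅ C ⊗_B (B ⊗_A N)` sends `ψ b ⊗ x` to
`1 ⊗ (b ⊗ x)`. -/
theorem k_rTensor {ψ : B →+* C} (e : ψ.comp g = q) (N : ModuleCat.{u} A)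
    (k : (extendScalars q).obj N ⟶ (extendScalars ψ).obj ((extendScalars g).obj N))
    (hk : ∀ x : N, k (tm q N 1 x) = tm ψ ((extendScalars g).obj N) 1 (tm g N 1 x))
    (z : (extendScalars g).obj N) :
    k (LinearMap.rTensor N (ell g ψ q e) z) = tm ψ ((extendScalars g).obj N) 1 z := by
  induction z using TensorProduct.induction_on with
  | zero =>
    have h0 : tm ψ ((extendScalars g).obj N) 1 0 = 0 := TensorProduct.tmul_zero _ _
    rw [map_zero, h0]
    exact map_zero k.hom
  | tmul b x =>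
    have h1 : LinearMap.rTensor N (ell g ψ q e) (b ⊗ₜ[A] x) =
        (ψ (XS.val b)) • tm q N 1 x := by
      rw [tm_smul, mul_one]
      rfl
    have h2 : (b ⊗ₜ[A] x : (extendScalars g).obj N) = (XS.val b) • tm g N 1 x := by
      rw [tm_smul, mul_one]
      rfl
    rw [h1, h2]
    have h3 : k ((ψ (XS.val b)) • tm q N 1 x) = (ψ (XS.val b)) • k (tm q N 1 x) :=
      map_smul k.hom _ _
    rw [h3, hk, tm_smul, tm_smul_right, mul_one]
  | add z₁ z₂ h₁ h₂ =>
    have h0 : tm ψ ((extendScalars g).obj N) 1 (z₁ + z₂) =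
        tm ψ ((extendScalars g).obj N) 1 z₁ + tm ψ ((extendScalars g).obj N) 1 z₂ :=
      TensorProduct.tmul_add _ _ _
    rw [map_add, h0, ← h₁, ← h₂]
    exact map_add k.hom _ _

theorem rTensor_ellg (N : ModuleCat.{u} A) (x : N) :
    LinearMap.rTensor N (ellg g) ((1 : A) ⊗ₜ[A] x) = tm g N 1 x := by
  rw [LinearMap.rTensor_tmul]
  show (XS.mk g (g 1)) ⊗ₜ[A] x = (XS.mk g 1) ⊗ₜ[A] x
  rw [map_one]

theorem one_tmul_injective (hinj : Function.Injective g) (N : ModuleCat.{u} A)
    [Module.Flat A N] :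
    Function.Injective (fun x : N => tm g N 1 x) := by
  have hinj' : Function.Injective (LinearMap.rTensor N (ellg g)) :=
    Module.Flat.rTensor_preserves_injective_linearMap (ellg g)
      (fun a a' haa => hinj (congrArg XS.val haa))
  intro x y hxy
  have h2 : LinearMap.rTensor N (ellg g) ((TensorProduct.lid A N).symm x) =
      LinearMap.rTensor N (ellg g) ((TensorProduct.lid A N).symm y) := by
    rw [TensorProduct.lid_symm_apply, TensorProduct.lid_symm_apply, rTensor_ellg, rTensor_ellg]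
    exact hxy
  exact (TensorProduct.lid A N).symm.injective (hinj' h2)

theorem core (hinj : Function.Injective g) (heq : ∀ b : B, ψ₁ b = ψ₂ b → b ∈ Set.range g)
    (M N : ModuleCat.{u} A) [Module.Flat A N]
    (kM₁ : (extendScalars q).obj M ⟶ (extendScalars ψ₁).obj ((extendScalars g).obj M))
    (kM₂ : (extendScalars q).obj M ⟶ (extendScalars ψ₂).obj ((extendScalars g).obj M))
    (kN₁ : (extendScalars q).obj N ≅ (extendScalars ψ₁).obj ((extendScalars g).obj N))
    (kN₂ : (extendScalars q).obj N ≅ (extendScalars ψ₂).obj ((extendScalars g).obj N))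
    (hkM₁ : ∀ m : M, kM₁ (tm q M 1 m) = tm ψ₁ ((extendScalars g).obj M) 1 (tm g M 1 m))
    (hkM₂ : ∀ m : M, kM₂ (tm q M 1 m) = tm ψ₂ ((extendScalars g).obj M) 1 (tm g M 1 m))
    (hkN₁ : ∀ x : N, kN₁.hom (tm q N 1 x) = tm ψ₁ ((extendScalars g).obj N) 1 (tm g N 1 x))
    (hkN₂ : ∀ x : N, kN₂.hom (tm q N 1 x) = tm ψ₂ ((extendScalars g).obj N) 1 (tm g N 1 x))
    (e₁ : ψ₁.comp g = q) (e₂ : ψ₂.comp g = q)
    (Θ : (extendScalars g).obj M ⟶ (extendScalars g).obj N)
    (hcomm : kM₁ ≫ (extendScalars ψ₁).map Θ ≫ kN₁.inv ≫ kN₂.hom =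
      kM₂ ≫ (extendScalars ψ₂).map Θ) :
    ∃ φ : M ⟶ N, (extendScalars g).map φ = Θ := by
  -- step 2: the two pullbacks of `Θ (1 ⊗ m)` agree
  have hz : ∀ m : M, LinearMap.rTensor N (ell g ψ₁ q e₁) (Θ (tm g M 1 m)) =
      LinearMap.rTensor N (ell g ψ₂ q e₂) (Θ (tm g M 1 m)) := by
    intro m
    have h1 := ConcreteCategory.congr_hom hcomm (tm q M 1 m)
    rw [ModuleCat.comp_apply, ModuleCat.comp_apply, ModuleCat.comp_apply, ModuleCat.comp_apply,
      hkM₁, hkM₂, map_tm, map_tm, ← k_rTensor e₁ N kN₁.hom hkN₁, Iso.hom_inv_id_apply,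
      ← k_rTensor e₂ N kN₂.hom hkN₂] at h1
    have h2 := congrArg (fun t => kN₂.inv t) h1
    simp only [Iso.hom_inv_id_apply] at h2
    exact h2
  -- step 3: descend each `Θ (1 ⊗ m)`
  have hex := Module.Flat.rTensor_exact N (exact_ell g ψ₁ ψ₂ q e₁ e₂ heq)
  have hdesc : ∀ m : M, ∃ x : N, tm g N 1 x = Θ (tm g M 1 m) := by
    intro m
    have h0 : LinearMap.rTensor N (ell g ψ₁ q e₁ - ell g ψ₂ q e₂) (Θ (tm g M 1 m)) = 0 := by
      rw [LinearMap.rTensor_sub, LinearMap.sub_apply, hz m, sub_self]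
    obtain ⟨y, hy⟩ := (hex _).mp h0
    refine ⟨TensorProduct.lid A N y, ?_⟩
    rw [← hy, ← rTensor_ellg]
    congr 1
    exact ((TensorProduct.lid A N).symm_apply_apply y)
  choose φ₀ hφ₀ using hdesc
  have hinjN := one_tmul_injective hinj N
  have hadd : ∀ m m' : M, φ₀ (m + m') = φ₀ m + φ₀ m' := by
    intro m m'
    apply hinjN
    show tm g N 1 (φ₀ (m + m')) = tm g N 1 (φ₀ m + φ₀ m')
    have e3 : Θ (tm g M 1 m + tm g M 1 m') = Θ (tm g M 1 m) + Θ (tm g M 1 m') :=
      map_add Θ.hom _ _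
    rw [hφ₀, tm_add, e3, tm_add, hφ₀, hφ₀]
  have hsmul : ∀ (a : A) (m : M), φ₀ (a • m) = a • φ₀ m := by
    intro a m
    apply hinjN
    show tm g N 1 (φ₀ (a • m)) = tm g N 1 (a • φ₀ m)
    have e3 : Θ ((g a) • tm g M 1 m) = (g a) • Θ (tm g M 1 m) := map_smul Θ.hom _ _
    rw [hφ₀, tm_smul_right, tm_smul_right, ← tm_smul, ← tm_smul g N, e3, hφ₀]
  refine ⟨ModuleCat.ofHom { toFun := φ₀, map_add' := hadd, map_smul' := hsmul }, ?_⟩
  apply ExtendScalars.hom_ext
  intro m
  exact hφ₀ m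

/-- faithfulness of extension of scalars on maps into a flat module -/
theorem ext_faithful (hinj : Function.Injective g) (M N : ModuleCat.{u} A) [Module.Flat A N]
    (φ φ' : M ⟶ N) (h : (extendScalars g).map φ = (extendScalars g).map φ') : φ = φ' := by
  apply ModuleCat.hom_ext
  apply LinearMap.ext
  intro m
  apply one_tmul_injective hinj N
  have h1 := ConcreteCategory.congr_hom h (tm g M 1 m)
  exact h1

end

end Groth.Agent.H74.ExtDesc
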