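import Mathlib
import Groth.Prelude.Def_W4c1extbt610Disp

/-! Universal property of the exterior power of a 3n-display. -/

set_option autoImplicit false
set_option maxHeartbeats 400000
universe u v w

namespace Groth.Agent.H74.ExtPowUniv

open W4c1extbt610

variable {p : ℕ} [Fact p.Prime] {R : Type u} [CommRing R]
variable {P : Type v} [AddCommGroup P] [Module (WittVector p R) P]

theorem v1_smul_mem (D : Display3n p R P) (x : P) :
    (WittVector.verschiebung (1 : WittVector p R)) • x ∈ D.Q :=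
  D.IV_smul_le (Submodule.smul_mem_smul (verschiebung_mem_IV p R 1) Submodule.mem_top)

theorem F_eq (D : Display3n p R P) (x : P) :
    D.F x = D.Vinv ⟨(WittVector.verschiebung (1 : WittVector p R)) • x, v1_smul_mem D x⟩ := by
  have h := D.Vinv_verschiebung_smul 1 x
  rw [one_smul] at h
  exact h.symm

theorem isAltMult_ιMulti (D : Display3n p R P) (r : ℕ)
    (E : Display3n p R (⋀[WittVector p R]^r P)) (hE : IsExtPow D r E) :
    IsAltMult D E (exteriorPower.ιMulti (WittVector p R) r) := by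
  have hmaps : ∀ q : Fin r → D.Q,
      exteriorPower.ιMulti (WittVector p R) r (fun i => (q i : P)) ∈ E.Q := by
    intro q
    rw [hE.1]
    exact Submodule.subset_span ⟨q, rfl⟩
  refine ⟨hmaps, fun q => hE.2 q (hmaps q), ?_⟩
  intro i x q
  classical
  let q' : Fin r → D.Q := Function.update q i ⟨_, v1_smul_mem D x⟩
  have hq'1 : (fun j => ((q' j : D.Q) : P)) =
      Function.update (fun j => (q j : P)) i
        ((WittVector.verschiebung (1 : WittVector p R)) • x) := by
    funext j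
    by_cases hj : j = i
    · subst hj
      simp [q']
    · simp [q', Function.update_of_ne hj]
  have hq'2 : (fun j => D.Vinv (q' j)) =
      Function.update (fun j => D.Vinv (q j)) i (D.F x) := by
    funext j
    by_cases hj : j = i
    · subst hj
      simp only [q', Function.update_self]
      exact (F_eq D x).symm
    · simp [q', Function.update_of_ne hj]
  rw [F_eq E, ← hq'2, ← hE.2 q' (hmaps q')]
  congr 1
  apply Subtype.ext
  change (WittVector.verschiebung (1 : WittVector p R)) •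
      exteriorPower.ιMulti (WittVector p R) r (Function.update (fun j => (q j : P)) i x) =
    exteriorPower.ιMulti (WittVector p R) r (fun j => ((q' j : D.Q) : P))
  rw [hq'1, AlternatingMap.map_update_smul]

theorem universal (D : Display3n p R P) (r : ℕ)
    (E : Display3n p R (⋀[WittVector p R]^r P)) (hE : IsExtPow D r E)
    (P' : Type w) [AddCommGroup P'] [Module (WittVector p R) P'] (D' : Display3n p R P')
    (φ : P [⋀^Fin r]→ₗ[WittVector p R] P') (hφ : IsAltMult D D' φ) :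
    ∃! ψ : ⋀[WittVector p R]^r P →ₗ[WittVector p R] P',
      IsHom E D' ψ ∧ ψ.compAlternatingMap (exteriorPower.ιMulti (WittVector p R) r) = φ := by
  obtain ⟨ψ, hψdef⟩ : ∃ ψ : ⋀[WittVector p R]^r P →ₗ[WittVector p R] P',
      ψ = exteriorPower.alternatingMapLinearEquiv φ := ⟨_, rfl⟩
  have hcomp : ψ.compAlternatingMap (exteriorPower.ιMulti (WittVector p R) r) = φ := by
    rw [hψdef]
    exact exteriorPower.alternatingMapLinearEquiv_comp_ιMulti φ
  have hψι : ∀ v : Fin r → P, ψ (exteriorPower.ιMulti (WittVector p R) r v) = φ v := by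
    intro v
    rw [hψdef]
    exact exteriorPower.alternatingMapLinearEquiv_apply_ιMulti φ v
  have hmaps : ∀ y : ⋀[WittVector p R]^r P, y ∈ E.Q → ψ y ∈ D'.Q := by
    have h1 : E.Q ≤ D'.Q.comap ψ := by
      rw [hE.1]
      refine Submodule.span_le.mpr ?_
      rintro _ ⟨q, rfl⟩
      change ψ (exteriorPower.ιMulti (WittVector p R) r (fun i => (q i : P))) ∈ D'.Q
      rw [hψι]
      exact hφ.mapsTo q
    exact fun y hy => h1 hy
  have hVinv : ∀ y : E.Q, ψ (E.Vinv y) = D'.Vinv ⟨ψ y, hmaps y y.2⟩ := by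
    rintro ⟨y, hy⟩
    have hy' : y ∈ Submodule.span (WittVector p R)
        (Set.range fun q : Fin r → D.Q =>
          exteriorPower.ιMulti (WittVector p R) r (fun i => (q i : P))) := hE.1 ▸ hy
    have key : ∀ (hy : y ∈ E.Q), ψ (E.Vinv ⟨y, hy⟩) = D'.Vinv ⟨ψ y, hmaps y hy⟩ := by
      refine Submodule.span_induction
        (p := fun y _ => ∀ (hy : y ∈ E.Q), ψ (E.Vinv ⟨y, hy⟩) = D'.Vinv ⟨ψ y, hmaps y hy⟩)
        ?_ ?_ ?_ ?_ hy'
      · rintro _ ⟨q, rfl⟩ hq
        change ψ (E.Vinv ⟨exteriorPower.ιMulti (WittVector p R) r (fun i => (q i : P)), hq⟩) = _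
        rw [hE.2 q hq, hψι, ← hφ.vCond q]
        congr 1
        apply Subtype.ext
        exact (hψι _).symm
      · intro h0
        have e1 : (⟨0, h0⟩ : E.Q) = 0 := rfl
        have e2 : (⟨ψ 0, hmaps 0 h0⟩ : D'.Q) = 0 := Subtype.ext (map_zero ψ)
        rw [e1, e2, map_zero, map_zero, map_zero]
      · intro y₁ y₂ h₁ h₂ ih₁ ih₂ h12
        have m₁ : y₁ ∈ E.Q := hE.1 ▸ h₁
        have m₂ : y₂ ∈ E.Q := hE.1 ▸ h₂
        have e1 : (⟨y₁ + y₂, h12⟩ : E.Q) = ⟨y₁, m₁⟩ + ⟨y₂, m₂⟩ := rfl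
        have e2 : (⟨ψ (y₁ + y₂), hmaps _ h12⟩ : D'.Q) =
            ⟨ψ y₁, hmaps _ m₁⟩ + ⟨ψ y₂, hmaps _ m₂⟩ := Subtype.ext (map_add ψ y₁ y₂)
        rw [e1, e2, map_add, map_add, map_add, ih₁ m₁, ih₂ m₂]
      · intro c y₁ h₁ ih₁ hc
        have m₁ : y₁ ∈ E.Q := hE.1 ▸ h₁
        have e1 : (⟨c • y₁, hc⟩ : E.Q) = c • ⟨y₁, m₁⟩ := rfl
        have e2 : (⟨ψ (c • y₁), hmaps _ hc⟩ : D'.Q) = c • ⟨ψ y₁, hmaps _ m₁⟩ :=
          Subtype.ext (map_smul ψ c y₁)
        rw [e1, e2, LinearMap.map_smulₛₗ E.Vinv, LinearMap.map_smulₛₗ D'.Vinv,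
          LinearMap.map_smul ψ, ih₁ m₁]
    exact key hy
  have hF : ∀ x : ⋀[WittVector p R]^r P, ψ (E.F x) = D'.F (ψ x) := by
    intro x
    rw [F_eq E, hVinv, F_eq D']
    congr 1
    apply Subtype.ext
    exact map_smul ψ _ x
  refine ⟨ψ, ⟨⟨hmaps, hF, hVinv⟩, hcomp⟩, ?_⟩
  rintro ψ' ⟨_, hψ'⟩
  apply exteriorPower.linearMap_ext
  rw [hψ', hcomp]

end Groth.Agent.H74.ExtPowUniv
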