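import Mathlib
import Groth.Prelude.Def_W4c1extbt610Disp
import Groth.Agent.H74.DispMk
import Groth.Agent.H74.ExtPowUniv

/-! Existence and uniqueness of the exterior power of a 3n-display with tangent module of rank one. -/

set_option autoImplicit false
set_option maxHeartbeats 400000
universe u v w

namespace Groth.Agent.H74.ExtPowDisp

open W4c1extbt610

theorem comp_update {α β : Type*} {r : ℕ} [DecidableEq (Fin r)] (φ : α → β) (v : Fin r → α)
    (i : Fin r) (z : α) :
    (fun j => φ (Function.update v i z j)) = Function.update (fun j => φ (v j)) i (φ z) := by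
  funext j
  by_cases hj : j = i
  · subst hj; simp
  · simp [Function.update_of_ne hj]

section SemiExt

variable {A : Type u} [CommRing A] (τ : A →+* A) {M : Type v} {N : Type w}
  [AddCommGroup M] [Module A M] [AddCommGroup N] [Module A N]

/-- `N` with scalars acting through `τ`. -/
def Tw (_τ : A →+* A) (N : Type w) : Type w := N

instance : AddCommGroup (Tw τ N) := inferInstanceAs (AddCommGroup N)
instance : Module A (Tw τ N) := (Module.compHom N τ : Module A N)

/-- wedge of the images under a semilinear map, as an alternating map into the twisted module -/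
noncomputable def altSemi (r : ℕ) (φ : M →ₛₗ[τ] N) : M [⋀^Fin r]→ₗ[A] Tw τ (⋀[A]^r N) where
  toFun v := (exteriorPower.ιMulti A r (fun i => φ (v i)) : ⋀[A]^r N)
  map_update_add' := by
    intro _ v i x y
    show (exteriorPower.ιMulti A r (fun j => φ (Function.update v i (x + y) j)) : ⋀[A]^r N) =
      exteriorPower.ιMulti A r (fun j => φ (Function.update v i x j)) +
        exteriorPower.ιMulti A r (fun j => φ (Function.update v i y j))
    rw [comp_update (⇑φ) v i (x + y), comp_update (⇑φ) v i x, comp_update (⇑φ) v i y, map_add,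
      AlternatingMap.map_update_add]
  map_update_smul' := by
    intro _ v i c x
    show (exteriorPower.ιMulti A r (fun j => φ (Function.update v i (c • x) j)) : ⋀[A]^r N) =
      τ c • (exteriorPower.ιMulti A r (fun j => φ (Function.update v i x j)) : ⋀[A]^r N)
    rw [comp_update (⇑φ) v i (c • x), comp_update (⇑φ) v i x, map_smulₛₗ,
      AlternatingMap.map_update_smul]
  map_eq_zero_of_eq' := by
    intro v i j h hij
    exact (exteriorPower.ιMulti A r).map_eq_zero_of_eq _ (congrArg φ h) hij

/-- the exterior power of a semilinear map -/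
noncomputable def semiExt (r : ℕ) (φ : M →ₛₗ[τ] N) : ⋀[A]^r M →ₛₗ[τ] ⋀[A]^r N where
  toFun x := (exteriorPower.alternatingMapLinearEquiv (altSemi τ r φ) x : Tw τ (⋀[A]^r N))
  map_add' x y := map_add (exteriorPower.alternatingMapLinearEquiv (altSemi τ r φ)) x y
  map_smul' a x := map_smul (exteriorPower.alternatingMapLinearEquiv (altSemi τ r φ)) a x

theorem semiExt_ιMulti (r : ℕ) (φ : M →ₛₗ[τ] N) (v : Fin r → M) :
    semiExt τ r φ (exteriorPower.ιMulti A r v) = exteriorPower.ιMulti A r (fun i => φ (v i)) :=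
  exteriorPower.alternatingMapLinearEquiv_apply_ιMulti (altSemi τ r φ) v

end SemiExt

theorem alt_expand {A : Type*} [CommRing A] {M N : Type*} [AddCommGroup M] [Module A M]
    [AddCommGroup N] [Module A N] {r : ℕ} (f : M [⋀^Fin r]→ₗ[A] N) (t : M)
    (c : Fin r → A) (a : Fin r → M) :
    f (fun i => a i + c i • t) = f a + ∑ i, c i • f (Function.update a i t) := by
  classical
  have key : ∀ (s : Finset (Fin r)) (a : Fin r → M),
      f (fun i => if i ∈ s then a i + c i • t else a i) =
        f a + ∑ i ∈ s, c i • f (Function.update a i t) := by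
    intro s
    induction s using Finset.induction_on with
    | empty =>
      intro a
      simp
    | insert j s hj ih =>
      intro a
      have e1 : (fun i => if i ∈ insert j s then a i + c i • t else a i) =
          Function.update (fun i => if i ∈ s then a i + c i • t else a i) j
            (a j + c j • t) := by
        funext i
        by_cases hij : i = j
        · subst hij
          simp
        · rw [Function.update_of_ne hij]
          simp [Finset.mem_insert, hij]
      have e2 : Function.update (fun i => if i ∈ s then a i + c i • t else a i) j (a j) =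
          (fun i => if i ∈ s then a i + c i • t else a i) := by
        funext i
        by_cases hij : i = j
        · subst hij
          simp [hj]
        · rw [Function.update_of_ne hij]
      have e3 : Function.update (fun i => if i ∈ s then a i + c i • t else a i) j t =
          (fun i => if i ∈ s then Function.update a j t i + c i • t
            else Function.update a j t i) := by
        funext i
        by_cases hij : i = j
        · subst hij
          simp [hj]
        · rw [Function.update_of_ne hij, Function.update_of_ne hij]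
      have e4 : ∀ i ∈ s, c i • f (Function.update (Function.update a j t) i t) = 0 := by
        intro i hi
        have hij : i ≠ j := fun h => hj (h ▸ hi)
        rw [f.map_eq_zero_of_eq _ (i := i) (j := j)
          (by simp [Function.update_of_ne hij.symm]) hij, smul_zero]
      rw [e1, f.map_update_add, f.map_update_smul, e2, e3, ih a, ih (Function.update a j t),
        Finset.sum_eq_zero e4, add_zero, Finset.sum_insert hj]
      abel
  have := key Finset.univ a
  simpa using this

theorem extPow_projective {A : Type*} [CommRing A] {M : Type*} [AddCommGroup M] [Module A M]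
    [Module.Finite A M] [Module.Projective A M] (r : ℕ) : Module.Projective A (⋀[A]^r M) := by
  obtain ⟨n, f, g, -, -, hfg⟩ := Module.Finite.exists_comp_eq_id_of_projective A M
  exact Module.Projective.of_split (exteriorPower.map r g) (exteriorPower.map r f)
    (by rw [← exteriorPower.map_comp, hfg, exteriorPower.map_id])

theorem normal_data {A : Type*} [CommRing A] {P : Type*} [AddCommGroup P] [Module A P]
    (L T : Submodule A P) (hLT : IsCompl L T) (e : T ≃ₗ[A] A) :
    ∃ (t : P) (τ : P →ₗ[A] A), t ∈ T ∧ τ t = 1 ∧ (∀ l ∈ L, τ l = 0) ∧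
      (∀ x, x - τ x • t ∈ L) ∧ (∀ y ∈ T, y = τ y • t) := by
  obtain ⟨πT, hπT⟩ : ∃ πT : P →ₗ[A] T, πT = T.projectionOnto L hLT.symm := ⟨_, rfl⟩
  have hπ1 : ∀ y : T, πT (y : P) = y := fun y => by
    rw [hπT]; exact Submodule.projectionOnto_apply_left hLT.symm y
  have hπ0 : ∀ l ∈ L, πT l = 0 := fun l hl => by
    rw [hπT]; exact Submodule.projectionOnto_apply_of_mem_right hLT.symm hl
  have hker : LinearMap.ker πT = L := by rw [hπT]; exact Submodule.ker_projectionOnto hLT.symm
  have hsm : ∀ x : P, (e (πT x)) • ((e.symm 1 : T) : P) = (πT x : P) := by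
    intro x
    rw [← Submodule.coe_smul, ← map_smul, smul_eq_mul, mul_one, LinearEquiv.symm_apply_apply]
  refine ⟨(e.symm 1 : T), e.toLinearMap.comp πT, (e.symm 1).2, ?_, ?_, ?_, ?_⟩
  · show e (πT (e.symm 1 : T)) = 1
    rw [hπ1, LinearEquiv.apply_symm_apply]
  · intro l hl
    show e (πT l) = 0
    rw [hπ0 l hl, map_zero]
  · intro x
    show x - e (πT x) • ((e.symm 1 : T) : P) ∈ L
    rw [hsm]
    have h2 : x - (πT x : P) ∈ LinearMap.ker πT := by
      rw [LinearMap.mem_ker, map_sub, hπ1, sub_self]
    rwa [hker] at h2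
  · intro y hy
    show y = e (πT y) • ((e.symm 1 : T) : P)
    rw [hsm]
    have h1 := hπ1 ⟨y, hy⟩
    change πT y = ⟨y, hy⟩ at h1
    rw [h1]

section Exist

variable {p : ℕ} [Fact p.Prime] {R : Type u} [CommRing R]
variable {P : Type v} [AddCommGroup P] [Module (WittVector p R) P]

local notation "σ" => (WittVector.frobenius : WittVector p R →+* WittVector p R)

theorem mem_Q_iff (D : Display3n p R P) (L T : Submodule (WittVector p R) P)
    (hQ : D.Q = L ⊔ IV p R • T) (t : P) (τ : P →ₗ[WittVector p R] WittVector p R)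
    (ht : t ∈ T) (hτL : ∀ l ∈ L, τ l = 0) (hL : ∀ x, x - τ x • t ∈ L) (x : P) :
    x ∈ D.Q ↔ τ x ∈ IV p R := by
  rw [hQ]
  constructor
  · intro hx
    obtain ⟨l, hl, y, hy, rfl⟩ := Submodule.mem_sup.mp hx
    rw [map_add, hτL l hl, zero_add]
    refine Submodule.smul_induction_on hy ?_ ?_
    · intro ξ hξ t' _
      rw [map_smul, smul_eq_mul]
      exact Ideal.mul_mem_right _ _ hξ
    · intro a b ha hb
      rw [map_add]
      exact Ideal.add_mem _ ha hb
  · intro hx
    have h1 : x = (x - τ x • t) + τ x • t := by abel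
    rw [h1]
    exact Submodule.add_mem_sup (hL x) (Submodule.smul_mem_smul hx ht)

theorem exists_extPow (D : Display3n p R P) (t : P)
    (τ : P →ₗ[WittVector p R] WittVector p R)
    (hτt : τ t = 1) (hQ : ∀ x, x ∈ D.Q ↔ τ x ∈ IV p R) (r : ℕ) :
    ∃ E : Display3n p R (⋀[WittVector p R]^r P), IsExtPow D r E := by
  classical
  haveI := D.finite
  haveI := D.projective
  haveI : Module.Projective (WittVector p R) (⋀[WittVector p R]^r P) := extPow_projective r
  obtain ⟨eT, heT⟩ : ∃ eT : P →ₗ[WittVector p R] P, ∀ x, eT x = τ x • t :=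
    ⟨τ.smulRight t, fun x => rfl⟩
  obtain ⟨eL, heL⟩ : ∃ eL : P →ₗ[WittVector p R] P, ∀ x, eL x = x - τ x • t :=
    ⟨LinearMap.id - τ.smulRight t, fun x => rfl⟩
  have hτL : ∀ x, τ (eL x) = 0 := by
    intro x
    rw [heL, map_sub, map_smul, hτt, smul_eq_mul, mul_one, sub_self]
  have heLQ : ∀ x, eL x ∈ D.Q := fun x => (hQ _).mpr (by rw [hτL]; exact zero_mem _)
  have heLL : ∀ x, eL (eL x) = eL x := by
    intro x
    rw [heL (eL x), hτL, zero_smul, sub_zero]
  have heLt : eL t = 0 := by rw [heL, hτt, one_smul, sub_self]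
  have hdecomp : ∀ x, x = eL x + τ x • t := by intro x; rw [heL]; abel
  obtain ⟨Φ, hΦ⟩ : ∃ Φ : P →ₛₗ[σ] P, ∀ x, Φ x = D.Vinv ⟨eL x, heLQ x⟩ + D.F (eT x) :=
    ⟨D.Vinv.comp (eL.codRestrict D.Q heLQ) + D.F.comp eT, fun x => rfl⟩
  have hΦt : Φ t = D.F t := by
    have e : (⟨eL t, heLQ t⟩ : D.Q) = 0 := Subtype.ext heLt
    rw [hΦ, e, map_zero, zero_add, heT, hτt, one_smul]
  have hΦL : ∀ x, Φ (eL x) = D.Vinv ⟨eL x, heLQ x⟩ := by
    intro x
    have e : (⟨eL (eL x), heLQ (eL x)⟩ : D.Q) = ⟨eL x, heLQ x⟩ := Subtype.ext (heLL x)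
    rw [hΦ, e, heT, hτL, zero_smul, map_zero, add_zero]
  have hmemVt : ∀ w : WittVector p R, WittVector.verschiebung w • t ∈ D.Q := fun w =>
    D.IV_smul_le (Submodule.smul_mem_smul (verschiebung_mem_IV p R w) Submodule.mem_top)
  have key : ∀ (q : D.Q) (w : WittVector p R), τ (q : P) = WittVector.verschiebung w →
      D.Vinv q = Φ (eL q) + w • Φ t := by
    intro q w hw
    have e : q = ⟨eL q, heLQ q⟩ + ⟨WittVector.verschiebung w • t, hmemVt w⟩ := by
      apply Subtype.ext
      show (q : P) = eL q + WittVector.verschiebung w • t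
      rw [← hw]
      exact hdecomp q
    conv_lhs => rw [e]
    rw [map_add, D.Vinv_verschiebung_smul w t, hΦL, hΦt]
  have hΦspan : Submodule.span (WittVector p R) (Set.range Φ) = ⊤ := by
    rw [eq_top_iff, ← D.span_range_Vinv, Submodule.span_le]
    rintro _ ⟨q, rfl⟩
    obtain ⟨w, hw⟩ := DispMk.exists_verschiebung_eq (τ (q : P)) ((hQ _).mp q.2)
    rw [SetLike.mem_coe, key q w hw.symm]
    exact add_mem (Submodule.subset_span ⟨_, rfl⟩)
      (Submodule.smul_mem _ _ (Submodule.subset_span ⟨_, rfl⟩))
  obtain ⟨eL', heL'⟩ : ∃ eL' : ⋀[WittVector p R]^r P →ₗ[WittVector p R] ⋀[WittVector p R]^r P,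
      eL' = exteriorPower.map r eL := ⟨_, rfl⟩
  have heL'ι : ∀ v : Fin r → P, eL' (exteriorPower.ιMulti (WittVector p R) r v) =
      exteriorPower.ιMulti (WittVector p R) r (fun i => eL (v i)) := by
    intro v
    rw [heL', exteriorPower.map_apply_ιMulti]
    rfl
  have hLL' : ∀ x, eL' (eL' x) = eL' x := by
    intro x
    have h1 : eL ∘ₗ eL = eL := LinearMap.ext heLL
    rw [heL', ← LinearMap.comp_apply, ← exteriorPower.map_comp, h1]
  obtain ⟨Φr, hΦrι⟩ : ∃ Φr : ⋀[WittVector p R]^r P →ₛₗ[σ] ⋀[WittVector p R]^r P,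
      ∀ v : Fin r → P, Φr (exteriorPower.ιMulti (WittVector p R) r v) =
        exteriorPower.ιMulti (WittVector p R) r (fun i => Φ (v i)) :=
    ⟨semiExt σ r Φ, fun v => semiExt_ιMulti σ r Φ v⟩
  have hΦrspan : Submodule.span (WittVector p R) (Set.range Φr) = ⊤ := by
    rw [eq_top_iff, ← exteriorPower.ιMulti_span_of_span (WittVector p R) r P hΦspan,
      Submodule.span_le]
    rintro _ ⟨a, ha, rfl⟩
    have ha' : ∀ i, ∃ u, Φ u = a i := fun i => ha ⟨i, rfl⟩
    choose u hu using ha'
    refine Submodule.subset_span ⟨exteriorPower.ιMulti (WittVector p R) r u, ?_⟩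
    rw [hΦrι]
    congr 1
    funext i
    exact hu i
  obtain ⟨Qr, hQr⟩ : ∃ Qr : Submodule (WittVector p R) (⋀[WittVector p R]^r P),
      Qr = Submodule.span (WittVector p R)
        (Set.range fun q : Fin r → D.Q =>
          exteriorPower.ιMulti (WittVector p R) r (fun i => (q i : P))) := ⟨_, rfl⟩
  have hgen : ∀ v : Fin r → P, (∀ i, v i ∈ D.Q) →
      exteriorPower.ιMulti (WittVector p R) r v ∈ Qr := by
    intro v hv
    rw [hQr]
    exact Submodule.subset_span ⟨fun i => ⟨v i, hv i⟩, rfl⟩
  have hexp : ∀ v : Fin r → P, exteriorPower.ιMulti (WittVector p R) r v =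
      exteriorPower.ιMulti (WittVector p R) r (fun i => eL (v i)) +
        ∑ i, τ (v i) • exteriorPower.ιMulti (WittVector p R) r
          (Function.update (fun j => eL (v j)) i t) := by
    intro v
    have h1 := alt_expand (exteriorPower.ιMulti (WittVector p R) r) t (fun i => τ (v i))
      (fun i => eL (v i))
    rw [← h1]
    congr 1
    funext i
    exact hdecomp (v i)
  have hQ2 : ∀ x, eL' x ∈ Qr := by
    intro x
    have h1 : (⊤ : Submodule (WittVector p R) (⋀[WittVector p R]^r P)) ≤
        Submodule.comap eL' Qr := by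
      rw [← exteriorPower.ιMulti_span, Submodule.span_le]
      rintro _ ⟨v, rfl⟩
      rw [SetLike.mem_coe, Submodule.mem_comap, heL'ι]
      exact hgen _ (fun i => heLQ (v i))
    exact h1 Submodule.mem_top
  have hQ3 : IV p R • (⊤ : Submodule (WittVector p R) (⋀[WittVector p R]^r P)) ≤ Qr := by
    refine Submodule.smul_le.mpr (fun ξ hξ x _ => ?_)
    have h1 : (⊤ : Submodule (WittVector p R) (⋀[WittVector p R]^r P)) ≤
        Submodule.comap (ξ • (LinearMap.id :
          ⋀[WittVector p R]^r P →ₗ[WittVector p R] ⋀[WittVector p R]^r P)) Qr := by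
      rw [← exteriorPower.ιMulti_span, Submodule.span_le]
      rintro _ ⟨v, rfl⟩
      rw [SetLike.mem_coe, Submodule.mem_comap]
      show ξ • exteriorPower.ιMulti (WittVector p R) r v ∈ Qr
      rw [hexp v, smul_add, Finset.smul_sum]
      refine add_mem (Submodule.smul_mem _ _ (hgen _ (fun i => heLQ (v i))))
        (Submodule.sum_mem _ (fun i _ => ?_))
      rw [smul_comm, ← AlternatingMap.map_update_smul]
      refine Submodule.smul_mem _ _ (hgen _ (fun j => ?_))
      by_cases hj : j = i
      · subst hj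
        rw [Function.update_self]
        exact (hQ _).mpr (by rw [map_smul, hτt, smul_eq_mul, mul_one]; exact hξ)
      · rw [Function.update_of_ne hj]
        exact heLQ (v j)
    exact h1 Submodule.mem_top
  have hQ1 : ∀ x ∈ Qr, x - eL' x ∈
      IV p R • (⊤ : Submodule (WittVector p R) (⋀[WittVector p R]^r P)) := by
    intro x hx
    have h1 : Qr ≤ Submodule.comap (LinearMap.id - eL')
        (IV p R • (⊤ : Submodule (WittVector p R) (⋀[WittVector p R]^r P))) := by
      rw [hQr, Submodule.span_le]
      rintro _ ⟨q, rfl⟩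
      rw [SetLike.mem_coe, Submodule.mem_comap]
      have h2 : (LinearMap.id - eL' : ⋀[WittVector p R]^r P →ₗ[WittVector p R]
          ⋀[WittVector p R]^r P) (exteriorPower.ιMulti (WittVector p R) r
          (fun i => (q i : P))) = ∑ i, τ (q i : P) • exteriorPower.ιMulti (WittVector p R) r
          (Function.update (fun j => eL (q j : P)) i t) := by
        show exteriorPower.ιMulti (WittVector p R) r (fun i => (q i : P)) -
          eL' (exteriorPower.ιMulti (WittVector p R) r (fun i => (q i : P))) = _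
        rw [heL'ι]
        exact sub_eq_of_eq_add' (hexp (fun i => (q i : P)))
      rw [h2]
      exact Submodule.sum_mem _ (fun i _ =>
        Submodule.smul_mem_smul ((hQ _).mp (q i).2) Submodule.mem_top)
    exact h1 hx
  obtain ⟨E, hEQ, -, hEV⟩ := DispMk.exists_display eL' hLL' Φr hΦrspan Qr hQ1 hQ2 hQ3
  refine ⟨E, hEQ.trans hQr, ?_⟩
  intro q hq
  have hw' : ∀ i, ∃ w : WittVector p R, WittVector.verschiebung w = τ (q i : P) :=
    fun i => DispMk.exists_verschiebung_eq (τ (q i : P)) ((hQ _).mp (q i).2)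
  choose w hw using hw'
  have h1 : exteriorPower.ιMulti (WittVector p R) r (fun i => (q i : P)) -
      eL' (exteriorPower.ιMulti (WittVector p R) r (fun i => (q i : P))) =
      ∑ i, WittVector.verschiebung (w i) • exteriorPower.ιMulti (WittVector p R) r
        (Function.update (fun j => eL (q j : P)) i t) := by
    rw [heL'ι]
    refine sub_eq_of_eq_add' ?_
    rw [hexp (fun i => (q i : P))]
    congr 1
    exact Finset.sum_congr rfl (fun i _ => by rw [hw i])
  rw [hEV _ hq r w _ h1, heL'ι, hΦrι]
  have h2 : ∀ i, Φr (exteriorPower.ιMulti (WittVector p R) r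
      (Function.update (fun j => eL (q j : P)) i t)) =
      exteriorPower.ιMulti (WittVector p R) r
        (Function.update (fun j => Φ (eL (q j : P))) i (Φ t)) := by
    intro i
    rw [hΦrι, comp_update (⇑Φ) _ i t]
  rw [Finset.sum_congr rfl (fun i _ => by rw [h2 i])]
  have h3 := alt_expand (exteriorPower.ιMulti (WittVector p R) r) (Φ t) w
    (fun i => Φ (eL (q i : P)))
  rw [← h3]
  congr 1
  funext i
  exact (key (q i) (w i) (hw i).symm).symm

theorem display_ext {M : Type v} [AddCommGroup M] [Module (WittVector p R) M]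
    (E E' : Display3n p R M) (hQ : E.Q = E'.Q)
    (hV : ∀ (x : M) (hx : x ∈ E.Q) (hx' : x ∈ E'.Q), E.Vinv ⟨x, hx⟩ = E'.Vinv ⟨x, hx'⟩) :
    E = E' := by
  have hF : E.F = E'.F := by
    apply LinearMap.ext
    intro x
    rw [ExtPowUniv.F_eq E x, ExtPowUniv.F_eq E' x]
    exact hV _ _ _
  obtain ⟨Q, F, Vinv, fin, proj, hIV, hnorm, hspan, hVv⟩ := E
  obtain ⟨Q', F', Vinv', fin', proj', hIV', hnorm', hspan', hVv'⟩ := E'
  have hQ' : Q = Q' := hQ
  subst hQ'
  have hF' : F = F' := hF
  subst hF'
  have hVV : Vinv = Vinv' := LinearMap.ext (fun x => hV x.1 x.2 x.2)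
  subst hVV
  rfl

theorem extPow_unique (D : Display3n p R P) (r : ℕ)
    (E E' : Display3n p R (⋀[WittVector p R]^r P))
    (hE : IsExtPow D r E) (hE' : IsExtPow D r E') : E' = E := by
  apply display_ext E' E (hE'.1.trans hE.1.symm)
  intro x hx' hx
  have hx0 : x ∈ Submodule.span (WittVector p R)
      (Set.range fun q : Fin r → D.Q =>
        exteriorPower.ιMulti (WittVector p R) r (fun i => (q i : P))) := by
    rw [← hE.1]; exact hx
  have key : ∀ y ∈ Submodule.span (WittVector p R)
      (Set.range fun q : Fin r → D.Q =>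
        exteriorPower.ιMulti (WittVector p R) r (fun i => (q i : P))),
      ∀ (h' : y ∈ E'.Q) (h : y ∈ E.Q), E'.Vinv ⟨y, h'⟩ = E.Vinv ⟨y, h⟩ := by
    intro y hy
    induction hy using Submodule.span_induction with
    | mem y hy =>
      obtain ⟨q, rfl⟩ := hy
      intro h' h
      exact (hE'.2 q h').trans (hE.2 q h).symm
    | zero =>
      intro h' h
      have e1 : (⟨0, h'⟩ : E'.Q) = 0 := rfl
      have e2 : (⟨0, h⟩ : E.Q) = 0 := rfl
      rw [e1, e2, map_zero, map_zero]
    | add a b ha hb iha ihb =>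
      intro h' h
      have ha' : a ∈ E'.Q := by rw [hE'.1]; exact ha
      have hb' : b ∈ E'.Q := by rw [hE'.1]; exact hb
      have ha0 : a ∈ E.Q := by rw [hE.1]; exact ha
      have hb0 : b ∈ E.Q := by rw [hE.1]; exact hb
      have e1 : (⟨a + b, h'⟩ : E'.Q) = ⟨a, ha'⟩ + ⟨b, hb'⟩ := rfl
      have e2 : (⟨a + b, h⟩ : E.Q) = ⟨a, ha0⟩ + ⟨b, hb0⟩ := rfl
      rw [e1, e2, map_add, map_add, iha ha' ha0, ihb hb' hb0]
    | smul c a ha iha =>
      intro h' h
      have ha' : a ∈ E'.Q := by rw [hE'.1]; exact ha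
      have ha0 : a ∈ E.Q := by rw [hE.1]; exact ha
      have e1 : (⟨c • a, h'⟩ : E'.Q) = c • ⟨a, ha'⟩ := rfl
      have e2 : (⟨c • a, h⟩ : E.Q) = c • ⟨a, ha0⟩ := rfl
      rw [e1, e2, map_smulₛₗ, map_smulₛₗ, iha ha' ha0]
  exact key x hx0 hx' hx

theorem main (D : Display3n p R P)
    (hT : ∃ L T : Submodule (WittVector p R) P, IsCompl L T ∧ D.Q = L ⊔ IV p R • T ∧
      Nonempty (T ≃ₗ[WittVector p R] WittVector p R))
    (r : ℕ) :
    ∃ E : Display3n p R (⋀[WittVector p R]^r P), IsExtPow D r E ∧
      ∀ E' : Display3n p R (⋀[WittVector p R]^r P), IsExtPow D r E' → E' = E := by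
  obtain ⟨L, T, hLT, hQ, ⟨e⟩⟩ := hT
  obtain ⟨t, τ, ht, hτt, hτL, hL, -⟩ := normal_data L T hLT e
  obtain ⟨E, hE⟩ := exists_extPow D t τ hτt (mem_Q_iff D L T hQ t τ ht hτL hL) r
  exact ⟨E, hE, fun E' hE' => extPow_unique D r E E' hE hE'⟩

end Exist

end Groth.Agent.H74.ExtPowDisp
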