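import Mathlib
import Groth.Prelude.Def_W4c1extbt610Disp
import Groth.Agent.H74.ExtPowDisp

/-! The rank of the tangent module of the exterior power of a 3n-display. -/

set_option autoImplicit false
set_option maxHeartbeats 400000
universe u v w

namespace Groth.Agent.H74.ExtPowRank

open W4c1extbt610 Module

/-- counting `(k+1)`-subsets of `Option α` containing `none` -/
theorem card_none_mem {α : Type*} (k : ℕ) :
    Nat.card {s : Set.powersetCard (Option α) (k + 1) // none ∈ s} = (Nat.card α).choose k := by
  classical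
  rw [← Set.powersetCard.card α k]
  apply Nat.card_congr
  have hcard : ∀ s : Finset (Option α), none ∈ s →
      s.card = (Finset.eraseNone s).card + 1 := by
    intro s hs
    have h := Finset.card_insertNone (Finset.eraseNone s)
    rw [Finset.insertNone_eraseNone, Finset.insert_eq_of_mem hs] at h
    exact h
  refine
    { toFun := fun s => ⟨Finset.eraseNone s.1.1, ?_⟩
      invFun := fun u => ⟨⟨Finset.insertNone u.1, ?_⟩, ?_⟩
      left_inv := ?_
      right_inv := ?_ }
  · rw [Set.powersetCard.mem_iff]
    have h1 := hcard s.1.1 s.2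
    have h2 : s.1.1.card = k + 1 := Set.powersetCard.mem_iff.mp s.1.2
    omega
  · rw [Set.powersetCard.mem_iff, Finset.card_insertNone]
    have h2 : u.1.card = k := Set.powersetCard.mem_iff.mp u.2
    omega
  · exact Finset.none_mem_insertNone
  · intro s
    apply Subtype.ext
    apply Subtype.ext
    show Finset.insertNone (Finset.eraseNone s.1.1) = s.1.1
    rw [Finset.insertNone_eraseNone, Finset.insert_eq_of_mem s.2]
  · intro u
    apply Subtype.ext
    show Finset.eraseNone (Finset.insertNone u.1) = u.1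
    rw [Finset.eraseNone_insertNone]

section

variable {p : ℕ} [Fact p.Prime] {R : Type u} [CommRing R]
variable {P : Type v} [AddCommGroup P] [Module (WittVector p R) P]

theorem main_aux [Nontrivial (WittVector p R)] (D : Display3n p R P) (m : ℕ)
    [LinearOrder (Option (Fin m))]
    (L T : Submodule (WittVector p R) P) (hQ : D.Q = L ⊔ IV p R • T)
    (c : Basis (Option (Fin m)) (WittVector p R) P)
    (hcL : ∀ j : Fin m, c (some j) ∈ L) (hcT : c none ∈ T)
    (hb : ∀ l ∈ L, c.repr l none = 0)
    (hT1 : ∀ y ∈ T, ∃ a : WittVector p R, y = a • c none)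
    (k : ℕ) (E : Display3n p R (⋀[WittVector p R]^(k + 1) P)) (hE : IsExtPow D (k + 1) E) :
    ∃ L' T' : Submodule (WittVector p R) (⋀[WittVector p R]^(k + 1) P), IsCompl L' T' ∧
      E.Q = L' ⊔ IV p R • T' ∧ Module.Free (WittVector p R) T' ∧
      Module.finrank (WittVector p R) T' = m.choose k := by
  classical
  obtain ⟨t, ht⟩ : ∃ t : P, t = c none := ⟨_, rfl⟩
  obtain ⟨B, hB⟩ : ∃ B : Basis (Set.powersetCard (Option (Fin m)) (k + 1)) (WittVector p R)
      (⋀[WittVector p R]^(k + 1) P), B = c.exteriorPower (k + 1) := ⟨_, rfl⟩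
  obtain ⟨S1, hS1⟩ : ∃ S1 : Set (Set.powersetCard (Option (Fin m)) (k + 1)),
      S1 = {s | none ∈ s} := ⟨_, rfl⟩
  have hLQ : L ≤ D.Q := by rw [hQ]; exact le_sup_left
  have hITQ : IV p R • T ≤ D.Q := by rw [hQ]; exact le_sup_right
  have hcQ : ∀ i : Option (Fin m), i ≠ none → c i ∈ D.Q := by
    intro i hi
    cases i with
    | none => exact absurd rfl hi
    | some j => exact hLQ (hcL j)
  -- every element of `Q` is `l + ξ • t`
  have hQdec : ∀ q ∈ D.Q, ∃ l ∈ L, ∃ ξ ∈ IV p R, q = l + ξ • t := by
    intro q hq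
    rw [hQ] at hq
    obtain ⟨l, hl, y, hy, rfl⟩ := Submodule.mem_sup.mp hq
    refine ⟨l, hl, ?_⟩
    have h1 : ∃ ξ ∈ IV p R, y = ξ • t := by
      refine Submodule.smul_induction_on hy ?_ ?_
      · intro ξ hξ t' ht'
        obtain ⟨a, rfl⟩ := hT1 t' ht'
        exact ⟨ξ * a, Ideal.mul_mem_right _ _ hξ, by rw [mul_smul, ht]⟩
      · rintro y₁ y₂ ⟨ξ₁, h₁, rfl⟩ ⟨ξ₂, h₂, rfl⟩
        exact ⟨ξ₁ + ξ₂, Ideal.add_mem _ h₁ h₂, by rw [add_smul]⟩
    obtain ⟨ξ, hξ, rfl⟩ := h1
    exact ⟨ξ, hξ, rfl⟩
  have hgen : ∀ v : Fin (k + 1) → P, (∀ i, v i ∈ D.Q) →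
      exteriorPower.ιMulti (WittVector p R) (k + 1) v ∈ E.Q := by
    intro v hv
    rw [hE.1]
    exact Submodule.subset_span ⟨fun i => ⟨v i, hv i⟩, rfl⟩
  have hBs : ∀ s, B s = exteriorPower.ιMulti (WittVector p R) (k + 1)
      (fun j => c (Set.powersetCard.ofFinEmbEquiv.symm s j)) := by
    intro s
    rw [hB, exteriorPower.basis_apply]
    rfl
  have hrepr : ∀ (v : Fin (k + 1) → P) (s : Set.powersetCard (Option (Fin m)) (k + 1)),
      B.repr (exteriorPower.ιMulti (WittVector p R) (k + 1) v) s =
        (Matrix.of fun i j => c.repr (v i) (Set.powersetCard.ofFinEmbEquiv.symm s j)).det := by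
    intro v s
    rw [hB, exteriorPower.basis_repr_apply, exteriorPower.ιMultiDual_apply_ιMulti]
    rfl
  have hcoordL : ∀ l : Fin (k + 1) → P, (∀ i, l i ∈ L) →
      exteriorPower.ιMulti (WittVector p R) (k + 1) l ∈
        Submodule.span (WittVector p R) (B '' S1ᶜ) := by
    intro l hl
    rw [B.mem_span_image]
    intro s hs
    rw [Finset.mem_coe, Finsupp.mem_support_iff] at hs
    rw [Set.mem_compl_iff, hS1, Set.mem_setOf_eq]
    intro hmem
    apply hs
    rw [hrepr]
    obtain ⟨k', hk'⟩ := (Set.powersetCard.mem_range_ofFinEmbEquiv_symm_iff_mem s none).mpr hmem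
    apply Matrix.det_eq_zero_of_column_eq_zero k'
    intro i
    rw [Matrix.of_apply, hk']
    exact hb (l i) (hl i)
  have hcoordT : ∀ (l : Fin (k + 1) → P) (i₁ : Fin (k + 1)),
      exteriorPower.ιMulti (WittVector p R) (k + 1) (Function.update l i₁ t) ∈
        Submodule.span (WittVector p R) (B '' S1) := by
    intro l i₁
    rw [B.mem_span_image]
    intro s hs
    rw [Finset.mem_coe, Finsupp.mem_support_iff] at hs
    rw [hS1, Set.mem_setOf_eq]
    by_contra hmem
    apply hs
    rw [hrepr]
    apply Matrix.det_eq_zero_of_row_eq_zero i₁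
    intro j
    rw [Matrix.of_apply, Function.update_self, ht, Basis.repr_self, Finsupp.single_apply,
      if_neg]
    intro h
    exact hmem ((Set.powersetCard.mem_range_ofFinEmbEquiv_symm_iff_mem s none).mp ⟨j, h.symm⟩)
  have hli : LinearIndependent (WittVector p R) (B ∘ (Subtype.val : S1 → _)) :=
    B.linearIndependent.comp _ Subtype.val_injective
  have hrange : Set.range (B ∘ (Subtype.val : S1 → _)) = B '' S1 := by
    rw [Set.range_comp, Subtype.range_coe]
  refine ⟨Submodule.span (WittVector p R) (B '' S1ᶜ),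
    Submodule.span (WittVector p R) (Set.range (B ∘ (Subtype.val : S1 → _))), ?_, ?_,
    Module.Free.of_basis (Basis.span hli), ?_⟩
  · rw [hrange]
    constructor
    · exact B.linearIndependent.disjoint_span_image disjoint_compl_left
    · rw [codisjoint_iff, ← Submodule.span_union, ← Set.image_union, Set.compl_union_self,
        Set.image_univ, B.span_eq]
  · rw [hrange]
    apply le_antisymm
    · rw [hE.1, Submodule.span_le]
      rintro _ ⟨q, rfl⟩
      have h1 : ∀ i, ∃ l ∈ L, ∃ ξ ∈ IV p R, (q i : P) = l + ξ • t := fun i => hQdec _ (q i).2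
      choose l hl ξ hξ hq using h1
      have h2 : (fun i => (q i : P)) = fun i => l i + ξ i • t := funext hq
      rw [SetLike.mem_coe]
      show exteriorPower.ιMulti (WittVector p R) (k + 1) (fun i => (q i : P)) ∈ _
      rw [h2, ExtPowDisp.alt_expand]
      refine Submodule.add_mem_sup (hcoordL l hl) (Submodule.sum_mem _ (fun i _ => ?_))
      exact Submodule.smul_mem_smul (hξ i) (hcoordT l i)
    · refine sup_le ?_ ?_
      · rw [Submodule.span_le]
        rintro _ ⟨s, hs, rfl⟩
        rw [hS1, Set.mem_compl_iff, Set.mem_setOf_eq] at hs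
        rw [SetLike.mem_coe, hBs]
        refine hgen _ (fun j => hcQ _ ?_)
        intro h
        exact hs ((Set.powersetCard.mem_range_ofFinEmbEquiv_symm_iff_mem s none).mp ⟨j, h⟩)
      · refine Submodule.smul_le.mpr (fun ζ hζ n hn => ?_)
        induction hn using Submodule.span_induction with
        | mem n hn =>
          obtain ⟨s, hs, rfl⟩ := hn
          rw [hS1, Set.mem_setOf_eq] at hs
          obtain ⟨k', hk'⟩ :=
            (Set.powersetCard.mem_range_ofFinEmbEquiv_symm_iff_mem s none).mpr hs
          rw [hBs]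
          have h1 : ζ • exteriorPower.ιMulti (WittVector p R) (k + 1)
              (fun j => c (Set.powersetCard.ofFinEmbEquiv.symm s j)) =
              exteriorPower.ιMulti (WittVector p R) (k + 1)
                (Function.update (fun j => c (Set.powersetCard.ofFinEmbEquiv.symm s j)) k'
                  (ζ • t)) := by
            rw [AlternatingMap.map_update_smul, ht, ← hk', Function.update_eq_self]
          rw [h1]
          refine hgen _ (fun j => ?_)
          by_cases hj : j = k'
          · subst hj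
            rw [Function.update_self]
            exact hITQ (Submodule.smul_mem_smul hζ (ht ▸ hcT))
          · rw [Function.update_of_ne hj]
            refine hcQ _ ?_
            intro h
            exact hj ((Set.powersetCard.ofFinEmbEquiv.symm s).injective (h.trans hk'.symm))
        | zero => rw [smul_zero]; exact zero_mem _
        | add a b _ _ iha ihb => rw [smul_add]; exact add_mem iha ihb
        | smul a x _ ih => rw [smul_comm]; exact Submodule.smul_mem _ _ ih
  · rw [Module.finrank_eq_nat_card_basis (Basis.span hli)]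
    have h1 := card_none_mem (α := Fin m) k
    rw [Nat.card_fin] at h1
    rw [← h1, hS1]
    rfl

theorem main [Nontrivial R] (D : Display3n p R P) (m : ℕ)
    (L T : Submodule (WittVector p R) P) (hLT : IsCompl L T) (hQ : D.Q = L ⊔ IV p R • T)
    (hL : Module.Free (WittVector p R) L) (hLr : Module.finrank (WittVector p R) L = m)
    (hT : Nonempty (T ≃ₗ[WittVector p R] WittVector p R))
    (r : ℕ) (hr : 1 ≤ r) (E : Display3n p R (⋀[WittVector p R]^r P)) (hE : IsExtPow D r E) :
    ∃ L' T' : Submodule (WittVector p R) (⋀[WittVector p R]^r P), IsCompl L' T' ∧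
      E.Q = L' ⊔ IV p R • T' ∧ Module.Free (WittVector p R) T' ∧
      Module.finrank (WittVector p R) T' = m.choose (r - 1) := by
  classical
  obtain ⟨k, rfl⟩ : ∃ k, r = k + 1 := ⟨r - 1, by omega⟩
  obtain ⟨e⟩ := hT
  haveI : Nontrivial (WittVector p R) :=
    (WittVector.constantCoeff : WittVector p R →+* R).domain_nontrivial
  haveI := D.finite
  haveI : Module.Finite (WittVector p R) L :=
    Module.Finite.of_surjective (L.projectionOnto T hLT) (Submodule.projectionOnto_surjective hLT)
  letI : LinearOrder (Option (Fin m)) := linearOrderOfSTO WellOrderingRel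
  obtain ⟨b, -⟩ : ∃ b : Basis (Fin m) (WittVector p R) L, True :=
    ⟨Module.finBasisOfFinrankEq (WittVector p R) L hLr, trivial⟩
  obtain ⟨bT, hbT⟩ : ∃ bT : Basis PUnit.{1} (WittVector p R) T, True :=
    ⟨(Basis.singleton PUnit.{1} (WittVector p R)).map e.symm, trivial⟩
  obtain ⟨c, hc⟩ : ∃ c : Basis (Option (Fin m)) (WittVector p R) P,
      c = ((b.prod bT).map (Submodule.prodEquivOfIsCompl L T hLT)).reindex
        (Equiv.optionEquivSumPUnit.{0, 0} (Fin m)).symm := ⟨_, rfl⟩
  have hcsome : ∀ j : Fin m, c (some j) = (b j : P) := by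
    intro j
    rw [hc, Basis.reindex_apply, Equiv.symm_symm, Equiv.optionEquivSumPUnit_some,
      Basis.map_apply, Submodule.coe_prodEquivOfIsCompl', Basis.prod_apply_inl_fst,
      Basis.prod_apply_inl_snd, Submodule.coe_zero, add_zero]
  have hcnone : c none = (bT PUnit.unit : P) := by
    rw [hc, Basis.reindex_apply, Equiv.symm_symm, Equiv.optionEquivSumPUnit_none,
      Basis.map_apply, Submodule.coe_prodEquivOfIsCompl', Basis.prod_apply_inr_fst,
      Basis.prod_apply_inr_snd, Submodule.coe_zero, zero_add]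
  have hb : ∀ l ∈ L, c.repr l none = 0 := by
    intro l hl
    have h1 := Submodule.prodEquivOfIsCompl_symm_apply_left L T hLT ⟨l, hl⟩
    rw [hc, Basis.repr_reindex_apply, Equiv.symm_symm, Equiv.optionEquivSumPUnit_none,
      Basis.map_repr, LinearEquiv.trans_apply]
    change ((b.prod bT).repr ((Submodule.prodEquivOfIsCompl L T hLT).symm l))
      (Sum.inr PUnit.unit) = 0
    change (Submodule.prodEquivOfIsCompl L T hLT).symm l = _ at h1
    rw [h1, Basis.prod_repr_inr]
    simp
  have hT1 : ∀ y ∈ T, ∃ a : WittVector p R, y = a • c none := by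
    intro y hy
    refine ⟨bT.repr ⟨y, hy⟩ PUnit.unit, ?_⟩
    have h1 := bT.sum_repr ⟨y, hy⟩
    rw [Fintype.sum_unique] at h1
    have h2 := congrArg (Subtype.val : T → P) h1
    rw [hcnone]
    exact h2.symm
  exact main_aux D m L T hQ c (fun j => by rw [hcsome]; exact (b j).2)
    (by rw [hcnone]; exact (bT PUnit.unit).2) hb hT1 k E hE

end

end Groth.Agent.H74.ExtPowRank
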