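import Mathlib
import Groth.Prelude.Def_PolLaw
import Groth.Agent.H74.CharpolyBC

/-!
# Helper library (helper74): a finitely generated ideal with the same radical as the kernel of a
multiplicative law on an algebra of finite type
-/

set_option autoImplicit false
universe u
open scoped TensorProduct
open PolLaw

namespace Groth.Agent.H74.FGKer

open Groth.Agent.H74.LawBC Groth.Agent.H74.MvKer Groth.Agent.H74.OpenImage
  Groth.Agent.H74.CayleyHam Groth.Agent.H74.CharpolyDeg Groth.Agent.H76.PolLawBC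
  Groth.Agent.H74.CharpolyBC

variable {A : Type u} [CommRing A] {B : Type u} [CommRing B] [Algebra A B] {d : ℕ}

/-- the generic linear form on a finite family -/
noncomputable def genZ {n : ℕ} (e : Fin n → B) : MvPolynomial (Fin n) A ⊗[A] B :=
  ∑ j, (MvPolynomial.X j : MvPolynomial (Fin n) A) ⊗ₜ[A] e j

/-- Cayley–Hamilton for the generic linear form -/
noncomputable def genW (F : MulLaw A B A d) {n : ℕ} (e : Fin n → B) :
    MvPolynomial (Fin n) A ⊗[A] B :=
  Polynomial.aeval (genZ e) (charpoly (bc (MvPolynomial (Fin n) A) F) (genZ e))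

theorem genW_mem (F : MulLaw A B A d) {n : ℕ} (e : Fin n → B) :
    genW F e ∈ (ker F.law).map
      (Algebra.TensorProduct.includeRight : B →ₐ[A] MvPolynomial (Fin n) A ⊗[A] B) := by
  have h := CH (bc (MvPolynomial (Fin n) A) F) (genZ e)
  change _ ∈ ker (bcLaw (MvPolynomial (Fin n) A) F.law) at h
  rwa [ker_bcLaw, kerBC_mvPolynomial] at h

theorem map_genZ {n : ℕ} (e : Fin n → B) (A' : Type u) [CommRing A'] [Algebra A A']
    (a' : Fin n → A') :
    Algebra.TensorProduct.map (MvPolynomial.aeval a' : MvPolynomial (Fin n) A →ₐ[A] A')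
      (AlgHom.id A B) (genZ e) = ∑ j, a' j ⊗ₜ[A] e j := by
  rw [genZ, map_sum]
  refine Finset.sum_congr rfl (fun j _ => ?_)
  rw [Algebra.TensorProduct.map_tmul, MvPolynomial.aeval_X, AlgHom.id_apply]

/-- specialisation of the generic Cayley–Hamilton element at a point of the base-change kernel -/
theorem map_genW (F : MulLaw A B A d) {n : ℕ} (e : Fin n → B) (A' : Type u) [CommRing A']
    [Algebra A A'] (a' : Fin n → A') (hz : ∑ j, a' j ⊗ₜ[A] e j ∈ kerBC F.law A') :
    Algebra.TensorProduct.map (MvPolynomial.aeval a' : MvPolynomial (Fin n) A →ₐ[A] A')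
      (AlgHom.id A B) (genW F e) = (-1) ^ d * (∑ j, a' j ⊗ₜ[A] e j) ^ d := by
  set R := MvPolynomial (Fin n) A with hR
  set ψ : R →ₐ[A] A' := MvPolynomial.aeval a' with hψ
  set Z : R ⊗[A] B := genZ e with hZ
  set z : A' ⊗[A] B := ∑ j, a' j ⊗ₜ[A] e j with hzdef
  have hψZ : Algebra.TensorProduct.map ψ (AlgHom.id A B) Z = z := map_genZ e A' a'
  set χ := charpoly (bc R F) Z with hχdef
  have h2 : Algebra.TensorProduct.map ψ (AlgHom.id A B) (Polynomial.aeval Z χ) =
      Polynomial.aeval z (χ.map (ψ : R →+* A')) := by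
    rw [Polynomial.aeval_def, Polynomial.aeval_def, Polynomial.eval₂_map, ← hψZ]
    have hcomp : (algebraMap A' (A' ⊗[A] B)).comp (ψ : R →+* A') =
        ((Algebra.TensorProduct.map ψ (AlgHom.id A B) : R ⊗[A] B →ₐ[A] A' ⊗[A] B) :
          R ⊗[A] B →+* A' ⊗[A] B).comp (algebraMap R (R ⊗[A] B)) := by
      refine RingHom.ext (fun r => ?_)
      simp [Algebra.TensorProduct.algebraMap_apply]
    rw [hcomp]
    exact Polynomial.hom_eval₂ χ (algebraMap R (R ⊗[A] B))
      ((Algebra.TensorProduct.map ψ (AlgHom.id A B) : R ⊗[A] B →ₐ[A] A' ⊗[A] B) :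
          R ⊗[A] B →+* A' ⊗[A] B) Z
  have hχ : χ.map (ψ : R →+* A') = (-(Polynomial.X : Polynomial A')) ^ d := by
    have e0 : χ.map (ψ : R →+* A') = Polynomial.mapAlgHom ψ χ := rfl
    rw [e0, hχdef, charpoly_bc, ← val_map, map_sub, map_map_apply, Algebra.TensorProduct.map_tmul,
      AlgHom.id_apply]
    have e1 : (Polynomial.mapAlgHom ψ).comp (Polynomial.CAlgHom : R →ₐ[A] Polynomial R) =
        (Polynomial.CAlgHom : A' →ₐ[A] Polynomial A').comp ψ := by
      refine AlgHom.ext (fun r => ?_)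
      simp
    rw [e1, ← map_map_apply, hψZ]
    have e2 : Polynomial.mapAlgHom ψ (Polynomial.X : Polynomial R) = Polynomial.X := by simp
    rw [e2]
    have e3 : Algebra.TensorProduct.map (Polynomial.CAlgHom : A' →ₐ[A] Polynomial A')
        (AlgHom.id A B) z - (Polynomial.X : Polynomial A') ⊗ₜ[A] (1 : B) =
        (-(Polynomial.X : Polynomial A')) • (1 : Polynomial A' ⊗[A] B) +
          1 * Algebra.TensorProduct.map (IsScalarTower.toAlgHom A A' (Polynomial A'))
            (AlgHom.id A B) z := by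
      rw [Algebra.TensorProduct.one_def, TensorProduct.smul_tmul', smul_eq_mul, mul_one,
        TensorProduct.neg_tmul, ← Algebra.TensorProduct.one_def, one_mul, neg_add_eq_sub]
      rfl
    rw [e3]
    unfold val
    rw [hz (Polynomial A')]
    have e4 := val_smul F (Polynomial A') (-(Polynomial.X : Polynomial A')) 1
    unfold val at e4
    rw [e4]
    have e5 := val_one F (Polynomial A')
    unfold val at e5
    rw [e5, mul_one]
  show Algebra.TensorProduct.map ψ (AlgHom.id A B) (Polynomial.aeval Z χ) = _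
  rw [h2, hχ, map_pow, map_neg, Polynomial.aeval_X, neg_pow]


theorem exists_finset_of_mem_map {R' : Type u} [CommRing R'] [Algebra A R'] (I : Ideal B)
    {W : R' ⊗[A] B}
    (hW : W ∈ I.map (Algebra.TensorProduct.includeRight : B →ₐ[A] R' ⊗[A] B)) :
    ∃ T : Finset B, (↑T : Set B) ⊆ I ∧
      W ∈ (Ideal.span (T : Set B)).map
        (Algebra.TensorProduct.includeRight : B →ₐ[A] R' ⊗[A] B) := by
  classical
  rw [Ideal.map] at hW
  obtain ⟨T, hT, hWT⟩ := Submodule.mem_span_finite_of_mem_span hW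
  obtain ⟨T', hT', rfl⟩ := Finset.subset_set_image_iff.mp hT
  refine ⟨T', hT', ?_⟩
  rw [Ideal.map_span]
  simpa using hWT

theorem exists_fg_finite (F : MulLaw A B A d) [Algebra.FiniteType A B] :
    ∃ J₀ : Ideal B, J₀.FG ∧ J₀ ≤ ker F.law ∧ Module.Finite A (B ⧸ J₀) := by
  classical
  obtain ⟨s, hs⟩ := Algebra.FiniteType.out (R := A) (A := B)
  set g : B → B := fun b => Polynomial.aeval b (monicCharpoly F b) with hg
  set J₀ : Ideal B := Ideal.span ((s.image g : Finset B) : Set B) with hJ₀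
  refine ⟨J₀, ⟨s.image g, rfl⟩, ?_, ?_⟩
  · rw [hJ₀, Ideal.span_le]
    intro x hx
    rw [Finset.mem_coe, Finset.mem_image] at hx
    obtain ⟨b, -, rfl⟩ := hx
    exact aeval_monicCharpoly_mem F b
  · have hint : ∀ x ∈ (Ideal.Quotient.mkₐ A J₀) '' (s : Set B), IsIntegral A x := by
      rintro x ⟨b, hb, rfl⟩
      refine ⟨monicCharpoly F b, monicCharpoly_monic F b, ?_⟩
      rw [← Polynomial.aeval_def, Polynomial.aeval_algHom_apply, Ideal.Quotient.mkₐ_eq_mk,
        Ideal.Quotient.eq_zero_iff_mem]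
      exact Ideal.subset_span (Finset.mem_coe.mpr (Finset.mem_image_of_mem g hb))
    have hadj : Algebra.adjoin A ((Ideal.Quotient.mkₐ A J₀) '' (s : Set B)) = ⊤ := by
      rw [Algebra.adjoin_image, hs, Algebra.map_top, AlgHom.range_eq_top]
      exact Ideal.Quotient.mkₐ_surjective A J₀
    have hfg := fg_adjoin_of_finite (s.finite_toSet.image (Ideal.Quotient.mkₐ A J₀)) hint
    rw [hadj, Algebra.top_toSubmodule] at hfg
    exact ⟨hfg⟩


theorem lid_mem_of_mem_map (J : Ideal B) {x : A ⊗[A] B}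
    (hx : x ∈ J.map (Algebra.TensorProduct.includeRight : B →ₐ[A] A ⊗[A] B)) :
    Algebra.TensorProduct.lid A B x ∈ J := by
  have hle : J.map (Algebra.TensorProduct.includeRight : B →ₐ[A] A ⊗[A] B) ≤
      J.comap (Algebra.TensorProduct.lid A B) := by
    rw [Ideal.map_le_iff_le_comap]
    intro y hy
    rw [Ideal.mem_comap, Ideal.mem_comap]
    simpa using hy
  exact hle hx

/-- for `B` of finite type there is a finitely generated ideal inside the kernel with the same radical -/
theorem exists_fg_radical (F : MulLaw A B A d) [Algebra.FiniteType A B] :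
    ∃ J : Ideal B, J.FG ∧ J ≤ ker F.law ∧ J.radical = (ker F.law).radical := by
  obtain ⟨J₀, hJ₀fg, hJ₀le, hfin⟩ := exists_fg_finite F
  obtain ⟨n, ē, hē⟩ := Module.Finite.exists_fin (R := A) (M := B ⧸ J₀)
  choose e he using fun j => Ideal.Quotient.mk_surjective (ē j)
  obtain ⟨T, hTI, hWT⟩ := exists_finset_of_mem_map (ker F.law) (genW_mem F e)
  set J₁ : Ideal B := Ideal.span (T : Set B) with hJ₁
  have hJle : J₀ ⊔ J₁ ≤ ker F.law := sup_le hJ₀le (Ideal.span_le.mpr hTI)
  refine ⟨J₀ ⊔ J₁, Submodule.FG.sup hJ₀fg ⟨T, rfl⟩, hJle, ?_⟩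
  apply le_antisymm (Ideal.radical_mono hJle)
  rw [Ideal.radical_le_radical_iff]
  intro b hb
  have hmem : Ideal.Quotient.mk J₀ b ∈ Submodule.span A (Set.range ē) := hē ▸ Submodule.mem_top
  obtain ⟨a, ha⟩ := (Submodule.mem_span_range_iff_exists_fun A).mp hmem
  set b' : B := ∑ j, a j • e j with hb'def
  have hbb' : b - b' ∈ J₀ := by
    rw [← Ideal.Quotient.eq, ← ha, hb'def, map_sum]
    refine Finset.sum_congr rfl (fun j _ => ?_)
    rw [← he j]
    rfl
  have hb' : b' ∈ ker F.law := by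
    have h := (ker F.law).sub_mem hb (hJ₀le hbb')
    rwa [sub_sub_cancel] at h
  have hzeq : ∑ j, a j ⊗ₜ[A] e j = (1 : A) ⊗ₜ[A] b' := by
    rw [hb'def, TensorProduct.tmul_sum]
    refine Finset.sum_congr rfl (fun j _ => ?_)
    rw [TensorProduct.tmul_smul, TensorProduct.smul_tmul', smul_eq_mul, mul_one]
  have hz : ∑ j, a j ⊗ₜ[A] e j ∈ kerBC F.law A := by
    rw [hzeq]
    exact map_ker_le_kerBC F.law A (Ideal.mem_map_of_mem _ hb')
  have h1 := map_genW F e A a hz
  have h2 := map_mem_extend J₁ (MvPolynomial.aeval a : MvPolynomial (Fin n) A →ₐ[A] A) hWT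
  have h2' : Algebra.TensorProduct.map (MvPolynomial.aeval a : MvPolynomial (Fin n) A →ₐ[A] A)
      (AlgHom.id A B) (genW F e) ∈
      J₁.map (Algebra.TensorProduct.includeRight : B →ₐ[A] A ⊗[A] B) := h2
  rw [h1, hzeq] at h2'
  have h3 := lid_mem_of_mem_map J₁ h2'
  rw [map_mul, map_pow, map_pow, map_neg, map_one, Algebra.TensorProduct.lid_tmul, one_smul] at h3
  have h4 : b' ^ d ∈ J₁ := by
    have h5 : b' ^ d = (-1) ^ d * ((-1) ^ d * b' ^ d) := by
      rw [← mul_assoc, ← mul_pow]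
      simp
    rw [h5]
    exact Ideal.mul_mem_left _ _ h3
  refine ⟨d, ?_⟩
  obtain ⟨c, hc⟩ := sub_dvd_pow_sub_pow b b' d
  have h6 : b ^ d - b' ^ d ∈ J₀ := by
    rw [hc]
    exact J₀.mul_mem_right _ hbb'
  have h7 := (J₀ ⊔ J₁).add_mem (Ideal.mem_sup_left h6) (Ideal.mem_sup_right h4)
  rwa [sub_add_cancel] at h7

end Groth.Agent.H74.FGKer
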