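import Mathlib
import Groth.Prelude.Def_PolLaw
import Groth.Agent.H74.CharpolyBC

/-!
# Helper library (helper74): a multiplicative law of degree `d` over a field has at most `d`
geometric points in its support
-/

set_option autoImplicit false
universe u
open scoped TensorProduct
open PolLaw

namespace Groth.Agent.H74.HomCount

open Groth.Agent.H74.LawBC Groth.Agent.H74.MvKer Groth.Agent.H74.OpenImage
  Groth.Agent.H74.CayleyHam Groth.Agent.H74.CharpolyDeg Groth.Agent.H76.PolLawBC
  Groth.Agent.H74.CharpolyBC

variable {k : Type u} [CommRing k] {B : Type u} [CommRing B] [Algebra k B] {d : ℕ}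

/-- the `K`-linear extension of an algebra map `B → K` -/
noncomputable def ext (K : Type u) [Field K] [Algebra k K] (σ : B →ₐ[k] K) : K ⊗[k] B →ₐ[K] K :=
  Algebra.TensorProduct.lift (AlgHom.id K K) σ (fun _ _ => Commute.all _ _)

theorem ext_tmul (K : Type u) [Field K] [Algebra k K] (σ : B →ₐ[k] K) (c : K) (b : B) :
    ext K σ (c ⊗ₜ[k] b) = c * σ b := by
  simp [ext]

/-- at most `d` algebra maps to an infinite field kill the kernel of a law of degree `d` -/
theorem card_le_of_homs (G : MulLaw k B k d) (K : Type u) [Field K] [Algebra k K] [Infinite K]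
    {ι : Type*} [Fintype ι] (σ : ι → (B →ₐ[k] K)) (hσ : Function.Injective σ)
    (hker : ∀ i, ∀ y ∈ ker G.law, σ i y = 0) : Fintype.card ι ≤ d := by
  classical
  set τ : ι → (K ⊗[k] B →ₐ[K] K) := fun i => ext K (σ i) with hτ
  have hτinj : Function.Injective τ := by
    intro i j hij
    apply hσ
    refine AlgHom.ext (fun b => ?_)
    have := congrArg (fun f => f ((1 : K) ⊗ₜ[k] b)) hij
    simpa [hτ, ext_tmul] using this
  have hτsurj : ∀ i, Function.Surjective (τ i) := fun i c => ⟨c ⊗ₜ[k] 1, by simp [hτ, ext_tmul]⟩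
  set m : ι → Ideal (K ⊗[k] B) := fun i => RingHom.ker (τ i) with hm
  have hmax : ∀ i, (m i).IsMaximal := fun i =>
    RingHom.ker_isMaximal_of_surjective (τ i) (hτsurj i)
  have hmne : ∀ i j, i ≠ j → m i ≠ m j := by
    intro i j hij hmij
    apply hij
    apply hτinj
    refine AlgHom.ext (fun x => ?_)
    have h1 : x - algebraMap K (K ⊗[k] B) (τ i x) ∈ m i := by
      rw [hm, RingHom.mem_ker, map_sub, AlgHom.commutes]
      simp
    rw [hmij, hm, RingHom.mem_ker, map_sub, AlgHom.commutes] at h1
    have h2 := sub_eq_zero.mp h1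
    simpa using h2.symm
  have hcop : Pairwise (Function.onFun IsCoprime m) := by
    intro i j hij
    rw [Function.onFun, Ideal.isCoprime_iff_sup_eq]
    exact (hmax i).coprime_of_ne (hmax j) (hmne i j hij)
  -- distinct constants
  set c : ι → K := fun i => Infinite.natEmbedding K (Fintype.equivFin ι i).val with hc
  have hcinj : Function.Injective c := by
    intro i j hij
    have := (Infinite.natEmbedding K).injective hij
    exact (Fintype.equivFin ι).injective (Fin.val_injective this)
  obtain ⟨z, hz⟩ := Ideal.exists_forall_sub_mem_ideal hcop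
    (fun i => algebraMap K (K ⊗[k] B) (c i))
  have hτz : ∀ i, τ i z = c i := by
    intro i
    have h1 := hz i
    rw [hm, RingHom.mem_ker, map_sub, AlgHom.commutes, sub_eq_zero] at h1
    simpa using h1
  set χ := charpoly (bc K G) z with hχ
  have hCH : Polynomial.aeval z χ ∈ kerBC G.law K := by
    have h := CH (bc K G) z
    change _ ∈ ker (bcLaw K G.law) at h
    rwa [ker_bcLaw] at h
  have hpow := pow_mem_of_mem_kerBC G K hCH
  have hroot : ∀ i, χ.IsRoot (c i) := by
    intro i
    have hle : (ker G.law).map (Algebra.TensorProduct.includeRight : B →ₐ[k] K ⊗[k] B) ≤ m i := by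
      rw [Ideal.map_le_iff_le_comap]
      intro y hy
      rw [Ideal.mem_comap, hm, RingHom.mem_ker]
      show τ i ((1 : K) ⊗ₜ[k] y) = 0
      simp [hτ, ext_tmul, hker i y hy]
    have h1 := hle hpow
    rw [hm, RingHom.mem_ker, map_pow] at h1
    have h3 : τ i (Polynomial.aeval z χ) = 0 := by
      by_contra hne
      exact pow_ne_zero d hne h1
    rw [← Polynomial.aeval_algHom_apply, hτz] at h3
    rw [Polynomial.IsRoot, ← Polynomial.coe_aeval_eq_eval]
    exact h3
  have hχ0 : χ ≠ 0 := by
    intro h0
    have h1 := coeff_charpoly_d (bc K G) z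
    rw [← hχ, h0, Polynomial.coeff_zero] at h1
    exact (pow_ne_zero d (neg_ne_zero.mpr one_ne_zero)) h1.symm
  have hsub : (Finset.univ.image c).val ⊆ χ.roots := by
    intro a ha
    rw [Finset.mem_val, Finset.mem_image] at ha
    obtain ⟨i, -, rfl⟩ := ha
    exact (Polynomial.mem_roots hχ0).mpr (hroot i)
  have h1 := Polynomial.card_le_degree_of_subset_roots hsub
  rw [Finset.card_image_of_injective _ hcinj, Finset.card_univ] at h1
  exact h1.trans (natDegree_charpoly_le (bc K G) z)

end Groth.Agent.H74.HomCount
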