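import Mathlib
import Groth.Prelude.Def_PolLaw
import Groth.Agent.H74.HomCount

/-!
# Helper library (helper74): the support of a family of zero-cycles of degree `d` over a field
-/

set_option autoImplicit false
set_option linter.style.haveILetI false
universe u
open scoped TensorProduct
open PolLaw

namespace Groth.Agent.H74.FieldSupport

open Groth.Agent.H74.HomCount Groth.Agent.H74.CharpolyDeg

theorem finite_and_card_le_of_forall {α : Type*} {d : ℕ}
    (h : ∀ σ : Fin (d + 1) → α, ¬ Function.Injective σ) : Finite α ∧ Nat.card α ≤ d := by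
  have hfin : Finite α := by
    by_contra hinf
    rw [not_finite_iff_infinite] at hinf
    exact h (fun i => Infinite.natEmbedding α i.val)
      (fun i j hij => Fin.val_injective ((Infinite.natEmbedding α).injective hij))
  refine ⟨hfin, ?_⟩
  by_contra hlt
  push Not at hlt
  haveI := Fintype.ofFinite α
  rw [Nat.card_eq_fintype_card] at hlt
  have hle : Fintype.card (Fin (d + 1)) ≤ Fintype.card α := by
    rw [Fintype.card_fin]; exact hlt
  obtain ⟨e⟩ := Function.Embedding.nonempty_of_card_le hle
  exact h e e.injective

variable {k : Type u} [Field k] {B : Type u} [CommRing B] [Algebra k B] {d : ℕ}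

/-- at most `d` algebra maps from the image algebra to an infinite field -/
theorem finite_homs (F : MulLaw k B k d) (K : Type u) [Field K] [Algebra k K] [Infinite K] :
    Finite (image F.law →ₐ[k] K) ∧ Nat.card (image F.law →ₐ[k] K) ≤ d := by
  apply finite_and_card_le_of_forall
  intro σ hσ
  have h := card_le_of_homs F K
    (fun i => (σ i).comp (Ideal.Quotient.mkₐ k (ker F.law))) ?_ ?_
  · rw [Fintype.card_fin] at h
    omega
  · intro i j hij
    apply hσ
    refine AlgHom.ext (fun x => ?_)
    obtain ⟨b, rfl⟩ := Ideal.Quotient.mk_surjective x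
    exact congrArg (fun f => f b) hij
  · intro i y hy
    show σ i (Ideal.Quotient.mk (ker F.law) y) = 0
    rw [Ideal.Quotient.eq_zero_iff_mem.mpr hy, map_zero]

theorem isMaximal_of_isPrime (F : MulLaw k B k d) (P : Ideal (image F.law)) [P.IsPrime] :
    P.IsMaximal := by
  haveI : Algebra.IsIntegral k (image F.law) := isIntegral_image F
  apply Ideal.isMaximal_of_isIntegral_of_isMaximal_comap (R := k) P
  have hbot : P.comap (algebraMap k (image F.law)) = ⊥ := by
    rcases Ideal.eq_bot_or_top (P.comap (algebraMap k (image F.law))) with h | h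
    · exact h
    · exact absurd h (Ideal.IsPrime.ne_top inferInstance)
  rw [hbot]
  exact Ideal.bot_isMaximal


/-- a geometric point at each prime of the image algebra -/
theorem exists_hom_ker_eq (F : MulLaw k B k d) (P : Ideal (image F.law)) [P.IsPrime] :
    ∃ σ : image F.law →ₐ[k] AlgebraicClosure k, RingHom.ker σ = P := by
  haveI : Algebra.IsIntegral k (image F.law) := isIntegral_image F
  haveI hmax : P.IsMaximal := isMaximal_of_isPrime F P
  letI : Field (image F.law ⧸ P) := Ideal.Quotient.field P
  haveI : Algebra.IsIntegral k (image F.law ⧸ P) :=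
    Algebra.IsIntegral.of_surjective (Ideal.Quotient.mkₐ k P) (Ideal.Quotient.mkₐ_surjective k P)
  let l : (image F.law ⧸ P) →ₐ[k] AlgebraicClosure k := IsAlgClosed.lift
  refine ⟨l.comp (Ideal.Quotient.mkₐ k P), ?_⟩
  ext x
  have hl : Function.Injective l := l.toRingHom.injective
  rw [RingHom.mem_ker, AlgHom.comp_apply, map_eq_zero_iff l hl,
    Ideal.Quotient.mkₐ_eq_mk, Ideal.Quotient.eq_zero_iff_mem]

/-- the spectrum of the image algebra is finite with at most `d` points -/
theorem finite_spec (F : MulLaw k B k d) :
    Finite (PrimeSpectrum (image F.law)) ∧ Nat.card (PrimeSpectrum (image F.law)) ≤ d := by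
  obtain ⟨hfin, hcard⟩ := finite_homs F (AlgebraicClosure k)
  choose σ hσ using fun P : PrimeSpectrum (image F.law) => exists_hom_ker_eq F P.asIdeal
  have hinj : Function.Injective σ := by
    intro P Q hPQ
    apply PrimeSpectrum.ext
    rw [← hσ P, ← hσ Q, hPQ]
  exact ⟨Finite.of_injective σ hinj, (Nat.card_le_card_of_injective σ hinj).trans hcard⟩

/-- the residue fields have finitely many embeddings -/
theorem finite_emb (F : MulLaw k B k d) (P : Ideal (image F.law)) [P.IsPrime] :
    Finite (Field.Emb k P.ResidueField) := by
  obtain ⟨hfin, -⟩ := finite_homs F (AlgebraicClosure P.ResidueField)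
  let g : Field.Emb k P.ResidueField → (image F.law →ₐ[k] AlgebraicClosure P.ResidueField) :=
    fun φ => φ.comp (IsScalarTower.toAlgHom k (image F.law) P.ResidueField)
  have hg : Function.Injective g := by
    intro φ φ' h
    exact Ideal.ResidueField.algHom_ext h
  exact Finite.of_injective g hg

end Groth.Agent.H74.FieldSupport
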