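import Mathlib
import Groth.Prelude.Def_PolLaw
import Groth.Agent.H74.FieldSupport

/-!
# Helper library (helper74): fibres of the image of a family of zero-cycles
-/

set_option autoImplicit false
set_option linter.style.haveILetI false
universe u
open scoped TensorProduct
open PolLaw

namespace Groth.Agent.H74.FibreSupport

open Groth.Agent.H74.HomCount Groth.Agent.H74.CharpolyDeg Groth.Agent.H74.FieldSupport
  Groth.Agent.H74.LawBC Groth.Agent.H74.CharpolyBC

variable {A : Type u} [CommRing A] {B : Type u} [CommRing B] [Algebra A B] {d : ℕ}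

/-- the fibre of the image over a field-valued point has at most `d` points -/
theorem finite_spec_baseChange (F : MulLaw A B A d) (K : Type u) [Field K] [Algebra A K] :
    Finite (PrimeSpectrum (K ⊗[A] image F.law)) ∧
      Nat.card (PrimeSpectrum (K ⊗[A] image F.law)) ≤ d := by
  set G := bc K F with hG
  obtain ⟨hfin, hcard⟩ := finite_spec G
  have hmk_surj : Function.Surjective (Ideal.Quotient.mkₐ A (ker F.law)) :=
    Ideal.Quotient.mkₐ_surjective A (ker F.law)
  set θ : K ⊗[A] B →ₐ[A] K ⊗[A] image F.law :=
    Algebra.TensorProduct.map (AlgHom.id A K) (Ideal.Quotient.mkₐ A (ker F.law)) with hθdef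
  have hθ : Function.Surjective θ :=
    Algebra.TensorProduct.map_surjective (AlgHom.id A K) _ (fun x => ⟨x, rfl⟩) hmk_surj
  have hkmk : RingHom.ker (Ideal.Quotient.mkₐ A (ker F.law)) = ker F.law := by
    ext x
    rw [RingHom.mem_ker]
    exact Ideal.Quotient.eq_zero_iff_mem
  have hkerθ : RingHom.ker θ =
      (ker F.law).map (Algebra.TensorProduct.includeRight : B →ₐ[A] K ⊗[A] B) := by
    rw [hθdef, Algebra.TensorProduct.lTensor_ker _ hmk_surj, hkmk]
  have hle : ∀ P : PrimeSpectrum (K ⊗[A] image F.law),
      ker G.law ≤ P.asIdeal.comap θ := by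
    intro P z hz
    have h1 : z ∈ kerBC F.law K := by
      rw [← ker_bcLaw]; exact hz
    have h2 := pow_mem_of_mem_kerBC F K h1
    rw [← hkerθ, RingHom.mem_ker, map_pow] at h2
    rw [Ideal.mem_comap]
    apply P.2.mem_of_pow_mem d
    rw [h2]
    exact P.asIdeal.zero_mem
  let g : PrimeSpectrum (K ⊗[A] image F.law) → PrimeSpectrum (image G.law) := fun P =>
    ⟨(P.asIdeal.comap θ).map (Ideal.Quotient.mk (ker G.law)),
      Ideal.map_isPrime_of_surjective Ideal.Quotient.mk_surjective
        (by rw [Ideal.mk_ker]; exact hle P)⟩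
  have hg : Function.Injective g := by
    intro P Q hPQ
    have h0 : ((P.asIdeal.comap θ).map (Ideal.Quotient.mk (ker G.law))).comap
        (Ideal.Quotient.mk (ker G.law)) =
        ((Q.asIdeal.comap θ).map (Ideal.Quotient.mk (ker G.law))).comap
          (Ideal.Quotient.mk (ker G.law)) := by
      have := congrArg PrimeSpectrum.asIdeal hPQ
      exact congrArg (Ideal.comap (Ideal.Quotient.mk (ker G.law))) this
    rw [Ideal.comap_map_of_surjective _ Ideal.Quotient.mk_surjective,
      Ideal.comap_map_of_surjective _ Ideal.Quotient.mk_surjective, ← RingHom.ker_eq_comap_bot,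
      Ideal.mk_ker, sup_eq_left.mpr (hle P), sup_eq_left.mpr (hle Q)] at h0
    apply PrimeSpectrum.ext
    exact Ideal.comap_injective_of_surjective θ hθ h0
  haveI := hfin
  exact ⟨Finite.of_injective g hg, (Nat.card_le_card_of_injective g hg).trans hcard⟩

end Groth.Agent.H74.FibreSupport
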