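import Mathlib
import Groth.Prelude.Def_PolLaw

/-!
# Helper library (helper74): base change of a multiplicative law `B → R` (over `A`, with values in
an `A`-algebra `R`) to a law `R ⊗[A] B → R` over `R`

`bc R F : MulLaw R (R ⊗[A] B) R d` for `F : MulLaw A B R d`.
-/

set_option autoImplicit false
set_option linter.style.haveILetI false
universe u
open scoped TensorProduct
open PolLaw

namespace Groth.Agent.H74.LawBCk

variable {A : Type u} [CommRing A] {B : Type u} [CommRing B] [Algebra A B]
variable (R : Type u) [CommRing R] [Algebra A R]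

section Fun

variable (S : Type u) [CommSemiring S] [Algebra R S] [Algebra A S] [IsScalarTower A R S]

/-- the multiplication `S ⊗[A] R → S` -/
noncomputable def mu : S ⊗[A] R →ₐ[S] S :=
  Algebra.TensorProduct.lift (AlgHom.id S S) (IsScalarTower.toAlgHom A R S)
    (fun _ _ => Commute.all _ _)

theorem mu_tmul (s : S) (r : R) : mu R S (s ⊗ₜ[A] r) = s * algebraMap R S r := by
  simp [mu]

variable (f : B →ₚₗ[A] R)

/-- the member over `S` of the base-changed law, for explicit compatible instances -/
noncomputable def bcFun : S ⊗[R] (R ⊗[A] B) → S ⊗[R] R := fun x =>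
  (Algebra.TensorProduct.rid R S S).symm
    (mu R S (f.toFun' S (Algebra.TensorProduct.cancelBaseChange A R S S B x)))

theorem bcFun_def (x : S ⊗[R] (R ⊗[A] B)) : bcFun R S f x =
    (Algebra.TensorProduct.rid R S S).symm
      (mu R S (f.toFun' S (Algebra.TensorProduct.cancelBaseChange A R S S B x))) := rfl

variable {S}

theorem bcFun_smul {d : ℕ} (hf : IsHomog f d) (s : S) (x : S ⊗[R] (R ⊗[A] B)) :
    bcFun R S f (s • x) = s ^ d • bcFun R S f x := by
  rw [bcFun_def, bcFun_def, map_smul, hf S, map_smul, map_smul]

theorem bcFun_one (hf : IsMult f) : bcFun R S f 1 = 1 := by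
  rw [bcFun_def, map_one, (hf S).1, map_one, map_one]

theorem bcFun_mul (hf : IsMult f) (x y : S ⊗[R] (R ⊗[A] B)) :
    bcFun R S f (x * y) = bcFun R S f x * bcFun R S f y := by
  rw [bcFun_def, bcFun_def, bcFun_def, map_mul, (hf S).2, map_mul, map_mul]

end Fun

section Compat

variable (f : B →ₚₗ[A] R) {S S' : Type u} [CommSemiring S] [Algebra R S] [Algebra A S]
  [IsScalarTower A R S] [CommSemiring S'] [Algebra R S'] [Algebra A S'] [IsScalarTower A R S']

theorem cancel_rTensor (φ : S →ₐ[R] S') (x : S ⊗[R] (R ⊗[A] B)) :
    Algebra.TensorProduct.cancelBaseChange A R S' S' B (φ.toLinearMap.rTensor (R ⊗[A] B) x) =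
      (φ.restrictScalars A).toLinearMap.rTensor B
        (Algebra.TensorProduct.cancelBaseChange A R S S B x) := by
  induction x using TensorProduct.induction_on with
  | zero => simp
  | tmul s y =>
    induction y using TensorProduct.induction_on with
    | zero => simp
    | tmul r b => simp
    | add y y' h h' => simp only [TensorProduct.tmul_add, map_add, h, h']
  | add x x' h h' => simp only [map_add, h, h']

theorem mu_rTensor (φ : S →ₐ[R] S') (y : S ⊗[A] R) :
    mu R S' ((φ.restrictScalars A).toLinearMap.rTensor R y) = φ (mu R S y) := by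
  induction y using TensorProduct.induction_on with
  | zero => simp
  | tmul s r =>
    rw [LinearMap.rTensor_tmul, mu_tmul, mu_tmul, map_mul, AlgHom.commutes]
    rfl
  | add y y' h h' => simp only [map_add, h, h']

theorem rid_symm_rTensor (φ : S →ₐ[R] S') (s : S) :
    φ.toLinearMap.rTensor R ((Algebra.TensorProduct.rid R S S).symm s) =
      (Algebra.TensorProduct.rid R S' S').symm (φ s) := by
  simp

theorem bcFun_compat (φ : S →ₐ[R] S') (x : S ⊗[R] (R ⊗[A] B)) :
    φ.toLinearMap.rTensor R (bcFun R S f x) =
      bcFun R S' f (φ.toLinearMap.rTensor (R ⊗[A] B) x) := by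
  rw [bcFun_def, bcFun_def, rid_symm_rTensor, cancel_rTensor, ← PolynomialLaw.isCompat_apply',
    mu_rTensor]

end Compat

section Law

/-- the `A`-algebra structure on an `R`-algebra -/
@[reducible] noncomputable def algA (S : Type u) [CommSemiring S] [Algebra R S] : Algebra A S :=
  Algebra.compHom S (algebraMap A R)

theorem towerA (S : Type u) [CommSemiring S] [Algebra R S] :
    @IsScalarTower A R S _ _ (algA (A := A) R S).toSMul := by
  letI := algA (A := A) R S
  exact IsScalarTower.of_algebraMap_eq (fun _ => rfl)

/-- the base change of a polynomial law `B → R` to `R` -/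
noncomputable def bcLaw (f : B →ₚₗ[A] R) : (R ⊗[A] B) →ₚₗ[R] R where
  toFun' S _ _ := @bcFun A _ B _ _ R _ _ S _ _ (algA R S) (towerA R S) f
  isCompat' {S} _ _ {S'} _ _ φ := by
    funext x
    letI := algA (A := A) R S
    letI := algA (A := A) R S'
    haveI := towerA (A := A) R S
    haveI := towerA (A := A) R S'
    exact bcFun_compat R f φ x

theorem bcLaw_toFun' (f : B →ₚₗ[A] R) (S : Type u) [CommSemiring S] [Algebra R S]
    (x : S ⊗[R] (R ⊗[A] B)) :
    (bcLaw R f).toFun' S x = @bcFun A _ B _ _ R _ _ S _ _ (algA R S) (towerA R S) f x := rfl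

/-- independence of the auxiliary `A`-algebra structure -/
theorem bcFun_eq (f : B →ₚₗ[A] R) (S : Type u) [CommSemiring S] [Algebra R S] [i : Algebra A S]
    [h : IsScalarTower A R S] (x : S ⊗[R] (R ⊗[A] B)) :
    (bcLaw R f).toFun' S x = bcFun R S f x := by
  have hi : algA (A := A) R S = i := by
    apply Algebra.algebra_ext
    intro a
    exact (IsScalarTower.algebraMap_apply A R S a).symm
  subst hi
  rfl

variable {d : ℕ}

/-- the base change of a multiplicative law -/
noncomputable def bc (F : MulLaw A B R d) : MulLaw R (R ⊗[A] B) R d where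
  law := bcLaw R F.law
  homog S _ _ s x := by
    letI := algA (A := A) R S
    haveI := towerA (A := A) R S
    exact bcFun_smul R F.law F.homog s x
  mult S _ _ := by
    letI := algA (A := A) R S
    haveI := towerA (A := A) R S
    exact ⟨bcFun_one R F.law F.mult, bcFun_mul R F.law F.mult⟩

end Law

end Groth.Agent.H74.LawBCk
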