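import Groth.Agent.H74.SymNormC
import Groth.Agent.H74.LawBCk

set_option autoImplicit false
universe u

open scoped TensorProduct

namespace Groth.Agent.H74.SymPt

open PolLaw Groth.Agent.H74.GammaSpan Groth.Agent.H74.LawBasis Groth.Agent.H74.TensorK
  Groth.Agent.H74.SymInv Groth.Agent.H74.SymNormP Groth.Agent.H74.SymNormC SymTen

section J

variable (A : Type u) [CommRing A] (B : Type u) [CommRing B] [Algebra A B]
  (k : Type u) [CommRing k] [Algebra A k] (d : ℕ)

/-- the multilinear map `(b_i) ↦ ⨂ (1 ⊗ b_i)` -/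
noncomputable def jML : MultilinearMap A (fun _ : Fin d => B) (⨂[k] _ : Fin d, k ⊗[A] B) :=
  ((PiTensorProduct.tprod k (s := fun _ : Fin d => k ⊗[A] B)).restrictScalars A).compLinearMap
    (fun _ => (Algebra.TensorProduct.includeRight : B →ₐ[A] k ⊗[A] B).toLinearMap)

theorem jML_apply (b : Fin d → B) :
    jML A B k d b = PiTensorProduct.tprod k (fun i => (1 : k) ⊗ₜ[A] b i) := rfl

/-- the base change map on tensor powers `T^d_A(B) → T^d_k(k ⊗ B)` -/
noncomputable def j : (⨂[A] _ : Fin d, B) →ₐ[A] (⨂[k] _ : Fin d, k ⊗[A] B) :=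
  PiTensorProduct.liftAlgHom (jML A B k d)
    (by
      rw [jML_apply]
      exact (PiTensorProduct.one_def (R := k) (A := fun _ : Fin d => k ⊗[A] B)).symm)
    (by
      intro x y
      rw [jML_apply, jML_apply, jML_apply, PiTensorProduct.tprod_mul_tprod]
      congr 1
      funext i
      simp [Algebra.TensorProduct.tmul_mul_tmul])

theorem j_tprod (b : Fin d → B) :
    j A B k d (PiTensorProduct.tprod A b) = PiTensorProduct.tprod k (fun i => (1 : k) ⊗ₜ[A] b i) := by
  simp [j, jML_apply]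

theorem j_perm (σ : Equiv.Perm (Fin d)) (t : ⨂[A] _ : Fin d, B) :
    j A B k d (SymTen.perm A B d σ t) = SymTen.perm k (k ⊗[A] B) d σ (j A B k d t) := by
  induction t using PiTensorProduct.induction_on with
  | smul_tprod r f =>
    have h1 : j A B k d (SymTen.perm A B d σ (r • PiTensorProduct.tprod A f)) =
        r • PiTensorProduct.tprod k (fun i => (1 : k) ⊗ₜ[A] f (σ.symm i)) := by
      rw [map_smul, SymTen.perm_tprod, map_smul, j_tprod]
    have h2 : j A B k d (r • PiTensorProduct.tprod A f) =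
        r • PiTensorProduct.tprod k (fun i => (1 : k) ⊗ₜ[A] f i) := by
      rw [map_smul, j_tprod]
    rw [h1, h2, ← algebraMap_smul k r, ← algebraMap_smul k r, map_smul, SymTen.perm_tprod]
  | add x y hx hy => simp only [map_add, hx, hy]

end J

section Pt

variable {A : Type u} [CommRing A] {B : Type u} [CommRing B] [Algebra A B]
  (k : Type u) [Field k] [Algebra A k] (d : ℕ) (G : MulLaw A B k d)

/-- the base-changed law -/
noncomputable abbrev Gk : MulLaw k (k ⊗[A] B) k d := LawBCk.bc k G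

/-- the linear form on `T^d_k(k ⊗ B)` attached to the base-changed law -/
noncomputable def L : (⨂[k] _ : Fin d, k ⊗[A] B) →ₗ[k] k :=
  Lmap d (Module.Free.chooseBasis k (k ⊗[A] B)) (Gk k d G).law

theorem postcomp_L :
    postcomp (L k d G) (SymTen.tpowLaw k (k ⊗[A] B) d).law = (Gk k d G).law :=
  postcomp_Lmap d _ _ (Gk k d G).homog

theorem L_one : L k d G 1 = 1 := Lmap_one d _ (Gk k d G)

theorem inv_one_tmul (z : ⨂[k] _ : Fin d, k ⊗[A] B)
    (hz : ∀ σ : Equiv.Perm (Fin d), SymTen.perm k (k ⊗[A] B) d σ z = z) :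
    Inv d k ((1 : k) ⊗ₜ[k] z) := by
  intro σ
  rw [Algebra.TensorProduct.map_tmul, hz σ]
  rfl

theorem L_mul (z w : ⨂[k] _ : Fin d, k ⊗[A] B)
    (hz : ∀ σ : Equiv.Perm (Fin d), SymTen.perm k (k ⊗[A] B) d σ z = z)
    (hw : ∀ σ : Equiv.Perm (Fin d), SymTen.perm k (k ⊗[A] B) d σ w = w) :
    L k d G (z * w) = L k d G z * L k d G w := by
  have h := Lmap_lTensor_mul d (Module.Free.chooseBasis k (k ⊗[A] B)) (Gk k d G) k
    ((1 : k) ⊗ₜ[k] z) ((1 : k) ⊗ₜ[k] w) (inv_one_tmul k d z hz) (inv_one_tmul k d w hw)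
  rw [Algebra.TensorProduct.tmul_mul_tmul, LinearMap.lTensor_tmul, LinearMap.lTensor_tmul,
    LinearMap.lTensor_tmul, Algebra.TensorProduct.tmul_mul_tmul, mul_one] at h
  have h2 := congrArg (TensorProduct.lid k k) h
  rw [TensorProduct.lid_tmul, TensorProduct.lid_tmul, one_smul, one_smul] at h2
  exact h2

/-- the `A`-linear form on `T^d_A(B)` -/
noncomputable def gL : (⨂[A] _ : Fin d, B) →ₗ[A] k :=
  (L k d G).restrictScalars A ∘ₗ (j A B k d).toLinearMap

theorem gL_apply (t : ⨂[A] _ : Fin d, B) : gL k d G t = L k d G (j A B k d t) := rfl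

theorem perm_j_of_mem (t : ⨂[A] _ : Fin d, B) (ht : t ∈ SymTen.TS A B d) (σ : Equiv.Perm (Fin d)) :
    SymTen.perm k (k ⊗[A] B) d σ (j A B k d t) = j A B k d t := by
  rw [← j_perm, SymTen.perm_apply, ht σ]

theorem mu_includeRight (S : Type u) [CommSemiring S] [Algebra A S] (y : S ⊗[A] k) :
    LawBCk.mu k (k ⊗[A] S)
        ((Algebra.TensorProduct.includeRight : S →ₐ[A] k ⊗[A] S).toLinearMap.rTensor k y) =
      TensorProduct.comm A S k y := by
  induction y using TensorProduct.induction_on with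
  | zero => simp
  | tmul s r =>
    rw [LinearMap.rTensor_tmul, LawBCk.mu_tmul, TensorProduct.comm_tmul, AlgHom.toLinearMap_apply,
      Algebra.TensorProduct.includeRight_apply, Algebra.TensorProduct.algebraMap_apply,
      Algebra.TensorProduct.tmul_mul_tmul, one_mul, mul_one]
    rfl
  | add y y' h h' => simp only [map_add, h, h']

theorem cancel_sum (S : Type u) [CommSemiring S] [Algebra A S] (n : ℕ) (s : Fin n → S)
    (b : Fin n → B) :
    Algebra.TensorProduct.cancelBaseChange A k (k ⊗[A] S) (k ⊗[A] S) B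
        (∑ j, ((1 : k) ⊗ₜ[A] s j) ⊗ₜ[k] ((1 : k) ⊗ₜ[A] b j)) =
      (Algebra.TensorProduct.includeRight : S →ₐ[A] k ⊗[A] S).toLinearMap.rTensor B
        (∑ j, s j ⊗ₜ[A] b j) := by
  rw [map_sum, map_sum]
  refine Finset.sum_congr rfl (fun j _ => ?_)
  rw [Algebra.TensorProduct.cancelBaseChange_tmul, one_smul, LinearMap.rTensor_tmul]
  rfl

theorem gL_tpow_sum (S : Type u) [CommSemiring S] [Algebra A S] (n : ℕ) (s : Fin n → S)
    (b : Fin n → B) :
    (gL k d G).lTensor S ((SymTen.tpowLaw A B d).law.toFun' S (∑ j, s j ⊗ₜ[A] b j)) =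
      G.law.toFun' S (∑ j, s j ⊗ₜ[A] b j) := by
  have P1 : (L k d G).lTensor (k ⊗[A] S)
      ((SymTen.tpowLaw k (k ⊗[A] B) d).law.toFun' (k ⊗[A] S)
        (∑ j, ((1 : k) ⊗ₜ[A] s j) ⊗ₜ[k] ((1 : k) ⊗ₜ[A] b j))) =
      (Gk k d G).law.toFun' (k ⊗[A] S) (∑ j, ((1 : k) ⊗ₜ[A] s j) ⊗ₜ[k] ((1 : k) ⊗ₜ[A] b j)) :=
    congrFun (congrFun (congrFun (congrFun (congrArg PolynomialLaw.toFun' (postcomp_L k d G))
      (k ⊗[A] S)) _) _) _
  have e2 : (Gk k d G).law.toFun' (k ⊗[A] S)
      (∑ j, ((1 : k) ⊗ₜ[A] s j) ⊗ₜ[k] ((1 : k) ⊗ₜ[A] b j)) =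
      (Algebra.TensorProduct.rid k (k ⊗[A] S) (k ⊗[A] S)).symm
        (TensorProduct.comm A S k (G.law.toFun' S (∑ j, s j ⊗ₜ[A] b j))) := by
    show (LawBCk.bcLaw k G.law).toFun' (k ⊗[A] S) _ = _
    rw [LawBCk.bcFun_eq, LawBCk.bcFun_def, cancel_sum, ← PolynomialLaw.isCompat_apply',
      mu_includeRight]
  rw [tpowLaw_sum_fin, e2] at P1
  have P2 := congrArg (Algebra.TensorProduct.rid k (k ⊗[A] S) (k ⊗[A] S)) P1
  rw [AlgEquiv.apply_symm_apply] at P2
  apply (TensorProduct.comm A S k).injective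
  rw [← P2, tpowLaw_sum_fin]
  simp only [map_sum, LinearMap.lTensor_tmul, Algebra.TensorProduct.rid_tmul,
    TensorProduct.comm_tmul]
  refine Finset.sum_congr rfl (fun c _ => ?_)
  have hp : ∏ i, ((1 : k) ⊗ₜ[A] s (c i)) = (1 : k) ⊗ₜ[A] ∏ i, s (c i) :=
    (map_prod (Algebra.TensorProduct.includeRight : S →ₐ[A] k ⊗[A] S) (fun i => s (c i))
      Finset.univ).symm
  rw [gL_apply, j_tprod, hp, TensorProduct.smul_tmul', smul_eq_mul, mul_one]

end Pt

section Main

variable {A : Type u} [CommRing A] {B C : Type u} [CommRing B] [Algebra A B] [CommRing C]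
  [Algebra A C] (d : ℕ) (γ : MulLaw A B C d) (hγ : IsGammaD γ) (φ : C →ₐ[A] SymTen.TS A B d)
  (hφ : ∀ (S : Type u) [CommSemiring S] [Algebra A S] (n : ℕ) (s : Fin n → S) (b : Fin n → B),
    ((SymTen.TS A B d).val.comp φ).toLinearMap.lTensor S (γ.law.toFun' S (∑ j, s j ⊗ₜ[A] b j)) =
      ∑ c : Fin d → Fin n, (∏ i, s (c i)) ⊗ₜ[A] PiTensorProduct.tprod A (fun i => b (c i)))

include hγ hφ in
/-- algebra version: every `A`-algebra map from `Γ^d(B)` to a field extends along `φ` to the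
symmetric tensors -/
theorem exists_lift_algHom (k : Type u) [Field k] [Algebra A k] (h : C →ₐ[A] k) :
    ∃ g : SymTen.TS A B d →ₐ[A] k, g.comp φ = h := by
  let G : MulLaw A B k d := MulLaw.postcomp h γ
  let g : SymTen.TS A B d →ₐ[A] k :=
    AlgHom.ofLinearMap (gL k d G ∘ₗ (SymTen.TS A B d).val.toLinearMap)
      (by
        show gL k d G ((1 : SymTen.TS A B d) : ⨂[A] _ : Fin d, B) = 1
        rw [gL_apply, OneMemClass.coe_one, map_one, L_one])
      (by
        intro t t'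
        show gL k d G ((t * t' : SymTen.TS A B d) : ⨂[A] _ : Fin d, B) =
          gL k d G (t : ⨂[A] _ : Fin d, B) * gL k d G (t' : ⨂[A] _ : Fin d, B)
        rw [gL_apply, gL_apply, gL_apply, MulMemClass.coe_mul, map_mul]
        exact L_mul k d G _ _ (perm_j_of_mem k d _ t.2) (perm_j_of_mem k d _ t'.2))
  refine ⟨g, ?_⟩
  apply AlgHom.toLinearMap_injective
  apply linearMap_ext_of_postcomp γ hγ
  intro n x
  obtain ⟨m, s, b, rfl⟩ := Groth.Agent.H74.GammaPol.exists_fin_sum _ x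
  have e1 : (g.comp φ).toLinearMap =
      gL k d G ∘ₗ ((SymTen.TS A B d).val.comp φ).toLinearMap := rfl
  rw [e1, LinearMap.lTensor_comp_apply, hφ, ← tpowLaw_sum_fin, gL_tpow_sum]
  rfl

include hγ hφ in
/-- every ring map from `Γ^d(B)` to a field extends along `φ` to the symmetric tensors -/
theorem exists_lift_field (k : Type u) [Field k] (h : C →+* k) :
    ∃ g : SymTen.TS A B d →+* k, g.comp φ.toRingHom = h := by
  letI : Algebra A k := (h.comp (algebraMap A C)).toAlgebra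
  let h' : C →ₐ[A] k := { h with commutes' := fun a => rfl }
  obtain ⟨g, hg⟩ := exists_lift_algHom d γ hγ φ hφ k h'
  refine ⟨g.toRingHom, ?_⟩
  ext c
  exact congrArg (fun f : C →ₐ[A] k => f c) hg

end Main

end Groth.Agent.H74.SymPt
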