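-- helper74: finiteness of symmetric tensors (Noether) and of `Γ^d` of a finite type algebra.
import Groth.Agent.H74.SymPt

set_option autoImplicit false
set_option linter.style.haveILetI false
universe u

open scoped TensorProduct

namespace Groth.Agent.H74.SymFT

open PolLaw Groth.Agent.H74.GammaSpan Groth.Agent.H74.LawBasis Groth.Agent.H74.TensorK
  Groth.Agent.H74.SymInv Groth.Agent.H74.SymNormP Groth.Agent.H74.SymNormC
  Groth.Agent.H74.SymPt SymTen

section Noether

variable (R : Type u) [CommRing R] (P : Type u) [CommRing P] [Algebra R P] (d : ℕ)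

theorem tprod_eq_prod_single (f : Fin d → P) :
    PiTensorProduct.tprod R f =
      ∏ i, PiTensorProduct.singleAlgHom (R := R) (A := fun _ : Fin d => P) i (f i) := by
  simp only [PiTensorProduct.singleAlgHom_apply, MonoidHom.mulSingle_apply]
  rw [← PiTensorProduct.tprod_prod]
  exact (congrArg _ (Finset.univ_prod_mulSingle (fun j => f j))).symm

theorem finiteType_tensorPower [Algebra.FiniteType R P] :
    Algebra.FiniteType R (⨂[R] _ : Fin d, P) := by
  classical
  obtain ⟨s, hs⟩ := (Algebra.FiniteType.out : (⊤ : Subalgebra R P).FG)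
  refine ⟨⟨(Finset.univ ×ˢ s).image (fun p : Fin d × P =>
    PiTensorProduct.singleAlgHom (R := R) (A := fun _ : Fin d => P) p.1 p.2), ?_⟩⟩
  rw [eq_top_iff]
  intro t _
  have hsingle : ∀ (i : Fin d) (p : P),
      PiTensorProduct.singleAlgHom (R := R) (A := fun _ : Fin d => P) i p ∈
        Algebra.adjoin R (((Finset.univ ×ˢ s).image (fun p : Fin d × P =>
          PiTensorProduct.singleAlgHom (R := R) (A := fun _ : Fin d => P) p.1 p.2) :
          Finset (⨂[R] _ : Fin d, P)) : Set (⨂[R] _ : Fin d, P)) := by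
    intro i p
    have hp : p ∈ Algebra.adjoin R (s : Set P) := by rw [hs]; exact Algebra.mem_top
    have h1 : PiTensorProduct.singleAlgHom (R := R) (A := fun _ : Fin d => P) i p ∈
        (Algebra.adjoin R (s : Set P)).map
          (PiTensorProduct.singleAlgHom (R := R) (A := fun _ : Fin d => P) i) :=
      ⟨p, hp, rfl⟩
    rw [AlgHom.map_adjoin] at h1
    refine Algebra.adjoin_mono ?_ h1
    rintro _ ⟨q, hq, rfl⟩
    rw [Finset.coe_image]
    exact ⟨(i, q), by simpa using hq, rfl⟩
  induction t using PiTensorProduct.induction_on with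
  | smul_tprod r f =>
    rw [tprod_eq_prod_single]
    exact Subalgebra.smul_mem _ (Subalgebra.prod_mem _ (fun i _ => hsingle i (f i))) r
  | add x y hx hy => exact Subalgebra.add_mem _ (hx trivial) (hy trivial)

/-- the permutation action on the tensor power -/
@[reducible] noncomputable def permAction : MulSemiringAction (Equiv.Perm (Fin d)) (⨂[R] _ : Fin d, P) where
  smul σ t := SymTen.perm R P d σ t
  one_smul t := by
    show SymTen.perm R P d 1 t = t
    rw [SymTen.perm_apply]
    exact LinearEquiv.congr_fun (PiTensorProduct.reindex_refl (R := R) (s := fun _ : Fin d => P)) t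
  mul_smul σ τ t := by
    show SymTen.perm R P d (σ * τ) t = SymTen.perm R P d σ (SymTen.perm R P d τ t)
    rw [← perm_mul]
    rfl
  smul_zero σ := map_zero _
  smul_add σ x y := map_add _ _ _
  smul_one σ := map_one _
  smul_mul σ x y := map_mul _ _ _

/-- **Noether**: over a noetherian ring, the symmetric tensors of a finite type algebra are of
finite type. -/
theorem finiteType_TS [IsNoetherianRing R] [Algebra.FiniteType R P] :
    Algebra.FiniteType R (SymTen.TS R P d) := by
  letI := permAction R P d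
  haveI hT : Algebra.FiniteType R (⨂[R] _ : Fin d, P) := finiteType_tensorPower R P d
  haveI : Algebra.IsInvariant (SymTen.TS R P d) (⨂[R] _ : Fin d, P) (Equiv.Perm (Fin d)) :=
    ⟨fun b hb => ⟨⟨b, fun σ => by rw [← SymTen.perm_apply]; exact hb σ⟩, rfl⟩⟩
  haveI hint : Algebra.IsIntegral (SymTen.TS R P d) (⨂[R] _ : Fin d, P) :=
    Algebra.IsInvariant.isIntegral (SymTen.TS R P d) (⨂[R] _ : Fin d, P) (Equiv.Perm (Fin d))
  haveI : Algebra.FiniteType (SymTen.TS R P d) (⨂[R] _ : Fin d, P) :=
    Algebra.FiniteType.of_restrictScalars_finiteType R _ _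
  haveI hfin : Module.Finite (SymTen.TS R P d) (⨂[R] _ : Fin d, P) := Algebra.IsIntegral.finite
  exact ⟨fg_of_fg_of_fg R (SymTen.TS R P d) (⨂[R] _ : Fin d, P) hT.out hfin.fg_top
    Subtype.val_injective⟩

end Noether

section General

variable {A : Type u} [CommRing A] {P : Type u} [CommRing P] [Algebra A P] {ι : Type u} (d : ℕ)
  (bas : Module.Basis ι A P) {C : Type u} [CommRing C] [Algebra A C]

theorem inv_one_tmul' (z : ⨂[A] _ : Fin d, P)
    (hz : ∀ σ : Equiv.Perm (Fin d), SymTen.perm A P d σ z = z) :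
    Inv d A ((1 : A) ⊗ₜ[A] z) := by
  intro σ
  rw [Algebra.TensorProduct.map_tmul, hz σ]
  rfl

/-- multiplicativity of `Lmap` on symmetric tensors (ground level) -/
theorem Lmap_mul_of_perm (G : MulLaw A P C d) (z w : ⨂[A] _ : Fin d, P)
    (hz : ∀ σ : Equiv.Perm (Fin d), SymTen.perm A P d σ z = z)
    (hw : ∀ σ : Equiv.Perm (Fin d), SymTen.perm A P d σ w = w) :
    Lmap d bas G.law (z * w) = Lmap d bas G.law z * Lmap d bas G.law w := by
  have h := Lmap_lTensor_mul d bas G A
    ((1 : A) ⊗ₜ[A] z) ((1 : A) ⊗ₜ[A] w) (inv_one_tmul' d z hz) (inv_one_tmul' d w hw)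
  rw [Algebra.TensorProduct.tmul_mul_tmul, LinearMap.lTensor_tmul, LinearMap.lTensor_tmul,
    LinearMap.lTensor_tmul, Algebra.TensorProduct.tmul_mul_tmul, mul_one] at h
  have h2 := congrArg (TensorProduct.lid A C) h
  rw [TensorProduct.lid_tmul, TensorProduct.lid_tmul, one_smul, one_smul] at h2
  exact h2

end General

section Gamma

variable {A : Type u} [CommRing A] {B C : Type u} [CommRing B] [Algebra A B] [CommRing C]
  [Algebra A C] {d : ℕ} (γ : MulLaw A B C d) (hγ : IsGammaD γ)
  (Z : Type u) [CommRing Z] [Algebra Z A] [Algebra Z C] [IsScalarTower Z A C]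
  (PZ : Type u) [CommRing PZ] [Algebra Z PZ]
  {ι : Type u} (bZ : Module.Basis ι Z PZ)
  (π : A ⊗[Z] PZ →ₐ[A] B) (hπ : Function.Surjective π)

theorem j_E (α : Fin d → ι) :
    j Z PZ A d (E d bZ α) = E d (Algebra.TensorProduct.basis A bZ) α := by
  rw [E_apply, E_apply, j_tprod]
  congr 1
  funext i
  rw [Algebra.TensorProduct.basis_apply]

theorem j_O (μ : ι →₀ ℕ) :
    j Z PZ A d (O d bZ μ) = O d (Algebra.TensorProduct.basis A bZ) μ := by
  classical
  rw [O_eq, O_eq, map_sum]
  refine Finset.sum_congr rfl (fun α _ => ?_)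
  split_ifs
  · exact j_E Z PZ bZ α
  · exact map_zero _

theorem perm_j_of_mem' (t : ⨂[Z] _ : Fin d, PZ) (ht : t ∈ SymTen.TS Z PZ d)
    (σ : Equiv.Perm (Fin d)) :
    SymTen.perm A (A ⊗[Z] PZ) d σ (j Z PZ A d t) = j Z PZ A d t := by
  rw [← j_perm, SymTen.perm_apply, ht σ]

variable [IsNoetherianRing Z] [Algebra.FiniteType Z PZ]

include hγ hπ bZ in
theorem finiteType_of_surj : Algebra.FiniteType A C := by
  classical
  let bas : Module.Basis ι A (A ⊗[Z] PZ) := Algebra.TensorProduct.basis A bZ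
  let G : MulLaw A (A ⊗[Z] PZ) C d := γ.precomp π
  let Lm : (⨂[A] _ : Fin d, A ⊗[Z] PZ) →ₗ[A] C := Lmap d bas G.law
  let f0 : SymTen.TS Z PZ d →ₐ[Z] C :=
    AlgHom.ofLinearMap
      ((Lm.restrictScalars Z ∘ₗ (j Z PZ A d).toLinearMap) ∘ₗ (SymTen.TS Z PZ d).val.toLinearMap)
      (by
        show Lm (j Z PZ A d ((1 : SymTen.TS Z PZ d) : ⨂[Z] _ : Fin d, PZ)) = 1
        rw [OneMemClass.coe_one, map_one]
        exact Lmap_one d bas G)
      (by
        intro t t'
        show Lm (j Z PZ A d ((t * t' : SymTen.TS Z PZ d) : ⨂[Z] _ : Fin d, PZ)) =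
          Lm (j Z PZ A d (t : ⨂[Z] _ : Fin d, PZ)) * Lm (j Z PZ A d (t' : ⨂[Z] _ : Fin d, PZ))
        rw [MulMemClass.coe_mul, map_mul]
        exact Lmap_mul_of_perm d bas G _ _ (perm_j_of_mem' Z PZ _ t.2) (perm_j_of_mem' Z PZ _ t'.2))
  let Ψ : A ⊗[Z] SymTen.TS Z PZ d →ₐ[A] C :=
    Algebra.TensorProduct.lift (Algebra.ofId A C) f0 (fun _ _ => Commute.all _ _)
  haveI : Algebra.FiniteType Z (SymTen.TS Z PZ d) := finiteType_TS Z PZ d
  have hsurj : Function.Surjective Ψ := by
    rw [← AlgHom.range_eq_top, eq_top_iff]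
    intro c _
    have hc : c ∈ Submodule.span A (Set.range (fun μ : ι →₀ ℕ => coeffB bas (γ.precomp π).law μ)) := by
      rw [span_coeffB_eq_top d γ bas π hπ hγ]; exact Submodule.mem_top
    have hle : Submodule.span A (Set.range (fun μ : ι →₀ ℕ => coeffB bas (γ.precomp π).law μ)) ≤
        Subalgebra.toSubmodule Ψ.range := by
      rw [Submodule.span_le]
      rintro _ ⟨μ, rfl⟩
      refine ⟨(1 : A) ⊗ₜ[Z] ⟨O d bZ μ, fun σ => ?_⟩, ?_⟩
      · rw [← SymTen.perm_apply]; exact perm_O d bZ σ μ
      · show Ψ _ = _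
        rw [Algebra.TensorProduct.lift_tmul, map_one, one_mul]
        show Lm (j Z PZ A d (O d bZ μ)) = _
        rw [j_O]
        exact Lmap_O d bas G μ
    exact hle hc
  exact Algebra.FiniteType.of_surjective Ψ hsurj

end Gamma

section Final

variable {A : Type u} [CommRing A] {B C : Type u} [CommRing B] [Algebra A B] [CommRing C]
  [Algebra A C] {d : ℕ} (γ : MulLaw A B C d) (hγ : IsGammaD γ)

include hγ in
/-- `Γ^d_A(B)` is of finite type when `B` is. -/
theorem finiteType_gamma [Algebra.FiniteType A B] : Algebra.FiniteType A C := by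
  obtain ⟨n, f, hf⟩ := Algebra.FiniteType.iff_quotient_mvPolynomial''.mp
    (inferInstance : Algebra.FiniteType A B)
  let Z : Subring A := (Int.castRingHom A).range
  haveI : IsNoetherianRing Z := isNoetherianRing_range _
  letI : Algebra Z C := Algebra.compHom C (algebraMap Z A)
  haveI : IsScalarTower Z A C := IsScalarTower.of_algebraMap_eq (fun _ => rfl)
  let bZ : Module.Basis (ULift.{u} (Fin n →₀ ℕ)) Z (MvPolynomial (Fin n) Z) :=
    (MvPolynomial.basisMonomials (Fin n) Z).reindex Equiv.ulift.symm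
  let π : A ⊗[Z] MvPolynomial (Fin n) Z →ₐ[A] B :=
    f.comp (MvPolynomial.algebraTensorAlgEquiv Z A).toAlgHom
  have hπ : Function.Surjective π :=
    hf.comp (MvPolynomial.algebraTensorAlgEquiv Z A).surjective
  exact finiteType_of_surj γ hγ Z (MvPolynomial (Fin n) Z) bZ π hπ

end Final

end Groth.Agent.H74.SymFT
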