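-- helper74: multiplicative laws from a finite field extension to the base field, part A:
-- the formula through embeddings into the algebraic closure.
import Groth.Agent.H74.SymFT

set_option autoImplicit false
set_option linter.style.haveILetI false
universe u

open scoped TensorProduct

namespace Groth.Agent.H74.FieldLaw

open PolLaw Groth.Agent.H74.GammaSpan Groth.Agent.H74.LawBasis Groth.Agent.H74.TensorK
  Groth.Agent.H74.SymInv Groth.Agent.H74.SymNormP Groth.Agent.H74.SymNormC
  Groth.Agent.H74.SymFT SymTen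

section A

variable {k : Type u} [Field k] {K : Type u} [Field K] [Algebra k K] [FiniteDimensional k K]
  (d : ℕ) (G : MulLaw k K k d)

/-- the chosen basis -/
noncomputable abbrev bas (k K : Type u) [Field k] [Field K] [Algebra k K] :
    Module.Basis (Module.Free.ChooseBasisIndex k K) k K := Module.Free.chooseBasis k K

/-- the character of the symmetric tensors attached to a law -/
noncomputable def chi : SymTen.TS k K d →ₐ[k] k :=
  AlgHom.ofLinearMap (Lmap d (bas k K) G.law ∘ₗ (SymTen.TS k K d).val.toLinearMap)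
    (by
      show Lmap d (bas k K) G.law ((1 : SymTen.TS k K d) : ⨂[k] _ : Fin d, K) = 1
      rw [OneMemClass.coe_one, Lmap_one])
    (by
      intro t t'
      show Lmap d (bas k K) G.law ((t * t' : SymTen.TS k K d) : ⨂[k] _ : Fin d, K) =
        Lmap d (bas k K) G.law (t : ⨂[k] _ : Fin d, K) *
          Lmap d (bas k K) G.law (t' : ⨂[k] _ : Fin d, K)
      rw [MulMemClass.coe_mul]
      exact Lmap_mul_of_perm d (bas k K) G _ _
        (fun σ => by rw [SymTen.perm_apply]; exact t.2 σ)
        (fun σ => by rw [SymTen.perm_apply]; exact t'.2 σ))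

omit [FiniteDimensional k K] in
theorem chi_apply (t : SymTen.TS k K d) :
    chi d G t = Lmap d (bas k K) G.law (t : ⨂[k] _ : Fin d, K) := rfl

theorem finite_tensorPower : Module.Finite k (⨂[k] _ : Fin d, K) :=
  Module.Finite.of_basis (Basis.piTensorProduct (fun _ : Fin d => bas k K))

/-- the character extends to the full tensor power, with values in the algebraic closure -/
theorem exists_ext : ∃ ψ : (⨂[k] _ : Fin d, K) →ₐ[k] AlgebraicClosure K,
    ∀ t : SymTen.TS k K d,
      ψ (t : ⨂[k] _ : Fin d, K) = algebraMap k (AlgebraicClosure K) (chi d G t) := by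
  haveI hfin : Module.Finite k (⨂[k] _ : Fin d, K) := finite_tensorPower d
  haveI : Algebra.IsIntegral k (⨂[k] _ : Fin d, K) := Algebra.IsIntegral.of_finite k _
  haveI : Algebra.IsIntegral (SymTen.TS k K d) (⨂[k] _ : Fin d, K) :=
    Algebra.IsIntegral.tower_top (R := k)
  have hsurj : Function.Surjective (chi d G) := fun c =>
    ⟨algebraMap k _ c, AlgHom.commutes _ c⟩
  haveI hmax : (RingHom.ker (chi d G)).IsMaximal := RingHom.ker_isMaximal_of_surjective _ hsurj
  obtain ⟨Q, hQmax, hQ⟩ := Ideal.exists_ideal_over_maximal_of_isIntegral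
    (S := ⨂[k] _ : Fin d, K) (RingHom.ker (chi d G)) (by
      rw [(RingHom.injective_iff_ker_eq_bot _).mp
        (show Function.Injective (algebraMap (SymTen.TS k K d) (⨂[k] _ : Fin d, K)) from
          Subtype.val_injective)]
      exact bot_le)
  letI : Field ((⨂[k] _ : Fin d, K) ⧸ Q) := Ideal.Quotient.field Q
  haveI : Module.Finite k ((⨂[k] _ : Fin d, K) ⧸ Q) :=
    Module.Finite.of_surjective (Ideal.Quotient.mkₐ k Q).toLinearMap
      (Ideal.Quotient.mkₐ_surjective k Q)
  haveI : Algebra.IsAlgebraic k ((⨂[k] _ : Fin d, K) ⧸ Q) := Algebra.IsAlgebraic.of_finite k _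
  let lift : ((⨂[k] _ : Fin d, K) ⧸ Q) →ₐ[k] AlgebraicClosure K := IsAlgClosed.lift
  refine ⟨lift.comp (Ideal.Quotient.mkₐ k Q), fun t => ?_⟩
  have hmem : (t - algebraMap k _ (chi d G t) : SymTen.TS k K d) ∈ RingHom.ker (chi d G) := by
    rw [RingHom.mem_ker, map_sub, AlgHom.commutes, Algebra.algebraMap_self_apply, sub_self]
  rw [← hQ, Ideal.mem_comap] at hmem
  have h2 : Ideal.Quotient.mk Q (t : ⨂[k] _ : Fin d, K) =
      Ideal.Quotient.mk Q (algebraMap k (⨂[k] _ : Fin d, K) (chi d G t)) := by
    rw [Ideal.Quotient.eq]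
    convert hmem using 1
    rw [map_sub, ← IsScalarTower.algebraMap_apply]
    rfl
  show lift (Ideal.Quotient.mk Q (t : ⨂[k] _ : Fin d, K)) = _
  rw [h2]
  exact lift.commutes _

theorem O_mem_TS (μ : Module.Free.ChooseBasisIndex k K →₀ ℕ) :
    O d (bas k K) μ ∈ SymTen.TS k K d := by
  rw [SymTen.mem_TS_iff]
  intro σ
  rw [← SymTen.perm_apply]
  exact perm_O d (bas k K) σ μ

/-- **The formula**: after extending scalars to the algebraic closure, the law is a product of
`d` embeddings. -/
theorem formula (ψ : (⨂[k] _ : Fin d, K) →ₐ[k] AlgebraicClosure K)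
    (hψ : ∀ t : SymTen.TS k K d,
      ψ (t : ⨂[k] _ : Fin d, K) = algebraMap k (AlgebraicClosure K) (chi d G t))
    (S : Type u) [CommSemiring S] [Algebra k S] (x : S ⊗[k] K) :
    Algebra.TensorProduct.map (AlgHom.id S S) (Algebra.ofId k (AlgebraicClosure K))
        (G.law.toFun' S x) =
      ∏ i : Fin d, Algebra.TensorProduct.map (AlgHom.id S S)
        (ψ.comp (PiTensorProduct.singleAlgHom (R := k) (A := fun _ : Fin d => K) i)) x := by
  classical
  have hR : ∏ i : Fin d, Algebra.TensorProduct.map (AlgHom.id S S)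
        (ψ.comp (PiTensorProduct.singleAlgHom (R := k) (A := fun _ : Fin d => K) i)) x =
      Algebra.TensorProduct.map (AlgHom.id S S) ψ
        ((SymTen.tpowLaw k K d).law.toFun' S x) := by
    rw [tpowLaw_toFun', map_prod]
    refine Finset.prod_congr rfl (fun i _ => ?_)
    rw [← AlgHom.comp_apply, ← Algebra.TensorProduct.map_comp]
    rfl
  rw [hR]
  have hG : G.law.toFun' S x =
      (Lmap d (bas k K) G.law).lTensor S ((SymTen.tpowLaw k K d).law.toFun' S x) := by
    conv_lhs => rw [← postcomp_Lmap d (bas k K) G.law G.homog]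
    rfl
  rw [hG]
  obtain ⟨J, s, rfl⟩ : ∃ (J : Finset (Module.Free.ChooseBasisIndex k K))
      (s : Module.Free.ChooseBasisIndex k K → S), x = ∑ i ∈ J, s i ⊗ₜ[k] bas k K i :=
    ⟨_, _, tmul_basis_expand (bas k K) S x⟩
  rw [toFun'_sum_tmul (bas k K) _ (SymTen.tpowLaw k K d).homog S s J, map_sum, map_sum, map_sum]
  refine Finset.sum_congr rfl (fun μ _ => ?_)
  rw [LinearMap.lTensor_tmul, Algebra.TensorProduct.map_tmul, Algebra.TensorProduct.map_tmul]
  congr 1
  exact (hψ ⟨_, O_mem_TS d μ⟩).symm

/-- the embeddings attached to a law -/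
theorem exists_embeddings : ∃ σ : Fin d → (K →ₐ[k] AlgebraicClosure K),
    ∀ (S : Type u) [CommSemiring S] [Algebra k S] (x : S ⊗[k] K),
      Algebra.TensorProduct.map (AlgHom.id S S) (Algebra.ofId k (AlgebraicClosure K))
          (G.law.toFun' S x) =
        ∏ i : Fin d, Algebra.TensorProduct.map (AlgHom.id S S) (σ i) x := by
  obtain ⟨ψ, hψ⟩ := exists_ext d G
  exact ⟨fun i => ψ.comp (PiTensorProduct.singleAlgHom (R := k) (A := fun _ : Fin d => K) i),
    fun S _ _ x => formula d G ψ hψ S x⟩

end A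

end Groth.Agent.H74.FieldLaw
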