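-- helper74: multiplicative laws from a finite field extension to the base field, part B:
-- the embeddings all occur with the same multiplicity.
import Groth.Agent.H74.FieldLawA

set_option autoImplicit false
set_option linter.style.haveILetI false
universe u

open scoped TensorProduct
open Polynomial

namespace Groth.Agent.H74.FieldLaw

section Poly

variable {k Ω : Type u} [Field k] [Field Ω] [Algebra k Ω] [IsAlgClosed Ω]

/-- a monic polynomial all of whose roots are roots of the irreducible `m` is a power of `m` -/
theorem eq_pow_of_roots (m : k[X]) (hm : Irreducible m) (hmm : m.Monic) :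
    ∀ (n : ℕ) (P : k[X]), P.natDegree = n → P.Monic →
      (∀ r : Ω, (P.map (algebraMap k Ω)).IsRoot r → (m.map (algebraMap k Ω)).IsRoot r) →
      ∃ j : ℕ, P = m ^ j := by
  intro n
  induction n using Nat.strong_induction_on with
  | _ n ih =>
    intro P hn hP hroots
    rcases Nat.eq_zero_or_pos n with h0 | hpos
    · refine ⟨0, ?_⟩
      rw [pow_zero]
      exact Polynomial.eq_one_of_monic_natDegree_zero hP (hn.trans h0)
    · have hdeg : (P.map (algebraMap k Ω)).degree ≠ 0 := by
        rw [degree_map, degree_eq_natDegree (Polynomial.Monic.ne_zero hP), hn]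
        exact_mod_cast hpos.ne'
      obtain ⟨r, hr⟩ := IsAlgClosed.exists_root _ hdeg
      have hmr : aeval r m = 0 := by
        have := hroots r hr
        rwa [IsRoot.def, eval_map_algebraMap] at this
      have hPr : aeval r P = 0 := by
        rwa [IsRoot.def, eval_map_algebraMap] at hr
      have hmin : m = minpoly k r := minpoly.eq_of_irreducible_of_monic hm hmr hmm
      obtain ⟨P', hP'⟩ : m ∣ P := by
        rw [hmin]; exact minpoly.dvd k r hPr
      have hP'm : P'.Monic := by
        rw [hP'] at hP
        exact Polynomial.Monic.of_mul_monic_left hmm hP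
      have hmdeg : 0 < m.natDegree := hm.natDegree_pos
      have hdegP' : P'.natDegree < n := by
        rw [← hn, hP', Polynomial.Monic.natDegree_mul hmm hP'm]
        omega
      obtain ⟨j, hj⟩ := ih P'.natDegree hdegP' P' rfl hP'm (fun r' hr' => by
        apply hroots r'
        rw [hP', Polynomial.map_mul, IsRoot.def, eval_mul]
        rw [IsRoot.def] at hr'
        rw [hr', mul_zero])
      exact ⟨j + 1, by rw [hP', hj, pow_succ']⟩

omit [IsAlgClosed Ω] in
/-- counting the roots of a product of linear factors that is a power of a separable polynomial -/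
theorem count_eq_of_pow [DecidableEq Ω] (m : k[X]) (hsep : m.Separable) (j d : ℕ)
    (r : Fin d → Ω)
    (h : (m ^ j).map (algebraMap k Ω) = ∏ i : Fin d, (X - C (r i)))
    (r₀ : Ω) (hr₀ : (m.map (algebraMap k Ω)).IsRoot r₀) :
    (Finset.univ.filter (fun i => r i = r₀)).card = j := by
  have h1 : (∏ i : Fin d, (X - C (r i))).roots = (Finset.univ : Finset (Fin d)).val.map r := by
    have e : Multiset.map (fun i => X - C (r i)) (Finset.univ : Finset (Fin d)).val =
        Multiset.map (fun a => X - C a) (Multiset.map r Finset.univ.val) := by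
      rw [Multiset.map_map]; rfl
    rw [Finset.prod_eq_multiset_prod, e]
    exact roots_multiset_prod_X_sub_C _
  have h2 : ((m ^ j).map (algebraMap k Ω)).roots = j • (m.map (algebraMap k Ω)).roots := by
    rw [Polynomial.map_pow, roots_pow]
  have hm0 : m.map (algebraMap k Ω) ≠ 0 :=
    (Polynomial.map_ne_zero_iff (algebraMap k Ω).injective).mpr hsep.ne_zero
  have h3 : (m.map (algebraMap k Ω)).roots.count r₀ = 1 := by
    apply le_antisymm (count_roots_le_one hsep.map r₀)
    rw [Multiset.one_le_count_iff_mem, mem_roots hm0]
    exact hr₀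
  have h4 := congrArg (Multiset.count r₀) (h2.symm.trans (congrArg roots h) |>.trans h1)
  rw [Multiset.count_nsmul, h3, mul_one, Multiset.count_map] at h4
  rw [h4, Finset.card_def, Finset.filter_val]
  congr 1
  refine Multiset.filter_congr (fun i _ => ?_)
  exact eq_comm

end Poly

section Theta

variable (k Ω : Type u) [Field k] [Field Ω] [Algebra k Ω]

/-- the comparison map `k[X] ⊗ Ω → Ω[X]` -/
noncomputable def theta : Polynomial k ⊗[k] Ω →ₐ[k] Polynomial Ω :=
  Algebra.TensorProduct.productMap (Polynomial.mapAlg k Ω)
    (IsScalarTower.toAlgHom k Ω (Polynomial Ω))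

theorem theta_tmul (p : Polynomial k) (ω : Ω) :
    theta k Ω (p ⊗ₜ[k] ω) = p.map (algebraMap k Ω) * C ω := by
  rw [theta, Algebra.TensorProduct.productMap_apply_tmul, Polynomial.mapAlg_eq_map]
  rfl

theorem theta_map_ofId (z : Polynomial k ⊗[k] k) :
    theta k Ω (Algebra.TensorProduct.map (AlgHom.id (Polynomial k) (Polynomial k))
      (Algebra.ofId k Ω) z) =
      (Algebra.TensorProduct.rid k k (Polynomial k) z).map (algebraMap k Ω) := by
  induction z using TensorProduct.induction_on with
  | zero => simp
  | tmul p c =>
    rw [Algebra.TensorProduct.map_tmul, theta_tmul, Algebra.TensorProduct.rid_tmul,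
      AlgHom.id_apply, Algebra.ofId_apply, Algebra.smul_def, Polynomial.map_mul,
      Polynomial.algebraMap_apply, Algebra.algebraMap_self_apply, Polynomial.map_C, mul_comm]
  | add x y hx hy => simp only [map_add, hx, hy, Polynomial.map_add]

variable {K : Type u} [Field K] [Algebra k K]

theorem theta_map_emb (σ : K →ₐ[k] Ω) (b : K) :
    theta k Ω (Algebra.TensorProduct.map (AlgHom.id (Polynomial k) (Polynomial k)) σ
      ((X : Polynomial k) ⊗ₜ[k] (1 : K) - (1 : Polynomial k) ⊗ₜ[k] b)) = X - C (σ b) := by
  rw [map_sub, map_sub, Algebra.TensorProduct.map_tmul, Algebra.TensorProduct.map_tmul,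
    theta_tmul, theta_tmul]
  simp

end Theta

section B

open PolLaw

variable (k : Type u) [Field k] (K : Type u) [Field K] [Algebra k K] [FiniteDimensional k K]

/-- a primitive element of the separable closure of `k` in `K` -/
noncomputable def prim : K :=
  ((Field.powerBasisOfFiniteOfSeparable k (separableClosure k K)).gen : separableClosure k K)

theorem prim_mem : prim k K ∈ separableClosure k K := SetLike.coe_mem _

theorem prim_separable : (minpoly k (prim k K)).Separable :=
  (mem_separableClosure_iff).mp (prim_mem k K)

variable {k K}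

/-- an embedding into the algebraic closure is determined by the image of the primitive element
of the separable closure -/
theorem emb_ext (τ τ' : K →ₐ[k] AlgebraicClosure K) (h : τ (prim k K) = τ' (prim k K)) :
    τ = τ' := by
  have h1 : τ.comp (separableClosure k K).val = τ'.comp (separableClosure k K).val :=
    (Field.powerBasisOfFiniteOfSeparable k (separableClosure k K)).algHom_ext h
  have h2 := IsPurelyInseparable.injective_comp_algebraMap (separableClosure k K) K
    (AlgebraicClosure K) (a₁ := (τ : K →+* AlgebraicClosure K))
    (a₂ := (τ' : K →+* AlgebraicClosure K)) (by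
      ext y
      exact congrArg (fun f : (separableClosure k K) →ₐ[k] AlgebraicClosure K => f y) h1)
  exact AlgHom.coe_ringHom_injective h2

theorem emb_root (τ : K →ₐ[k] AlgebraicClosure K) :
    ((minpoly k (prim k K)).map (algebraMap k (AlgebraicClosure K))).IsRoot (τ (prim k K)) := by
  rw [IsRoot.def, eval_map_algebraMap, aeval_algHom_apply, minpoly.aeval, map_zero]

/-- **Uniform multiplicity**: all embeddings occur equally often. -/
theorem exists_mult (d : ℕ) (G : MulLaw k K k d) :
    ∃ j : ℕ, j * Field.finSepDegree k K = d ∧
      ∀ (S : Type u) [CommSemiring S] [Algebra k S] (x : S ⊗[k] K),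
        Algebra.TensorProduct.map (AlgHom.id S S) (Algebra.ofId k (AlgebraicClosure K))
            (G.law.toFun' S x) =
          ∏ τ : (K →ₐ[k] AlgebraicClosure K),
            (Algebra.TensorProduct.map (AlgHom.id S S) τ x) ^ j := by
  classical
  obtain ⟨σ, hσ⟩ := exists_embeddings d G
  -- the characteristic polynomial of the primitive element
  set b := prim k K with hb
  set m := minpoly k b with hm
  have hint : IsIntegral k b := Algebra.IsIntegral.isIntegral b
  set z := G.law.toFun' (Polynomial k)
    ((X : Polynomial k) ⊗ₜ[k] (1 : K) - (1 : Polynomial k) ⊗ₜ[k] b) with hz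
  set P := Algebra.TensorProduct.rid k k (Polynomial k) z with hP
  have hPmap : P.map (algebraMap k (AlgebraicClosure K)) =
      ∏ i : Fin d, (X - C (σ i b)) := by
    rw [hP, ← theta_map_ofId, hz, hσ, map_prod]
    exact Finset.prod_congr rfl (fun i _ => theta_map_emb k (AlgebraicClosure K) (σ i) b)
  have hPmonic : P.Monic := by
    apply Polynomial.monic_of_injective (algebraMap k (AlgebraicClosure K)).injective
    rw [hPmap]
    exact monic_prod_of_monic _ _ (fun i _ => monic_X_sub_C _)
  obtain ⟨j, hj⟩ := eq_pow_of_roots (Ω := AlgebraicClosure K) m (minpoly.irreducible hint)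
    (minpoly.monic hint) P.natDegree P rfl hPmonic (fun r hr => by
      rw [hPmap, IsRoot.def, eval_prod, Finset.prod_eq_zero_iff] at hr
      obtain ⟨i, _, hi⟩ := hr
      rw [eval_sub, eval_X, eval_C, sub_eq_zero] at hi
      rw [hi]
      exact emb_root (σ i))
  have hcount : ∀ τ : K →ₐ[k] AlgebraicClosure K,
      (Finset.univ.filter (fun i => σ i = τ)).card = j := by
    intro τ
    have h1 := count_eq_of_pow (Ω := AlgebraicClosure K) m (prim_separable k K) j d
      (fun i => σ i b) (by rw [← hj, hPmap]) (τ b) (emb_root τ)
    rw [← h1]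
    congr 1
    ext i
    simp only [Finset.mem_filter, Finset.mem_univ, true_and]
    exact ⟨fun h => by rw [h], fun h => emb_ext _ _ h⟩
  refine ⟨j, ?_, fun S _ _ x => ?_⟩
  · have h2 := Finset.card_eq_sum_card_fiberwise (s := (Finset.univ : Finset (Fin d)))
      (t := (Finset.univ : Finset (K →ₐ[k] AlgebraicClosure K))) (f := σ)
      (fun i _ => Finset.mem_univ _)
    rw [Finset.card_univ, Fintype.card_fin] at h2
    rw [h2, Finset.sum_congr rfl (fun τ _ => hcount τ), Finset.sum_const, Finset.card_univ,
      smul_eq_mul, mul_comm, Field.finSepDegree, Nat.card_eq_fintype_card]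
  · rw [hσ S x, ← Finset.prod_fiberwise Finset.univ σ]
    refine Finset.prod_congr rfl (fun τ _ => ?_)
    rw [Finset.prod_congr rfl (fun i hi => by rw [(Finset.mem_filter.mp hi).2]),
      Finset.prod_const, hcount τ]

end B

end Groth.Agent.H74.FieldLaw
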