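-- helper74: multiplicative laws from a finite field extension to the base field, part C:
-- from ring test algebras to semiring test algebras, and uniqueness.
import Groth.Agent.H74.FieldLawB

set_option autoImplicit false
set_option linter.style.haveILetI false
universe u

open scoped TensorProduct
open Polynomial

namespace Groth.Agent.H74.FieldLaw

open PolLaw

section Transport

variable {k : Type u} [Field k] {K : Type u} [Field K] [Algebra k K]

theorem transport (F : K →ₚₗ[k] k) {S S' : Type u} [CommSemiring S] [Algebra k S]
    [CommSemiring S'] [Algebra k S'] (e : S →ₐ[k] S') (x : S ⊗[k] K) :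
    Algebra.TensorProduct.map e (AlgHom.id k k) (F.toFun' S x) =
      F.toFun' S' (Algebra.TensorProduct.map e (AlgHom.id k K) x) := by
  have h := congrFun (F.isCompat' e) x
  simp only [Function.comp_apply] at h
  rw [rTensor_algHom_apply, rTensor_algHom_apply] at h
  exact h

theorem map_equiv_injective {S S' : Type u} [CommSemiring S] [Algebra k S]
    [CommSemiring S'] [Algebra k S'] (e : S ≃ₐ[k] S') (B : Type u) [CommRing B] [Algebra k B] :
    Function.Injective (Algebra.TensorProduct.map e.toAlgHom (AlgHom.id k B)) := by
  apply Function.LeftInverse.injective (g := Algebra.TensorProduct.map e.symm.toAlgHom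
    (AlgHom.id k B))
  intro x
  rw [← AlgHom.comp_apply, ← Algebra.TensorProduct.map_comp]
  have : e.symm.toAlgHom.comp e.toAlgHom = AlgHom.id k S := by
    ext s; simp
  rw [this, AlgHom.id_comp, Algebra.TensorProduct.map_id, AlgHom.id_apply]

theorem map_smul' {S S' : Type u} [CommSemiring S] [Algebra k S]
    [CommSemiring S'] [Algebra k S'] (e : S →ₐ[k] S') (B : Type u) [CommRing B] [Algebra k B]
    (a : S) (w : S ⊗[k] B) :
    Algebra.TensorProduct.map e (AlgHom.id k B) (a • w) =
      e a • Algebra.TensorProduct.map e (AlgHom.id k B) w := by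
  induction w using TensorProduct.induction_on with
  | zero => simp
  | tmul s b =>
    rw [TensorProduct.smul_tmul', Algebra.TensorProduct.map_tmul, Algebra.TensorProduct.map_tmul,
      TensorProduct.smul_tmul', smul_eq_mul, smul_eq_mul, map_mul]
  | add x y hx hy => simp only [smul_add, map_add, hx, hy]

variable (d : ℕ)

/-- the hypotheses on a law, for ring test algebras -/
def Good (F : K →ₚₗ[k] k) : Prop :=
  (∀ (S : Type u) [CommRing S] [Algebra k S], F.toFun' S 1 = 1 ∧
      ∀ x y : S ⊗[k] K, F.toFun' S (x * y) = F.toFun' S x * F.toFun' S y) ∧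
    ∀ (S : Type u) [CommRing S] [Algebra k S] (a : S) (z : S ⊗[k] K),
      F.toFun' S (a • z) = a ^ d • F.toFun' S z

/-- a good law is a multiplicative homogeneous law (for semiring test algebras) -/
noncomputable def toMulLaw (F : K →ₚₗ[k] k) (hF : Good d F) : MulLaw k K k d where
  law := F
  homog := by
    intro S _ _ a z
    let e : S ≃ₐ[k] k ⊗[k] S := (Algebra.TensorProduct.lid k S).symm
    apply map_equiv_injective e k
    rw [transport, map_smul', hF.2, map_smul', map_pow, transport]
  mult := by
    intro S _ _
    let e : S ≃ₐ[k] k ⊗[k] S := (Algebra.TensorProduct.lid k S).symm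
    refine ⟨?_, fun x y => ?_⟩
    · apply map_equiv_injective e k
      rw [transport, map_one, (hF.1 _).1, map_one]
    · apply map_equiv_injective e k
      rw [transport, map_mul, (hF.1 _).2, map_mul, transport, transport]

end Transport

section Uniq

variable {k : Type u} [Field k] {K : Type u} [Field K] [Algebra k K] [FiniteDimensional k K]

omit [FiniteDimensional k K] in
/-- extension of scalars to the algebraic closure is injective -/
theorem map_ofId_injective (S : Type u) [CommSemiring S] [Algebra k S] :
    Function.Injective (Algebra.TensorProduct.map (AlgHom.id S S)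
      (Algebra.ofId k (AlgebraicClosure K))) := by
  obtain ⟨ρ, hρ⟩ := LinearMap.exists_leftInverse_of_injective
    (Algebra.ofId k (AlgebraicClosure K)).toLinearMap
    (LinearMap.ker_eq_bot.mpr (Algebra.ofId k (AlgebraicClosure K)).toRingHom.injective)
  apply Function.LeftInverse.injective (g := ρ.lTensor S)
  intro y
  rw [← lTensor_algHom_apply, ← LinearMap.lTensor_comp_apply, hρ, LinearMap.lTensor_id,
    LinearMap.id_apply]

variable (d : ℕ)

theorem finSepDegree_pos' : 0 < Field.finSepDegree k K := by
  rw [Field.finSepDegree, Nat.card_eq_fintype_card]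
  exact Fintype.card_pos

/-- **Uniqueness** of the multiplicative law of degree `d`. -/
theorem uniq (F F' : K →ₚₗ[k] k) (hF : Good d F) (hF' : Good d F') : F = F' := by
  obtain ⟨j, hj, h⟩ := exists_mult d (toMulLaw d F hF)
  obtain ⟨j', hj', h'⟩ := exists_mult d (toMulLaw d F' hF')
  have hjj : j = j' := Nat.eq_of_mul_eq_mul_right finSepDegree_pos' (hj.trans hj'.symm)
  subst hjj
  refine PolynomialLaw.ext ?_
  funext S _ _ x
  apply map_ofId_injective (K := K) S
  exact (h S x).trans (h' S x).symm

end Uniq

end Groth.Agent.H74.FieldLaw
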