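-- helper74: multiplicative laws from a finite field extension to the base field, part D:
-- necessity of the divisibility condition.
import Groth.Agent.H74.FieldLawC

set_option autoImplicit false
set_option linter.style.haveILetI false
set_option linter.unusedSectionVars false
universe u

open scoped TensorProduct
open Polynomial

namespace Groth.Agent.H74.FieldLaw

open PolLaw

section D

variable (k : Type u) [Field k] (K : Type u) [Field K] [Algebra k K] [FiniteDimensional k K]
variable (L : Type u) [Field L] [Algebra k L] (ι : L →ₐ[k] K) (β : L)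

/-- the canonical embedding into the algebraic closure -/
noncomputable abbrev tau0 : K →ₐ[k] AlgebraicClosure K :=
  IsScalarTower.toAlgHom k K (AlgebraicClosure K)

/-- its restriction to the subfield -/
noncomputable abbrev iotaS : L →ₐ[k] AlgebraicClosure K :=
  (tau0 k K).comp ι

/-- the minimal polynomial, over the subfield -/
noncomputable abbrev mS : Polynomial L :=
  (minpoly k (prim k K)).map (algebraMap k L)

variable {k K L}

theorem mS_root (hβ : ι β = prim k K) : (mS k K L).IsRoot β := by
  rw [IsRoot.def, eval_map_algebraMap]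
  apply ι.toRingHom.injective
  rw [map_zero]
  change ι (aeval β (minpoly k (prim k K))) = 0
  rw [← aeval_algHom_apply, hβ]
  exact minpoly.aeval k (prim k K)

variable (k K L)

/-- the cofactor -/
noncomputable def gpol : Polynomial L := mS k K L /ₘ (X - C β)

variable {k K L}

theorem gpol_spec (hβ : ι β = prim k K) : (X - C β) * gpol k K L β = mS k K L :=
  mul_divByMonic_eq_iff_isRoot.mpr (mS_root ι β hβ)

theorem gpol_eval_ne (hβ : ι β = prim k K) : (gpol k K L β).eval β ≠ 0 := by
  have hsep : (mS k K L).Separable := (prim_separable k K).map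
  have h := hsep.eval₂_derivative_ne_zero (RingHom.id _) (x := β) (by
    rw [eval₂_id]; exact mS_root ι β hβ)
  have h2 : (derivative (mS k K L)).eval β = (gpol k K L β).eval β := by
    rw [← gpol_spec ι β hβ]
    simp
  rwa [eval₂_id, h2] at h

variable (k K L)

/-- the diagonal element of `L ⊗ K` -/
noncomputable def eps : L ⊗[k] K :=
  ∑ l ∈ Finset.range ((gpol k K L β).natDegree + 1),
    ((gpol k K L β).coeff l * ((gpol k K L β).eval β)⁻¹) ⊗ₜ[k] ((prim k K) ^ l)

variable {k K L}

/-- multiplication into the algebraic closure along an embedding -/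
noncomputable abbrev muT (τ : K →ₐ[k] AlgebraicClosure K) :
    L ⊗[k] K →ₐ[k] AlgebraicClosure K :=
  Algebra.TensorProduct.productMap (iotaS k K L ι) τ

theorem muT_tmul (τ : K →ₐ[k] AlgebraicClosure K) (s : L) (b : K) :
    muT ι τ (s ⊗ₜ[k] b) = iotaS k K L ι s * τ b :=
  Algebra.TensorProduct.productMap_apply_tmul _ _ _ _

theorem muT_eps (τ : K →ₐ[k] AlgebraicClosure K) :
    muT ι τ (eps k K L β) = (iotaS k K L ι ((gpol k K L β).eval β))⁻¹ *
      ((gpol k K L β).map (iotaS k K L ι).toRingHom).eval (τ (prim k K)) := by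
  have h2 : ((gpol k K L β).map (iotaS k K L ι).toRingHom).eval (τ (prim k K)) =
      ∑ l ∈ Finset.range ((gpol k K L β).natDegree + 1),
        iotaS k K L ι ((gpol k K L β).coeff l) * (τ (prim k K)) ^ l := by
    rw [eval_eq_sum_range, natDegree_map]
    refine Finset.sum_congr rfl (fun l _ => ?_)
    rw [coeff_map]
    rfl
  rw [h2, eps, map_sum, Finset.mul_sum]
  refine Finset.sum_congr rfl (fun l _ => ?_)
  rw [muT_tmul, map_mul, map_inv₀, map_pow]
  ring

theorem mS_map : (mS k K L).map (iotaS k K L ι).toRingHom =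
    (minpoly k (prim k K)).map (algebraMap k (AlgebraicClosure K)) := by
  rw [mS, Polynomial.map_map]
  congr 1
  ext c
  simp

theorem muT_eps_eq [DecidableEq (K →ₐ[k] AlgebraicClosure K)] (hβ : ι β = prim k K)
    (τ : K →ₐ[k] AlgebraicClosure K) :
    muT ι τ (eps k K L β) = if τ = tau0 k K then 1 else 0 := by
  rw [muT_eps]
  have hne : iotaS k K L ι ((gpol k K L β).eval β) ≠ 0 := by
    intro h0
    apply gpol_eval_ne ι β hβ
    apply (iotaS k K L ι).toRingHom.injective
    rw [map_zero]
    exact h0
  have hroot := emb_root τ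
  rw [← mS_map ι, ← gpol_spec ι β hβ, Polynomial.map_mul, IsRoot.def, eval_mul,
    Polynomial.map_sub, Polynomial.map_X, Polynomial.map_C, eval_sub, eval_X, eval_C] at hroot
  split_ifs with hτ
  · subst hτ
    have : ((gpol k K L β).map (iotaS k K L ι).toRingHom).eval (tau0 k K (prim k K)) =
        iotaS k K L ι ((gpol k K L β).eval β) := by
      rw [eval_map, ← hβ]
      exact eval₂_at_apply (iotaS k K L ι).toRingHom β
    rw [this, inv_mul_cancel₀ hne]
  · have hv : τ (prim k K) - (iotaS k K L ι).toRingHom β ≠ 0 := by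
      intro h0
      apply hτ
      apply emb_ext
      rw [sub_eq_zero] at h0
      rw [h0, ← hβ]
      rfl
    rw [(mul_eq_zero.mp hroot).resolve_left hv, mul_zero]

/-- multiplication `L ⊗ Ω → Ω` -/
noncomputable abbrev nuT : L ⊗[k] AlgebraicClosure K →ₐ[k] AlgebraicClosure K :=
  Algebra.TensorProduct.productMap (iotaS k K L ι) (AlgHom.id k (AlgebraicClosure K))

theorem nuT_map (τ : K →ₐ[k] AlgebraicClosure K) (w : L ⊗[k] K) :
    nuT ι (Algebra.TensorProduct.map (AlgHom.id L L) τ w) = muT ι τ w := by
  induction w using TensorProduct.induction_on with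
  | zero => simp
  | tmul s b =>
    rw [Algebra.TensorProduct.map_tmul, muT_tmul]
    exact Algebra.TensorProduct.productMap_apply_tmul _ _ _ _
  | add x y hx hy => simp only [map_add, hx, hy]

theorem nuT_ofId (z : L ⊗[k] k) :
    nuT ι (Algebra.TensorProduct.map (AlgHom.id L L) (Algebra.ofId k (AlgebraicClosure K)) z) =
      iotaS k K L ι (Algebra.TensorProduct.rid k k L z) := by
  induction z using TensorProduct.induction_on with
  | zero => simp
  | tmul s c =>
    rw [Algebra.TensorProduct.map_tmul, Algebra.TensorProduct.rid_tmul]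
    refine (Algebra.TensorProduct.productMap_apply_tmul _ _ _ _).trans ?_
    rw [AlgHom.id_apply, AlgHom.id_apply, Algebra.ofId_apply, map_smul, Algebra.smul_def,
      mul_comm]
  | add x y hx hy => simp only [map_add, hx, hy]

/-- **Necessity, step 1**: the `j`-th powers lie in the subfield generated by the primitive
element of the separable closure. -/
theorem pow_mem_range (hβ : ι β = prim k K) (d : ℕ) (G : MulLaw k K k d) (j : ℕ)
    (hform : ∀ (x : L ⊗[k] K),
        Algebra.TensorProduct.map (AlgHom.id L L) (Algebra.ofId k (AlgebraicClosure K))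
            (G.law.toFun' L x) =
          ∏ τ : (K →ₐ[k] AlgebraicClosure K),
            (Algebra.TensorProduct.map (AlgHom.id L L) τ x) ^ j)
    (a : K) : a ^ j ∈ ι.range := by
  classical
  set x : L ⊗[k] K := eps k K L β * ((1 : L) ⊗ₜ[k] a) + (1 - eps k K L β) with hx
  have h1 := congrArg (nuT ι) (hform x)
  rw [nuT_ofId, map_prod] at h1
  have h2 : ∀ τ : K →ₐ[k] AlgebraicClosure K,
      nuT ι ((Algebra.TensorProduct.map (AlgHom.id L L) τ x) ^ j) =
        if τ = tau0 k K then (tau0 k K a) ^ j else 1 := by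
    intro τ
    rw [map_pow, nuT_map, hx, map_add, map_mul, map_sub, map_one, muT_eps_eq ι β hβ, muT_tmul,
      map_one, one_mul]
    split_ifs with hτ
    · rw [hτ]; ring
    · rw [zero_mul, zero_add, sub_zero, one_pow]
  rw [Finset.prod_congr rfl (fun τ _ => h2 τ), Finset.prod_ite_eq' Finset.univ (tau0 k K),
    if_pos (Finset.mem_univ _), ← map_pow] at h1
  refine ⟨Algebra.TensorProduct.rid k k L (G.law.toFun' L x), ?_⟩
  apply (tau0 k K).toRingHom.injective
  exact h1

end D

section Dvd

variable {K : Type u} [Field K] (F : Subfield K)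

/-- the exponent divides every `j` with `a ^ j ∈ F` for all `a` -/
theorem dvd_of_pow_mem (e : ℕ) (he : 0 < e) (hexp : ∀ x : K, x ^ e ∈ F)
    (hmin : ∀ n : ℕ, 0 < n → (∀ x : K, x ^ n ∈ F) → e ≤ n) (j : ℕ) (hj : ∀ x : K, x ^ j ∈ F) :
    e ∣ j := by
  rcases Nat.eq_zero_or_pos j with h0 | hpos
  · rw [h0]; exact dvd_zero e
  have hg : ∀ x : K, x ^ (Nat.gcd e j) ∈ F := by
    intro x
    rcases eq_or_ne x 0 with hx | hx
    · rw [hx, zero_pow (Nat.gcd_pos_of_pos_left j he).ne']
      exact zero_mem F
    · have h1 : x ^ ((Nat.gcd e j : ℕ) : ℤ) = (x ^ e) ^ (Nat.gcdA e j) * (x ^ j) ^ (Nat.gcdB e j) := by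
        rw [Nat.gcd_eq_gcd_ab, zpow_add₀ hx, zpow_mul, zpow_mul, zpow_natCast, zpow_natCast]
      rw [← zpow_natCast, h1]
      exact mul_mem (zpow_mem (hexp x) _) (zpow_mem (hj x) _)
  have h2 := hmin _ (Nat.gcd_pos_of_pos_left j he) hg
  have h3 : Nat.gcd e j = e :=
    le_antisymm (Nat.le_of_dvd he (Nat.gcd_dvd_left e j)) h2
  rw [← h3]
  exact Nat.gcd_dvd_right e j

end Dvd

end Groth.Agent.H74.FieldLaw
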