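-- helper74: multiplicative laws from a finite field extension to the base field, part E:
-- the necessity and sufficiency of the divisibility condition.
import Groth.Agent.H74.FieldLawD

set_option autoImplicit false
set_option linter.style.haveILetI false
set_option linter.unusedSectionVars false
universe u

open scoped TensorProduct
open Polynomial

namespace Groth.Agent.H74.FieldLaw

open PolLaw

section Comp

variable {A : Type u} [CommRing A] {B C D : Type u} [CommRing B] [Algebra A B]
  [CommRing C] [Algebra A C] [CommRing D] [Algebra A D]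

/-- composition of multiplicative laws -/
noncomputable def mulComp {d e : ℕ} (G : MulLaw A C D e) (F : MulLaw A B C d) :
    MulLaw A B D (d * e) where
  law := G.law.comp F.law
  homog S _ _ s x := by
    show G.law.toFun' S (F.law.toFun' S (s • x)) = s ^ (d * e) • G.law.toFun' S (F.law.toFun' S x)
    rw [F.homog S s x, G.homog S (s ^ d), ← pow_mul]
  mult S _ _ := by
    refine ⟨?_, fun x y => ?_⟩
    · show G.law.toFun' S (F.law.toFun' S 1) = 1
      rw [(F.mult S).1, (G.mult S).1]
    · show G.law.toFun' S (F.law.toFun' S (x * y)) =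
        G.law.toFun' S (F.law.toFun' S x) * G.law.toFun' S (F.law.toFun' S y)
      rw [(F.mult S).2, (G.mult S).2]

end Comp

section Frob

variable {k : Type u} [Field k] (q n : ℕ) [ExpChar k q] {K L : Type u} [CommRing K] [Algebra k K]
  [CommRing L] [Algebra k L]
  (φ : K →+* L) (hφ : ∀ (c : k) (a : K), φ (c • a) = c ^ (q ^ n) • φ a)

theorem add_pow_alg (S : Type u) [CommSemiring S] [Algebra k S] (s t : S) :
    (s + t) ^ (q ^ n) = s ^ (q ^ n) + t ^ (q ^ n) := by
  rcases subsingleton_or_nontrivial S with h | h
  · exact Subsingleton.elim _ _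
  · haveI : ExpChar S q := expChar_of_injective_ringHom (algebraMap k S).injective q
    exact add_pow_expChar_pow s t q n

/-- the Frobenius-semilinear extension of `φ` to a test algebra -/
noncomputable def frobFun (S : Type u) [CommSemiring S] [Algebra k S] : S ⊗[k] K →+ S ⊗[k] L :=
  TensorProduct.liftAddHom
    { toFun := fun s =>
        { toFun := fun a => (s ^ (q ^ n)) ⊗ₜ[k] φ a
          map_zero' := by rw [map_zero, TensorProduct.tmul_zero]
          map_add' := fun a b => by rw [map_add, TensorProduct.tmul_add] }
      map_zero' := by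
        ext a
        show ((0 : S) ^ (q ^ n)) ⊗ₜ[k] φ a = 0
        rw [zero_pow (pow_ne_zero n (expChar_pos k q).ne'), TensorProduct.zero_tmul]
      map_add' := fun s t => by
        ext a
        show ((s + t) ^ (q ^ n)) ⊗ₜ[k] φ a = (s ^ (q ^ n)) ⊗ₜ[k] φ a + (t ^ (q ^ n)) ⊗ₜ[k] φ a
        rw [add_pow_alg (k := k) q n S, TensorProduct.add_tmul] }
    (fun c s a => by
      show ((c • s) ^ (q ^ n)) ⊗ₜ[k] φ a = (s ^ (q ^ n)) ⊗ₜ[k] φ (c • a)
      rw [hφ, _root_.smul_pow, TensorProduct.smul_tmul])

theorem frobFun_tmul (S : Type u) [CommSemiring S] [Algebra k S] (s : S) (a : K) :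
    frobFun q n φ hφ S (s ⊗ₜ[k] a) = (s ^ (q ^ n)) ⊗ₜ[k] φ a :=
  TensorProduct.liftAddHom_tmul _ _ _ _

/-- the Frobenius law attached to a Frobenius-semilinear ring homomorphism -/
noncomputable def frobLaw : MulLaw k K L (q ^ n) where
  law :=
  { toFun' := fun S _ _ z => frobFun q n φ hφ S z
    isCompat' := fun {S _ _ S' _ _} g => by
      funext z
      simp only [Function.comp_apply]
      induction z using TensorProduct.induction_on with
      | zero => simp
      | tmul s a =>
        rw [frobFun_tmul, LinearMap.rTensor_tmul, LinearMap.rTensor_tmul, frobFun_tmul,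
          AlgHom.toLinearMap_apply, AlgHom.toLinearMap_apply, map_pow]
      | add x y hx hy => simp only [map_add, hx, hy] }
  homog S _ _ s z := by
    show frobFun q n φ hφ S (s • z) = s ^ (q ^ n) • frobFun q n φ hφ S z
    induction z using TensorProduct.induction_on with
    | zero => simp
    | tmul t a =>
      rw [TensorProduct.smul_tmul', frobFun_tmul, frobFun_tmul, TensorProduct.smul_tmul',
        smul_eq_mul, smul_eq_mul, mul_pow]
    | add x y hx hy => simp only [smul_add, map_add, hx, hy]
  mult S _ _ := by
    refine ⟨?_, fun x y => ?_⟩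
    · show frobFun q n φ hφ S 1 = 1
      rw [Algebra.TensorProduct.one_def, frobFun_tmul, one_pow, map_one]
      rfl
    · show frobFun q n φ hφ S (x * y) = frobFun q n φ hφ S x * frobFun q n φ hφ S y
      induction x using TensorProduct.induction_on with
      | zero => simp
      | tmul s a =>
        induction y using TensorProduct.induction_on with
        | zero => simp
        | tmul t b =>
          rw [Algebra.TensorProduct.tmul_mul_tmul, frobFun_tmul, frobFun_tmul, frobFun_tmul,
            Algebra.TensorProduct.tmul_mul_tmul, mul_pow, map_mul]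
        | add x y hx hy => simp only [mul_add, map_add, hx, hy]
      | add x y hx hy => simp only [add_mul, map_add, hx, hy]

end Frob

section Main

variable {k : Type u} [Field k] {K : Type u} [Field K] [Algebra k K] [FiniteDimensional k K]

omit [FiniteDimensional k K] in
theorem good_of_mulLaw (d : ℕ) (G : MulLaw k K k d) : Good d G.law :=
  ⟨fun S _ _ => G.mult S, fun S _ _ a z => G.homog S a z⟩

/-- **Necessity** of the divisibility condition. -/
theorem dvd_of_good (d e : ℕ) (he : 0 < e) (hexp : ∀ x : K, x ^ e ∈ separableClosure k K)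
    (hmin : ∀ n : ℕ, 0 < n → (∀ x : K, x ^ n ∈ separableClosure k K) → e ≤ n)
    (F : K →ₚₗ[k] k) (hF : Good d F) : Field.finSepDegree k K * e ∣ d := by
  obtain ⟨j, hj, hform⟩ := exists_mult d (toMulLaw d F hF)
  have hmem : ∀ a : K, a ^ j ∈ separableClosure k K := by
    intro a
    have h := pow_mem_range (L := ↥(separableClosure k K)) (separableClosure k K).val
      (Field.powerBasisOfFiniteOfSeparable k (separableClosure k K)).gen rfl d
      (toMulLaw d F hF) j (fun x => hform _ x) a
    rw [IntermediateField.range_val] at h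
    exact h
  have hdvd : e ∣ j :=
    dvd_of_pow_mem (separableClosure k K).toSubfield e he hexp hmin j hmem
  rw [← hj, mul_comm]
  exact Nat.mul_dvd_mul_right hdvd _

theorem finrank_sepClosure :
    Module.finrank k (separableClosure k K) = Field.finSepDegree k K := by
  rw [Field.finSepDegree_eq k K]
  rfl

/-- the exponent is a power of the characteristic exponent -/
theorem exists_pow_eq (e : ℕ) (he : 0 < e) (hexp : ∀ x : K, x ^ e ∈ separableClosure k K)
    (hmin : ∀ n : ℕ, 0 < n → (∀ x : K, x ^ n ∈ separableClosure k K) → e ≤ n) :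
    ∃ n : ℕ, e = (ringExpChar k) ^ n := by
  set q := ringExpChar k with hq
  haveI : ExpChar (separableClosure k K) q :=
    expChar_of_injective_algebraMap (algebraMap k (separableClosure k K)).injective q
  haveI : IsPurelyInseparable.HasExponent (separableClosure k K) K :=
    IsPurelyInseparable.hasExponent_of_finiteDimensional
  have hM : ∀ a : K, a ^ (q ^ (IsPurelyInseparable.exponent (separableClosure k K) K)) ∈
      separableClosure k K := by
    intro a
    obtain ⟨y, hy⟩ := IsPurelyInseparable.exponent_def' (separableClosure k K) q a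
    rw [← hy]
    exact y.2
  have hdvd : e ∣ q ^ (IsPurelyInseparable.exponent (separableClosure k K) K) :=
    dvd_of_pow_mem (separableClosure k K).toSubfield e he hexp hmin _ hM
  rcases expChar_is_prime_or_one k q with hp | h1
  · obtain ⟨m, _, hm⟩ := (Nat.dvd_prime_pow hp).mp hdvd
    exact ⟨m, hm⟩
  · rw [h1, one_pow] at hdvd
    exact ⟨0, by rw [pow_zero]; exact Nat.dvd_one.mp hdvd⟩

/-- **Sufficiency** of the divisibility condition. -/
theorem exists_good (d e : ℕ) (he : 0 < e) (hexp : ∀ x : K, x ^ e ∈ separableClosure k K)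
    (hmin : ∀ n : ℕ, 0 < n → (∀ x : K, x ^ n ∈ separableClosure k K) → e ≤ n)
    (hdvd : Field.finSepDegree k K * e ∣ d) : ∃ F : K →ₚₗ[k] k, Good d F := by
  obtain ⟨n, rfl⟩ := exists_pow_eq e he hexp hmin
  obtain ⟨c, rfl⟩ := hdvd
  haveI : ExpChar K (ringExpChar k) :=
    expChar_of_injective_algebraMap (algebraMap k K).injective (ringExpChar k)
  let φ : K →+* ↥(separableClosure k K) :=
    (iterateFrobenius K (ringExpChar k) n).codRestrict (separableClosure k K) (fun a => by
      rw [iterateFrobenius_def]; exact hexp a)
  have hφ : ∀ (c : k) (a : K), φ (c • a) = c ^ ((ringExpChar k) ^ n) • φ a := by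
    intro c a
    apply Subtype.ext
    show (c • a) ^ (ringExpChar k) ^ n = c ^ ((ringExpChar k) ^ n) • a ^ (ringExpChar k) ^ n
    rw [_root_.smul_pow]
  let G := mulComp (MulLaw.pow k k c)
    (mulComp (normLaw k ↥(separableClosure k K) (Field.finSepDegree k K) finrank_sepClosure)
      (frobLaw (ringExpChar k) n φ hφ))
  obtain ⟨F, hF⟩ : ∃ F : K →ₚₗ[k] k,
      Good (ringExpChar k ^ n * Field.finSepDegree k K * c) F := ⟨G.law, good_of_mulLaw _ G⟩
  refine ⟨F, ?_⟩
  rwa [mul_comm (ringExpChar k ^ n)] at hF

end Main

end Groth.Agent.H74.FieldLaw
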