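-- helper74: the Frobenius law `k^{1/p} → k` and the non-finiteness of `k^{1/p}` over `k`
-- for `k = F_p(t_0, t_1, …)`.
import Groth.Agent.H74.FieldLawE
import Groth.Prelude.Def_FrobAlg

set_option autoImplicit false
set_option linter.style.haveILetI false
set_option linter.unusedSectionVars false

open scoped TensorProduct

namespace Groth.Agent.H74.FrobEx

open PolLaw Groth.Agent.H74.FieldLaw

section Gen

variable (p : ℕ) [Fact p.Prime] (k : Type) [Field k] [CharP k p]

theorem expChar_inst : ExpChar k p := ExpChar.prime Fact.out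

/-- the inverse of the twisting isomorphism, as a ring homomorphism -/
noncomputable def phi : FrobAlg.Twist p k →+* k :=
  ((FrobAlg.toTwist p k).symm : FrobAlg.Twist p k →+* k)

theorem phi_apply (a : FrobAlg.Twist p k) : phi p k a = (FrobAlg.toTwist p k).symm a := rfl

theorem phi_smul (c : k) (a : FrobAlg.Twist p k) :
    phi p k (c • a) = c ^ (p ^ 1) • phi p k a := by
  rw [Algebra.smul_def, map_mul, FrobAlg.algebraMap_twist, pow_one, smul_eq_mul, phi_apply,
    phi_apply, RingEquiv.symm_apply_apply]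

theorem isHomog_congr {A : Type} [CommRing A] {M N : Type} [AddCommGroup M] [Module A M]
    [AddCommGroup N] [Module A N] {F : M →ₚₗ[A] N} {d d' : ℕ} (h : d = d')
    (hF : IsHomog F d) : IsHomog F d' := h ▸ hF

/-- the Frobenius law `k^{1/p} → k`, of degree `p` -/
noncomputable def frobLawP : MulLaw k (FrobAlg.Twist p k) k p :=
  haveI := expChar_inst p k
  { law := (frobLaw p 1 (phi p k) (phi_smul p k)).law
    homog := isHomog_congr (pow_one p) (frobLaw p 1 (phi p k) (phi_smul p k)).homog
    mult := (frobLaw p 1 (phi p k) (phi_smul p k)).mult }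

theorem frobLawP_tmul (S : Type) [CommSemiring S] [Algebra k S] (s : S)
    (a : FrobAlg.Twist p k) :
    (frobLawP p k).law.toFun' S (s ⊗ₜ[k] a) = (s ^ p) ⊗ₜ[k] (FrobAlg.toTwist p k).symm a := by
  haveI := expChar_inst p k
  show frobFun p 1 (phi p k) (phi_smul p k) S (s ⊗ₜ[k] a) = _
  rw [frobFun_tmul, pow_one, phi_apply]

/-- a law with the Frobenius formula has zero kernel -/
theorem ker_eq_bot (F : MulLaw k (FrobAlg.Twist p k) k p)
    (hF : ∀ (S : Type) [CommSemiring S] [Algebra k S] (s : S) (a : FrobAlg.Twist p k),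
      F.law.toFun' S (s ⊗ₜ[k] a) = (s ^ p) ⊗ₜ[k] (FrobAlg.toTwist p k).symm a) :
    PolLaw.ker F.law = ⊥ := by
  rw [eq_bot_iff]
  intro b hb
  rw [Ideal.mem_bot]
  by_contra hne
  have hb' : ∀ (S : Type) [CommSemiring S] [Algebra k S] (x w : S ⊗[k] FrobAlg.Twist p k),
      F.law.toFun' S (x + w * ((1 : S) ⊗ₜ[k] b)) = F.law.toFun' S x := hb
  have hb0 : (FrobAlg.toTwist p k).symm b ≠ 0 := by
    intro h0
    apply hne
    rw [← (FrobAlg.toTwist p k).apply_symm_apply b, h0, map_zero]
  have hinv : FrobAlg.toTwist p k (((FrobAlg.toTwist p k).symm b)⁻¹) * b = 1 := by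
    conv_lhs => rw [← (FrobAlg.toTwist p k).apply_symm_apply b]
    rw [RingEquiv.symm_apply_apply, ← map_mul, inv_mul_cancel₀ hb0, map_one]
  have h1 := hb' k 0 ((1 : k) ⊗ₜ[k] FrobAlg.toTwist p k (((FrobAlg.toTwist p k).symm b)⁻¹))
  rw [zero_add, Algebra.TensorProduct.tmul_mul_tmul, hinv, mul_one, hF,
    ← TensorProduct.zero_tmul k (0 : FrobAlg.Twist p k), hF, one_pow, map_one, map_zero,
    zero_pow (Fact.out : p.Prime).ne_zero, TensorProduct.zero_tmul] at h1
  have h2 := congrArg (Algebra.TensorProduct.lid k k) h1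
  rw [Algebra.TensorProduct.lid_tmul, map_zero, one_smul] at h2
  exact one_ne_zero h2

end Gen

section NotFinite

variable (p : ℕ) [Fact p.Prime]

open MvPolynomial in
/-- `k^{1/p}` is not finite over `k = F_p(t_0, t_1, …)` -/
theorem not_finite :
    ¬ Module.Finite (FractionRing (MvPolynomial ℕ (ZMod p)))
      (FrobAlg.Twist p (FractionRing (MvPolynomial ℕ (ZMod p)))) := by
  classical
  intro hfin
  have hli : LinearIndependent (FractionRing (MvPolynomial ℕ (ZMod p)))
      (fun i : ℕ => FrobAlg.toTwist p (FractionRing (MvPolynomial ℕ (ZMod p)))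
        (algebraMap (MvPolynomial ℕ (ZMod p)) (FractionRing (MvPolynomial ℕ (ZMod p))) (X i))) := by
    rw [linearIndependent_iff']
    intro s g hsum j hj
    have h1 : ∑ i ∈ s, (g i) ^ p *
        algebraMap (MvPolynomial ℕ (ZMod p)) (FractionRing (MvPolynomial ℕ (ZMod p))) (X i) = 0 := by
      have h := congrArg (FrobAlg.toTwist p (FractionRing (MvPolynomial ℕ (ZMod p)))).symm hsum
      rw [map_sum, map_zero] at h
      rw [← h]
      refine Finset.sum_congr rfl (fun i _ => ?_)
      rw [Algebra.smul_def, map_mul, FrobAlg.algebraMap_twist, RingEquiv.symm_apply_apply,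
        RingEquiv.symm_apply_apply]
    obtain ⟨b, hb⟩ := IsLocalization.exist_integer_multiples
      (nonZeroDivisors (MvPolynomial ℕ (ZMod p))) s g
    have hb' : ∀ i, ∃ a : MvPolynomial ℕ (ZMod p), i ∈ s →
        algebraMap (MvPolynomial ℕ (ZMod p)) (FractionRing (MvPolynomial ℕ (ZMod p))) a =
          (b : MvPolynomial ℕ (ZMod p)) • g i := by
      intro i
      by_cases hi : i ∈ s
      · obtain ⟨a, ha⟩ := hb i hi
        exact ⟨a, fun _ => ha⟩
      · exact ⟨0, fun h => absurd h hi⟩
    choose a ha using hb'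
    have h2 : ∑ i ∈ s, (a i) ^ p * X i = 0 := by
      apply IsFractionRing.injective (MvPolynomial ℕ (ZMod p))
        (FractionRing (MvPolynomial ℕ (ZMod p)))
      rw [map_sum, map_zero]
      have h3 : ∑ i ∈ s, algebraMap (MvPolynomial ℕ (ZMod p))
          (FractionRing (MvPolynomial ℕ (ZMod p))) ((a i) ^ p * X i) =
          (algebraMap (MvPolynomial ℕ (ZMod p)) (FractionRing (MvPolynomial ℕ (ZMod p)))
            (b : MvPolynomial ℕ (ZMod p))) ^ p * ∑ i ∈ s, (g i) ^ p *
            algebraMap (MvPolynomial ℕ (ZMod p)) (FractionRing (MvPolynomial ℕ (ZMod p)))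
              (X i) := by
        rw [Finset.mul_sum]
        refine Finset.sum_congr rfl (fun i hi => ?_)
        rw [map_mul, map_pow, ha i hi, Algebra.smul_def, mul_pow, mul_assoc]
      rw [h3, h1, mul_zero]
    have h3 := congrArg (pderiv j) h2
    rw [map_sum, map_zero] at h3
    have h4 : ∀ i ∈ s, pderiv j ((a i) ^ p * X i) = if i = j then (a i) ^ p else 0 := by
      intro i _
      have hp0 : pderiv j ((a i) ^ p) = 0 := by
        rw [Derivation.leibniz_pow, ← Nat.cast_smul_eq_nsmul (MvPolynomial ℕ (ZMod p)),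
          CharP.cast_eq_zero, zero_smul]
      rw [Derivation.leibniz, hp0, smul_zero, add_zero, pderiv_X, smul_eq_mul]
      by_cases hij : i = j
      · rw [if_pos hij, hij, Pi.single_eq_same, mul_one]
      · rw [if_neg hij, Pi.single_eq_of_ne hij, mul_zero]
    rw [Finset.sum_congr rfl h4, Finset.sum_ite_eq' s j, if_pos hj] at h3
    have haj : a j = 0 := pow_eq_zero_iff (Fact.out : p.Prime).ne_zero |>.mp h3
    have h5 := ha j hj
    rw [haj, map_zero, Algebra.smul_def] at h5
    have hbne : algebraMap (MvPolynomial ℕ (ZMod p)) (FractionRing (MvPolynomial ℕ (ZMod p)))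
        (b : MvPolynomial ℕ (ZMod p)) ≠ 0 := by
      intro h0
      have := IsFractionRing.injective (MvPolynomial ℕ (ZMod p))
        (FractionRing (MvPolynomial ℕ (ZMod p))) (h0.trans (map_zero _).symm)
      exact nonZeroDivisors.coe_ne_zero b this
    exact (mul_eq_zero.mp h5.symm).resolve_left hbne
  haveI := hli.finite
  exact _root_.not_finite ℕ

end NotFinite

end Groth.Agent.H74.FrobEx
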