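import Mathlib

/-! Lifting homomorphisms between modules with Frobenius-linear isomorphisms along
thickenings with nil kernel of bounded exponent. -/

set_option autoImplicit false
set_option maxHeartbeats 400000
universe u v w z

namespace Groth.Agent.H74.FrobLift

open MvPolynomial

section poly

variable (p : ℕ) [hp : Fact p.Prime]

theorem constantCoeff_frobeniusPolyAux (n : ℕ) :
    constantCoeff (WittVector.frobeniusPolyAux p n) = 0 := by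
  have h1 := WittVector.coeff_frobenius (p := p) (0 : WittVector p ℤ) n
  have h2 : (0 : WittVector p ℤ).coeff = (0 : ℕ → ℤ) := by
    funext i
    exact WittVector.zero_coeff p ℤ i
  rw [map_zero, WittVector.zero_coeff, h2, WittVector.frobeniusPoly, map_add, map_mul, map_pow,
    aeval_X, aeval_C, aeval_zero, Pi.zero_apply, zero_pow hp.out.ne_zero, zero_add] at h1
  have h3 : (p : ℤ) * constantCoeff (WittVector.frobeniusPolyAux p n) = 0 := by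
    simpa using h1.symm
  rcases mul_eq_zero.mp h3 with h | h
  · exact absurd h (by exact_mod_cast hp.out.ne_zero)
  · exact h

theorem aeval_mem_of_constantCoeff_eq_zero {S : Type*} [CommRing S] (I : Ideal S)
    (q : MvPolynomial ℕ ℤ) (hq : constantCoeff q = 0) (f : ℕ → S) (hf : ∀ n, f n ∈ I) :
    aeval f q ∈ I := by
  rw [← Ideal.Quotient.eq_zero_iff_mem, aeval_def, eval₂_comp_left]
  have h1 : (⇑(Ideal.Quotient.mk I) ∘ f) = (0 : ℕ → S ⧸ I) := by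
    funext n
    exact Ideal.Quotient.eq_zero_iff_mem.mpr (hf n)
  rw [h1, eval₂_zero_apply, hq, map_zero]

theorem coeff_frobenius_mem {S : Type*} [CommRing S] (I I' : Ideal S)
    (h1 : ∀ a ∈ I, (p : S) * a ∈ I') (h2 : ∀ a ∈ I, a ^ p ∈ I')
    (x : WittVector p S) (hx : ∀ n, x.coeff n ∈ I) (n : ℕ) :
    (WittVector.frobenius x).coeff n ∈ I' := by
  rw [WittVector.coeff_frobenius, WittVector.frobeniusPoly, map_add, map_mul, map_pow, aeval_X,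
    aeval_C]
  refine I'.add_mem (h2 _ (hx n)) ?_
  have h3 := aeval_mem_of_constantCoeff_eq_zero I _ (constantCoeff_frobeniusPolyAux p n)
    x.coeff hx
  have h4 : algebraMap ℤ S (p : ℤ) = (p : S) := by simp
  rw [h4]
  exact h1 _ h3

/-- the ideal generated by the `p^i a^(p^j)`, `a ∈ 𝔞`, `i + j = m` -/
def Ipow {S : Type*} [CommRing S] (𝔞 : Set S) (m : ℕ) : Ideal S :=
  Ideal.span {s | ∃ a ∈ 𝔞, ∃ i j : ℕ, i + j = m ∧ s = (p : S) ^ i * a ^ (p ^ j)}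

variable {S : Type*} [CommRing S] (𝔞 : Set S)

theorem mem_Ipow_zero (a : S) (ha : a ∈ 𝔞) : a ∈ Ipow p 𝔞 0 :=
  Ideal.subset_span ⟨a, ha, 0, 0, rfl, by simp⟩

theorem p_mul_mem (m : ℕ) (b : S) (hb : b ∈ Ipow p 𝔞 m) : (p : S) * b ∈ Ipow p 𝔞 (m + 1) := by
  refine Submodule.span_induction (p := fun b _ => (p : S) * b ∈ Ipow p 𝔞 (m + 1)) ?_ ?_ ?_ ?_ hb
  · rintro _ ⟨a, ha, i, j, hij, rfl⟩
    refine Ideal.subset_span ⟨a, ha, i + 1, j, by omega, ?_⟩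
    ring
  · rw [mul_zero]
    exact zero_mem _
  · intro x y _ _ hx hy
    rw [mul_add]
    exact add_mem hx hy
  · intro s x _ hx
    rw [smul_eq_mul, mul_left_comm]
    exact Ideal.mul_mem_left _ _ hx

theorem pow_p_mem (m : ℕ) (b : S) (hb : b ∈ Ipow p 𝔞 m) : b ^ p ∈ Ipow p 𝔞 (m + 1) := by
  obtain ⟨k, hk⟩ : ∃ k, p = k + 1 := Nat.exists_eq_succ_of_ne_zero hp.out.ne_zero
  have h2 : ∀ c : S, c ^ p = c ^ k * c := fun c =>
    (congrArg (fun e => c ^ e) hk).trans (pow_succ c k)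
  refine Submodule.span_induction (p := fun b _ => b ^ p ∈ Ipow p 𝔞 (m + 1)) ?_ ?_ ?_ ?_ hb
  · rintro _ ⟨a, ha, i, j, hij, rfl⟩
    have h1 : ((p : S) ^ i * a ^ (p ^ j)) ^ p =
        ((p : S) ^ i) ^ k * ((p : S) ^ i * a ^ (p ^ (j + 1))) := by
      rw [mul_pow, h2 ((p : S) ^ i), ← pow_mul a, ← pow_succ p j, mul_assoc]
    rw [h1]
    exact Ideal.mul_mem_left _ _ (Ideal.subset_span ⟨a, ha, i, j + 1, by omega, rfl⟩)
  · rw [zero_pow hp.out.ne_zero]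
    exact zero_mem _
  · intro x y hx _ hxp hyp
    obtain ⟨r, hr⟩ := exists_add_pow_prime_eq hp.out x y
    rw [hr]
    refine add_mem (add_mem hxp hyp) ?_
    exact Ideal.mul_mem_right r _ (Ideal.mul_mem_right y _ (p_mul_mem p 𝔞 m x hx))
  · intro s x _ hx
    rw [smul_eq_mul, mul_pow]
    exact Ideal.mul_mem_left _ _ hx

theorem Ipow_eq_bot (k N : ℕ) (hk : (p : S) ^ k = 0) (hN : ∀ a ∈ 𝔞, a ^ N = 0) (m : ℕ)
    (hm : k + N ≤ m) : Ipow p 𝔞 m = ⊥ := by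
  rw [Ipow, Ideal.span_eq_bot]
  rintro _ ⟨a, ha, i, j, hij, rfl⟩
  by_cases hik : k ≤ i
  · rw [pow_eq_zero_of_le hik hk, zero_mul]
  · have hj : N ≤ p ^ j := by
      have h1 : j < p ^ j := Nat.lt_pow_self hp.out.one_lt
      omega
    rw [pow_eq_zero_of_le hj (hN a ha), mul_zero]

local notation "Fr" => (WittVector.frobenius : WittVector p S →+* WittVector p S)

theorem frobenius_pow_coeff_mem (m : ℕ) (x : WittVector p S)
    (hx : ∀ n, x.coeff n ∈ Ipow p 𝔞 0) (n : ℕ) :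
    ((Fr ^ m) x).coeff n ∈ Ipow p 𝔞 m := by
  induction m generalizing n with
  | zero =>
    have h0 : (Fr ^ 0) x = x := by
      rw [pow_zero]
      rfl
    rw [h0]
    exact hx n
  | succ m ih =>
    have h1 : (Fr ^ (m + 1)) x = Fr ((Fr ^ m) x) := by
      rw [pow_succ']
      rfl
    rw [h1]
    exact coeff_frobenius_mem p _ _ (p_mul_mem p 𝔞 m) (pow_p_mem p 𝔞 m) _ ih n

theorem exists_frobenius_pow_eq_zero {R : Type*} [CommRing R] (φ : S →+* R)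
    (hpS : IsNilpotent (p : S)) (N : ℕ) (hN : ∀ a : S, φ a = 0 → a ^ N = 0) :
    ∃ m : ℕ, ∀ x ∈ RingHom.ker (WittVector.map (p := p) φ), (Fr ^ m) x = 0 := by
  obtain ⟨k, hk⟩ := hpS
  refine ⟨k + N, fun x hx => ?_⟩
  have hx' : ∀ n, x.coeff n ∈ Ipow p {a : S | φ a = 0} 0 := by
    intro n
    refine mem_Ipow_zero p _ _ ?_
    have h1 := congrArg (fun y => y.coeff n) (RingHom.mem_ker.mp hx)
    simpa [WittVector.map_coeff] using h1
  ext n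
  have h2 := frobenius_pow_coeff_mem p {a : S | φ a = 0} (k + N) x hx' n
  rw [Ipow_eq_bot p {a : S | φ a = 0} k N hk (fun a ha => hN a ha) (k + N) le_rfl] at h2
  rw [WittVector.zero_coeff]
  exact Ideal.mem_bot.mp h2

end poly

section generic

variable {A : Type u} [CommRing A] {σ : A →+* A}
variable {P₁ : Type v} [AddCommGroup P₁] [Module A P₁]
variable {P₂ : Type w} [AddCommGroup P₂] [Module A P₂]
variable {ι : Type z} (b b' : Module.Basis ι A P₁)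
variable (F₁ : P₁ →ₛₗ[σ] P₁) (F₂ : P₂ →ₛₗ[σ] P₂)

/-- the operator `ω ↦ (F₂ ∘ ω)^♯ ∘ (F₁^♯)⁻¹` -/
noncomputable def U (ω : P₁ →ₗ[A] P₂) : P₁ →ₗ[A] P₂ := b'.constr ℕ (fun i => F₂ (ω (b i)))

theorem U_basis (ω : P₁ →ₗ[A] P₂) (i : ι) : U b b' F₂ ω (b' i) = F₂ (ω (b i)) := by
  rw [U]
  exact b'.constr_basis ℕ _ i

theorem U_sub (ω ω' : P₁ →ₗ[A] P₂) :
    U b b' F₂ (ω - ω') = U b b' F₂ ω - U b b' F₂ ω' := by
  refine b'.ext (fun i => ?_)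
  rw [LinearMap.sub_apply, U_basis, U_basis, U_basis, LinearMap.sub_apply, map_sub]

theorem U_comm (hb' : ∀ i, b' i = F₁ (b i)) (ω : P₁ →ₗ[A] P₂) (x : P₁) :
    U b b' F₂ ω (F₁ x) = F₂ (ω x) := by
  have h : (U b b' F₂ ω).comp F₁ = F₂.comp ω := by
    refine b.ext (fun i => ?_)
    rw [LinearMap.comp_apply, LinearMap.comp_apply, ← hb' i, U_basis]
  exact LinearMap.congr_fun h x

theorem map_mem_of_basis {P P' : Type*} [AddCommGroup P] [Module A P] [AddCommGroup P']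
    [Module A P'] {κ : Type*} (c : Module.Basis κ A P) (f : P →ₗ[A] P') (K : Submodule A P')
    (h : ∀ i, f (c i) ∈ K) (x : P) : f x ∈ K := by
  have h1 : Submodule.span A (Set.range c) ≤ K.comap f :=
    Submodule.span_le.mpr (by rintro _ ⟨i, rfl⟩; exact h i)
  rw [c.span_eq] at h1
  exact h1 Submodule.mem_top

theorem F_mem (𝔠 : Ideal A) (y : P₂) (hy : y ∈ 𝔠 • (⊤ : Submodule A P₂)) :
    F₂ y ∈ (𝔠.map σ) • (⊤ : Submodule A P₂) := by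
  refine Submodule.smul_induction_on hy ?_ ?_
  · intro c hc y' _
    rw [map_smulₛₗ]
    exact Submodule.smul_mem_smul (Ideal.mem_map_of_mem σ hc) Submodule.mem_top
  · intro y₁ y₂ h₁ h₂
    rw [map_add]
    exact add_mem h₁ h₂

theorem U_mem (𝔠 : Ideal A) (ω : P₁ →ₗ[A] P₂)
    (hω : ∀ x, ω x ∈ 𝔠 • (⊤ : Submodule A P₂)) (x : P₁) :
    U b b' F₂ ω x ∈ (𝔠.map σ) • (⊤ : Submodule A P₂) := by
  refine map_mem_of_basis b' _ _ (fun i => ?_) x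
  rw [U_basis]
  exact F_mem F₂ 𝔠 _ (hω _)

theorem iter_diff {M : Type*} [AddCommGroup M] (T : M → M)
    (hT : ∀ a c, T (a - c) = T a - T c) (a : M) (n : ℕ) :
    T^[n + 1] a - T^[n] a = T^[n] (T a - a) := by
  induction n with
  | zero => rfl
  | succ n ih =>
    calc T^[n + 1 + 1] a - T^[n + 1] a = T (T^[n + 1] a) - T (T^[n] a) := by
          rw [Function.iterate_succ_apply' T (n + 1) a, Function.iterate_succ_apply' T n a]
      _ = T (T^[n + 1] a - T^[n] a) := (hT _ _).symm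
      _ = T (T^[n] (T a - a)) := by rw [ih]
      _ = T^[n + 1] (T a - a) := (Function.iterate_succ_apply' T n _).symm

theorem iterate_mem (T : (P₁ →ₗ[A] P₂) → (P₁ →ₗ[A] P₂))
    (hTmem : ∀ (𝔡 : Ideal A) (ω : P₁ →ₗ[A] P₂), (∀ x, ω x ∈ 𝔡 • (⊤ : Submodule A P₂)) →
      ∀ x, T ω x ∈ (𝔡.map σ) • (⊤ : Submodule A P₂))
    (𝔡 : Ideal A) (ω : P₁ →ₗ[A] P₂) (hω : ∀ x, ω x ∈ 𝔡 • (⊤ : Submodule A P₂)) (n : ℕ) :
    ∀ x, T^[n] ω x ∈ (𝔡.map (σ ^ n)) • (⊤ : Submodule A P₂) := by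
  induction n with
  | zero =>
    intro x
    have h0 : 𝔡.map (σ ^ 0) = 𝔡 := by
      rw [pow_zero]
      exact Ideal.map_id 𝔡
    rw [h0, Function.iterate_zero_apply]
    exact hω x
  | succ n ih =>
    intro x
    have h1 := hTmem _ _ ih x
    rw [Ideal.map_map] at h1
    have h2 : σ ^ (n + 1) = σ.comp (σ ^ n) := by
      rw [pow_succ']
      rfl
    rw [h2, Function.iterate_succ_apply']
    exact h1

theorem exists_fixed (T : (P₁ →ₗ[A] P₂) → (P₁ →ₗ[A] P₂))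
    (hTsub : ∀ a c, T (a - c) = T a - T c)
    (hTmem : ∀ (𝔡 : Ideal A) (ω : P₁ →ₗ[A] P₂), (∀ x, ω x ∈ 𝔡 • (⊤ : Submodule A P₂)) →
      ∀ x, T ω x ∈ (𝔡.map σ) • (⊤ : Submodule A P₂))
    (𝔠 : Ideal A) (h𝔠F : ∀ x ∈ 𝔠, σ x ∈ 𝔠) (m : ℕ) (hm : ∀ x ∈ 𝔠, (σ ^ m) x = 0)
    (α₀ : P₁ →ₗ[A] P₂) (hδ : ∀ x, (T α₀ - α₀) x ∈ 𝔠 • (⊤ : Submodule A P₂)) :
    ∃ α : P₁ →ₗ[A] P₂, (∀ x, α x - α₀ x ∈ 𝔠 • (⊤ : Submodule A P₂)) ∧ T α = α := by
  have hmap : 𝔠.map σ ≤ 𝔠 := Ideal.map_le_iff_le_comap.mpr (fun x hx => h𝔠F x hx)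
  have hstep : ∀ n x, (T^[n] α₀ - α₀) x ∈ 𝔠 • (⊤ : Submodule A P₂) := by
    intro n
    induction n with
    | zero =>
      intro x
      rw [Function.iterate_zero_apply, sub_self, LinearMap.zero_apply]
      exact zero_mem _
    | succ n ih =>
      intro x
      have h1 : T^[n + 1] α₀ - α₀ = T (T^[n] α₀ - α₀) + (T α₀ - α₀) := by
        rw [Function.iterate_succ_apply', hTsub]
        abel
      rw [h1, LinearMap.add_apply]
      exact add_mem (Submodule.smul_mono hmap le_rfl (hTmem 𝔠 _ ih x)) (hδ x)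
  have hzero : T^[m] (T α₀ - α₀) = 0 := by
    ext x
    have h1 := iterate_mem T hTmem 𝔠 (T α₀ - α₀) hδ m x
    rw [(Ideal.map_eq_bot_iff_le_ker (σ ^ m)).mpr (fun y hy => RingHom.mem_ker.mpr (hm y hy)),
      Submodule.bot_smul] at h1
    rw [LinearMap.zero_apply]
    exact (Submodule.mem_bot A).mp h1
  refine ⟨T^[m] α₀, fun x => ?_, ?_⟩
  · have h := hstep m x
    rwa [LinearMap.sub_apply] at h
  · have h1 := iter_diff T hTsub α₀ m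
    rw [hzero, Function.iterate_succ_apply'] at h1
    exact sub_eq_zero.mp h1

theorem eq_of_fixed (T : (P₁ →ₗ[A] P₂) → (P₁ →ₗ[A] P₂))
    (hTsub : ∀ a c, T (a - c) = T a - T c)
    (hTmem : ∀ (𝔡 : Ideal A) (ω : P₁ →ₗ[A] P₂), (∀ x, ω x ∈ 𝔡 • (⊤ : Submodule A P₂)) →
      ∀ x, T ω x ∈ (𝔡.map σ) • (⊤ : Submodule A P₂))
    (𝔠 : Ideal A) (m : ℕ) (hm : ∀ x ∈ 𝔠, (σ ^ m) x = 0)
    (α α' : P₁ →ₗ[A] P₂) (hα : T α = α) (hα' : T α' = α')
    (h : ∀ x, (α - α') x ∈ 𝔠 • (⊤ : Submodule A P₂)) : α = α' := by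
  have h1 : T (α - α') = α - α' := by rw [hTsub, hα, hα']
  have h2 : T^[m] (α - α') = α - α' := Function.iterate_fixed h1 m
  have h3 : α - α' = 0 := by
    ext x
    have h4 := iterate_mem T hTmem 𝔠 (α - α') h m x
    rw [h2, (Ideal.map_eq_bot_iff_le_ker (σ ^ m)).mpr
      (fun y hy => RingHom.mem_ker.mpr (hm y hy)), Submodule.bot_smul] at h4
    rw [LinearMap.zero_apply]
    exact (Submodule.mem_bot A).mp h4
  exact sub_eq_zero.mp h3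

theorem exists_lift_generic (hb' : ∀ i, b' i = F₁ (b i)) (𝔠 : Ideal A)
    (h𝔠F : ∀ x ∈ 𝔠, σ x ∈ 𝔠) (m : ℕ) (hm : ∀ x ∈ 𝔠, (σ ^ m) x = 0) (α₀ : P₁ →ₗ[A] P₂)
    (hα₀ : ∀ x, F₂ (α₀ x) - α₀ (F₁ x) ∈ 𝔠 • (⊤ : Submodule A P₂)) :
    ∃ α : P₁ →ₗ[A] P₂, (∀ x, α x - α₀ x ∈ 𝔠 • (⊤ : Submodule A P₂)) ∧
      ∀ x, F₂ (α x) = α (F₁ x) := by
  have hδ : ∀ x, (U b b' F₂ α₀ - α₀) x ∈ 𝔠 • (⊤ : Submodule A P₂) := by
    intro x
    refine map_mem_of_basis b' _ _ (fun i => ?_) x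
    rw [LinearMap.sub_apply, U_basis, hb' i]
    exact hα₀ (b i)
  obtain ⟨α, h1, h2⟩ := exists_fixed (U b b' F₂) (U_sub b b' F₂) (U_mem b b' F₂) 𝔠 h𝔠F m hm
    α₀ hδ
  refine ⟨α, h1, fun x => ?_⟩
  rw [← U_comm b b' F₁ F₂ hb', h2]

theorem existsUnique_lift_generic (hb' : ∀ i, b' i = F₁ (b i)) (𝔠 : Ideal A)
    (h𝔠F : ∀ x ∈ 𝔠, σ x ∈ 𝔠) (m : ℕ) (hm : ∀ x ∈ 𝔠, (σ ^ m) x = 0) (α₀ : P₁ →ₗ[A] P₂)
    (hα₀ : ∀ x, F₂ (α₀ x) - α₀ (F₁ x) ∈ 𝔠 • (⊤ : Submodule A P₂)) :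
    ∃! α : P₁ →ₗ[A] P₂, (∀ x, α x - α₀ x ∈ 𝔠 • (⊤ : Submodule A P₂)) ∧
      ∀ x, F₂ (α x) = α (F₁ x) := by
  obtain ⟨α, h1, h2⟩ := exists_lift_generic b b' F₁ F₂ hb' 𝔠 h𝔠F m hm α₀ hα₀
  refine ⟨α, ⟨h1, h2⟩, ?_⟩
  rintro α' ⟨h1', h2'⟩
  have hfix : ∀ β : P₁ →ₗ[A] P₂, (∀ x, F₂ (β x) = β (F₁ x)) → U b b' F₂ β = β := by
    intro β hβ
    refine b'.ext (fun i => ?_)
    rw [U_basis, hβ, ← hb' i]
  refine eq_of_fixed (U b b' F₂) (U_sub b b' F₂) (U_mem b b' F₂) 𝔠 m hm α' α (hfix α' h2')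
    (hfix α h2) (fun x => ?_)
  have h3 : (α' - α) x = (α' x - α₀ x) - (α x - α₀ x) := by
    rw [LinearMap.sub_apply]
    abel
  rw [h3]
  exact sub_mem (h1' x) (h1 x)

end generic

section main

variable (p : ℕ) [Fact p.Prime] {S R : Type u} [CommRing S] [CommRing R] (φ : S →+* R)
  (hpS : IsNilpotent (p : S)) (N : ℕ) (hN : ∀ a : S, φ a = 0 → a ^ N = 0)
  {P₁ : Type v} [AddCommGroup P₁] [Module (WittVector p S) P₁]
  {P₂ : Type w} [AddCommGroup P₂] [Module (WittVector p S) P₂]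
  {ι₁ : Type z} (b₁ : Module.Basis ι₁ (WittVector p S) P₁)
  (F₁ : P₁ →ₛₗ[(WittVector.frobenius : WittVector p S →+* WittVector p S)] P₁)
  (F₂ : P₂ →ₛₗ[(WittVector.frobenius : WittVector p S →+* WittVector p S)] P₂)
  (hF₁ : LinearIndependent (WittVector p S) (fun i => F₁ (b₁ i)) ∧
      Submodule.span (WittVector p S) (Set.range fun i => F₁ (b₁ i)) = ⊤)

include hpS hN hF₁

theorem exists_lift (𝔠 : Ideal (WittVector p S))
    (h𝔠 : 𝔠 ≤ RingHom.ker (WittVector.map (p := p) φ))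
    (h𝔠F : ∀ x ∈ 𝔠, WittVector.frobenius x ∈ 𝔠)
    (α₀ : P₁ →ₗ[WittVector p S] P₂)
    (hα₀ : ∀ x : P₁, F₂ (α₀ x) - α₀ (F₁ x) ∈ 𝔠 • (⊤ : Submodule (WittVector p S) P₂)) :
    ∃ α : P₁ →ₗ[WittVector p S] P₂,
      (∀ x : P₁, α x - α₀ x ∈ 𝔠 • (⊤ : Submodule (WittVector p S) P₂)) ∧
        ∀ x : P₁, F₂ (α x) = α (F₁ x) := by
  obtain ⟨m, hm⟩ := exists_frobenius_pow_eq_zero p φ hpS N hN
  exact exists_lift_generic b₁ (Module.Basis.mk hF₁.1 hF₁.2.ge) F₁ F₂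
    (fun i => Module.Basis.mk_apply _ _ i) 𝔠 h𝔠F m (fun x hx => hm x (h𝔠 hx)) α₀ hα₀

theorem existsUnique_lift (α₀ : P₁ →ₗ[WittVector p S] P₂)
    (hα₀ : ∀ x : P₁, F₂ (α₀ x) - α₀ (F₁ x) ∈
      RingHom.ker (WittVector.map (p := p) φ) • (⊤ : Submodule (WittVector p S) P₂)) :
    ∃! α : P₁ →ₗ[WittVector p S] P₂,
      (∀ x : P₁, α x - α₀ x ∈
        RingHom.ker (WittVector.map (p := p) φ) • (⊤ : Submodule (WittVector p S) P₂)) ∧
        ∀ x : P₁, F₂ (α x) = α (F₁ x) := by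
  obtain ⟨m, hm⟩ := exists_frobenius_pow_eq_zero p φ hpS N hN
  refine existsUnique_lift_generic b₁ (Module.Basis.mk hF₁.1 hF₁.2.ge) F₁ F₂
    (fun i => Module.Basis.mk_apply _ _ i) _ (fun x hx => ?_) m hm α₀ hα₀
  rw [RingHom.mem_ker] at hx ⊢
  rw [(WittVector.frobenius_isPoly p).map φ x, hx, map_zero]

end main

end Groth.Agent.H74.FrobLift
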