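import Mathlib
import Groth.Prelude.Def_Frob
import Groth.Agent.H69.UHomeo

/-! The absolute Frobenius of a scheme is integral, a universal homeomorphism, and purely
inseparable on residue fields; the relative Frobenius is finite for locally finite type maps. -/

set_option autoImplicit false
universe u
open CategoryTheory CategoryTheory.Limits AlgebraicGeometry

namespace Groth.Agent.H74.FrobSchLib

theorem isPurelyInseparable_of_pow {F : Type*} [Field F] (p : ℕ) [hp : Fact p.Prime] [CharP F p]
    (f : F →+* F) (hf : ∀ a, f a = a ^ p) : f.IsPurelyInseparable := by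
  letI : Algebra F F := f.toAlgebra
  have : ExpChar F p := ExpChar.prime hp.out
  show IsPurelyInseparable F F
  rw [isPurelyInseparable_iff_pow_mem F p]
  intro a
  exact ⟨1, a, by rw [pow_one]; exact hf a⟩

variable (p : ℕ) [Fact p.Prime] (X : Scheme.{u}) [FrobSch.IsCharP X p]

theorem residueFieldMap_frob (x : X) (a : X.residueField x) :
    (FrobSch.frob X p).residueFieldMap x a = a ^ p := by
  obtain ⟨t, rfl⟩ := X.residue_surjective x a
  obtain ⟨U, hxU, s, rfl⟩ := X.presheaf.exists_germ_eq (x := x) t
  have h := Scheme.evaluation_naturality_apply (FrobSch.frob X p) (V := U) x hxU s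
  have h2 : X.evaluation (FrobSch.frob X p ⁻¹ᵁ U) x hxU ((FrobSch.frob X p).app U s)
      = (X.evaluation U x hxU s) ^ p := by
    show X.evaluation U x hxU (s ^ p) = _
    rw [map_pow]
  exact h.trans h2

theorem charP_residueField (x : X) : CharP (X.residueField x) p := by
  have h0 : (p : X.residueField x) = 0 := by
    have := congrArg (X.Γevaluation x).hom (FrobSch.IsCharP.natCast_eq_zero (X := X) (p := p))
    simpa using this
  exact (CharP.charP_iff_prime_eq_zero Fact.out).mpr h0

theorem isPurelyInseparable_residueFieldMap_frob (x : X) :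
    ((FrobSch.frob X p).residueFieldMap x).hom.IsPurelyInseparable := by
  have := charP_residueField p X x
  exact isPurelyInseparable_of_pow (F := X.residueField x) p _ (residueFieldMap_frob p X x)

instance isAffineHom_frob : IsAffineHom (FrobSch.frob X p) := ⟨fun _ hU => hU⟩

instance isIntegralHom_frob : IsIntegralHom (FrobSch.frob X p) where
  isIntegral_app U hU := by
    intro s
    let s' : Γ(X, U) := s
    refine ⟨(Polynomial.X ^ p - Polynomial.C s' : Polynomial Γ(X, U)),
      Polynomial.monic_X_pow_sub_C s' (Fact.out : p.Prime).ne_zero, ?_⟩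
    rw [Polynomial.eval₂_sub, Polynomial.eval₂_pow, Polynomial.eval₂_X, Polynomial.eval₂_C]
    show s ^ p - s ^ p = 0
    exact sub_self _

instance surjective_frob : Surjective (FrobSch.frob X p) := ⟨fun x => ⟨x, rfl⟩⟩

instance universallyInjective_frob : UniversallyInjective (FrobSch.frob X p) := by
  have h := (tfae_universallyInjective (FrobSch.frob X p)).out 0 2
  rw [h]
  exact ⟨fun _ _ h => h, isPurelyInseparable_residueFieldMap_frob p X⟩

theorem isUnivHomeo_frob : FlatMor.IsUnivHomeo (FrobSch.frob X p) :=
  Groth.Agent.H69.isUnivHomeo_of_integral _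

theorem isFinite_relFrob {X S : Scheme.{u}} [FrobSch.IsCharP S p] (f : X ⟶ S)
    [LocallyOfFiniteType f] : IsFinite (FrobSch.relFrob f p) := by
  have : FrobSch.IsCharP X p := FrobSch.IsCharP.of_hom f p
  have h1 : IsIntegralHom (pullback.fst f (FrobSch.frob S p)) :=
    MorphismProperty.pullback_fst _ _ (isIntegralHom_frob p S)
  have h2 : IsIntegralHom (FrobSch.relFrob f p ≫ pullback.fst f (FrobSch.frob S p)) := by
    rw [FrobSch.relFrob_fst]
    exact isIntegralHom_frob p X
  have h3 : IsIntegralHom (FrobSch.relFrob f p) :=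
    IsIntegralHom.of_comp _ (pullback.fst f (FrobSch.frob S p))
  have h4 : LocallyOfFiniteType (FrobSch.relFrob f p ≫ pullback.snd f (FrobSch.frob S p)) := by
    rw [FrobSch.relFrob_snd]
    infer_instance
  have h5 : LocallyOfFiniteType (FrobSch.relFrob f p) :=
    locallyOfFiniteType_of_comp _ (pullback.snd f (FrobSch.frob S p))
  exact (IsFinite.iff_isIntegralHom_and_locallyOfFiniteType _).mpr ⟨h3, h5⟩

end Groth.Agent.H74.FrobSchLib
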