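import Mathlib
import Groth.Agent.H74.FrobSchLib

/-! The relative Frobenius is an integral universal homeomorphism with purely inseparable
residue field maps. -/

set_option autoImplicit false
universe u
open CategoryTheory CategoryTheory.Limits AlgebraicGeometry

namespace Groth.Agent.H74.FrobSchLib

theorem isPurelyInseparable_of_pow_mem {F E : Type*} [Field F] [Field E] (p : ℕ)
    [hp : Fact p.Prime] [CharP F p] (f : F →+* E) (hf : ∀ a : E, ∃ b, f b = a ^ p) :
    f.IsPurelyInseparable := by
  letI : Algebra F E := f.toAlgebra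
  haveI : ExpChar F p := ExpChar.prime hp.out
  show IsPurelyInseparable F E
  rw [isPurelyInseparable_iff_pow_mem F p]
  intro a
  obtain ⟨b, hb⟩ := hf a
  exact ⟨1, b, by rw [pow_one]; exact hb⟩

variable (p : ℕ) [Fact p.Prime]

theorem relFrob_all {X S : Scheme.{u}} [FrobSch.IsCharP S p] (f : X ⟶ S) :
    FlatMor.IsUnivHomeo (FrobSch.relFrob f p) ∧ IsIntegralHom (FrobSch.relFrob f p) ∧
      ∀ x : X, ((FrobSch.relFrob f p).residueFieldMap x).hom.IsPurelyInseparable := by
  have hX : FrobSch.IsCharP X p := FrobSch.IsCharP.of_hom f p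
  have h1 : IsIntegralHom (pullback.fst f (FrobSch.frob S p)) :=
    MorphismProperty.pullback_fst _ _ (isIntegralHom_frob p S)
  have hcomp : FrobSch.relFrob f p ≫ pullback.fst f (FrobSch.frob S p) = FrobSch.frob X p :=
    FrobSch.relFrob_fst f p
  have h3 : IsIntegralHom (FrobSch.relFrob f p) := by
    have h2 : IsIntegralHom (FrobSch.relFrob f p ≫ pullback.fst f (FrobSch.frob S p)) := by
      rw [hcomp]; exact isIntegralHom_frob p X
    exact IsIntegralHom.of_comp _ (pullback.fst f (FrobSch.frob S p))
  have hgui : UniversallyInjective (pullback.fst f (FrobSch.frob S p)) :=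
    MorphismProperty.pullback_fst _ _ (universallyInjective_frob p S)
  have hpt : ∀ x : X, (pullback.fst f (FrobSch.frob S p)) (FrobSch.relFrob f p x) = x := by
    intro x
    have e : (FrobSch.relFrob f p ≫ pullback.fst f (FrobSch.frob S p)) x = FrobSch.frob X p x := by
      rw [hcomp]
    exact e
  have hpi : ∀ x : X, ((FrobSch.relFrob f p).residueFieldMap x).hom.IsPurelyInseparable := by
    intro x
    haveI := charP_residueField p (FrobSch.frobTwist f p) (FrobSch.relFrob f p x)
    apply isPurelyInseparable_of_pow_mem p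
    intro a
    have hc := Scheme.Hom.residueFieldMap_congr hcomp x
    rw [Scheme.residueFieldMap_comp] at hc
    have h := ConcreteCategory.congr_hom hc
      ((X.residueFieldCongr (show (FrobSch.relFrob f p ≫ pullback.fst f (FrobSch.frob S p)) x
        = FrobSch.frob X p x by rw [hcomp])).inv a)
    refine ⟨_, h.trans ?_⟩
    have hpf : (FrobSch.relFrob f p ≫ pullback.fst f (FrobSch.frob S p)) x
        = FrobSch.frob X p x := by rw [hcomp]
    have e2 : (X.residueFieldCongr hpf).hom ((X.residueFieldCongr hpf).inv a) = a :=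
      Iso.inv_hom_id_apply _ _
    exact (congrArg (fun t => (FrobSch.frob X p).residueFieldMap x t) e2).trans
      (residueFieldMap_frob p X x a)
  have hinj : Function.Injective (FrobSch.relFrob f p) := by
    intro x x' hxx
    rw [← hpt x, ← hpt x', hxx]
  have hui : UniversallyInjective (FrobSch.relFrob f p) := by
    have h := (tfae_universallyInjective (FrobSch.relFrob f p)).out 0 2
    rw [h]
    exact ⟨hinj, hpi⟩
  have hsurj : Surjective (FrobSch.relFrob f p) := by
    refine ⟨fun y => ⟨(pullback.fst f (FrobSch.frob S p)) y, ?_⟩⟩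
    apply (pullback.fst f (FrobSch.frob S p)).injective
    exact hpt _
  exact ⟨Groth.Agent.H69.isUnivHomeo_of_integral _, h3, hpi⟩

end Groth.Agent.H74.FrobSchLib
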