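-- helper74: finite presentation of `Γ^d`, part 1: the universal law
-- `A ⊗_Z PZ → A ⊗_Z TS_Z(PZ)` for a free `Z`-algebra `PZ`.
import Groth.Agent.H74.SymFT

set_option autoImplicit false
set_option linter.style.haveILetI false
universe u

open scoped TensorProduct

namespace Groth.Agent.H74.GamFP

open PolLaw Groth.Agent.H74.GammaSpan Groth.Agent.H74.LawBasis Groth.Agent.H74.TensorK
  Groth.Agent.H74.SymInv Groth.Agent.H74.SymNormP Groth.Agent.H74.SymNormC
  Groth.Agent.H74.SymPt Groth.Agent.H74.SymFT SymTen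

section General

variable {A : Type u} [CommRing A] {P : Type u} [CommRing P] [Algebra A P] {ι : Type u} (d : ℕ)
  (b : Module.Basis ι A P)

theorem O_eq_zero_of_not_exists (μ : ι →₀ ℕ) (h : ¬ ∃ α : Fin d → ι, content α = μ) :
    O d b μ = 0 := by
  classical
  rw [O_eq]
  refine Finset.sum_eq_zero (fun α _ => ?_)
  rw [if_neg]
  intro hα
  exact h ⟨α, hα⟩

theorem TS_eq_sum (t : ⨂[A] _ : Fin d, P) (ht : t ∈ SymTen.TS A P d) :
    ∃ (W : Finset (ι →₀ ℕ)) (ζ : (ι →₀ ℕ) → A), t = ∑ μ ∈ W, ζ μ • O d b μ := by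
  have hz : ∀ σ : Equiv.Perm (Fin d), SymTen.perm A P d σ t = t := fun σ => by
    rw [SymTen.perm_apply]; exact ht σ
  obtain ⟨W, ζ, h⟩ := invariant_eq_sum d b A ((1 : A) ⊗ₜ[A] t) (inv_one_tmul' d t hz)
  refine ⟨W, ζ, ?_⟩
  have h2 := congrArg (TensorProduct.lid A _) h
  rw [TensorProduct.lid_tmul, one_smul, map_sum] at h2
  rw [h2]
  refine Finset.sum_congr rfl (fun μ _ => ?_)
  rw [TensorProduct.lid_tmul]

theorem perm_single (σ : Equiv.Perm (Fin d)) (j : Fin d) (p : P) :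
    SymTen.perm A P d σ (PiTensorProduct.singleAlgHom (R := A) (A := fun _ : Fin d => P) j p) =
      PiTensorProduct.singleAlgHom (R := A) (A := fun _ : Fin d => P) (σ j) p := by
  classical
  simp only [PiTensorProduct.singleAlgHom_apply, MonoidHom.mulSingle_apply]
  rw [SymTen.perm_tprod]
  congr 1
  funext i
  simp only [Pi.mulSingle_apply]
  by_cases h : i = σ j
  · subst h; simp
  · rw [if_neg h, if_neg]
    intro h'
    apply h
    rw [← h']
    simp

theorem perm_comp_single (σ : Equiv.Perm (Fin d)) (j : Fin d) :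
    (SymTen.perm A P d σ).comp
        (PiTensorProduct.singleAlgHom (R := A) (A := fun _ : Fin d => P) j) =
      PiTensorProduct.singleAlgHom (R := A) (A := fun _ : Fin d => P) (σ j) :=
  AlgHom.ext (perm_single d σ j)

theorem inv_tpowLaw (S : Type u) [CommSemiring S] [Algebra A S] (x : S ⊗[A] P) :
    Inv d S ((SymTen.tpowLaw A P d).law.toFun' S x) := by
  intro σ
  rw [tpowLaw_toFun', map_prod]
  refine Fintype.prod_equiv σ _ _ (fun j => ?_)
  rw [← AlgHom.comp_apply, ← Algebra.TensorProduct.map_comp, perm_comp_single]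
  rfl

theorem isHomog_postcomp' {M N N' : Type u} [AddCommGroup M] [Module A M] [AddCommGroup N]
    [Module A N] [AddCommGroup N'] [Module A N'] (ℓ : N →ₗ[A] N') (F : M →ₚₗ[A] N) {e : ℕ}
    (hF : IsHomog F e) : IsHomog (postcomp ℓ F) e := by
  intro S _ _ s x
  show ℓ.lTensor S (F.toFun' S (s • x)) = s ^ e • ℓ.lTensor S (F.toFun' S x)
  rw [hF S s x, lTensor_smul']

theorem mem_ker_precomp {B C : Type u} [CommRing B] [Algebra A B] [CommRing C] [Algebra A C]
    {e : ℕ} (γ : MulLaw A B C e) (π : P →ₐ[A] B) (a : P) (ha : π a = 0) :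
    a ∈ PolLaw.ker (γ.precomp π).law := by
  intro S _ _ x w
  show γ.law.toFun' S (π.toLinearMap.lTensor S (x + w * ((1 : S) ⊗ₜ[A] a))) =
    γ.law.toFun' S (π.toLinearMap.lTensor S x)
  congr 1
  rw [lTensor_algHom_apply, lTensor_algHom_apply, map_add, map_mul,
    Algebra.TensorProduct.map_tmul, ha, TensorProduct.tmul_zero, mul_zero, add_zero]

theorem lTensor_mul_of_O_mul {T : Type u} [CommRing T] [Algebra A T]
    (ℓ : (⨂[A] _ : Fin d, P) →ₗ[A] T)
    (hℓ : ∀ μ ν, ℓ (O d b μ * O d b ν) = ℓ (O d b μ) * ℓ (O d b ν))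
    (S : Type u) [CommSemiring S] [Algebra A S]
    (z w : S ⊗[A] (⨂[A] _ : Fin d, P)) (hz : Inv d S z) (hw : Inv d S w) :
    ℓ.lTensor S (z * w) = ℓ.lTensor S z * ℓ.lTensor S w := by
  obtain ⟨W, ζ, rfl⟩ := invariant_eq_sum d b S z hz
  obtain ⟨W', ζ', rfl⟩ := invariant_eq_sum d b S w hw
  simp only [Finset.sum_mul_sum, map_sum]
  refine Finset.sum_congr rfl (fun μ _ => Finset.sum_congr rfl (fun ν _ => ?_))
  rw [Algebra.TensorProduct.tmul_mul_tmul, LinearMap.lTensor_tmul, LinearMap.lTensor_tmul,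
    LinearMap.lTensor_tmul, Algebra.TensorProduct.tmul_mul_tmul, hℓ]

end General

section Univ

variable (A : Type u) [CommRing A] (Z : Type u) [CommRing Z] [Algebra Z A]
  (PZ : Type u) [CommRing PZ] [Algebra Z PZ] {ι : Type u} (d : ℕ) (bZ : Module.Basis ι Z PZ)

/-- the orbit sums as symmetric tensors -/
noncomputable def O₀ (μ : ι →₀ ℕ) : SymTen.TS Z PZ d :=
  ⟨O d bZ μ, fun σ => by rw [← SymTen.perm_apply]; exact perm_O d bZ σ μ⟩

theorem O₀_val (μ : ι →₀ ℕ) : (O₀ Z PZ d bZ μ : ⨂[Z] _ : Fin d, PZ) = O d bZ μ := rfl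

/-- the base-changed basis -/
noncomputable abbrev bas : Module.Basis ι A (A ⊗[Z] PZ) := Algebra.TensorProduct.basis A bZ

open scoped Classical in
/-- the linear retraction `T^d_A(A ⊗ PZ) → A ⊗ TS_Z(PZ)` -/
noncomputable def ell : (⨂[A] _ : Fin d, A ⊗[Z] PZ) →ₗ[A] A ⊗[Z] SymTen.TS Z PZ d :=
  (E d (bas A Z PZ bZ)).constr A
    (fun α => if α = rep α then (1 : A) ⊗ₜ[Z] O₀ Z PZ d bZ (content α) else 0)

open scoped Classical in
theorem ell_E (α : Fin d → ι) :
    ell A Z PZ d bZ (E d (bas A Z PZ bZ) α) =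
      if α = rep α then (1 : A) ⊗ₜ[Z] O₀ Z PZ d bZ (content α) else 0 :=
  (E d (bas A Z PZ bZ)).constr_basis A _ α

theorem ell_O (μ : ι →₀ ℕ) :
    ell A Z PZ d bZ (O d (bas A Z PZ bZ) μ) = (1 : A) ⊗ₜ[Z] O₀ Z PZ d bZ μ := by
  classical
  by_cases h : ∃ α : Fin d → ι, content α = μ
  · rw [O_eq, map_sum]
    rw [Finset.sum_eq_single (repOf μ h)]
    · rw [if_pos (content_repOf μ h), ell_E, if_pos, content_repOf]
      rw [rep]
      exact repOf_congr (content_repOf μ h).symm _ _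
    · intro α _ hne
      split_ifs with hc
      · rw [ell_E, if_neg]
        intro hα
        apply hne
        refine hα.trans ?_
        rw [rep]
        exact repOf_congr hc _ _
      · exact map_zero _
    · intro hnot
      exfalso
      apply hnot
      rw [Fintype.mem_piFinset]
      intro j
      have := mem_support_content (repOf μ h) j
      rw [content_repOf] at this
      exact this
  · rw [O_eq_zero_of_not_exists d _ μ h, map_zero]
    have : O₀ Z PZ d bZ μ = 0 := Subtype.ext (O_eq_zero_of_not_exists d bZ μ h)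
    rw [this, TensorProduct.tmul_zero]

theorem one_tmul_smul (ζ : Z) (t : SymTen.TS Z PZ d) :
    (1 : A) ⊗ₜ[Z] (ζ • t) = algebraMap Z A ζ • ((1 : A) ⊗ₜ[Z] t) := by
  rw [TensorProduct.smul_tmul', ← TensorProduct.smul_tmul, Algebra.algebraMap_eq_smul_one,
    smul_assoc, one_smul]

theorem ell_j (t : SymTen.TS Z PZ d) :
    ell A Z PZ d bZ (j Z PZ A d (t : ⨂[Z] _ : Fin d, PZ)) = (1 : A) ⊗ₜ[Z] t := by
  obtain ⟨W, ζ, h⟩ := TS_eq_sum d bZ t.1 t.2
  have ht : t = ∑ μ ∈ W, ζ μ • O₀ Z PZ d bZ μ := by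
    apply Subtype.ext
    rw [AddSubmonoidClass.coe_finsetSum, h]
    exact Finset.sum_congr rfl (fun μ _ => rfl)
  conv_lhs => rw [h]
  conv_rhs => rw [ht]
  rw [map_sum, map_sum, TensorProduct.tmul_sum]
  refine Finset.sum_congr rfl (fun μ _ => ?_)
  rw [map_smul, j_O, ← algebraMap_smul A (ζ μ), map_smul, ell_O, one_tmul_smul]

theorem ell_one : ell A Z PZ d bZ 1 = 1 := by
  have h := ell_j A Z PZ d bZ (1 : SymTen.TS Z PZ d)
  rw [OneMemClass.coe_one, map_one] at h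
  rw [h, Algebra.TensorProduct.one_def]

theorem ell_O_mul (μ ν : ι →₀ ℕ) :
    ell A Z PZ d bZ (O d (bas A Z PZ bZ) μ * O d (bas A Z PZ bZ) ν) =
      ell A Z PZ d bZ (O d (bas A Z PZ bZ) μ) * ell A Z PZ d bZ (O d (bas A Z PZ bZ) ν) := by
  rw [ell_O, ell_O, Algebra.TensorProduct.tmul_mul_tmul, mul_one]
  have h := ell_j A Z PZ d bZ (O₀ Z PZ d bZ μ * O₀ Z PZ d bZ ν)
  rw [MulMemClass.coe_mul, map_mul, O₀_val, O₀_val, j_O, j_O] at h
  exact h

theorem ell_lTensor_mul (S : Type u) [CommSemiring S] [Algebra A S]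
    (z w : S ⊗[A] (⨂[A] _ : Fin d, A ⊗[Z] PZ)) (hz : Inv d S z) (hw : Inv d S w) :
    (ell A Z PZ d bZ).lTensor S (z * w) =
      (ell A Z PZ d bZ).lTensor S z * (ell A Z PZ d bZ).lTensor S w :=
  lTensor_mul_of_O_mul d (bas A Z PZ bZ) (ell A Z PZ d bZ) (ell_O_mul A Z PZ d bZ) S z w hz hw

theorem ell_lTensor_one (S : Type u) [CommSemiring S] [Algebra A S] :
    (ell A Z PZ d bZ).lTensor S (1 : S ⊗[A] (⨂[A] _ : Fin d, A ⊗[Z] PZ)) = 1 := by
  rw [Algebra.TensorProduct.one_def, LinearMap.lTensor_tmul, ell_one]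
  rfl

/-- the universal law `A ⊗ PZ → A ⊗ TS_Z(PZ)` -/
noncomputable def U : MulLaw A (A ⊗[Z] PZ) (A ⊗[Z] SymTen.TS Z PZ d) d where
  law := postcomp (ell A Z PZ d bZ) (SymTen.tpowLaw A (A ⊗[Z] PZ) d).law
  homog := isHomog_postcomp' _ _ (SymTen.tpowLaw A (A ⊗[Z] PZ) d).homog
  mult := fun S _ _ => ⟨by
      show (ell A Z PZ d bZ).lTensor S ((SymTen.tpowLaw A (A ⊗[Z] PZ) d).law.toFun' S 1) = 1
      rw [((SymTen.tpowLaw A (A ⊗[Z] PZ) d).mult S).1]
      exact ell_lTensor_one A Z PZ d bZ S,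
    fun x y => by
      show (ell A Z PZ d bZ).lTensor S ((SymTen.tpowLaw A (A ⊗[Z] PZ) d).law.toFun' S (x * y)) =
        (ell A Z PZ d bZ).lTensor S ((SymTen.tpowLaw A (A ⊗[Z] PZ) d).law.toFun' S x) *
        (ell A Z PZ d bZ).lTensor S ((SymTen.tpowLaw A (A ⊗[Z] PZ) d).law.toFun' S y)
      rw [((SymTen.tpowLaw A (A ⊗[Z] PZ) d).mult S).2]
      exact ell_lTensor_mul A Z PZ d bZ S _ _ (inv_tpowLaw d S x) (inv_tpowLaw d S y)⟩

theorem coeffB_U (μ : ι →₀ ℕ) :
    coeffB (bas A Z PZ bZ) (U A Z PZ d bZ).law μ = (1 : A) ⊗ₜ[Z] O₀ Z PZ d bZ μ := by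
  show coeffB (bas A Z PZ bZ) (postcomp (ell A Z PZ d bZ) (SymTen.tpowLaw A (A ⊗[Z] PZ) d).law) μ = _
  rw [coeffB_postcomp]
  exact ell_O A Z PZ d bZ μ

/-- linear maps out of `A ⊗ TS_Z(PZ)` are determined by their values on the orbit sums -/
theorem linearMap_ext_TA {M : Type*} [AddCommGroup M] [Module A M]
    (f g : A ⊗[Z] SymTen.TS Z PZ d →ₗ[A] M)
    (h : ∀ μ, f ((1 : A) ⊗ₜ[Z] O₀ Z PZ d bZ μ) = g ((1 : A) ⊗ₜ[Z] O₀ Z PZ d bZ μ)) : f = g := by
  apply LinearMap.ext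
  intro x
  induction x using TensorProduct.induction_on with
  | zero => rw [map_zero, map_zero]
  | tmul a t =>
    have h1 : a ⊗ₜ[Z] t = a • ((1 : A) ⊗ₜ[Z] t) := by
      rw [TensorProduct.smul_tmul', smul_eq_mul, mul_one]
    rw [h1, map_smul, map_smul]
    congr 1
    obtain ⟨W, ζ, hW⟩ := TS_eq_sum d bZ t.1 t.2
    have ht : t = ∑ μ ∈ W, ζ μ • O₀ Z PZ d bZ μ := by
      apply Subtype.ext
      rw [AddSubmonoidClass.coe_finsetSum, hW]
      exact Finset.sum_congr rfl (fun μ _ => rfl)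
    rw [ht, TensorProduct.tmul_sum, map_sum, map_sum]
    refine Finset.sum_congr rfl (fun μ _ => ?_)
    rw [one_tmul_smul, map_smul, map_smul, h]
  | add x y hx hy => rw [map_add, map_add, hx, hy]

end Univ

end Groth.Agent.H74.GamFP
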