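-- helper74: finite presentation of `Γ^d`, part 2: transfer of kernel membership through the
-- universal law, by reduction to universal points defined over `Z`.
import Groth.Agent.H74.GamFP1

set_option autoImplicit false
set_option linter.style.haveILetI false
universe u

open scoped TensorProduct

namespace Groth.Agent.H74.GamFP

open PolLaw Groth.Agent.H74.GammaSpan Groth.Agent.H74.LawBasis Groth.Agent.H74.TensorK
  Groth.Agent.H74.SymInv Groth.Agent.H74.SymNormP Groth.Agent.H74.SymNormC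
  Groth.Agent.H74.SymPt Groth.Agent.H74.SymFT SymTen

section Cf

variable {A : Type u} [CommRing A] {σ : Type*} {N N' : Type u} [AddCommGroup N] [Module A N]
  [AddCommGroup N'] [Module A N']

theorem eq_of_cf_eq (u u' : MvPolynomial σ A ⊗[A] N) (h : ∀ ν, cf ν u = cf ν u') : u = u' := by
  classical
  obtain ⟨s, hs⟩ := exists_finset_expand u
  obtain ⟨s', hs'⟩ := exists_finset_expand u'
  rw [hs (s ∪ s') Finset.subset_union_left, hs' (s ∪ s') Finset.subset_union_right]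
  exact Finset.sum_congr rfl (fun ν _ => by rw [h ν])

end Cf

section Cf2

variable {A : Type u} [CommRing A] {σ : Type u} {N N' : Type u} [AddCommGroup N] [Module A N]
  [AddCommGroup N'] [Module A N']

theorem cf_lTensor (L : N →ₗ[A] N') (ν : σ →₀ ℕ) (u : MvPolynomial σ A ⊗[A] N) :
    cf ν (L.lTensor (MvPolynomial σ A) u) = L (cf ν u) :=
  lid_rTensor_lTensor L (MvPolynomial.lcoeff A ν) u

end Cf2

section UnivPoint

variable {A : Type u} [CommRing A] {P : Type u} [CommRing P] [Algebra A P] {ι : Type u}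
  (b : Module.Basis ι A P) {C : Type u} [CommRing C] [Algebra A C]

/-- the universal point -/
noncomputable def xJ (J : Finset ι) : MvPolynomial (ι ⊕ ι) A ⊗[A] P :=
  ∑ i ∈ J, (MvPolynomial.X (Sum.inl i) : MvPolynomial (ι ⊕ ι) A) ⊗ₜ[A] b i

/-- the universal multiplier -/
noncomputable def wJ (J : Finset ι) : MvPolynomial (ι ⊕ ι) A ⊗[A] P :=
  ∑ i ∈ J, (MvPolynomial.X (Sum.inr i) : MvPolynomial (ι ⊕ ι) A) ⊗ₜ[A] b i

theorem mem_ker_of_univ (F : P →ₚₗ[A] C) (g : P)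
    (h : ∀ J J' : Finset ι,
      F.toFun' (MvPolynomial (ι ⊕ ι) A) (xJ b J + wJ b J' * ((1 : MvPolynomial (ι ⊕ ι) A) ⊗ₜ[A] g)) =
      F.toFun' (MvPolynomial (ι ⊕ ι) A) (xJ b J)) : g ∈ PolLaw.ker F := by
  intro S _ _ x w
  classical
  have hx := tmul_basis_expand b S x
  have hw := tmul_basis_expand b S w
  set sx := (Algebra.TensorProduct.basis S b).repr x with hsx
  set sw := (Algebra.TensorProduct.basis S b).repr w with hsw
  let φ : MvPolynomial (ι ⊕ ι) A →ₐ[A] S :=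
    MvPolynomial.aeval (Sum.elim (fun i => sx i) (fun i => sw i))
  have h1 : φ.toLinearMap.rTensor P (xJ b sx.support) = x := by
    rw [xJ, map_sum]
    conv_rhs => rw [hx]
    refine Finset.sum_congr rfl (fun i _ => ?_)
    rw [LinearMap.rTensor_tmul, AlgHom.toLinearMap_apply, MvPolynomial.aeval_X]
    rfl
  have h2 : φ.toLinearMap.rTensor P (wJ b sw.support) = w := by
    rw [wJ, map_sum]
    conv_rhs => rw [hw]
    refine Finset.sum_congr rfl (fun i _ => ?_)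
    rw [LinearMap.rTensor_tmul, AlgHom.toLinearMap_apply, MvPolynomial.aeval_X]
    rfl
  have h3 : φ.toLinearMap.rTensor P (xJ b sx.support + wJ b sw.support *
      ((1 : MvPolynomial (ι ⊕ ι) A) ⊗ₜ[A] g)) = x + w * ((1 : S) ⊗ₜ[A] g) := by
    rw [map_add, h1]
    congr 1
    rw [GammaSpan.rTensor_algHom_apply, map_mul, ← GammaSpan.rTensor_algHom_apply, h2,
      Algebra.TensorProduct.map_tmul, map_one]
    rfl
  have e1 := congr_fun (F.isCompat' φ) (xJ b sx.support + wJ b sw.support *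
      ((1 : MvPolynomial (ι ⊕ ι) A) ⊗ₜ[A] g))
  have e2 := congr_fun (F.isCompat' φ) (xJ b sx.support)
  simp only [Function.comp_apply] at e1 e2
  rw [h3] at e1
  rw [h1] at e2
  rw [← e1, ← e2, h]

end UnivPoint

section Compare

variable (A : Type u) [CommRing A] (Z : Type u) [CommRing Z] [Algebra Z A]
  (PZ : Type u) [CommRing PZ] [Algebra Z PZ] {ι : Type u} (d : ℕ) (bZ : Module.Basis ι Z PZ)
  (σ : Type u)

/-- elements of `A[σ] ⊗ (A ⊗ PZ)` defined over `Z` -/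
def IsZ (y : MvPolynomial σ A ⊗[A] (A ⊗[Z] PZ)) : Prop :=
  ∃ (J : Finset ι) (s : ι → MvPolynomial σ Z),
    y = ∑ i ∈ J, (MvPolynomial.map (algebraMap Z A) (s i)) ⊗ₜ[A] bas A Z PZ bZ i

theorem isZ_zero : IsZ A Z PZ bZ σ 0 := ⟨∅, fun _ => 0, by simp⟩

variable {A Z PZ bZ σ} in
theorem isZ_add {y y' : MvPolynomial σ A ⊗[A] (A ⊗[Z] PZ)} (hy : IsZ A Z PZ bZ σ y)
    (hy' : IsZ A Z PZ bZ σ y') : IsZ A Z PZ bZ σ (y + y') := by
  classical
  obtain ⟨J, s, rfl⟩ := hy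
  obtain ⟨J', s', rfl⟩ := hy'
  refine ⟨J ∪ J', fun i => (if i ∈ J then s i else 0) + (if i ∈ J' then s' i else 0), ?_⟩
  have h1 : ∀ i, (MvPolynomial.map (algebraMap Z A)
        ((if i ∈ J then s i else 0) + (if i ∈ J' then s' i else 0))) ⊗ₜ[A] bas A Z PZ bZ i =
      (if i ∈ J then (MvPolynomial.map (algebraMap Z A) (s i)) ⊗ₜ[A] bas A Z PZ bZ i else 0) +
      (if i ∈ J' then (MvPolynomial.map (algebraMap Z A) (s' i)) ⊗ₜ[A] bas A Z PZ bZ i else 0) := by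
    intro i
    rw [map_add, TensorProduct.add_tmul]
    congr 1 <;> split_ifs <;> simp
  rw [Finset.sum_congr rfl (fun i _ => h1 i), Finset.sum_add_distrib, Finset.sum_ite_mem,
    Finset.sum_ite_mem, Finset.union_inter_cancel_left, Finset.union_inter_cancel_right]

variable {A Z PZ bZ σ} in
theorem isZ_sum {κ : Type*} (T : Finset κ) (f : κ → MvPolynomial σ A ⊗[A] (A ⊗[Z] PZ))
    (h : ∀ k ∈ T, IsZ A Z PZ bZ σ (f k)) : IsZ A Z PZ bZ σ (∑ k ∈ T, f k) := by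
  classical
  induction T using Finset.induction_on with
  | empty => rw [Finset.sum_empty]; exact isZ_zero A Z PZ bZ σ
  | insert k T hk ih =>
    rw [Finset.sum_insert hk]
    exact isZ_add (h k (Finset.mem_insert_self k T))
      (ih (fun k' hk' => h k' (Finset.mem_insert_of_mem hk')))

theorem isZ_tmul (p : MvPolynomial σ Z) (b : PZ) :
    IsZ A Z PZ bZ σ ((MvPolynomial.map (algebraMap Z A) p) ⊗ₜ[A] ((1 : A) ⊗ₜ[Z] b)) := by
  refine ⟨(bZ.repr b).support, fun i => bZ.repr b i • p, ?_⟩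
  have hb : b = ∑ i ∈ (bZ.repr b).support, bZ.repr b i • bZ i := by
    conv_lhs => rw [← bZ.linearCombination_repr b, Finsupp.linearCombination_apply, Finsupp.sum]
  conv_lhs => rw [hb]
  rw [TensorProduct.tmul_sum, TensorProduct.tmul_sum]
  refine Finset.sum_congr rfl (fun i _ => ?_)
  rw [Algebra.TensorProduct.basis_apply, TensorProduct.tmul_smul,
    ← algebraMap_smul A (bZ.repr b i) ((1 : A) ⊗ₜ[Z] bZ i), TensorProduct.tmul_smul,
    TensorProduct.smul_tmul']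
  congr 1
  show _ = MvPolynomial.map (algebraMap Z A) (bZ.repr b i • p)
  rw [MvPolynomial.smul_eq_C_mul, MvPolynomial.smul_eq_C_mul, map_mul, MvPolynomial.map_C]

theorem cf_U_mem (y : MvPolynomial σ A ⊗[A] (A ⊗[Z] PZ)) (hy : IsZ A Z PZ bZ σ y)
    (ν : σ →₀ ℕ) :
    ∃ k : SymTen.TS Z PZ d,
      cf ν ((U A Z PZ d bZ).law.toFun' (MvPolynomial σ A) y) = (1 : A) ⊗ₜ[Z] k := by
  classical
  obtain ⟨J, s, rfl⟩ := hy
  rw [toFun'_sum_tmul (bas A Z PZ bZ) (U A Z PZ d bZ).law (U A Z PZ d bZ).homog]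
  refine ⟨∑ μ ∈ Finset.finsuppAntidiag J d,
    MvPolynomial.coeff ν (μ.prod fun i k => s i ^ k) • O₀ Z PZ d bZ μ, ?_⟩
  rw [map_sum, TensorProduct.tmul_sum]
  refine Finset.sum_congr rfl (fun μ _ => ?_)
  rw [cf_tmul, coeffB_U, one_tmul_smul]
  congr 1
  rw [← MvPolynomial.coeff_map]
  congr 1
  rw [Finsupp.prod, Finsupp.prod, map_prod]
  refine Finset.prod_congr rfl (fun i _ => ?_)
  rw [map_pow]

theorem mem_ker_transfer {C Q : Type u} [CommRing C] [Algebra A C] [CommRing Q] [Algebra A Q]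
    (Ψ : A ⊗[Z] SymTen.TS Z PZ d →ₐ[A] C) (q : A ⊗[Z] SymTen.TS Z PZ d →ₐ[A] Q)
    (hq : ∀ k : SymTen.TS Z PZ d, Ψ ((1 : A) ⊗ₜ[Z] k) = 0 → q ((1 : A) ⊗ₜ[Z] k) = 0)
    (g : PZ)
    (hg : (1 : A) ⊗ₜ[Z] g ∈ PolLaw.ker (postcomp Ψ.toLinearMap (U A Z PZ d bZ).law)) :
    (1 : A) ⊗ₜ[Z] g ∈ PolLaw.ker (postcomp q.toLinearMap (U A Z PZ d bZ).law) := by
  apply mem_ker_of_univ (bas A Z PZ bZ)
  intro J J'
  have hy₂ : IsZ A Z PZ bZ (ι ⊕ ι) (xJ (bas A Z PZ bZ) J) := by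
    refine ⟨J, fun i => MvPolynomial.X (Sum.inl i), ?_⟩
    rw [xJ]
    refine Finset.sum_congr rfl (fun i _ => ?_)
    rw [MvPolynomial.map_X]
  have hy₃ : IsZ A Z PZ bZ (ι ⊕ ι) (wJ (bas A Z PZ bZ) J' *
      ((1 : MvPolynomial (ι ⊕ ι) A) ⊗ₜ[A] ((1 : A) ⊗ₜ[Z] g))) := by
    rw [wJ, Finset.sum_mul]
    refine isZ_sum _ _ (fun k _ => ?_)
    rw [Algebra.TensorProduct.tmul_mul_tmul, mul_one, Algebra.TensorProduct.basis_apply,
      Algebra.TensorProduct.tmul_mul_tmul, one_mul, ← MvPolynomial.map_X (algebraMap Z A)]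
    exact isZ_tmul A Z PZ bZ (ι ⊕ ι) _ _
  have hy₁ := isZ_add hy₂ hy₃
  have hΨ := hg (MvPolynomial (ι ⊕ ι) A) (xJ (bas A Z PZ bZ) J) (wJ (bas A Z PZ bZ) J')
  change Ψ.toLinearMap.lTensor _ ((U A Z PZ d bZ).law.toFun' _ _) =
    Ψ.toLinearMap.lTensor _ ((U A Z PZ d bZ).law.toFun' _ _) at hΨ
  show q.toLinearMap.lTensor _ ((U A Z PZ d bZ).law.toFun' _ _) =
    q.toLinearMap.lTensor _ ((U A Z PZ d bZ).law.toFun' _ _)
  apply eq_of_cf_eq
  intro ν
  obtain ⟨k₁, hk₁⟩ := cf_U_mem A Z PZ d bZ (ι ⊕ ι) _ hy₁ ν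
  obtain ⟨k₂, hk₂⟩ := cf_U_mem A Z PZ d bZ (ι ⊕ ι) _ hy₂ ν
  have h0 : Ψ ((1 : A) ⊗ₜ[Z] (k₁ - k₂)) = 0 := by
    have := congrArg (cf ν) hΨ
    rw [cf_lTensor, cf_lTensor, hk₁, hk₂] at this
    rw [TensorProduct.tmul_sub, map_sub]
    exact sub_eq_zero.mpr this
  have h1 := hq _ h0
  rw [TensorProduct.tmul_sub, map_sub, sub_eq_zero] at h1
  rw [cf_lTensor, cf_lTensor, hk₁, hk₂]
  exact h1

end Compare

end Groth.Agent.H74.GamFP
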