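-- helper74: finite presentation of `Γ^d`, part 3: the kernel of `A ⊗_Z TS_Z(PZ) → Γ^d_A(B)` is
-- extended from `TS_Z(PZ)`; finite presentation of `Γ^d_A(B)` for `B` of finite presentation.
import Groth.Agent.H74.GamFP2

set_option autoImplicit false
set_option linter.style.haveILetI false
universe u

open scoped TensorProduct

namespace Groth.Agent.H74.GamFP

open PolLaw Groth.Agent.H74.GammaSpan Groth.Agent.H74.LawBasis Groth.Agent.H74.TensorK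
  Groth.Agent.H74.SymInv Groth.Agent.H74.SymNormP Groth.Agent.H74.SymNormC
  Groth.Agent.H74.SymPt Groth.Agent.H74.SymFT Groth.Agent.H74.LawDesc SymTen

section Gamma

variable {A : Type u} [CommRing A] {B C : Type u} [CommRing B] [Algebra A B] [CommRing C]
  [Algebra A C] {d : ℕ} (γ : MulLaw A B C d)
  (Z : Type u) [CommRing Z] [Algebra Z A] [Algebra Z C] [IsScalarTower Z A C]
  (PZ : Type u) [CommRing PZ] [Algebra Z PZ]
  {ι : Type u} (bZ : Module.Basis ι Z PZ)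
  (π : A ⊗[Z] PZ →ₐ[A] B)

/-- the linear map on the tensor power attached to `γ ∘ π` -/
noncomputable def Lm : (⨂[A] _ : Fin d, A ⊗[Z] PZ) →ₗ[A] C :=
  Lmap d (bas A Z PZ bZ) (γ.precomp π).law

/-- the map `TS_Z(PZ) → C` -/
noncomputable def f0 : SymTen.TS Z PZ d →ₐ[Z] C :=
  AlgHom.ofLinearMap
    (((Lm γ Z PZ bZ π).restrictScalars Z ∘ₗ (j Z PZ A d).toLinearMap) ∘ₗ
      (SymTen.TS Z PZ d).val.toLinearMap)
    (by
      show Lm γ Z PZ bZ π (j Z PZ A d ((1 : SymTen.TS Z PZ d) : ⨂[Z] _ : Fin d, PZ)) = 1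
      rw [OneMemClass.coe_one, map_one]
      exact Lmap_one d (bas A Z PZ bZ) (γ.precomp π))
    (by
      intro t t'
      show Lm γ Z PZ bZ π (j Z PZ A d ((t * t' : SymTen.TS Z PZ d) : ⨂[Z] _ : Fin d, PZ)) =
        Lm γ Z PZ bZ π (j Z PZ A d (t : ⨂[Z] _ : Fin d, PZ)) *
          Lm γ Z PZ bZ π (j Z PZ A d (t' : ⨂[Z] _ : Fin d, PZ))
      rw [MulMemClass.coe_mul, map_mul]
      exact Lmap_mul_of_perm d (bas A Z PZ bZ) (γ.precomp π) _ _
        (perm_j_of_mem' Z PZ _ t.2) (perm_j_of_mem' Z PZ _ t'.2))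

theorem f0_apply (t : SymTen.TS Z PZ d) :
    f0 γ Z PZ bZ π t = Lm γ Z PZ bZ π (j Z PZ A d (t : ⨂[Z] _ : Fin d, PZ)) := rfl

/-- the comparison map `A ⊗ TS_Z(PZ) → C` -/
noncomputable def Psi : A ⊗[Z] SymTen.TS Z PZ d →ₐ[A] C :=
  Algebra.TensorProduct.lift (Algebra.ofId A C) (f0 γ Z PZ bZ π) (fun _ _ => Commute.all _ _)

theorem Psi_one_tmul (t : SymTen.TS Z PZ d) :
    Psi γ Z PZ bZ π ((1 : A) ⊗ₜ[Z] t) = f0 γ Z PZ bZ π t := by
  rw [Psi, Algebra.TensorProduct.lift_tmul, map_one, one_mul]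

theorem Psi_O₀ (μ : ι →₀ ℕ) :
    Psi γ Z PZ bZ π ((1 : A) ⊗ₜ[Z] O₀ Z PZ d bZ μ) =
      coeffB (bas A Z PZ bZ) (γ.precomp π).law μ := by
  rw [Psi_one_tmul, f0_apply, O₀_val, j_O]
  exact Lmap_O d (bas A Z PZ bZ) (γ.precomp π) μ

theorem Psi_comp_ell :
    (Psi γ Z PZ bZ π).toLinearMap ∘ₗ ell A Z PZ d bZ = Lm γ Z PZ bZ π := by
  classical
  refine (E d (bas A Z PZ bZ)).ext (fun α => ?_)
  rw [LinearMap.comp_apply, ell_E, Lm, E_apply, Lmap_tprod]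
  split_ifs with h
  · exact Psi_O₀ γ Z PZ bZ π (content α)
  · exact map_zero _

theorem postcomp_Psi :
    postcomp (Psi γ Z PZ bZ π).toLinearMap (U A Z PZ d bZ).law = (γ.precomp π).law := by
  show postcomp (Psi γ Z PZ bZ π).toLinearMap
    (postcomp (ell A Z PZ d bZ) (SymTen.tpowLaw A (A ⊗[Z] PZ) d).law) = _
  rw [← postcomp_comp, Psi_comp_ell]
  exact postcomp_Lmap d (bas A Z PZ bZ) (γ.precomp π).law (γ.precomp π).homog

variable (hγ : IsGammaD γ) (hπ : Function.Surjective π)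

include hγ hπ in
theorem Psi_surjective : Function.Surjective (Psi γ Z PZ bZ π) := by
  classical
  rw [← AlgHom.range_eq_top, eq_top_iff]
  intro c _
  have hc : c ∈ Submodule.span A
      (Set.range (fun μ : ι →₀ ℕ => coeffB (bas A Z PZ bZ) (γ.precomp π).law μ)) := by
    rw [span_coeffB_eq_top d γ (bas A Z PZ bZ) π hπ hγ]; exact Submodule.mem_top
  have hle : Submodule.span A
      (Set.range (fun μ : ι →₀ ℕ => coeffB (bas A Z PZ bZ) (γ.precomp π).law μ)) ≤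
      Subalgebra.toSubmodule (Psi γ Z PZ bZ π).range := by
    rw [Submodule.span_le]
    rintro _ ⟨μ, rfl⟩
    exact ⟨(1 : A) ⊗ₜ[Z] O₀ Z PZ d bZ μ, Psi_O₀ γ Z PZ bZ π μ⟩
  exact hle hc

include hγ hπ in
/-- a map out of `A ⊗ TS_Z(PZ)` killing whatever `Ψ` kills in `TS_Z(PZ)` factors through `Ψ` -/
theorem exists_factor {Q : Type u} [CommRing Q] [Algebra A Q]
    (q : A ⊗[Z] SymTen.TS Z PZ d →ₐ[A] Q)
    (hq : ∀ k : SymTen.TS Z PZ d, Psi γ Z PZ bZ π ((1 : A) ⊗ₜ[Z] k) = 0 →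
      q ((1 : A) ⊗ₜ[Z] k) = 0)
    (I₀ : Set PZ)
    (hI : RingHom.ker π = Ideal.span ((fun g : PZ => (1 : A) ⊗ₜ[Z] g) '' I₀)) :
    ∃ h : C →ₐ[A] Q, h.toLinearMap ∘ₗ (Psi γ Z PZ bZ π).toLinearMap = q.toLinearMap := by
  let GQ : MulLaw A (A ⊗[Z] PZ) Q d := (U A Z PZ d bZ).postcomp q
  have hGQ : GQ.law = postcomp q.toLinearMap (U A Z PZ d bZ).law := rfl
  have hker : ∀ k : A ⊗[Z] PZ, π k = 0 → k ∈ PolLaw.ker GQ.law := by
    intro k hk
    have hk' : k ∈ RingHom.ker π := hk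
    rw [hI] at hk'
    refine (Ideal.span_le (I := PolLaw.ker GQ.law)).mpr ?_ hk'
    rintro _ ⟨g, hg, rfl⟩
    have hπg : π ((1 : A) ⊗ₜ[Z] g) = 0 := by
      have : (1 : A) ⊗ₜ[Z] g ∈ RingHom.ker π := by
        rw [hI]; exact Ideal.subset_span ⟨g, hg, rfl⟩
      exact this
    rw [SetLike.mem_coe, hGQ]
    refine mem_ker_transfer A Z PZ d bZ (Psi γ Z PZ bZ π) q hq g ?_
    rw [postcomp_Psi]
    exact mem_ker_precomp γ π _ hπg
  obtain ⟨GB, hGB⟩ := exists_descent π hπ GQ hker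
  obtain ⟨h, hh, -⟩ := hγ _ GB
  refine ⟨h, ?_⟩
  refine linearMap_ext_TA A Z PZ d bZ _ _ (fun μ => ?_)
  rw [LinearMap.comp_apply, AlgHom.toLinearMap_apply, AlgHom.toLinearMap_apply, Psi_O₀,
    AlgHom.toLinearMap_apply]
  have e1 : h (coeffB (bas A Z PZ bZ) (γ.precomp π).law μ) =
      coeffB (bas A Z PZ bZ) (postcomp h.toLinearMap (γ.precomp π).law) μ :=
    (coeffB_postcomp _ _ h.toLinearMap μ).symm
  have e2 : postcomp h.toLinearMap (γ.precomp π).law = GQ.law := by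
    show postcomp h.toLinearMap (precomp γ.law π.toLinearMap) = _
    rw [postcomp_precomp, hh, hGB]
  rw [e1, e2, hGQ, coeffB_postcomp, coeffB_U]
  rfl

include hγ hπ in
/-- **the kernel is extended from `TS_Z(PZ)`** -/
theorem ker_Psi_le (I₀ : Set PZ)
    (hI : RingHom.ker π = Ideal.span ((fun g : PZ => (1 : A) ⊗ₜ[Z] g) '' I₀))
    (KA : Ideal (A ⊗[Z] SymTen.TS Z PZ d))
    (hKA : ∀ k : SymTen.TS Z PZ d, f0 γ Z PZ bZ π k = 0 → (1 : A) ⊗ₜ[Z] k ∈ KA) :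
    RingHom.ker (Psi γ Z PZ bZ π) ≤ KA := by
  have hex : ∃ (Q : Type u) (_ : CommRing Q) (_ : Algebra A Q)
      (q : A ⊗[Z] SymTen.TS Z PZ d →ₐ[A] Q), ∀ x, q x = 0 ↔ x ∈ KA :=
    ⟨(A ⊗[Z] SymTen.TS Z PZ d) ⧸ KA, inferInstance, inferInstance, Ideal.Quotient.mkₐ A KA,
      fun x => Ideal.Quotient.eq_zero_iff_mem⟩
  obtain ⟨Q, _, _, q, hqker⟩ := hex
  have hq : ∀ k : SymTen.TS Z PZ d, Psi γ Z PZ bZ π ((1 : A) ⊗ₜ[Z] k) = 0 →
      q ((1 : A) ⊗ₜ[Z] k) = 0 := by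
    intro k hk
    rw [Psi_one_tmul] at hk
    rw [hqker]
    exact hKA k hk
  obtain ⟨h, hcomp⟩ := exists_factor γ Z PZ bZ π hγ hπ q hq I₀ hI
  intro x hx
  have hx' : Psi γ Z PZ bZ π x = 0 := hx
  have h1 : q x = 0 := by
    have := LinearMap.congr_fun hcomp x
    rw [LinearMap.comp_apply, AlgHom.toLinearMap_apply, AlgHom.toLinearMap_apply, hx',
      map_zero, AlgHom.toLinearMap_apply] at this
    exact this.symm
  exact (hqker x).mp h1

theorem map_le_ker_Psi :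
    Ideal.map (Algebra.TensorProduct.includeRight :
        SymTen.TS Z PZ d →ₐ[Z] A ⊗[Z] SymTen.TS Z PZ d) (RingHom.ker (f0 γ Z PZ bZ π)) ≤
      RingHom.ker (Psi γ Z PZ bZ π) := by
  rw [Ideal.map_le_iff_le_comap]
  intro k hk
  rw [Ideal.mem_comap, RingHom.mem_ker]
  show Psi γ Z PZ bZ π ((1 : A) ⊗ₜ[Z] k) = 0
  rw [Psi_one_tmul]
  exact hk

variable [IsNoetherianRing Z] [Algebra.FiniteType Z PZ]

include hγ hπ bZ in
theorem finitePresentation_of_surj (I₀ : Set PZ)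
    (hI : RingHom.ker π = Ideal.span ((fun g : PZ => (1 : A) ⊗ₜ[Z] g) '' I₀)) :
    Algebra.FinitePresentation A C := by
  haveI : Algebra.FiniteType Z (SymTen.TS Z PZ d) := finiteType_TS Z PZ d
  haveI : Algebra.FinitePresentation Z (SymTen.TS Z PZ d) :=
    Algebra.FinitePresentation.of_finiteType.mp inferInstance
  haveI : IsNoetherianRing (SymTen.TS Z PZ d) := Algebra.FiniteType.isNoetherianRing Z _
  refine Algebra.FinitePresentation.of_surjective (f := Psi γ Z PZ bZ π)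
    (Psi_surjective γ Z PZ bZ π hγ hπ) ?_
  have hk : RingHom.ker (Psi γ Z PZ bZ π).toRingHom =
      Ideal.map (Algebra.TensorProduct.includeRight :
        SymTen.TS Z PZ d →ₐ[Z] A ⊗[Z] SymTen.TS Z PZ d) (RingHom.ker (f0 γ Z PZ bZ π)) :=
    le_antisymm (ker_Psi_le γ Z PZ bZ π hγ hπ I₀ hI _
      (fun k hk => Ideal.mem_map_of_mem _ hk)) (map_le_ker_Psi γ Z PZ bZ π)
  rw [hk]
  exact Ideal.FG.map (IsNoetherian.noetherian _) _

end Gamma

end Groth.Agent.H74.GamFP
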