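-- helper74: finite presentation of `Γ^d_A(B)` for `B` of finite presentation.
import Groth.Agent.H74.GamFP3

set_option autoImplicit false
set_option linter.style.haveILetI false
universe u

open scoped TensorProduct

namespace Groth.Agent.H74.GamFP

open PolLaw SymTen

section Final

variable {A : Type u} [CommRing A] {B C : Type u} [CommRing B] [Algebra A B] [CommRing C]
  [Algebra A C] {d : ℕ} (γ : MulLaw A B C d) (hγ : IsGammaD γ)

include hγ in
theorem finitePresentation_gamma_aux (Z : Type u) [CommRing Z] [Algebra Z A] [IsNoetherianRing Z]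
    (n : ℕ) (f : MvPolynomial (Fin n) A →ₐ[A] B) (hf : Function.Surjective f)
    (s : Finset (MvPolynomial (Fin n) A)) (hs : Ideal.span (s : Set _) = RingHom.ker f.toRingHom)
    (hlift : ∀ p ∈ s, ∃ p₀ : MvPolynomial (Fin n) Z, MvPolynomial.map (algebraMap Z A) p₀ = p) :
    Algebra.FinitePresentation A C := by
  classical
  letI : Algebra Z C := Algebra.compHom C (algebraMap Z A)
  haveI : IsScalarTower Z A C := IsScalarTower.of_algebraMap_eq (fun _ => rfl)
  let bZ : Module.Basis (ULift.{u} (Fin n →₀ ℕ)) Z (MvPolynomial (Fin n) Z) :=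
    (MvPolynomial.basisMonomials (Fin n) Z).reindex Equiv.ulift.symm
  let e : A ⊗[Z] MvPolynomial (Fin n) Z ≃ₐ[A] MvPolynomial (Fin n) A :=
    MvPolynomial.algebraTensorAlgEquiv (σ := Fin n) Z A
  let π : A ⊗[Z] MvPolynomial (Fin n) Z →ₐ[A] B := f.comp e.toAlgHom
  have hπ : Function.Surjective π := hf.comp e.surjective
  choose! p₀ hp₀ using hlift
  have hsymm : ∀ p ∈ s, e.symm p = (1 : A) ⊗ₜ[Z] p₀ p := by
    intro p hp
    rw [AlgEquiv.symm_apply_eq, MvPolynomial.algebraTensorAlgEquiv_tmul, one_smul, hp₀ p hp]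
  have hI : RingHom.ker π = Ideal.span ((fun g : MvPolynomial (Fin n) Z => (1 : A) ⊗ₜ[Z] g) ''
      (p₀ '' (s : Set (MvPolynomial (Fin n) A)))) := by
    have h1 : RingHom.ker π = Ideal.comap e.toRingEquiv (RingHom.ker f.toRingHom) := by
      ext x
      rw [RingHom.mem_ker, Ideal.mem_comap, RingHom.mem_ker]
      rfl
    rw [h1, ← Ideal.map_symm, ← hs, Ideal.map_span, Set.image_image]
    congr 1
    exact Set.image_congr (fun p hp => hsymm p hp)
  exact finitePresentation_of_surj γ Z (MvPolynomial (Fin n) Z) bZ π hγ hπ _ hI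

include hγ in
/-- `Γ^d_A(B)` is of finite presentation when `B` is. -/
theorem finitePresentation_gamma [Algebra.FinitePresentation A B] :
    Algebra.FinitePresentation A C := by
  classical
  obtain ⟨n, f, hf, s, hs⟩ := (Algebra.FinitePresentation.out :
    ∃ (n : ℕ) (f : MvPolynomial (Fin n) A →ₐ[A] B), Function.Surjective f ∧
      (RingHom.ker f.toRingHom).FG)
  let cs : Finset A := s.biUnion (fun p => p.coeffs)
  let Z : Subalgebra ℤ A := Algebra.adjoin ℤ (cs : Set A)
  haveI : Algebra.FiniteType ℤ Z := ⟨(Subalgebra.fg_top Z).mpr (Subalgebra.fg_adjoin_finset cs)⟩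
  haveI : IsNoetherianRing Z := Algebra.FiniteType.isNoetherianRing ℤ Z
  refine finitePresentation_gamma_aux γ hγ Z n f hf s hs ?_
  intro p hp
  have : p ∈ Set.range (MvPolynomial.map (algebraMap Z A)) := by
    rw [MvPolynomial.mem_range_map_iff_coeffs_subset]
    intro a ha
    have ha' : a ∈ Z :=
      Algebra.subset_adjoin (Finset.mem_coe.mpr (Finset.mem_biUnion.mpr ⟨p, hp, ha⟩))
    exact ⟨⟨a, ha'⟩, rfl⟩
  exact this

end Final

end Groth.Agent.H74.GamFP
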