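-- helper74: full polarisation of a homogeneous multiplicative law, and `Γ^d → TS^d` up to `d!`.
import Groth.Agent.H74.GammaSpan
import Groth.Prelude.Def_SymTen

set_option autoImplicit false
universe u

open scoped TensorProduct

namespace Groth.Agent.H74.GammaPol

open PolLaw Groth.Agent.H74.GammaSpan

/-- the exponent `(1,…,1)` -/
noncomputable def one (d : ℕ) : Fin d →₀ ℕ := Finsupp.equivFunOnFinite.symm (fun _ => 1)

@[simp] theorem one_apply (d : ℕ) (i : Fin d) : one d i = 1 := rfl

section Poly

variable {S : Type u} [CommSemiring S] {d : ℕ}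

theorem prod_pow_X_eq_monomial {σ : Type*} (μ : σ →₀ ℕ) :
    (μ.prod fun j k => (MvPolynomial.X j : MvPolynomial σ S) ^ k) = MvPolynomial.monomial μ 1 := by
  rw [MvPolynomial.monomial_eq, MvPolynomial.C_1, one_mul]

/-- the key identity of functionals behind additivity of the polarisation -/
theorem coeff_one_aeval_add (i : Fin d) (p : MvPolynomial (Option (Fin d)) S) :
    MvPolynomial.coeff (one d)
        (MvPolynomial.aeval (fun o : Option (Fin d) =>
          (o.elim (MvPolynomial.X i) MvPolynomial.X : MvPolynomial (Fin d) S)) p) =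
      MvPolynomial.coeff (one d)
        (MvPolynomial.aeval (fun o : Option (Fin d) =>
          (o.elim 0 MvPolynomial.X : MvPolynomial (Fin d) S)) p) +
      MvPolynomial.coeff (one d)
        (MvPolynomial.aeval (fun o : Option (Fin d) =>
          (o.elim (MvPolynomial.X i) (fun j => if j = i then 0 else MvPolynomial.X j) :
            MvPolynomial (Fin d) S)) p) := by
  classical
  induction p using MvPolynomial.induction_on' with
  | add p q hp hq => simp only [map_add, MvPolynomial.coeff_add, hp, hq]; abel
  | monomial μ r =>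
    simp only [MvPolynomial.aeval_monomial, MvPolynomial.algebraMap_eq, MvPolynomial.coeff_C_mul]
    rw [← mul_add]
    congr 1
    rw [Finsupp.prod_option_index _ _ (fun _ => pow_zero _) (fun _ _ _ => pow_add _ _ _),
      Finsupp.prod_option_index _ _ (fun _ => pow_zero _) (fun _ _ _ => pow_add _ _ _),
      Finsupp.prod_option_index _ _ (fun _ => pow_zero _) (fun _ _ _ => pow_add _ _ _)]
    simp only [Option.elim_none, Option.elim_some]
    set a := μ none with ha
    set μ' := μ.some with hμ'
    have h3 : (μ'.prod fun j k => ((if j = i then 0 else MvPolynomial.X j :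
        MvPolynomial (Fin d) S)) ^ k) = if μ' i = 0 then MvPolynomial.monomial μ' 1 else 0 := by
      split_ifs with h0
      · rw [← prod_pow_X_eq_monomial]
        refine Finsupp.prod_congr (fun j hj => ?_)
        have : j ≠ i := by
          rintro rfl
          exact (Finsupp.mem_support_iff.1 hj) h0
        rw [if_neg this]
      · refine Finset.prod_eq_zero (Finsupp.mem_support_iff.2 h0) ?_
        show ((if i = i then 0 else MvPolynomial.X i : MvPolynomial (Fin d) S)) ^ (μ' i) = 0
        rw [if_pos rfl, zero_pow h0]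
    rw [h3, prod_pow_X_eq_monomial, MvPolynomial.X_pow_eq_monomial, MvPolynomial.monomial_mul,
      one_mul, MvPolynomial.coeff_monomial]
    by_cases hE : Finsupp.single i a + μ' = one d
    · have hi : a + μ' i = 1 := by
        have := DFunLike.congr_fun hE i
        simpa using this
      rw [if_pos hE]
      rcases Nat.eq_zero_or_pos a with h0 | hpos
      · have hμ1 : μ' = one d := by rw [← hE, h0]; simp
        have hne : μ' i ≠ 0 := by omega
        rw [h0, pow_zero, one_mul, MvPolynomial.coeff_monomial, if_pos hμ1, if_neg hne,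
          mul_zero, MvPolynomial.coeff_zero, add_zero]
      · have ha1 : a = 1 := by omega
        have hμ0 : μ' i = 0 := by omega
        rw [if_pos hμ0, zero_pow (by omega), zero_mul, MvPolynomial.coeff_zero, zero_add,
          MvPolynomial.monomial_mul, one_mul, MvPolynomial.coeff_monomial, if_pos hE]
    · rw [if_neg hE]
      have h1 : MvPolynomial.coeff (one d)
          ((0 : MvPolynomial (Fin d) S) ^ a * MvPolynomial.monomial μ' 1) = 0 := by
        rcases Nat.eq_zero_or_pos a with h0 | hpos
        · have hμ1 : μ' ≠ one d := by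
            intro h; apply hE; rw [h0, h]; simp
          rw [h0, pow_zero, one_mul, MvPolynomial.coeff_monomial, if_neg hμ1]
        · rw [zero_pow (by omega), zero_mul, MvPolynomial.coeff_zero]
      rw [h1, zero_add]
      split_ifs with h0
      · rw [MvPolynomial.monomial_mul, one_mul, MvPolynomial.coeff_monomial, if_neg hE]
      · rw [mul_zero, MvPolynomial.coeff_zero]


/-- scaling the variables -/
theorem coeff_one_aeval_smul (c : Fin d → S) (p : MvPolynomial (Fin d) S) :
    MvPolynomial.coeff (one d)
        (MvPolynomial.aeval (fun j : Fin d =>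
          (MvPolynomial.C (c j) * MvPolynomial.X j : MvPolynomial (Fin d) S)) p) =
      (∏ j, c j) * MvPolynomial.coeff (one d) p := by
  classical
  induction p using MvPolynomial.induction_on' with
  | add p q hp hq => simp only [map_add, MvPolynomial.coeff_add, hp, hq, mul_add]
  | monomial μ r =>
    simp only [MvPolynomial.aeval_monomial, MvPolynomial.algebraMap_eq, MvPolynomial.coeff_C_mul]
    have h1 : (μ.prod fun j k => (MvPolynomial.C (c j) * MvPolynomial.X j :
        MvPolynomial (Fin d) S) ^ k) =
        MvPolynomial.C (μ.prod fun j k => c j ^ k) * MvPolynomial.monomial μ 1 := by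
      rw [← prod_pow_X_eq_monomial, Finsupp.prod, Finsupp.prod, Finsupp.prod, map_prod,
        ← Finset.prod_mul_distrib]
      refine Finset.prod_congr rfl (fun j _ => ?_)
      rw [mul_pow, MvPolynomial.C_pow]
    rw [h1, MvPolynomial.coeff_C_mul, MvPolynomial.coeff_monomial, MvPolynomial.coeff_monomial]
    split_ifs with h
    · subst h
      rw [Finsupp.prod_fintype _ _ (fun _ => pow_zero _)]
      simp only [one_apply, pow_one, mul_one]
      rw [mul_comm]
    · simp

theorem sum_single_eq_one_iff (c : Fin d → Fin d) :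
    (∑ k, Finsupp.single (c k) 1 : Fin d →₀ ℕ) = one d ↔ Function.Bijective c := by
  classical
  constructor
  · intro h
    have hs : Function.Surjective c := by
      intro j
      by_contra hj
      push Not at hj
      have := DFunLike.congr_fun h j
      rw [Finsupp.finsetSum_apply, one_apply] at this
      rw [Finset.sum_eq_zero (fun k _ => by rw [Finsupp.single_apply, if_neg (hj k)])] at this
      exact zero_ne_one this
    exact ⟨Finite.injective_iff_surjective.2 hs, hs⟩
  · intro h
    have := (Equiv.ofBijective c h).sum_comp (fun j => (Finsupp.single j 1 : Fin d →₀ ℕ))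
    simp only [Equiv.ofBijective_apply] at this
    rw [this]
    ext j
    rw [Finsupp.finsetSum_apply, one_apply]
    simp [Finsupp.single_apply]

theorem coeff_one_prod_X (c : Fin d → Fin d) :
    MvPolynomial.coeff (one d) (∏ k, (MvPolynomial.X (c k) : MvPolynomial (Fin d) S)) =
      if Function.Bijective c then 1 else 0 := by
  classical
  have h1 : (∏ k, (MvPolynomial.X (c k) : MvPolynomial (Fin d) S)) =
      MvPolynomial.monomial (∑ k, Finsupp.single (c k) 1) 1 := by
    rw [MvPolynomial.monomial_sum_one]
    rfl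
  rw [h1, MvPolynomial.coeff_monomial]
  simp only [sum_single_eq_one_iff]

/-- permutations as bijective self-maps -/
noncomputable def permEquivBij (d : ℕ) : Equiv.Perm (Fin d) ≃ {c : Fin d → Fin d // Function.Bijective c} where
  toFun σ := ⟨σ, σ.bijective⟩
  invFun c := Equiv.ofBijective c.1 c.2
  left_inv σ := by ext; rfl
  right_inv c := by ext; rfl

theorem sum_bijective_eq_sum_perm {M : Type*} [AddCommMonoid M] (f : (Fin d → Fin d) → M) :
    (∑ c : Fin d → Fin d, if Function.Bijective c then f c else 0) =
      ∑ σ : Equiv.Perm (Fin d), f σ := by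
  classical
  rw [← Finset.sum_filter, Finset.sum_subtype (Finset.univ.filter Function.Bijective)
    (fun c => ⟨fun h => (Finset.mem_filter.1 h).2,
      fun h => Finset.mem_filter.2 ⟨Finset.mem_univ _, h⟩⟩) f]
  exact (Fintype.sum_equiv (permEquivBij d) _ _ (fun σ => rfl)).symm

theorem coeff_one_sum_X_pow :
    MvPolynomial.coeff (one d) ((∑ i, (MvPolynomial.X i : MvPolynomial (Fin d) S)) ^ d) =
      (d.factorial : S) := by
  classical
  have h1 : (∑ i, (MvPolynomial.X i : MvPolynomial (Fin d) S)) ^ d =
      ∏ _k : Fin d, ∑ i, (MvPolynomial.X i : MvPolynomial (Fin d) S) := by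
    rw [Finset.prod_const, Finset.card_univ, Fintype.card_fin]
  rw [h1, Finset.prod_univ_sum, Fintype.piFinset_univ, MvPolynomial.coeff_sum]
  simp only [coeff_one_prod_X]
  rw [sum_bijective_eq_sum_perm (fun _ => (1 : S))]
  simp [Fintype.card_perm]

end Poly


section Pol

variable {A : Type u} [CommRing A] {B : Type u} [CommRing B] [Algebra A B]
  {C : Type u} [CommRing C] [Algebra A C] {d : ℕ}

variable (S : Type u) [CommSemiring S] [Algebra A S]

/-- `S → S[T]` as an `A`-algebra map -/
noncomputable def inc (σ : Type) : S →ₐ[A] MvPolynomial σ S :=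
  (Algebra.ofId S (MvPolynomial σ S)).restrictScalars A

theorem inc_apply (σ : Type) (s : S) : inc (A := A) S σ s = MvPolynomial.C s := rfl

/-- `S`-algebra evaluation, as an `A`-algebra map -/
noncomputable def ev {σ τ : Type} (f : σ → MvPolynomial τ S) :
    MvPolynomial σ S →ₐ[A] MvPolynomial τ S :=
  (MvPolynomial.aeval f : MvPolynomial σ S →ₐ[S] MvPolynomial τ S).restrictScalars A

theorem ev_apply {σ τ : Type} (f : σ → MvPolynomial τ S) (p : MvPolynomial σ S) :
    ev (A := A) S f p = MvPolynomial.aeval f p := rfl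

theorem ev_comp_inc {σ τ : Type} (f : σ → MvPolynomial τ S) :
    (ev (A := A) S f).comp (inc S σ) = inc S τ := by
  ext s
  simp [ev_apply, inc_apply]

/-- the coefficient functional at `(1,…,1)` -/
noncomputable def ell (d : ℕ) : MvPolynomial (Fin d) S →ₗ[A] S :=
  (MvPolynomial.lcoeff S (one d)).restrictScalars A

theorem ell_apply (p : MvPolynomial (Fin d) S) :
    ell (A := A) S d p = MvPolynomial.coeff (one d) p := rfl

/-- the generic combination `Σ T_i • w_i` -/
noncomputable def arg {σ : Type} [Fintype σ] (w : σ → S ⊗[A] B) : MvPolynomial σ S ⊗[A] B :=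
  ∑ i, (MvPolynomial.X i : MvPolynomial σ S) • (inc S σ).toLinearMap.rTensor B (w i)

/-- the full polarisation of a law, over a test algebra `S` -/
noncomputable def pol (F : B →ₚₗ[A] C) (w : Fin d → S ⊗[A] B) : S ⊗[A] C :=
  (ell S d).rTensor C (F.toFun' (MvPolynomial (Fin d) S) (arg S w))

variable {S}

theorem ev_rTensor_smul {σ τ : Type} (f : σ → MvPolynomial τ S) (q : MvPolynomial σ S)
    (z : S ⊗[A] B) :
    (ev S f).toLinearMap.rTensor B (q • (inc S σ).toLinearMap.rTensor B z) =
      MvPolynomial.aeval f q • (inc S τ).toLinearMap.rTensor B z := by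
  rw [rTensor_smul_apply, ← LinearMap.comp_apply, ← LinearMap.rTensor_comp,
    ← AlgHom.comp_toLinearMap, ev_comp_inc, ev_apply]

theorem ev_rTensor_arg {σ τ : Type} [Fintype σ] (f : σ → MvPolynomial τ S) (w : σ → S ⊗[A] B) :
    (ev S f).toLinearMap.rTensor B (arg S w) =
      ∑ o, f o • (inc S τ).toLinearMap.rTensor B (w o) := by
  rw [arg, map_sum]
  refine Finset.sum_congr rfl (fun o _ => ?_)
  rw [ev_rTensor_smul, MvPolynomial.aeval_X]

theorem pol_eq_of_ev (F : B →ₚₗ[A] C) {σ : Type} (f : σ → MvPolynomial (Fin d) S)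
    (ζ : MvPolynomial σ S ⊗[A] B) (w : Fin d → S ⊗[A] B)
    (h : (ev S f).toLinearMap.rTensor B ζ = arg S w) :
    pol S F w = ((ell S d) ∘ₗ (ev S f).toLinearMap).rTensor C (F.toFun' (MvPolynomial σ S) ζ) := by
  have hc := congr_fun (F.isCompat' (ev (A := A) S f)) ζ
  simp only [Function.comp_apply] at hc
  rw [pol, ← h, ← hc, LinearMap.rTensor_comp, LinearMap.comp_apply]

theorem pol_update_add (F : B →ₚₗ[A] C) (w : Fin d → S ⊗[A] B) (i : Fin d) (x x' : S ⊗[A] B) :
    pol S F (Function.update w i (x + x')) =
      pol S F (Function.update w i x) + pol S F (Function.update w i x') := by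
  classical
  set v := Function.update w i x with hv
  set ζ : MvPolynomial (Option (Fin d)) S ⊗[A] B :=
    arg S (fun o : Option (Fin d) => o.elim x' v) with hζ
  let f : Option (Fin d) → MvPolynomial (Fin d) S := fun o => o.elim (MvPolynomial.X i) MvPolynomial.X
  let f₁ : Option (Fin d) → MvPolynomial (Fin d) S := fun o => o.elim 0 MvPolynomial.X
  let f₂ : Option (Fin d) → MvPolynomial (Fin d) S :=
    fun o => o.elim (MvPolynomial.X i) (fun j => if j = i then 0 else MvPolynomial.X j)
  have h : (ev S f).toLinearMap.rTensor B ζ = arg S (Function.update w i (x + x')) := by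
    rw [hζ, ev_rTensor_arg, Fintype.sum_option, arg]
    simp only [f, Option.elim_none, Option.elim_some]
    have hupd : ∀ j, Function.update w i (x + x') j = v j + (Pi.single i x' : Fin d → S ⊗[A] B) j := by
      intro j
      by_cases hj : j = i
      · subst hj; simp [hv]
      · simp [hv, Function.update_of_ne hj, Pi.single_eq_of_ne hj]
    simp only [hupd, map_add, smul_add, Finset.sum_add_distrib]
    rw [add_comm]
    congr 1
    rw [Finset.sum_eq_single i]
    · simp
    · intro j _ hj
      rw [Pi.single_eq_of_ne hj, map_zero, smul_zero]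
    · intro hi; exact absurd (Finset.mem_univ i) hi
  have h₁ : (ev S f₁).toLinearMap.rTensor B ζ = arg S v := by
    rw [hζ, ev_rTensor_arg, Fintype.sum_option, arg]
    simp only [f₁, Option.elim_none, Option.elim_some, zero_smul, zero_add]
  have h₂ : (ev S f₂).toLinearMap.rTensor B ζ = arg S (Function.update w i x') := by
    rw [hζ, ev_rTensor_arg, Fintype.sum_option, arg]
    simp only [f₂, Option.elim_none, Option.elim_some]
    have hterm : ∀ j, (MvPolynomial.X j : MvPolynomial (Fin d) S) •
        (inc S (Fin d)).toLinearMap.rTensor B (Function.update w i x' j) =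
        (if j = i then (MvPolynomial.X i : MvPolynomial (Fin d) S) •
          (inc S (Fin d)).toLinearMap.rTensor B x' else 0) +
        (if j = i then (0 : MvPolynomial (Fin d) S) else MvPolynomial.X j) •
          (inc S (Fin d)).toLinearMap.rTensor B (v j) := by
      intro j
      by_cases hj : j = i
      · subst hj; simp
      · simp [hv, hj]
    simp only [hterm, Finset.sum_add_distrib, Finset.sum_ite_eq', Finset.mem_univ, if_true]
  have hfun : (ell S d) ∘ₗ (ev (A := A) S f).toLinearMap =
      (ell S d) ∘ₗ (ev (A := A) S f₁).toLinearMap + (ell S d) ∘ₗ (ev (A := A) S f₂).toLinearMap :=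
    LinearMap.ext (fun p => coeff_one_aeval_add i p)
  rw [pol_eq_of_ev F f ζ _ h, pol_eq_of_ev F f₁ ζ _ h₁, pol_eq_of_ev F f₂ ζ _ h₂, hfun,
    LinearMap.rTensor_add, LinearMap.add_apply]


theorem lsmul_rTensor (s : S) (v : S ⊗[A] C) :
    ((LinearMap.lsmul S S s).restrictScalars A).rTensor C v = s • v := by
  induction v using TensorProduct.induction_on with
  | zero => simp
  | tmul a c => simp [TensorProduct.smul_tmul']
  | add a b ha hb => simp only [map_add, smul_add, ha, hb]

theorem pol_update_smul (F : B →ₚₗ[A] C) (w : Fin d → S ⊗[A] B) (i : Fin d) (s : S)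
    (x : S ⊗[A] B) :
    pol S F (Function.update w i (s • x)) = s • pol S F (Function.update w i x) := by
  classical
  let c : Fin d → S := fun j => if j = i then s else 1
  let f : Fin d → MvPolynomial (Fin d) S := fun j => MvPolynomial.C (c j) * MvPolynomial.X j
  have h : (ev S f).toLinearMap.rTensor B (arg S (Function.update w i x)) =
      arg S (Function.update w i (s • x)) := by
    rw [ev_rTensor_arg, arg]
    refine Finset.sum_congr rfl (fun j _ => ?_)
    by_cases hj : j = i
    · subst hj
      simp only [f, c, if_true, Function.update_self]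
      rw [rTensor_smul_apply, inc_apply, mul_comm, mul_smul]
    · simp only [f, c, if_neg hj, Function.update_of_ne hj, MvPolynomial.C_1, one_mul]
  have hfun : (ell S d) ∘ₗ (ev (A := A) S f).toLinearMap =
      ((LinearMap.lsmul S S s).restrictScalars A) ∘ₗ (ell S d) := by
    refine LinearMap.ext (fun p => ?_)
    have := coeff_one_aeval_smul c p
    simp only [c, Finset.prod_ite_eq', Finset.mem_univ, if_true] at this
    exact this
  rw [pol_eq_of_ev F f _ _ h, hfun, LinearMap.rTensor_comp, LinearMap.comp_apply, lsmul_rTensor]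
  rfl

/-- the polarisation as an `S`-multilinear map -/
noncomputable def polML (F : B →ₚₗ[A] C) :
    MultilinearMap S (fun _ : Fin d => S ⊗[A] B) (S ⊗[A] C) where
  toFun := pol S F
  map_update_add' := by
    intro inst w i x y
    cases Subsingleton.elim inst (fun a b => instDecidableEqFin d a b)
    exact pol_update_add F w i x y
  map_update_smul' := by
    intro inst w i s x
    cases Subsingleton.elim inst (fun a b => instDecidableEqFin d a b)
    exact pol_update_smul F w i s x

theorem polML_apply (F : B →ₚₗ[A] C) (w : Fin d → S ⊗[A] B) : polML F w = pol S F w := rfl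

theorem ell_rTensor_smul_inc (q : MvPolynomial (Fin d) S) (u : S ⊗[A] C) :
    (ell S d).rTensor C (q • (inc S (Fin d)).toLinearMap.rTensor C u) =
      MvPolynomial.coeff (one d) q • u := by
  induction u using TensorProduct.induction_on with
  | zero => simp
  | tmul a c =>
    simp only [LinearMap.rTensor_tmul, AlgHom.toLinearMap_apply, inc_apply,
      TensorProduct.smul_tmul', smul_eq_mul, ell_apply]
    rw [mul_comm q, MvPolynomial.coeff_C_mul, mul_comm]
  | add a b ha hb => simp only [map_add, smul_add, ha, hb]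

/-- Euler: the polarisation on the diagonal is `d!` times the law -/
theorem pol_diag (F : B →ₚₗ[A] C) (hF : IsHomog F d) (y : S ⊗[A] B) :
    pol S F (fun _ : Fin d => y) = (d.factorial : S) • F.toFun' S y := by
  have h1 : arg S (fun _ : Fin d => y) =
      (∑ i, (MvPolynomial.X i : MvPolynomial (Fin d) S)) •
        (inc S (Fin d)).toLinearMap.rTensor B y := by
    rw [arg, Finset.sum_smul]
  have hc := congr_fun (F.isCompat' (inc (A := A) S (Fin d))) y
  simp only [Function.comp_apply] at hc
  rw [pol, h1, hF, ← hc, ell_rTensor_smul_inc, coeff_one_sum_X_pow]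


theorem arg_one_tmul (b : Fin d → B) :
    arg S (fun i => (1 : S) ⊗ₜ[A] b i) =
      ∑ i, (MvPolynomial.X i : MvPolynomial (Fin d) S) ⊗ₜ[A] b i := by
  rw [arg]
  refine Finset.sum_congr rfl (fun i _ => ?_)
  rw [LinearMap.rTensor_tmul, AlgHom.toLinearMap_apply, map_one, TensorProduct.smul_tmul',
    smul_eq_mul, mul_one]

/-- the `A`-multilinear polarisation -/
noncomputable def mm (F : B →ₚₗ[A] C) (b : Fin d → B) : C :=
  TensorProduct.lid A C (pol A F (fun i => (1 : A) ⊗ₜ[A] b i))

theorem algebraMap_rTensor (v : A ⊗[A] C) :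
    (Algebra.linearMap A S).rTensor C v = (1 : S) ⊗ₜ[A] TensorProduct.lid A C v := by
  induction v using TensorProduct.induction_on with
  | zero => simp
  | tmul a c =>
    rw [LinearMap.rTensor_tmul, TensorProduct.lid_tmul, Algebra.linearMap_apply,
      Algebra.algebraMap_eq_smul_one, TensorProduct.smul_tmul]
  | add a b ha hb => simp only [map_add, TensorProduct.tmul_add, ha, hb]

theorem pol_one_tmul (F : B →ₚₗ[A] C) (b : Fin d → B) :
    pol S F (fun i => (1 : S) ⊗ₜ[A] b i) = (1 : S) ⊗ₜ[A] mm F b := by
  let κ : MvPolynomial (Fin d) A →ₐ[A] MvPolynomial (Fin d) S :=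
    MvPolynomial.mapAlgHom (Algebra.ofId A S)
  have h1 : κ.toLinearMap.rTensor B (∑ i, (MvPolynomial.X i : MvPolynomial (Fin d) A) ⊗ₜ[A] b i) =
      ∑ i, (MvPolynomial.X i : MvPolynomial (Fin d) S) ⊗ₜ[A] b i := by
    rw [map_sum]
    refine Finset.sum_congr rfl (fun i _ => ?_)
    rw [LinearMap.rTensor_tmul, AlgHom.toLinearMap_apply]
    simp [κ]
  have hc := congr_fun (F.isCompat' κ) (∑ i, (MvPolynomial.X i : MvPolynomial (Fin d) A) ⊗ₜ[A] b i)
  simp only [Function.comp_apply] at hc
  have hfun : (ell S d) ∘ₗ κ.toLinearMap = (Algebra.linearMap A S) ∘ₗ (ell A d) := by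
    refine LinearMap.ext (fun p => ?_)
    simp only [LinearMap.comp_apply, AlgHom.toLinearMap_apply, ell_apply, κ,
      MvPolynomial.mapAlgHom_apply, MvPolynomial.coeff_map]
    rfl
  rw [pol, arg_one_tmul, ← h1, ← hc, ← LinearMap.comp_apply, ← LinearMap.rTensor_comp, hfun,
    LinearMap.rTensor_comp, LinearMap.comp_apply, algebraMap_rTensor, mm, pol, arg_one_tmul]

/-- `mm` as a multilinear map -/
noncomputable def mmML (F : B →ₚₗ[A] C) : MultilinearMap A (fun _ : Fin d => B) C :=
  (TensorProduct.lid A C).toLinearMap.compMultilinearMap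
    ((polML (S := A) F).compLinearMap (fun _ => TensorProduct.mk A A B 1))

theorem mmML_apply (F : B →ₚₗ[A] C) (b : Fin d → B) : mmML F b = mm F b := rfl

/-- the polarisation as a linear map out of the tensor power -/
noncomputable def Psi (F : B →ₚₗ[A] C) : (⨂[A] _ : Fin d, B) →ₗ[A] C :=
  PiTensorProduct.lift (mmML F)

theorem Psi_tprod (F : B →ₚₗ[A] C) (b : Fin d → B) :
    Psi F (PiTensorProduct.tprod A b) = mm F b := by
  rw [Psi, PiTensorProduct.lift.tprod, mmML_apply]

/-- `Ψ(y ⊗ ⋯ ⊗ y) = d! • F(y)` -/
theorem Psi_lTensor_tpow (F : B →ₚₗ[A] C) (hF : IsHomog F d) (n : ℕ) (s : Fin n → S)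
    (b : Fin n → B) :
    (Psi F).lTensor S (∑ c : Fin d → Fin n,
        (∏ i, s (c i)) ⊗ₜ[A] PiTensorProduct.tprod A (fun i => b (c i))) =
      (d.factorial : S) • F.toFun' S (∑ j, s j ⊗ₜ[A] b j) := by
  rw [← pol_diag F hF, ← polML_apply, MultilinearMap.map_sum, map_sum]
  refine Finset.sum_congr rfl (fun c _ => ?_)
  rw [LinearMap.lTensor_tmul, Psi_tprod]
  have h1 : (fun i => s (c i) ⊗ₜ[A] b (c i)) =
      fun i => s (c i) • ((1 : S) ⊗ₜ[A] b (c i)) := by
    funext i
    rw [TensorProduct.smul_tmul', smul_eq_mul, mul_one]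
  rw [h1, MultilinearMap.map_smul_univ, polML_apply, pol_one_tmul, TensorProduct.smul_tmul',
    smul_eq_mul, mul_one]

end Pol


section Main

variable {A B C : Type u} [CommRing A] [CommRing B] [Algebra A B] [CommRing C] [Algebra A C]

theorem exists_fin_sum (S : Type u) [CommSemiring S] [Algebra A S] (x : S ⊗[A] B) :
    ∃ (n : ℕ) (s : Fin n → S) (b : Fin n → B), x = ∑ j, s j ⊗ₜ[A] b j := by
  induction x using TensorProduct.induction_on with
  | zero => exact ⟨0, Fin.elim0, Fin.elim0, by simp⟩
  | tmul a b => exact ⟨1, fun _ => a, fun _ => b, by simp⟩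
  | add x y hx hy =>
    obtain ⟨n, s, b, rfl⟩ := hx
    obtain ⟨m, s', b', rfl⟩ := hy
    refine ⟨n + m, Fin.append s s', Fin.append b b', ?_⟩
    rw [Fin.sum_univ_add]
    simp only [Fin.append_left, Fin.append_right]

variable (d : ℕ) (γ : MulLaw A B C d) (hγ : IsGammaD γ) (φ : C →ₐ[A] SymTen.TS A B d)
  (hφ : ∀ (S : Type u) [CommSemiring S] [Algebra A S] (n : ℕ) (s : Fin n → S) (b : Fin n → B),
    ((SymTen.TS A B d).val.comp φ).toLinearMap.lTensor S (γ.law.toFun' S (∑ j, s j ⊗ₜ[A] b j)) =
      ∑ c : Fin d → Fin n, (∏ i, s (c i)) ⊗ₜ[A] PiTensorProduct.tprod A (fun i => b (c i)))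

include hγ hφ in
theorem Psi_comp_Phi :
    (Psi γ.law) ∘ₗ ((SymTen.TS A B d).val.comp φ).toLinearMap =
      (d.factorial : A) • LinearMap.id := by
  refine linearMap_ext_of_postcomp γ hγ _ _ (fun n x => ?_)
  obtain ⟨m, s, b, rfl⟩ := exists_fin_sum (MvPolynomial (Fin n) A) x
  rw [LinearMap.lTensor_comp_apply, hφ, Psi_lTensor_tpow γ.law γ.homog, LinearMap.lTensor_smul,
    LinearMap.lTensor_id, LinearMap.smul_apply, LinearMap.id_apply, Nat.cast_smul_eq_nsmul,
    Nat.cast_smul_eq_nsmul]

include hφ in
theorem Phi_mm (b : Fin d → B) :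
    ((SymTen.TS A B d).val.comp φ).toLinearMap (mm γ.law b) =
      ∑ σ : Equiv.Perm (Fin d), PiTensorProduct.tprod A (fun i => b (σ i)) := by
  classical
  rw [mm, pol, arg_one_tmul, ← lid_rTensor_lTensor, hφ, map_sum, map_sum]
  simp only [LinearMap.rTensor_tmul, TensorProduct.lid_tmul, ell_apply, coeff_one_prod_X,
    ite_smul, one_smul, zero_smul]
  exact sum_bijective_eq_sum_perm (fun c => PiTensorProduct.tprod A (fun i => b (c i)))

include hφ in
theorem Phi_Psi (z : ⨂[A] _ : Fin d, B) :
    ((SymTen.TS A B d).val.comp φ).toLinearMap (Psi γ.law z) =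
      ∑ σ : Equiv.Perm (Fin d), PiTensorProduct.reindex A (fun _ : Fin d => B) σ z := by
  induction z using PiTensorProduct.induction_on with
  | smul_tprod r f =>
    simp only [map_smul, Psi_tprod, PiTensorProduct.reindex_tprod]
    rw [Phi_mm d γ φ hφ, ← Finset.smul_sum]
    congr 1
    exact Fintype.sum_equiv (Equiv.inv (Equiv.Perm (Fin d))) _ _ (fun σ => rfl)
  | add x y hx hy =>
    simp only [map_add, hx, hy, Finset.sum_add_distrib]

include hγ hφ in
theorem main :
    (∀ x : C, φ x = 0 → d.factorial • x = 0) ∧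
      (∀ y : SymTen.TS A B d, d.factorial • y ∈ φ.range) := by
  refine ⟨fun x hx => ?_, fun y => ?_⟩
  · have h := LinearMap.congr_fun (Psi_comp_Phi d γ hγ φ hφ) x
    rw [LinearMap.comp_apply, AlgHom.toLinearMap_apply, AlgHom.comp_apply, hx, map_zero, map_zero,
      LinearMap.smul_apply, LinearMap.id_apply, Nat.cast_smul_eq_nsmul] at h
    exact h.symm
  · refine ⟨Psi γ.law y.1, Subtype.ext ?_⟩
    have h := Phi_Psi d γ φ hφ y.1
    rw [AlgHom.toLinearMap_apply, AlgHom.comp_apply] at h
    have h2 : ∀ σ : Equiv.Perm (Fin d),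
        PiTensorProduct.reindex A (fun _ : Fin d => B) σ y.1 = y.1 := fun σ => y.2 σ
    rw [Finset.sum_congr rfl (fun σ _ => h2 σ), Finset.sum_const, Finset.card_univ,
      Fintype.card_perm, Fintype.card_fin] at h
    have h3 : ((d.factorial • y : SymTen.TS A B d) : ⨂[A] _ : Fin d, B) = d.factorial • (y : ⨂[A] _ : Fin d, B) :=
      map_nsmul (SymTen.TS A B d).val _ _
    rw [h3]
    exact h

end Main

end Groth.Agent.H74.GammaPol
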