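import Mathlib

/-!
# Hasse–Davenport, part 1: the character `λ` on monic polynomials and the sums `S m`
-/

set_option autoImplicit false
open Polynomial Finset
open scoped Classical

namespace Groth.Agent.H74.HD

variable {F : Type} [Field F] {R : Type} [CommRing R] (χ : MulChar F R) (ψ : AddChar F R)

/-- `λ(f) = χ(c_d) ψ(c_1)` for `f = x^d - c_1 x^(d-1) + ... + (-1)^d c_d` -/
noncomputable def lam (f : F[X]) : R := χ ((-1) ^ f.natDegree * f.coeff 0) * ψ (-f.nextCoeff)

theorem lam_one : lam χ ψ 1 = 1 := by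
  unfold lam
  have : (1 : F[X]).nextCoeff = 0 := by
    rw [← C_1]; exact nextCoeff_C_eq_zero 1
  rw [this]
  simp

theorem lam_mul {f g : F[X]} (hf : f.Monic) (hg : g.Monic) :
    lam χ ψ (f * g) = lam χ ψ f * lam χ ψ g := by
  unfold lam
  rw [hf.natDegree_mul hg, mul_coeff_zero, hf.nextCoeff_mul hg, neg_add, AddChar.map_add_eq_mul,
    pow_add]
  have : (-1 : F) ^ f.natDegree * (-1) ^ g.natDegree * (f.coeff 0 * g.coeff 0) =
      ((-1) ^ f.natDegree * f.coeff 0) * ((-1) ^ g.natDegree * g.coeff 0) := by ring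
  rw [this, map_mul]
  ring

theorem lam_pow {f : F[X]} (hf : f.Monic) (r : ℕ) : lam χ ψ (f ^ r) = lam χ ψ f ^ r := by
  induction r with
  | zero => rw [pow_zero, pow_zero, lam_one]
  | succ r ih => rw [pow_succ, lam_mul χ ψ (hf.pow r) hf, ih, pow_succ]

theorem lam_X_sub_C (a : F) : lam χ ψ (X - C a) = χ a * ψ a := by
  unfold lam
  rw [natDegree_X_sub_C, nextCoeff_X_sub_C]
  simp

/-- monic polynomials of degree `m` -/
abbrev Mon (F : Type) [Field F] (m : ℕ) := {p : F[X] // p.Monic ∧ p.natDegree = m}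

noncomputable instance instFintypeMon [Fintype F] (m : ℕ) : Fintype (Mon F m) :=
  Fintype.ofEquiv (Fin m → F) ((monicEquivDegreeLT m).trans (degreeLTEquiv F m).toEquiv).symm

/-- the finset of monic polynomials of degree `m` -/
noncomputable def monics (F : Type) [Field F] [Fintype F] (m : ℕ) : Finset F[X] :=
  (Finset.univ : Finset (Mon F m)).map ⟨Subtype.val, Subtype.val_injective⟩

theorem mem_monics [Fintype F] {m : ℕ} {f : F[X]} :
    f ∈ monics F m ↔ f.Monic ∧ f.natDegree = m := by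
  unfold monics
  rw [Finset.mem_map]
  constructor
  · rintro ⟨⟨g, hg⟩, -, rfl⟩
    exact hg
  · intro h
    exact ⟨⟨f, h⟩, Finset.mem_univ _, rfl⟩

variable [Fintype F]

/-- `S m = Σ_{f monic of degree m} λ(f)` -/
noncomputable def S (m : ℕ) : R := ∑ f ∈ monics F m, lam χ ψ f

theorem S_zero : S χ ψ 0 = 1 := by
  have : monics F 0 = {1} := by
    ext f
    rw [mem_monics, Finset.mem_singleton]
    constructor
    · rintro ⟨h1, h2⟩
      exact eq_one_of_monic_natDegree_zero h1 h2
    · rintro rfl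
      exact ⟨monic_one, natDegree_one⟩
  rw [S, this, Finset.sum_singleton, lam_one]

theorem S_one : S χ ψ 1 = ∑ a : F, χ a * ψ a := by
  have : monics F 1 = Finset.univ.image (fun a : F => X - C a) := by
    ext f
    rw [mem_monics, Finset.mem_image]
    constructor
    · rintro ⟨h1, h2⟩
      refine ⟨-f.coeff 0, Finset.mem_univ _, ?_⟩
      conv_rhs => rw [h1.eq_X_add_C h2]
      rw [C_neg, sub_neg_eq_add]
    · rintro ⟨a, -, rfl⟩
      exact ⟨monic_X_sub_C a, natDegree_X_sub_C a⟩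
  rw [S, this, Finset.sum_image]
  · exact Finset.sum_congr rfl (fun a _ => lam_X_sub_C χ ψ a)
  · intro a _ b _ h
    exact C_injective (sub_right_injective h)

theorem shift_mem {m : ℕ} (hm : 1 ≤ m) (t : F) {f : F[X]} (hf : f ∈ monics F m) :
    f + C t * X ^ (m - 1) ∈ monics F m := by
  rw [mem_monics] at hf ⊢
  obtain ⟨h1, h2⟩ := hf
  have hdeg : (C t * X ^ (m - 1)).degree < f.degree := by
    calc (C t * X ^ (m - 1)).degree ≤ ((m - 1 : ℕ) : WithBot ℕ) := degree_C_mul_X_pow_le _ _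
      _ < (m : WithBot ℕ) := by exact_mod_cast (by omega : m - 1 < m)
      _ = f.degree := by rw [degree_eq_natDegree h1.ne_zero, h2]
  exact ⟨h1.add_of_left hdeg, by rw [natDegree_add_eq_left_of_degree_lt hdeg, h2]⟩

theorem lam_shift {m : ℕ} (hm : 2 ≤ m) (t : F) {f : F[X]} (hf : f ∈ monics F m) :
    lam χ ψ (f + C t * X ^ (m - 1)) = lam χ ψ f * ψ (-t) := by
  have hf' := shift_mem (by omega : 1 ≤ m) t hf
  rw [mem_monics] at hf hf'
  unfold lam
  rw [hf'.2, hf.2, nextCoeff_of_natDegree_pos (by rw [hf'.2]; omega),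
    nextCoeff_of_natDegree_pos (by rw [hf.2]; omega), hf'.2, hf.2, coeff_add, coeff_add,
    coeff_C_mul_X_pow, coeff_C_mul_X_pow, if_neg (by omega : ¬ (0 = m - 1)), if_pos rfl, add_zero,
    neg_add, AddChar.map_add_eq_mul]
  ring

theorem S_eq_zero [IsDomain R] (hψ : ψ ≠ 1) {m : ℕ} (hm : 2 ≤ m) : S χ ψ m = 0 := by
  obtain ⟨a, ha⟩ := AddChar.ne_one_iff.mp hψ
  have key : S χ ψ m * ψ a = S χ ψ m := by
    unfold S
    rw [Finset.sum_mul]
    refine Finset.sum_nbij' (fun f => f + C (-a) * X ^ (m - 1)) (fun f => f + C a * X ^ (m - 1))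
      (fun f hf => shift_mem (by omega) _ hf) (fun f hf => shift_mem (by omega) _ hf) ?_ ?_ ?_
    · intro f _
      rw [C_neg]; ring
    · intro f _
      rw [C_neg]; ring
    · intro f hf
      rw [lam_shift χ ψ hm (-a) hf, neg_neg]
  have h2 : S χ ψ m * (ψ a - 1) = 0 := by rw [mul_sub, key, mul_one, sub_self]
  rcases mul_eq_zero.mp h2 with h | h
  · exact h
  · exact absurd (sub_eq_zero.mp h) ha

end Groth.Agent.H74.HD
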