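import Groth.Agent.H74.HD1

/-!
# Hasse–Davenport, part 2: the von Mangoldt identity for monic polynomials over a finite field
-/

set_option autoImplicit false
open Polynomial Finset UniqueFactorizationMonoid
open scoped Classical

namespace Groth.Agent.H74.HD

variable {F : Type} [Field F] [Fintype F]

/-- monic irreducible polynomials of degree `≤ n` -/
noncomputable def IrrAll (F : Type) [Field F] [Fintype F] (n : ℕ) : Finset F[X] :=
  ((Finset.range (n + 1)).biUnion (monics F)).filter Irreducible

theorem mem_IrrAll {n : ℕ} {P : F[X]} :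
    P ∈ IrrAll F n ↔ P.Monic ∧ P.natDegree ≤ n ∧ Irreducible P := by
  unfold IrrAll
  rw [Finset.mem_filter, Finset.mem_biUnion]
  constructor
  · rintro ⟨⟨d, hd, hP⟩, hirr⟩
    rw [mem_monics] at hP
    rw [Finset.mem_range] at hd
    exact ⟨hP.1, by omega, hirr⟩
  · rintro ⟨h1, h2, h3⟩
    exact ⟨⟨P.natDegree, Finset.mem_range.mpr (by omega), mem_monics.mpr ⟨h1, rfl⟩⟩, h3⟩

theorem sum_pow_dvd {n : ℕ} {P f : F[X]} (hP : Irreducible P) (hf : f ≠ 0)
    (hmul : multiplicity P f ≤ n) (d : ℕ) :
    ∑ r ∈ Finset.Icc 1 n, (if P ^ r ∣ f then d else 0) = multiplicity P f * d := by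
  have hfin : FiniteMultiplicity P f := FiniteMultiplicity.of_not_isUnit hP.not_isUnit hf
  have h1 : ∀ r, P ^ r ∣ f ↔ r ≤ multiplicity P f := fun r => hfin.pow_dvd_iff_le_multiplicity
  simp_rw [h1]
  rw [← Finset.sum_filter, Finset.sum_const, smul_eq_mul]
  congr 1
  have h2 : (Finset.Icc 1 n).filter (fun r => r ≤ multiplicity P f) =
      Finset.Icc 1 (multiplicity P f) := by
    ext r
    simp only [Finset.mem_filter, Finset.mem_Icc]
    omega
  rw [h2, Nat.card_Icc]
  omega

theorem multiplicity_le_natDegree {P f : F[X]} (hP : Irreducible P) (hf : f ≠ 0) :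
    multiplicity P f ≤ f.natDegree := by
  have h1 : P ^ multiplicity P f ∣ f := pow_multiplicity_dvd P f
  have h2 := natDegree_le_of_dvd h1 hf
  rw [natDegree_pow] at h2
  have h3 := hP.natDegree_pos
  calc multiplicity P f ≤ multiplicity P f * P.natDegree := Nat.le_mul_of_pos_right _ h3
    _ ≤ f.natDegree := h2

theorem vonMangoldt {n : ℕ} {f : F[X]} (hf : f.Monic) (hn : f.natDegree ≤ n) :
    ∑ P ∈ IrrAll F n, ∑ r ∈ Finset.Icc 1 n, (if P ^ r ∣ f then P.natDegree else 0) =
      f.natDegree := by
  have hf0 : f ≠ 0 := hf.ne_zero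
  have h1 : ∀ P ∈ IrrAll F n,
      ∑ r ∈ Finset.Icc 1 n, (if P ^ r ∣ f then P.natDegree else 0) =
        (normalizedFactors f).count P * P.natDegree := by
    intro P hP
    rw [mem_IrrAll] at hP
    obtain ⟨hPm, hPn, hPi⟩ := hP
    have hmult : multiplicity P f ≤ n := (multiplicity_le_natDegree hPi hf0).trans hn
    rw [sum_pow_dvd hPi hf0 hmult, multiplicity_eq_count_normalizedFactors hPi hf0,
      hPm.normalize_eq_self]
  rw [Finset.sum_congr rfl h1]
  have h2 : f.natDegree = ((normalizedFactors f).map natDegree).sum := by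
    have hprod : (normalizedFactors f).prod = f := by
      rw [prod_normalizedFactors_eq hf0, hf.normalize_eq_self]
    conv_lhs => rw [← hprod]
    exact natDegree_multiset_prod _ (zero_notMem_normalizedFactors f)
  rw [h2, Finset.sum_multiset_map_count]
  symm
  simp only [smul_eq_mul]
  apply Finset.sum_subset
  · intro P hP
    rw [Multiset.mem_toFinset] at hP
    rw [mem_IrrAll]
    have hP0 : P ≠ 0 := ne_zero_of_mem_normalizedFactors hP
    refine ⟨?_, (natDegree_le_of_dvd (dvd_of_mem_normalizedFactors hP) hf0).trans hn,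
      irreducible_of_normalized_factor P hP⟩
    rw [← normalize_normalized_factor P hP]
    exact Polynomial.monic_normalize hP0
  · intro P _ hP
    rw [Multiset.mem_toFinset] at hP
    rw [Multiset.count_eq_zero_of_notMem hP, zero_mul]

end Groth.Agent.H74.HD
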