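import Groth.Agent.H74.HD2

/-!
# Hasse–Davenport, part 3: the recurrence for the sums over prime powers
-/

set_option autoImplicit false
open Polynomial Finset
open scoped Classical

namespace Groth.Agent.H74.HD

variable {F : Type} [Field F] [Fintype F] {R : Type} [CommRing R] (χ : MulChar F R)
  (ψ : AddChar F R)

theorem sum_filter_dvd {P : F[X]} (hP : P.Monic) (r m : ℕ) :
    ∑ f ∈ (monics F m).filter (fun f => P ^ r ∣ f), lam χ ψ f =
      if r * P.natDegree ≤ m then lam χ ψ P ^ r * S χ ψ (m - r * P.natDegree) else 0 := by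
  have hPr : (P ^ r).Monic := hP.pow r
  have hdeg : (P ^ r).natDegree = r * P.natDegree := hP.natDegree_pow r
  split_ifs with h
  · have himg : (monics F m).filter (fun f => P ^ r ∣ f) =
        (monics F (m - r * P.natDegree)).image (fun k => P ^ r * k) := by
      ext f
      rw [Finset.mem_filter, Finset.mem_image, mem_monics]
      constructor
      · rintro ⟨⟨hf1, hf2⟩, k, rfl⟩
        have hk : k.Monic := hPr.of_mul_monic_left hf1
        refine ⟨k, mem_monics.mpr ⟨hk, ?_⟩, rfl⟩
        rw [hPr.natDegree_mul hk, hdeg] at hf2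
        omega
      · rintro ⟨k, hk, rfl⟩
        rw [mem_monics] at hk
        refine ⟨⟨hPr.mul hk.1, ?_⟩, dvd_mul_right _ _⟩
        rw [hPr.natDegree_mul hk.1, hdeg, hk.2]
        omega
    rw [himg, Finset.sum_image]
    · unfold S
      rw [Finset.mul_sum]
      apply Finset.sum_congr rfl
      intro k hk
      rw [mem_monics] at hk
      rw [lam_mul χ ψ hPr hk.1, lam_pow χ ψ hP]
    · intro a _ b _ hab
      exact mul_left_cancel₀ hPr.ne_zero hab
  · apply Finset.sum_eq_zero
    intro f hf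
    rw [Finset.mem_filter, mem_monics] at hf
    obtain ⟨⟨hf1, hf2⟩, hdvd⟩ := hf
    have := natDegree_le_of_dvd hdvd hf1.ne_zero
    rw [hdeg, hf2] at this
    omega

theorem regroup {n m : ℕ} (hmn : m ≤ n) :
    (m : R) * S χ ψ m = ∑ P ∈ IrrAll F n, ∑ r ∈ Finset.Icc 1 n,
      (P.natDegree : R) * (if r * P.natDegree ≤ m then
        lam χ ψ P ^ r * S χ ψ (m - r * P.natDegree) else 0) := by
  have h1 : (m : R) * S χ ψ m = ∑ f ∈ monics F m,
      ((∑ P ∈ IrrAll F n, ∑ r ∈ Finset.Icc 1 n,
        (if P ^ r ∣ f then P.natDegree else 0) : ℕ) : R) * lam χ ψ f := by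
    unfold S
    rw [Finset.mul_sum]
    apply Finset.sum_congr rfl
    intro f hf
    rw [mem_monics] at hf
    rw [vonMangoldt hf.1 (by rw [hf.2]; exact hmn), hf.2]
  rw [h1]
  simp only [Nat.cast_sum, Nat.cast_ite, Nat.cast_zero, Finset.sum_mul]
  rw [Finset.sum_comm]
  apply Finset.sum_congr rfl
  intro P hP
  rw [Finset.sum_comm]
  apply Finset.sum_congr rfl
  intro r _
  rw [← sum_filter_dvd χ ψ (mem_IrrAll.mp hP).1 r m, Finset.mul_sum, Finset.sum_filter]
  apply Finset.sum_congr rfl
  intro f _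
  split_ifs <;> simp

/-- the sum over prime powers of degree `j` -/
noncomputable def L (n j : ℕ) : R :=
  ∑ P ∈ IrrAll F n, ∑ r ∈ Finset.Icc 1 n,
    if r * P.natDegree = j then (P.natDegree : R) * lam χ ψ P ^ r else 0

theorem L_zero (n : ℕ) : L χ ψ n 0 = 0 := by
  unfold L
  apply Finset.sum_eq_zero
  intro P hP
  apply Finset.sum_eq_zero
  intro r hr
  rw [Finset.mem_Icc] at hr
  have hd := (mem_IrrAll.mp hP).2.2.natDegree_pos
  rw [if_neg]
  intro h
  rcases Nat.mul_eq_zero.mp h with h | h <;> omega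

theorem recurrence [IsDomain R] (hψ : ψ ≠ 1) {n m : ℕ} (hm1 : 1 ≤ m) (hmn : m ≤ n) :
    (m : R) * S χ ψ m = L χ ψ n m + (∑ a : F, χ a * ψ a) * L χ ψ n (m - 1) := by
  rw [regroup χ ψ hmn]
  unfold L
  rw [Finset.mul_sum, ← Finset.sum_add_distrib]
  apply Finset.sum_congr rfl
  intro P hP
  rw [Finset.mul_sum, ← Finset.sum_add_distrib]
  apply Finset.sum_congr rfl
  intro r hr
  rw [Finset.mem_Icc] at hr
  have hd := (mem_IrrAll.mp hP).2.2.natDegree_pos
  by_cases h1 : r * P.natDegree = m
  · rw [if_pos (le_of_eq h1), if_pos h1, if_neg (by omega), h1, Nat.sub_self, S_zero]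
    ring
  · by_cases h2 : r * P.natDegree + 1 = m
    · have e : m - r * P.natDegree = 1 := by omega
      rw [if_pos (by omega), if_neg h1, if_pos (by omega), e, S_one]
      ring
    · rw [if_neg h1, if_neg (show ¬ r * P.natDegree = m - 1 by omega)]
      by_cases h3 : r * P.natDegree ≤ m
      · rw [if_pos h3, S_eq_zero χ ψ hψ (by omega)]
        ring
      · rw [if_neg h3]
        ring

theorem L_eq [IsDomain R] (hψ : ψ ≠ 1) {n : ℕ} : ∀ m, 1 ≤ m → m ≤ n →
    L χ ψ n m = -(-(∑ a : F, χ a * ψ a)) ^ m := by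
  intro m hm1
  induction m, hm1 using Nat.le_induction with
  | base =>
    intro hmn
    have h := recurrence χ ψ hψ (le_refl 1) hmn
    rw [Nat.sub_self, L_zero, mul_zero, add_zero, S_one, Nat.cast_one, one_mul] at h
    rw [← h]
    ring
  | succ m hm ih =>
    intro hmn
    have h := recurrence χ ψ hψ (by omega : 1 ≤ m + 1) hmn
    rw [S_eq_zero χ ψ hψ (by omega), mul_zero, Nat.add_sub_cancel, ih (by omega)] at h
    have : L χ ψ n (m + 1) = (∑ a : F, χ a * ψ a) * (-(∑ a : F, χ a * ψ a)) ^ m := by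
      linear_combination -h
    rw [this]
    ring

end Groth.Agent.H74.HD
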