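import Groth.Agent.H74.HD3

/-!
# Hasse–Davenport, part 4: the Gauss sum over the extension as a sum over prime powers
-/

set_option autoImplicit false
open Polynomial Finset IntermediateField
open scoped Classical

namespace Groth.Agent.H74.HD

variable {F F' : Type} [Field F] [Fintype F] [Field F'] [Fintype F'] [Algebra F F']
  {R : Type} [CommRing R] (χ : MulChar F R) (ψ : AddChar F R)

theorem term_eq (α : F') :
    χ (Algebra.norm F α) * ψ (Algebra.trace F F' α) =
      lam χ ψ (minpoly F α) ^ (Module.finrank F F' / (minpoly F α).natDegree) := by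
  have hint : IsIntegral F α := .of_finite F α
  have hfr : Module.finrank F F⟮α⟯ = (minpoly F α).natDegree := adjoin.finrank hint
  have hmul : (minpoly F α).natDegree * Module.finrank F⟮α⟯ F' = Module.finrank F F' := by
    rw [← hfr]
    exact Module.finrank_mul_finrank F F⟮α⟯ F'
  have hdpos : 0 < (minpoly F α).natDegree := minpoly.natDegree_pos hint
  have hdiv : Module.finrank F F' / (minpoly F α).natDegree = Module.finrank F⟮α⟯ F' := by
    rw [← hmul]
    exact Nat.mul_div_cancel_left _ hdpos
  have hN : Algebra.norm F α =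
      ((-1) ^ (minpoly F α).natDegree * (minpoly F α).coeff 0) ^ Module.finrank F⟮α⟯ F' := by
    rw [Algebra.norm_eq_norm_adjoin F α]
    congr 1
    have := Algebra.PowerBasis.norm_gen_eq_coeff_zero_minpoly (adjoin.powerBasis hint)
    simpa [minpoly_gen F α] using this
  have hT : Algebra.trace F F' α = Module.finrank F⟮α⟯ F' • (-(minpoly F α).nextCoeff) := by
    rw [trace_eq_finrank_mul_minpoly_nextCoeff F α, nsmul_eq_mul]
  rw [hdiv, hN, hT, map_pow, AddChar.map_nsmul_eq_pow, ← mul_pow]
  rfl

theorem card_minpoly_eq {n : ℕ} (hn : n = Module.finrank F F') {P : F[X]}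
    (hP : P ∈ IrrAll F n) :
    ((Finset.univ : Finset F').filter (fun α => minpoly F α = P)).card =
      if P.natDegree ∣ n then P.natDegree else 0 := by
  obtain ⟨hPm, hPn, hPi⟩ := mem_IrrAll.mp hP
  split_ifs with hdvd
  · have hsub : P ∣ X ^ (Nat.card F) ^ n - X :=
      (hPi.natDegree_dvd_iff_dvd_X_pow_card_pow_sub_X).mp hdvd
    have hcard : Fintype.card F' = (Nat.card F) ^ n := by
      rw [hn, Nat.card_eq_fintype_card]
      exact Module.card_eq_pow_finrank
    have hroots : (X ^ Fintype.card F' - X : F'[X]).roots = Finset.univ.val :=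
      FiniteField.roots_X_pow_card_sub_X F'
    have hne : (X ^ Fintype.card F' - X : F'[X]) ≠ 0 :=
      FiniteField.X_pow_card_sub_X_ne_zero F' Fintype.one_lt_card
    have hmapdvd : P.map (algebraMap F F') ∣ X ^ Fintype.card F' - X := by
      have := Polynomial.map_dvd (algebraMap F F') hsub
      rw [Polynomial.map_sub, Polynomial.map_pow, Polynomial.map_X, ← hcard] at this
      exact this
    have hle : (P.map (algebraMap F F')).roots ≤ Finset.univ.val :=
      hroots ▸ Polynomial.roots.le_of_dvd hne hmapdvd
    have hnodup : (P.map (algebraMap F F')).roots.Nodup :=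
      Multiset.nodup_of_le hle Finset.univ.nodup
    have hsplit_big : (X ^ Fintype.card F' - X : F'[X]).Splits := by
      rw [splits_iff_card_roots, hroots,
        FiniteField.X_pow_card_sub_X_natDegree_eq F' Fintype.one_lt_card]
      rfl
    have hsplit : (P.map (algebraMap F F')).Splits := hsplit_big.of_dvd hne hmapdvd
    have hset : (Finset.univ.filter (fun α : F' => minpoly F α = P)) =
        (P.map (algebraMap F F')).roots.toFinset := by
      ext α
      rw [Finset.mem_filter, Multiset.mem_toFinset,
        mem_roots (Polynomial.map_ne_zero hPm.ne_zero), IsRoot.def, eval_map_algebraMap]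
      constructor
      · rintro ⟨-, rfl⟩
        exact minpoly.aeval F α
      · intro h
        exact ⟨Finset.mem_univ _, (minpoly.eq_of_irreducible_of_monic hPi h hPm).symm⟩
    rw [hset, Multiset.toFinset_card_of_nodup hnodup, ← hsplit.natDegree_eq_card_roots,
      natDegree_map]
  · rw [Finset.card_eq_zero, Finset.filter_eq_empty_iff]
    intro α _ h
    apply hdvd
    rw [← h, hn]
    exact minpoly.degree_dvd (.of_finite F α)

theorem gauss_eq_L {n : ℕ} (hn : n = Module.finrank F F') :
    ∑ α : F', χ (Algebra.norm F α) * ψ (Algebra.trace F F' α) = L χ ψ n n := by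
  have hnpos : 0 < n := hn ▸ Module.finrank_pos
  have h1 : ∑ α : F', χ (Algebra.norm F α) * ψ (Algebra.trace F F' α) =
      ∑ α : F', lam χ ψ (minpoly F α) ^ (n / (minpoly F α).natDegree) := by
    apply Finset.sum_congr rfl
    intro α _
    rw [term_eq χ ψ α, hn]
  rw [h1]
  have hmaps : ∀ α ∈ (Finset.univ : Finset F'), minpoly F α ∈ IrrAll F n := by
    intro α _
    have hint : IsIntegral F α := .of_finite F α
    rw [mem_IrrAll]
    refine ⟨minpoly.monic hint, ?_, minpoly.irreducible hint⟩
    exact Nat.le_of_dvd hnpos (hn ▸ minpoly.degree_dvd hint)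
  rw [← Finset.sum_fiberwise_of_maps_to hmaps]
  unfold L
  apply Finset.sum_congr rfl
  intro P hP
  have h2 : ∑ α ∈ Finset.univ.filter (fun α : F' => minpoly F α = P),
      lam χ ψ (minpoly F α) ^ (n / (minpoly F α).natDegree) =
      ((Finset.univ.filter (fun α : F' => minpoly F α = P)).card : R) *
        lam χ ψ P ^ (n / P.natDegree) := by
    rw [Finset.sum_congr rfl (fun α hα => by rw [(Finset.mem_filter.mp hα).2]),
      Finset.sum_const, nsmul_eq_mul]
  rw [h2, card_minpoly_eq hn hP]
  have hd := (mem_IrrAll.mp hP).2.2.natDegree_pos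
  split_ifs with hdvd
  · obtain ⟨e, he⟩ := hdvd
    have he' : n / P.natDegree = e := by
      rw [he]
      exact Nat.mul_div_cancel_left e hd
    rw [Finset.sum_eq_single e]
    · rw [if_pos (by rw [he]; ring), he']
    · intro r _ hr
      rw [if_neg]
      intro h
      apply hr
      have : P.natDegree * r = P.natDegree * e := by rw [← he, mul_comm]; exact h
      exact Nat.eq_of_mul_eq_mul_left hd this
    · intro he2
      exfalso
      apply he2
      rw [Finset.mem_Icc]
      constructor
      · rcases Nat.eq_zero_or_pos e with h0 | h0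
        · rw [h0, mul_zero] at he
          omega
        · exact h0
      · rw [he]
        exact Nat.le_mul_of_pos_left e hd
  · rw [Nat.cast_zero, zero_mul]
    symm
    apply Finset.sum_eq_zero
    intro r _
    rw [if_neg]
    intro h
    exact hdvd ⟨r, by rw [← h, mul_comm]⟩

end Groth.Agent.H74.HD
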