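import Mathlib
import Groth.Prelude.Def_W4c2conddiscmodels

/-!
Hirzebruch–Jung continued fractions: numerators/denominators and the linear recurrence.
-/

namespace Groth.Agent.H74.HJ

open Finset

/-- Main inductive lemma: the HJ fraction `[b₁, …, b_l]` equals `P / Q` with `0 ≤ Q < P` coprime, and any
solution `μ` of `b_i μ_i = μ_{i-1} + μ_{i+1}` satisfies `P μ₁ = Q μ₀ + μ_{l+1}` and the telescoping
identity. -/
theorem hj_main : ∀ (l : ℕ) (b : ℕ → ℤ), (∀ i, 1 ≤ i → i ≤ l → 2 ≤ b i) →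
    ∃ P Q : ℤ, 0 ≤ Q ∧ Q < P ∧ IsCoprime P Q ∧ (1 ≤ l → 0 < Q) ∧
      HJFrac.hjVal ((List.range l).map fun i => b (i + 1)) = (P : ℚ) / Q ∧
      ∀ μ : ℕ → ℤ, (∀ i, 1 ≤ i → i ≤ l → b i * μ i = μ (i - 1) + μ (i + 1)) →
        P * μ 1 = Q * μ 0 + μ (l + 1) ∧
        ((∀ i, i ≤ l + 1 → 0 < μ i) →
          ∑ i ∈ Finset.range (l + 1), 1 / ((μ i : ℚ) * (μ (i + 1) : ℚ))
            = (P : ℚ) / ((μ 0 : ℚ) * (μ (l + 1) : ℚ))) := by
  intro l
  induction l with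
  | zero =>
    intro b _
    refine ⟨1, 0, le_refl _, by norm_num, isCoprime_one_left, by omega, by simp [HJFrac.hjVal],
      fun μ _ => ⟨by simp, fun _ => by simp⟩⟩
  | succ l ih =>
    intro b hb
    obtain ⟨P', Q', hQ0, hQP, hcop, hQpos, hval, hμ'⟩ :=
      ih (fun i => b (i + 1)) (fun i h1 h2 => hb (i + 1) (by omega) (by omega))
    have hb1 : 2 ≤ b 1 := hb 1 le_rfl (by omega)
    have hP'pos : 0 < P' := lt_of_le_of_lt hQ0 hQP
    refine ⟨b 1 * P' - Q', P', hP'pos.le, by nlinarith, ?_, fun _ => hP'pos, ?_, ?_⟩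
    · have h2 : IsCoprime (-Q') P' := hcop.symm.neg_left
      have h3 : IsCoprime (-Q' + b 1 * P') P' := h2.add_mul_right_left (b 1)
      have e : b 1 * P' - Q' = -Q' + b 1 * P' := by ring
      rw [e]
      exact h3
    · rw [List.range_succ_eq_map, List.map_cons, List.map_map]
      show (b 1 : ℚ) - (HJFrac.hjVal ((List.range l).map fun i => b (i + 1 + 1)))⁻¹ = _
      rw [hval, inv_div]
      have hP' : (P' : ℚ) ≠ 0 := by exact_mod_cast hP'pos.ne'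
      push_cast
      field_simp
    · intro μ hμ
      obtain ⟨hrel', hsum'⟩ := hμ' (fun i => μ (i + 1)) (fun i h1 h2 => by
        have h := hμ (i + 1) (by omega) (by omega)
        have e1 : i + 1 - 1 = i := by omega
        have e2 : i - 1 + 1 = i := by omega
        rw [e1] at h
        show b (i + 1) * μ (i + 1) = μ (i - 1 + 1) + μ (i + 1 + 1)
        rw [e2]
        exact h)
      have h1eq : b 1 * μ 1 = μ 0 + μ 2 := hμ 1 le_rfl (by omega)
      have hrel'' : P' * μ 2 = Q' * μ 1 + μ (l + 1 + 1) := hrel'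
      have hrel : (b 1 * P' - Q') * μ 1 = P' * μ 0 + μ (l + 1 + 1) := by
        linear_combination P' * h1eq + hrel''
      refine ⟨hrel, fun hpos => ?_⟩
      have hs := hsum' (fun i hi => hpos (i + 1) (by omega))
      rw [Finset.sum_range_succ', hs]
      have h0 : (μ 0 : ℚ) ≠ 0 := by exact_mod_cast (hpos 0 (by omega)).ne'
      have h1 : (μ 1 : ℚ) ≠ 0 := by exact_mod_cast (hpos 1 (by omega)).ne'
      have h2 : (μ (l + 1 + 1) : ℚ) ≠ 0 := by exact_mod_cast (hpos (l + 1 + 1) (by omega)).ne'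
      have hrelQ : ((b 1 : ℚ) * P' - Q') * μ 1 = P' * μ 0 + μ (l + 1 + 1) := by exact_mod_cast hrel
      show (P' : ℚ) / ((μ (0 + 1) : ℚ) * (μ (l + 1 + 1) : ℚ)) + 1 / ((μ 0 : ℚ) * (μ (0 + 1) : ℚ))
        = ((b 1 * P' - Q' : ℤ) : ℚ) / ((μ 0 : ℚ) * (μ (l + 1 + 1) : ℚ))
      rw [zero_add]
      push_cast
      field_simp
      linear_combination -hrelQ

/-- Application to the data of the statements: identification of `(n, r)` with `(P, Q)`. -/
theorem hj_apply (l : ℕ) (hl : 1 ≤ l) (b : ℕ → ℤ)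
    (hb : ∀ i, 1 ≤ i → i ≤ l → 2 ≤ b i)
    (n r : ℕ) (hr : 0 < r) (hrn : r < n) (hcop : Nat.Coprime r n)
    (hhj : (n : ℚ) / r = HJFrac.hjVal ((List.range l).map fun i => b (i + 1)))
    (μ : ℕ → ℤ)
    (hsys : ∀ i, 1 ≤ i → i ≤ l → b i * μ i = μ (i - 1) + μ (i + 1)) :
    (n : ℤ) * μ 1 = r * μ 0 + μ (l + 1) ∧
      ((∀ i, i ≤ l + 1 → 0 < μ i) →
        ∑ i ∈ Finset.range (l + 1), 1 / ((μ i : ℚ) * (μ (i + 1) : ℚ))
          = (n : ℚ) / ((μ 0 : ℚ) * (μ (l + 1) : ℚ))) := by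
  obtain ⟨P, Q, hQ0, hQP, hPQ, hQpos, hval, hμ⟩ := hj_main l b hb
  have hQ : 0 < Q := hQpos hl
  have hP : 0 < P := lt_trans hQ hQP
  have hn : 0 < n := lt_trans hr hrn
  rw [hval] at hhj
  have hrQ : (r : ℚ) ≠ 0 := by exact_mod_cast hr.ne'
  have hQQ : (Q : ℚ) ≠ 0 := by exact_mod_cast hQ.ne'
  rw [div_eq_div_iff hrQ hQQ] at hhj
  have hcross : (n : ℤ) * Q = P * r := by exact_mod_cast hhj
  have hnr : IsCoprime (n : ℤ) (r : ℤ) := (Nat.isCoprime_iff_coprime.mpr hcop).symm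
  have h1 : (n : ℤ) ∣ P := hnr.dvd_of_dvd_mul_right (Dvd.intro _ hcross)
  have h2 : P ∣ (n : ℤ) := hPQ.dvd_of_dvd_mul_right (Dvd.intro _ hcross.symm)
  have hnP : (n : ℤ) = P :=
    le_antisymm (Int.le_of_dvd hP h1) (Int.le_of_dvd (by exact_mod_cast hn) h2)
  have hrQ' : (r : ℤ) = Q := by
    rw [hnP] at hcross
    have := mul_left_cancel₀ hP.ne' hcross
    exact this.symm
  obtain ⟨hrel, hsum⟩ := hμ μ hsys
  rw [hnP, hrQ']
  refine ⟨hrel, fun hpos => ?_⟩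
  rw [hsum hpos]
  have : ((n : ℤ) : ℚ) = (P : ℚ) := by rw [hnP]
  rw [← this]
  push_cast
  rfl

end Groth.Agent.H74.HJ
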