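import Mathlib

/-!
A map of commutative Hopf algebras `f : B → A` with trivial kernel (`A · f(I_B) = I_A`) is a ring
epimorphism: `1 ⊗ a = a ⊗ 1` in `A ⊗[B] A` (helper74).
-/

set_option autoImplicit false
universe u v w
open TensorProduct WithConv

namespace Groth.Agent.H74.HopfEpi

variable {k : Type u} [Field k] {A : Type v} {B : Type w}
  [CommRing A] [HopfAlgebra k A] [CommRing B] [HopfAlgebra k B]

/-- post-composition preserves the convolution unit -/
theorem comp_convOne {R R' : Type*} [CommRing R] [Algebra k R] [CommRing R'] [Algebra k R']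
    (h : R →ₐ[k] R') :
    h.comp (1 : WithConv (A →ₐ[k] R)).ofConv = (1 : WithConv (A →ₐ[k] R')).ofConv := by
  ext a
  show h (algebraMap k R (Coalgebra.counit a)) = algebraMap k R' (Coalgebra.counit a)
  rw [AlgHom.commutes]

theorem one_tmul_eq_tmul_one [Algebra B A] [IsScalarTower k B A] (f : B →ₐc[k] A)
    (hf : ∀ b, algebraMap B A b = f b)
    (hker : Ideal.map f (RingHom.ker (Bialgebra.counitAlgHom k B)) =
      RingHom.ker (Bialgebra.counitAlgHom k A)) (a : A) :
    (1 : A) ⊗ₜ[B] a = a ⊗ₜ[B] (1 : A) := by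
  classical
  let ι₁ : A →ₐ[k] A ⊗[B] A := Algebra.TensorProduct.includeLeft
  let ι₂ : A →ₐ[k] A ⊗[B] A :=
    (Algebra.TensorProduct.includeRight : A →ₐ[B] A ⊗[B] A).restrictScalars k
  have h12 : ι₂.comp (f : B →ₐ[k] A) = ι₁.comp (f : B →ₐ[k] A) := by
    ext b
    show (1 : A) ⊗ₜ[B] f b = f b ⊗ₜ[B] (1 : A)
    rw [← hf, Algebra.algebraMap_eq_smul_one, TensorProduct.smul_tmul]
  let Sa : A →ₐ[k] A := HopfAlgebra.antipodeAlgHom k A
  have hG1 : toConv (AlgHom.id k A) * toConv Sa = 1 :=
    mul_inv_cancel (toConv (AlgHom.id k A))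
  have hG2 : toConv Sa * toConv (AlgHom.id k A) = 1 := AlgHom.antipode_id_cancel
  have hE1 : toConv ι₁ * toConv (ι₁.comp Sa) = 1 := by
    have h := AlgHom.comp_convMul_distrib ι₁ (toConv (AlgHom.id k A)) (toConv Sa)
    rw [hG1, comp_convOne] at h
    simp only [ofConv_toConv, AlgHom.comp_id] at h
    exact (WithConv.ofConv_injective h).symm
  have hE2 : toConv (ι₁.comp Sa) * toConv ι₁ = 1 := by
    have h := AlgHom.comp_convMul_distrib ι₁ (toConv Sa) (toConv (AlgHom.id k A))
    rw [hG2, comp_convOne] at h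
    simp only [ofConv_toConv, AlgHom.comp_id] at h
    exact (WithConv.ofConv_injective h).symm
  -- φ = (ι₁ ∘ S) * ι₂
  have hφf : (toConv (ι₁.comp Sa) * toConv ι₂).ofConv.comp (f : B →ₐ[k] A) =
      (1 : WithConv (B →ₐ[k] A ⊗[B] A)).ofConv := by
    have h1 := AlgHom.convMul_comp_bialgHom_distrib (toConv (ι₁.comp Sa)) (toConv ι₂) f
    have h2 := AlgHom.convMul_comp_bialgHom_distrib (toConv (ι₁.comp Sa)) (toConv ι₁) f
    simp only [ofConv_toConv] at h1 h2
    rw [h12, ← h2, hE2] at h1
    rw [h1]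
    ext b
    show algebraMap k (A ⊗[B] A) (Coalgebra.counit (f b)) = algebraMap k (A ⊗[B] A) (Coalgebra.counit b)
    rw [CoalgHomClass.counit_comp_apply]
  have hφfb : ∀ b : B, (toConv (ι₁.comp Sa) * toConv ι₂).ofConv (f b) =
      algebraMap k (A ⊗[B] A) (Coalgebra.counit b) := fun b => AlgHom.congr_fun hφf b
  have hle : Ideal.map f (RingHom.ker (Bialgebra.counitAlgHom k B)) ≤
      RingHom.ker (toConv (ι₁.comp Sa) * toConv ι₂).ofConv := by
    rw [Ideal.map_le_iff_le_comap]
    intro b hb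
    rw [Ideal.mem_comap, RingHom.mem_ker, hφfb]
    have hb' : Coalgebra.counit (R := k) b = 0 := hb
    rw [hb', map_zero]
  have hφ : ∀ c : A, (toConv (ι₁.comp Sa) * toConv ι₂).ofConv c =
      algebraMap k (A ⊗[B] A) (Coalgebra.counit c) := by
    intro c
    have hc : c - algebraMap k A (Coalgebra.counit c) ∈
        RingHom.ker (Bialgebra.counitAlgHom k A) := by
      rw [RingHom.mem_ker, map_sub, AlgHom.commutes]
      show Coalgebra.counit c - algebraMap k k (Coalgebra.counit c) = 0
      simp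
    rw [← hker] at hc
    have h0 := hle hc
    rw [RingHom.mem_ker, map_sub, AlgHom.commutes, sub_eq_zero] at h0
    exact h0
  have hφ1 : toConv (ι₁.comp Sa) * toConv ι₂ = 1 := by
    apply WithConv.ofConv_injective
    ext c
    exact hφ c
  have hfinal : toConv ι₂ = toConv ι₁ := by
    calc toConv ι₂ = (toConv ι₁ * toConv (ι₁.comp Sa)) * toConv ι₂ := by rw [hE1, one_mul]
      _ = toConv ι₁ * (toConv (ι₁.comp Sa) * toConv ι₂) := mul_assoc _ _ _
      _ = toConv ι₁ := by rw [hφ1, mul_one]
  have h := AlgHom.congr_fun (congrArg WithConv.ofConv hfinal) a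
  exact h

theorem bijective_of_injective (f : B →ₐc[k] A) [Module.Finite k A] (hinj : Function.Injective f)
    (hker : Ideal.map f (RingHom.ker (Bialgebra.counitAlgHom k B)) =
      RingHom.ker (Bialgebra.counitAlgHom k A)) : Function.Bijective f := by
  letI : Algebra B A := (f : B →+* A).toAlgebra
  haveI : IsScalarTower k B A :=
    IsScalarTower.of_algebraMap_eq fun r => (AlgHomClass.commutes f r).symm
  haveI : Module.Finite B A := Module.Finite.of_restrictScalars_finite k B A
  have hepi : Algebra.IsEpi B A :=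
    (Algebra.isEpi_iff_forall_one_tmul_eq B A).mpr (one_tmul_eq_tmul_one f (fun _ => rfl) hker)
  have hs : Function.Surjective (algebraMap B A) :=
    Algebra.isEpi_iff_surjective_algebraMap_of_finite.mp hepi
  exact ⟨hinj, hs⟩

end Groth.Agent.H74.HopfEpi
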