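import Mathlib
import Groth.Prelude.Def_PolLaw
import Groth.Agent.H74.GammaSpan

/-!
# Helper library (helper74): surjectivity of Iversen's map `Γ^{e+1}(B) ⊗ B → Γ^e(B) ⊗ B`
-/

set_option autoImplicit false
universe u
open scoped TensorProduct
open PolLaw

namespace Groth.Agent.H74.Iversen

open Groth.Agent.H74.GammaSpan

variable {A : Type u} [CommRing A]

/-- coefficients of a specialisation are combinations of the coefficients -/
theorem cf_rTensor_mem {σ τ : Type*} {C : Type u} [AddCommGroup C] [Module A C] (N : Submodule A C)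
    (ψ : MvPolynomial σ A →ₐ[A] MvPolynomial τ A) (u : MvPolynomial σ A ⊗[A] C)
    (h : ∀ μ, cf μ u ∈ N) (ν : τ →₀ ℕ) : cf ν (ψ.toLinearMap.rTensor C u) ∈ N := by
  obtain ⟨s, hs⟩ := exists_finset_expand u
  rw [hs s (Finset.Subset.refl s), map_sum, map_sum]
  refine N.sum_mem (fun μ _ => ?_)
  rw [LinearMap.rTensor_tmul, cf_tmul]
  exact N.smul_mem _ (h μ)

/-- coefficient extraction commutes with a linear map on the module factor -/
theorem cf_lTensor {σ : Type} {N N' : Type u} [AddCommGroup N] [Module A N] [AddCommGroup N']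
    [Module A N'] (L : N →ₗ[A] N') (ν : σ →₀ ℕ) (u : MvPolynomial σ A ⊗[A] N) :
    cf ν (L.lTensor (MvPolynomial σ A) u) = L (cf ν u) :=
  lid_rTensor_lTensor L (MvPolynomial.lcoeff A ν) u

variable {B : Type u} [CommRing B] [Algebra A B] {Ce : Type u} [CommRing Ce] [Algebra A Ce]

/-- the coefficients of `(u ⊗ 1) * (1 ⊗ Σ Xⱼ bⱼ)` -/
theorem cf_mul_gen {n : ℕ} (b : Fin n → B) (u : MvPolynomial (Fin n) A ⊗[A] Ce)
    (ν : Fin n →₀ ℕ) :
    cf ν ((Algebra.TensorProduct.includeLeft : Ce →ₐ[A] Ce ⊗[A] B).toLinearMap.lTensor _ u *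
        (Algebra.TensorProduct.includeRight : B →ₐ[A] Ce ⊗[A] B).toLinearMap.lTensor _
          (∑ j, (MvPolynomial.X j : MvPolynomial (Fin n) A) ⊗ₜ[A] b j)) =
      ∑ j, if j ∈ ν.support then (cf (ν - Finsupp.single j 1) u) ⊗ₜ[A] b j else 0 := by
  induction u using TensorProduct.induction_on with
  | zero => simp
  | tmul p c =>
    rw [LinearMap.lTensor_tmul, map_sum, Finset.mul_sum, map_sum]
    refine Finset.sum_congr rfl (fun j _ => ?_)
    rw [LinearMap.lTensor_tmul, Algebra.TensorProduct.tmul_mul_tmul, cf_tmul,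
      MvPolynomial.coeff_mul_X', cf_tmul]
    simp only [AlgHom.toLinearMap_apply, Algebra.TensorProduct.includeLeft_apply,
      Algebra.TensorProduct.includeRight_apply, Algebra.TensorProduct.tmul_mul_tmul, mul_one,
      one_mul]
    split_ifs with hj
    · rw [TensorProduct.smul_tmul']
    · rw [zero_smul]
  | add x y hx hy =>
    rw [map_add, add_mul, map_add, hx, hy, ← Finset.sum_add_distrib]
    refine Finset.sum_congr rfl (fun j _ => ?_)
    split_ifs with hj
    · rw [map_add, TensorProduct.add_tmul]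
    · rw [add_zero]


theorem cf_eq_zero_of_notMem {σ : Type*} {C : Type u} [AddCommGroup C] [Module A C]
    (u : MvPolynomial σ A ⊗[A] C) {s : Finset (σ →₀ ℕ)}
    (hs : ∀ t : Finset (σ →₀ ℕ), s ⊆ t →
      u = ∑ ν ∈ t, (MvPolynomial.monomial ν (1 : A)) ⊗ₜ[A] cf ν u)
    {μ : σ →₀ ℕ} (hμ : μ ∉ s) : cf μ u = 0 := by
  classical
  have h1 := hs s (Finset.Subset.refl s)
  have h2 := hs (insert μ s) (Finset.subset_insert μ s)
  rw [Finset.sum_insert hμ, ← h1] at h2
  have h3 : (MvPolynomial.monomial μ (1 : A)) ⊗ₜ[A] cf μ u = 0 := by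
    have := h2
    rwa [right_eq_add] at this
  have h4 := congrArg (cf μ) h3
  rwa [cf_tmul, MvPolynomial.coeff_monomial, if_pos rfl, one_smul, map_zero] at h4

section Main

variable {Cd : Type u} [CommRing Cd] [Algebra A Cd] {e : ℕ}
  (γd : MulLaw A B Cd (e + 1)) (γe : MulLaw A B Ce e)
  (ω : Cd ⊗[A] B →ₐ[A] Ce ⊗[A] B)
  (hω : ∀ (S : Type u) [CommSemiring S] [Algebra A S] (x y : S ⊗[A] B),
      ω.toLinearMap.lTensor S
        ((Algebra.TensorProduct.includeLeft : Cd →ₐ[A] Cd ⊗[A] B).toLinearMap.lTensor S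
            (γd.law.toFun' S x) *
          (Algebra.TensorProduct.includeRight : B →ₐ[A] Cd ⊗[A] B).toLinearMap.lTensor S y) =
      (Algebra.TensorProduct.includeLeft : Ce →ₐ[A] Ce ⊗[A] B).toLinearMap.lTensor S
          (γe.law.toFun' S x) *
        (Algebra.TensorProduct.includeRight : B →ₐ[A] Ce ⊗[A] B).toLinearMap.lTensor S (x * y))

include hω

/-- the coefficients of the right-hand side lie in the range of `ω` -/
theorem cf_rhs_mem {σ : Type} (x : MvPolynomial σ A ⊗[A] B) (ν : σ →₀ ℕ) :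
    cf ν ((Algebra.TensorProduct.includeLeft : Ce →ₐ[A] Ce ⊗[A] B).toLinearMap.lTensor _
          (γe.law.toFun' (MvPolynomial σ A) x) *
        (Algebra.TensorProduct.includeRight : B →ₐ[A] Ce ⊗[A] B).toLinearMap.lTensor _ x) ∈
      ω.range := by
  have h := hω (MvPolynomial σ A) x 1
  rw [mul_one] at h
  rw [← h]
  have := cf_lTensor ω.toLinearMap ν
    ((Algebra.TensorProduct.includeLeft : Cd →ₐ[A] Cd ⊗[A] B).toLinearMap.lTensor _
        (γd.law.toFun' (MvPolynomial σ A) x) *
      (Algebra.TensorProduct.includeRight : B →ₐ[A] Cd ⊗[A] B).toLinearMap.lTensor _ 1)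
  rw [this]
  exact ⟨_, rfl⟩

theorem one_tmul_mem (b : B) : (1 : Ce) ⊗ₜ[A] b ∈ ω.range := by
  have h := hω (MvPolynomial (Fin 0) A) 1
    ((1 : MvPolynomial (Fin 0) A) ⊗ₜ[A] b)
  rw [one_mul, (γe.mult _).1, lTensor_algHom_apply _ _ (1 : _ ⊗[A] Ce), map_one, one_mul,
    LinearMap.lTensor_tmul] at h
  have h2 := congrArg (cf (0 : Fin 0 →₀ ℕ)) h
  rw [cf_lTensor, LinearMap.lTensor_tmul, cf_tmul, MvPolynomial.coeff_zero_one, one_smul] at h2
  have h3 : (Algebra.TensorProduct.includeRight : B →ₐ[A] Ce ⊗[A] B).toLinearMap b =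
      (1 : Ce) ⊗ₜ[A] b := rfl
  rw [← h3, ← h2]
  exact ⟨_, rfl⟩

/-- for a family starting with `1`, all coefficients of `γe` at the generic linear form have
`c ⊗ 1` in the range of `ω` -/
theorem includeLeft_cf_mem {n : ℕ} (b : Fin (n + 1) → B) (hb0 : b 0 = 1) (ν : Fin (n + 1) →₀ ℕ) :
    (cf ν (γe.law.toFun' (MvPolynomial (Fin (n + 1)) A)
      (∑ j, (MvPolynomial.X j : MvPolynomial (Fin (n + 1)) A) ⊗ₜ[A] b j))) ⊗ₜ[A] (1 : B) ∈
      ω.range := by
  classical
  set x : MvPolynomial (Fin (n + 1)) A ⊗[A] B :=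
    ∑ j, (MvPolynomial.X j : MvPolynomial (Fin (n + 1)) A) ⊗ₜ[A] b j with hx
  set Γ := γe.law.toFun' (MvPolynomial (Fin (n + 1)) A) x with hΓ
  obtain ⟨s, hs⟩ := exists_finset_expand Γ
  set K : ℕ := s.sup (fun μ => μ 0) + 1 with hK
  have key : ∀ ν' : Fin (n + 1) →₀ ℕ,
      (∑ j, if j ∈ ν'.support then (cf (ν' - Finsupp.single j 1) Γ) ⊗ₜ[A] b j else 0) ∈
        ω.range := by
    intro ν'
    rw [← cf_mul_gen b Γ ν']
    exact cf_rhs_mem γd γe ω hω x ν'
  have Q : ∀ m : ℕ, ∀ μ : Fin (n + 1) →₀ ℕ, K ≤ μ 0 + m →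
      (cf μ Γ) ⊗ₜ[A] (1 : B) ∈ ω.range := by
    intro m
    induction m with
    | zero =>
      intro μ hμ
      have hnot : μ ∉ s := by
        intro hmem
        have h5 : μ 0 ≤ s.sup (fun μ : Fin (n + 1) →₀ ℕ => μ 0) :=
          Finset.le_sup (f := fun μ : Fin (n + 1) →₀ ℕ => μ 0) hmem
        omega
      rw [cf_eq_zero_of_notMem Γ hs hnot, TensorProduct.zero_tmul]
      exact ω.range.zero_mem
    | succ m ih =>
      intro μ hμ
      have hk := key (μ + Finsupp.single 0 1)
      rw [Fin.sum_univ_succ] at hk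
      have h0 : (0 : Fin (n + 1)) ∈ (μ + Finsupp.single 0 1).support := by
        rw [Finsupp.mem_support_iff, Finsupp.add_apply, Finsupp.single_eq_same]
        omega
      rw [if_pos h0, add_tsub_cancel_right, hb0] at hk
      have hrest : (∑ i : Fin n, if i.succ ∈ (μ + Finsupp.single 0 1).support then
          (cf (μ + Finsupp.single 0 1 - Finsupp.single i.succ 1) Γ) ⊗ₜ[A] b i.succ else 0) ∈
          ω.range := by
        refine ω.range.sum_mem (fun i _ => ?_)
        split_ifs with hi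
        · have h1 : (cf (μ + Finsupp.single 0 1 - Finsupp.single i.succ 1) Γ) ⊗ₜ[A] b i.succ =
              ((cf (μ + Finsupp.single 0 1 - Finsupp.single i.succ 1) Γ) ⊗ₜ[A] (1 : B)) *
                ((1 : Ce) ⊗ₜ[A] b i.succ) := by
            rw [Algebra.TensorProduct.tmul_mul_tmul, mul_one, one_mul]
          rw [h1]
          refine ω.range.mul_mem (ih _ ?_) (one_tmul_mem γd γe ω hω _)
          have h2 : (μ + Finsupp.single (0 : Fin (n + 1)) 1 -
              Finsupp.single i.succ 1 : Fin (n + 1) →₀ ℕ) 0 = μ 0 + 1 := by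
            rw [Finsupp.tsub_apply, Finsupp.add_apply, Finsupp.single_eq_same,
              Finsupp.single_eq_of_ne (Fin.succ_ne_zero i).symm]
            omega
          omega
        · exact ω.range.zero_mem
      have := ω.range.sub_mem hk hrest
      rwa [add_sub_cancel_right] at this
  exact Q K ν (by omega)

/-- **Iversen's map is surjective** -/
theorem surjective (hγe : IsGammaD γe) : Function.Surjective ω := by
  classical
  set N : Submodule A Ce := Submodule.comap
    (Algebra.TensorProduct.includeLeft : Ce →ₐ[A] Ce ⊗[A] B).toLinearMap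
    (Subalgebra.toSubmodule ω.range) with hN
  have htop : N = ⊤ := by
    apply eq_top_of_cf_mem γe hγe N
    intro n' x ν
    obtain ⟨m, s, b, hx⟩ := TensorProduct.exists_sum_tmul_eq x
    set b' : Fin (m + 1) → B := Fin.cons 1 b with hb'
    set ψ : MvPolynomial (Fin (m + 1)) A →ₐ[A] MvPolynomial (Fin n') A :=
      MvPolynomial.aeval (Fin.cons 0 s) with hψdef
    set x' : MvPolynomial (Fin (m + 1)) A ⊗[A] B :=
      ∑ j, (MvPolynomial.X j : MvPolynomial (Fin (m + 1)) A) ⊗ₜ[A] b' j with hx'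
    have hψ : ψ.toLinearMap.rTensor B x' = x := by
      rw [hx, hx', map_sum, Fin.sum_univ_succ]
      simp [hb', hψdef]
    have hc := congr_fun (γe.law.isCompat' ψ) x'
    simp only [Function.comp_apply] at hc
    rw [← hψ, ← hc]
    apply cf_rTensor_mem N ψ
    intro μ
    exact includeLeft_cf_mem γd γe ω hω b' (by simp [hb']) μ
  intro z
  have hz : z ∈ ω.range := by
    induction z using TensorProduct.induction_on with
    | zero => exact ω.range.zero_mem
    | tmul c b =>
      have h1 : c ⊗ₜ[A] b = (c ⊗ₜ[A] (1 : B)) * ((1 : Ce) ⊗ₜ[A] b) := by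
        rw [Algebra.TensorProduct.tmul_mul_tmul, mul_one, one_mul]
      rw [h1]
      refine ω.range.mul_mem ?_ (one_tmul_mem γd γe ω hω b)
      have hc : c ∈ N := htop ▸ Submodule.mem_top
      exact hc
    | add x y hx hy => exact ω.range.add_mem hx hy
  exact hz

end Main

end Groth.Agent.H74.Iversen
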