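import Mathlib

/-!
# (NG) for helper34 (S1851): clearing denominators in a monomial presentation
-/

set_option autoImplicit false
universe u

namespace Groth.Agent.H74.KatoNG

/-- one half: clearing denominators in `ℓ a = u * π ^ e`. -/
lemma clear_one {B : Type u} [CommRing B] (p : Ideal B) [p.IsPrime] (a : B)
    (π : Localization.AtPrime p) (u : (Localization.AtPrime p)ˣ) (e : ℕ)
    (ha : algebraMap B (Localization.AtPrime p) a = u * π ^ e)
    (π₁ s : B) (hs : s ∉ p)
    (hπ : π * algebraMap B (Localization.AtPrime p) s = algebraMap B (Localization.AtPrime p) π₁) :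
    ∃ ca ua : B, ca ∉ p ∧ ua ∉ p ∧ ca * a = ua * π₁ ^ e := by
  set ℓ := algebraMap B (Localization.AtPrime p) with hℓ
  obtain ⟨⟨u₁, t⟩, hu⟩ := IsLocalization.surj p.primeCompl (u : Localization.AtPrime p)
  have hu' : (u : Localization.AtPrime p) * ℓ t = ℓ u₁ := hu
  have ht : (t : B) ∉ p := t.2
  have hu₁ : u₁ ∉ p := by
    have h1 : IsUnit (ℓ u₁) := by
      rw [← hu']
      exact u.isUnit.mul (IsLocalization.map_units _ t)
    exact (IsLocalization.AtPrime.isUnit_to_map_iff (Localization.AtPrime p) p u₁).mp h1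
  have heq : ℓ ((t : B) * s ^ e * a) = ℓ (u₁ * π₁ ^ e) := by
    rw [map_mul, map_mul, map_mul, map_pow, map_pow, ha, ← hπ, ← hu', mul_pow]
    ring
  rw [hℓ, IsLocalization.eq_iff_exists p.primeCompl] at heq
  obtain ⟨c, hc⟩ := heq
  have hcp : (c : B) ∉ p := c.2
  refine ⟨c * (t * s ^ e), c * u₁, ?_, ?_, ?_⟩
  · intro hmem
    rcases (inferInstance : p.IsPrime).mem_or_mem hmem with h | h
    · exact hcp h
    · rcases (inferInstance : p.IsPrime).mem_or_mem h with h | h
      · exact ht h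
      · exact hs ((inferInstance : p.IsPrime).mem_of_pow_mem _ h)
  · intro hmem
    rcases (inferInstance : p.IsPrime).mem_or_mem hmem with h | h
    · exact hcp h
    · exact hu₁ h
  · calc (c : B) * (t * s ^ e) * a = c * (t * s ^ e * a) := by ring
      _ = c * (u₁ * π₁ ^ e) := hc
      _ = c * u₁ * π₁ ^ e := by ring

/-- (NG) -/
theorem nice_global {B : Type u} [CommRing B] (p : Ideal B) [p.IsPrime] (a b : B)
    (h : ∃ π ∈ nonZeroDivisors (Localization.AtPrime p),
      ∃ (u v : (Localization.AtPrime p)ˣ) (e f : ℕ),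
        algebraMap B (Localization.AtPrime p) a = u * π ^ e ∧
        algebraMap B (Localization.AtPrime p) b = v * π ^ f) :
    ∃ (π₁ ca ua cb ub : B) (e f : ℕ), ca ∉ p ∧ ua ∉ p ∧ cb ∉ p ∧ ub ∉ p ∧
      ca * a = ua * π₁ ^ e ∧ cb * b = ub * π₁ ^ f ∧
      algebraMap B (Localization.AtPrime p) π₁ ∈ nonZeroDivisors (Localization.AtPrime p) := by
  obtain ⟨π, hπnzd, u, v, e, f, ha, hb⟩ := h
  obtain ⟨⟨π₁, s⟩, hπ⟩ := IsLocalization.surj p.primeCompl π
  have hπ' : π * algebraMap B (Localization.AtPrime p) s =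
      algebraMap B (Localization.AtPrime p) π₁ := hπ
  obtain ⟨ca, ua, hca, hua, hA⟩ := clear_one p a π u e ha π₁ s s.2 hπ'
  obtain ⟨cb, ub, hcb, hub, hB⟩ := clear_one p b π v f hb π₁ s s.2 hπ'
  refine ⟨π₁, ca, ua, cb, ub, e, f, hca, hua, hcb, hub, hA, hB, ?_⟩
  rw [← hπ']
  exact mul_mem hπnzd (IsLocalization.map_units (Localization.AtPrime p) s).mem_nonZeroDivisors

end Groth.Agent.H74.KatoNG
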