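import Mathlib

/-! Generalized Laplace expansion summed over all permutations, and sign = parity of inversions. -/

namespace Groth.Agent.H74.Laplace

open Finset Equiv

section gen
variable {k : Type*} [CommRing k]

/-- block permutation `σ ⊕ τ` of `Fin (p + r)` -/
noncomputable def blockPerm (p r : ℕ) (σ : Perm (Fin p)) (τ : Perm (Fin r)) : Perm (Fin (p + r)) :=
  (finSumFinEquiv : Fin p ⊕ Fin r ≃ Fin (p + r)).permCongr (Equiv.Perm.sumCongr σ τ)

lemma blockPerm_castAdd (p r : ℕ) (σ : Perm (Fin p)) (τ : Perm (Fin r)) (i : Fin p) :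
    blockPerm p r σ τ (Fin.castAdd r i) = Fin.castAdd r (σ i) := by
  simp [blockPerm, Equiv.permCongr_apply]

lemma blockPerm_natAdd (p r : ℕ) (σ : Perm (Fin p)) (τ : Perm (Fin r)) (j : Fin r) :
    blockPerm p r σ τ (Fin.natAdd p j) = Fin.natAdd p (τ j) := by
  simp [blockPerm, Equiv.permCongr_apply]

lemma sign_blockPerm (p r : ℕ) (σ : Perm (Fin p)) (τ : Perm (Fin r)) :
    Equiv.Perm.sign (blockPerm p r σ τ) = Equiv.Perm.sign σ * Equiv.Perm.sign τ := by
  simp [blockPerm]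

theorem sum_perm_minor_mul_minor (p r : ℕ) (N : Matrix (Fin (p + r)) (Fin (p + r)) k) :
    ∑ π : Perm (Fin (p + r)), (((Equiv.Perm.sign π : ℤˣ) : ℤ) : k) *
      (N.submatrix (Fin.castAdd r) (fun i => π.symm (Fin.castAdd r i))).det *
      (N.submatrix (Fin.natAdd p) (fun j => π.symm (Fin.natAdd p j))).det
    = ((p.factorial * r.factorial : ℕ) : k) * N.det := by
  have key : ∀ π : Perm (Fin (p + r)),
      (((Equiv.Perm.sign π : ℤˣ) : ℤ) : k) *
      (N.submatrix (Fin.castAdd r) (fun i => π.symm (Fin.castAdd r i))).det *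
      (N.submatrix (Fin.natAdd p) (fun j => π.symm (Fin.natAdd p j))).det
      = ∑ σ : Perm (Fin p), ∑ τ : Perm (Fin r),
          (((Equiv.Perm.sign (blockPerm p r σ τ * π) : ℤˣ) : ℤ) : k) *
            ∏ y, N ((blockPerm p r σ τ * π) y) y := by
    intro π
    rw [Matrix.det_apply', Matrix.det_apply', mul_assoc, Finset.sum_mul_sum, Finset.mul_sum]
    refine Finset.sum_congr rfl fun σ _ => ?_
    rw [Finset.mul_sum]
    refine Finset.sum_congr rfl fun τ _ => ?_
    have h1 : ∏ y, N ((blockPerm p r σ τ * π) y) y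
        = ∏ x, N (blockPerm p r σ τ x) (π.symm x) := by
      rw [← Equiv.prod_comp π (fun x => N (blockPerm p r σ τ x) (π.symm x))]
      refine Finset.prod_congr rfl fun y _ => ?_
      rw [Equiv.Perm.mul_apply, Equiv.symm_apply_apply]
    rw [h1, Fin.prod_univ_add]
    simp only [blockPerm_castAdd, blockPerm_natAdd, Matrix.submatrix_apply, map_mul,
      sign_blockPerm]
    push_cast
    ring
  have inner : ∀ (σ : Perm (Fin p)) (τ : Perm (Fin r)),
      ∑ π : Perm (Fin (p + r)), (((Equiv.Perm.sign (blockPerm p r σ τ * π) : ℤˣ) : ℤ) : k) *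
            ∏ y, N ((blockPerm p r σ τ * π) y) y = N.det := by
    intro σ τ
    rw [Matrix.det_apply']
    exact Fintype.sum_equiv (Equiv.mulLeft (blockPerm p r σ τ)) _ _ (fun π => rfl)
  calc ∑ π : Perm (Fin (p + r)), (((Equiv.Perm.sign π : ℤˣ) : ℤ) : k) *
      (N.submatrix (Fin.castAdd r) (fun i => π.symm (Fin.castAdd r i))).det *
      (N.submatrix (Fin.natAdd p) (fun j => π.symm (Fin.natAdd p j))).det
      = ∑ π : Perm (Fin (p + r)), ∑ σ : Perm (Fin p), ∑ τ : Perm (Fin r),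
          (((Equiv.Perm.sign (blockPerm p r σ τ * π) : ℤˣ) : ℤ) : k) *
            ∏ y, N ((blockPerm p r σ τ * π) y) y := Finset.sum_congr rfl (fun π _ => key π)
    _ = ∑ σ : Perm (Fin p), ∑ τ : Perm (Fin r), ∑ π : Perm (Fin (p + r)),
          (((Equiv.Perm.sign (blockPerm p r σ τ * π) : ℤˣ) : ℤ) : k) *
            ∏ y, N ((blockPerm p r σ τ * π) y) y := by
        rw [Finset.sum_comm]
        exact Finset.sum_congr rfl (fun σ _ => Finset.sum_comm)
    _ = ∑ _σ : Perm (Fin p), ∑ _τ : Perm (Fin r), N.det := by simp only [inner]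
    _ = _ := by
        simp only [Finset.sum_const, Finset.card_univ, Fintype.card_perm, Fintype.card_fin,
          nsmul_eq_mul, Nat.cast_mul]
        ring

end gen

theorem sign_eq_signAux {n : ℕ} (σ : Perm (Fin n)) :
    Equiv.Perm.sign σ = Equiv.Perm.signAux σ := by
  induction σ using Equiv.Perm.swap_induction_on with
  | one => rw [map_one, Equiv.Perm.signAux_one]
  | swap_mul f x y hxy ih =>
    rw [map_mul, Equiv.Perm.signAux_mul, ih, Equiv.Perm.sign_swap hxy,
      Equiv.Perm.signAux_swap hxy]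

theorem sign_eq_neg_one_pow_card {n : ℕ} (σ : Perm (Fin n)) :
    Equiv.Perm.sign σ
      = (-1 : ℤˣ) ^ ((Equiv.Perm.finPairsLT n).filter (fun x => σ x.1 ≤ σ x.2)).card := by
  rw [sign_eq_signAux, Equiv.Perm.signAux, Finset.prod_ite, Finset.prod_const,
    Finset.prod_const_one, mul_one]

lemma fin_cases_add {m n : ℕ} (x : Fin (m + n)) :
    (∃ i : Fin m, x = Fin.castAdd n i) ∨ (∃ j : Fin n, x = Fin.natAdd m j) := by
  refine Fin.addCases (fun i => Or.inl ⟨i, rfl⟩) (fun j => Or.inr ⟨j, rfl⟩) x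

lemma castAdd_lt_castAdd' {m n : ℕ} {i i' : Fin m} :
    Fin.castAdd n i < Fin.castAdd n i' ↔ i < i' := by
  simp only [Fin.lt_def, Fin.val_castAdd]

lemma natAdd_lt_natAdd' {m n : ℕ} {j j' : Fin n} :
    Fin.natAdd m j < Fin.natAdd m j' ↔ j < j' := by
  simp only [Fin.lt_def, Fin.val_natAdd]
  omega

lemma castAdd_lt_natAdd' {m n : ℕ} (i : Fin m) (j : Fin n) :
    Fin.castAdd n i < Fin.natAdd m j := by
  simp only [Fin.lt_def, Fin.val_castAdd, Fin.val_natAdd]
  omega

lemma not_natAdd_lt_castAdd' {m n : ℕ} (i : Fin m) (j : Fin n) :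
    ¬ Fin.natAdd m j < Fin.castAdd n i := by
  simp only [Fin.lt_def, Fin.val_castAdd, Fin.val_natAdd]
  omega

theorem card_inv (p r : ℕ) (A B : Finset (Fin (p + r))) (hA : A.card = p) (hB : B.card = r)
    (hBA : B = Aᶜ) (ρ : Perm (Fin (p + r)))
    (hl : ∀ i, ρ (Fin.castAdd r i) = A.orderEmbOfFin hA i)
    (hr : ∀ j, ρ (Fin.natAdd p j) = B.orderEmbOfFin hB j) :
    ((Equiv.Perm.finPairsLT (p + r)).filter (fun x => ρ x.1 ≤ ρ x.2)).card
      = ((A ×ˢ Aᶜ).filter (fun ab => ab.2 < ab.1)).card := by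
  refine Finset.card_bij (fun x _ => (ρ x.2, ρ x.1)) ?_ ?_ ?_
  · rintro ⟨x1, x2⟩ hx
    simp only [Finset.mem_filter, Equiv.Perm.mem_finPairsLT] at hx
    obtain ⟨hlt, hle⟩ := hx
    simp only [Finset.mem_filter, Finset.mem_product]
    have hne : ρ x1 ≠ ρ x2 := fun h => absurd (ρ.injective h) (ne_of_gt hlt)
    refine ⟨?_, lt_of_le_of_ne hle hne⟩
    obtain ⟨i1, rfl⟩ | ⟨j1, rfl⟩ := fin_cases_add x1
    · exfalso
      obtain ⟨i2, rfl⟩ | ⟨j2, rfl⟩ := fin_cases_add x2
      · rw [hl, hl] at hle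
        have h := (A.orderEmbOfFin hA).strictMono (castAdd_lt_castAdd'.mp hlt)
        exact absurd h (not_lt.mpr hle)
      · exact not_natAdd_lt_castAdd' _ _ hlt
    · obtain ⟨i2, rfl⟩ | ⟨j2, rfl⟩ := fin_cases_add x2
      · rw [hl, hr]
        refine ⟨Finset.orderEmbOfFin_mem A hA i2, ?_⟩
        rw [← hBA]
        exact Finset.orderEmbOfFin_mem B hB j1
      · exfalso
        rw [hr, hr] at hle
        have h := (B.orderEmbOfFin hB).strictMono (natAdd_lt_natAdd'.mp hlt)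
        exact absurd h (not_lt.mpr hle)
  · rintro ⟨x1, x2⟩ _ ⟨y1, y2⟩ _ h
    simp only [Prod.mk.injEq] at h
    obtain ⟨h2, h1⟩ := h
    have e1 := ρ.injective h1
    have e2 := ρ.injective h2
    subst e1 e2
    rfl
  · rintro ⟨a0, b0⟩ hab
    simp only [Finset.mem_filter, Finset.mem_product] at hab
    obtain ⟨⟨ha0, hb0⟩, hlt⟩ := hab
    rw [← hBA] at hb0
    have ha0' : a0 ∈ Set.range (A.orderEmbOfFin hA) := by
      rw [Finset.range_orderEmbOfFin]; exact ha0
    have hb0' : b0 ∈ Set.range (B.orderEmbOfFin hB) := by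
      rw [Finset.range_orderEmbOfFin]; exact hb0
    obtain ⟨i, hi⟩ := ha0'
    obtain ⟨j, hj⟩ := hb0'
    refine ⟨⟨Fin.natAdd p j, Fin.castAdd r i⟩, ?_, ?_⟩
    · simp only [Finset.mem_filter, Equiv.Perm.mem_finPairsLT]
      refine ⟨castAdd_lt_natAdd' i j, ?_⟩
      rw [hl, hr, hi, hj]
      exact le_of_lt hlt
    · simp only [hl, hr, hi, hj]

end Groth.Agent.H74.Laplace
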