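import Mathlib

/-!
Index computations for sublattices of `ℤⁿ` (helper74), used for S14805 / S14806.
-/

set_option autoImplicit false
open Finset

namespace Groth.Agent.H74.LatIdx

section abstract

variable {G Z : Type*} [AddCommGroup G] [AddCommGroup Z]

theorem idx1 (s : G →+ Z) (d : G →+ G) (hd : Function.Injective d) (a : AddSubgroup G)
    (ha : a ≤ (s.comp d).ker) :
    a.relIndex (s.comp d).ker * d.range.index =
      (a.map d).relIndex s.ker * (s.ker ⊔ d.range).index := by
  have h1 : (a.map d).relIndex ((s.comp d).ker.map d) = a.relIndex (s.comp d).ker :=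
    AddSubgroup.relIndex_map_map_of_injective a _ hd
  have h2 : (s.comp d).ker.map d = d.range ⊓ s.ker := by
    rw [← AddMonoidHom.comap_ker, AddSubgroup.map_comap_eq]
  have h3 : a.map d ≤ d.range ⊓ s.ker := by
    rw [← h2]
    exact AddSubgroup.map_mono ha
  have h4 := AddSubgroup.relIndex_mul_relIndex (a.map d) (d.range ⊓ s.ker) s.ker h3 inf_le_right
  have h5 : (d.range ⊓ s.ker).relIndex s.ker = d.range.relIndex s.ker :=
    AddSubgroup.inf_relIndex_right _ _
  have h6 : d.range.relIndex (s.ker ⊔ d.range) = d.range.relIndex s.ker :=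
    AddSubgroup.relIndex_sup_right _ _
  have h7 := AddSubgroup.relIndex_mul_index (show d.range ≤ s.ker ⊔ d.range from le_sup_right)
  rw [← h1, h2, ← h7, ← h4, h5, h6]
  ring

theorem index_ker_sup (s : G →+ Z) (hs : Function.Surjective s) (H : AddSubgroup G) :
    (s.ker ⊔ H).index = (H.map s).index := by
  rw [sup_comm, ← AddSubgroup.comap_map_eq, AddSubgroup.index_comap_of_surjective _ hs]

theorem idx2 (f : G →+ G) (H : AddSubgroup G) :
    (H.map f).relIndex f.range * H.relIndex f.ker = H.index := by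
  have h1 : (H.map f).relIndex f.range = (H ⊔ f.ker).index := by
    rw [AddMonoidHom.range_eq_map, AddSubgroup.relIndex_map_map, top_sup_eq,
      AddSubgroup.relIndex_top_right]
  have h2 : H.relIndex (H ⊔ f.ker) = H.relIndex f.ker := AddSubgroup.relIndex_sup_left f.ker H
  have h3 := AddSubgroup.relIndex_mul_index (show H ≤ H ⊔ f.ker from le_sup_left)
  rw [h1, ← h2, mul_comm, h3]

theorem card_quot_comap {R M : Type*} [Ring R] [AddCommGroup M] [Module R M]
    (N P : Submodule R M) :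
    Nat.card (↥P ⧸ N.comap P.subtype) = N.toAddSubgroup.relIndex P.toAddSubgroup := rfl

end abstract

section concrete

variable {n : ℕ}

local notation "Sn" => ((∑ i : Fin n, (LinearMap.proj i : (Fin n → ℤ) →ₗ[ℤ] ℤ)) : (Fin n → ℤ) →ₗ[ℤ] ℤ)

theorem S_apply (x : Fin n → ℤ) : Sn x = ∑ i, x i := by
  simp [LinearMap.sum_apply]

theorem D_apply (δ x : Fin n → ℤ) (i : Fin n) :
    Matrix.mulVecLin (Matrix.diagonal δ) x i = δ i * x i := by
  rw [Matrix.mulVecLin_apply, Matrix.mulVec_diagonal]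

theorem D_injective (δ : Fin n → ℤ) (hδ : ∀ i, δ i ≠ 0) :
    Function.Injective (Matrix.mulVecLin (Matrix.diagonal δ)) := by
  intro x y h
  funext i
  have h' := congrFun h i
  rw [D_apply, D_apply] at h'
  exact mul_left_cancel₀ (hδ i) h'

theorem S_surjective (hn : 0 < n) : Function.Surjective Sn := by
  intro t
  refine ⟨Pi.single ⟨0, hn⟩ t, ?_⟩
  rw [S_apply, Finset.sum_pi_single']
  simp

theorem range_SD (δ : Fin n → ℤ) :
    ((LinearMap.toAddMonoidHom Sn).comp (Matrix.mulVecLin (Matrix.diagonal δ)).toAddMonoidHom).range =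
      AddSubgroup.zmultiples (univ.gcd δ) := by
  ext t
  rw [Int.mem_zmultiples_iff, AddMonoidHom.mem_range]
  constructor
  · rintro ⟨x, rfl⟩
    show _ ∣ Sn (Matrix.mulVecLin (Matrix.diagonal δ) x)
    rw [S_apply]
    refine Finset.dvd_sum fun i _ => ?_
    rw [D_apply]
    exact Dvd.dvd.mul_right (Finset.gcd_dvd (Finset.mem_univ i)) _
  · rintro ⟨c, rfl⟩
    obtain ⟨w, hw⟩ := Finset.gcd_eq_sum_mul (univ : Finset (Fin n)) δ
    refine ⟨fun i => w i * c, ?_⟩
    show Sn (Matrix.mulVecLin (Matrix.diagonal δ) fun i => w i * c) = _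
    rw [S_apply, hw, Finset.sum_mul]
    refine Finset.sum_congr rfl fun i _ => ?_
    rw [D_apply]
    ring

theorem index_range_D (δ : Fin n → ℤ) (hδ : ∀ i, δ i ≠ 0) :
    (Matrix.mulVecLin (Matrix.diagonal δ)).toAddMonoidHom.range.index = (∏ i, δ i).natAbs := by
  have hinj := D_injective δ hδ
  have h := Submodule.natAbs_det_equiv (LinearMap.range (Matrix.mulVecLin (Matrix.diagonal δ)))
    (LinearEquiv.ofInjective _ hinj)
  have hdet : LinearMap.det (Matrix.mulVecLin (Matrix.diagonal δ)) = ∏ i, δ i := by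
    rw [← Matrix.toLin'_apply', LinearMap.det_toLin', Matrix.det_diagonal]
  rw [← LinearMap.range_toAddSubgroup, ← hdet]
  refine Eq.trans ?_ (h.symm.trans ?_)
  · rfl
  · congr 2

theorem gcd_nonneg' (δ : Fin n → ℤ) : 0 ≤ univ.gcd δ :=
  Int.nonneg_of_normalize_eq_self (Finset.normalize_gcd)

theorem main05 (hn : 0 < n) (δ : Fin n → ℤ) (hδ : ∀ i, δ i ≠ 0)
    (A : Matrix (Fin n) (Fin n) ℤ)
    (hSDA : Sn ∘ₗ (Matrix.mulVecLin (Matrix.diagonal δ)) ∘ₗ (Matrix.mulVecLin A) = 0) :
    (Nat.card (LinearMap.ker (Sn ∘ₗ (Matrix.mulVecLin (Matrix.diagonal δ))) ⧸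
        (LinearMap.range (Matrix.mulVecLin A)).comap
          (LinearMap.ker (Sn ∘ₗ (Matrix.mulVecLin (Matrix.diagonal δ)))).subtype) : ℤ) *
        |∏ i, δ i| =
      (univ.gcd δ) * Nat.card (LinearMap.ker Sn ⧸
        (LinearMap.range ((Matrix.mulVecLin (Matrix.diagonal δ)) ∘ₗ (Matrix.mulVecLin A))).comap
          (LinearMap.ker Sn).subtype) := by
  rw [card_quot_comap, card_quot_comap, LinearMap.ker_toAddSubgroup, LinearMap.ker_toAddSubgroup,
    LinearMap.range_toAddSubgroup, LinearMap.range_toAddSubgroup]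
  have hmap : ((Matrix.mulVecLin (Matrix.diagonal δ)) ∘ₗ (Matrix.mulVecLin A)).toAddMonoidHom.range =
      (Matrix.mulVecLin A).toAddMonoidHom.range.map
        (Matrix.mulVecLin (Matrix.diagonal δ)).toAddMonoidHom := by
    rw [AddMonoidHom.map_range]
    rfl
  have ha : (Matrix.mulVecLin A).toAddMonoidHom.range ≤
      ((LinearMap.toAddMonoidHom Sn).comp (Matrix.mulVecLin (Matrix.diagonal δ)).toAddMonoidHom).ker := by
    rintro _ ⟨x, rfl⟩
    exact LinearMap.congr_fun hSDA x
  have key := idx1 (LinearMap.toAddMonoidHom Sn) (Matrix.mulVecLin (Matrix.diagonal δ)).toAddMonoidHom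
    (D_injective δ hδ) _ ha
  rw [index_range_D δ hδ, index_ker_sup _ (S_surjective hn),
    AddMonoidHom.map_range (LinearMap.toAddMonoidHom Sn), range_SD, Int.index_zmultiples] at key
  rw [hmap]
  have hk : (Sn ∘ₗ Matrix.mulVecLin (Matrix.diagonal δ)).toAddMonoidHom =
      (LinearMap.toAddMonoidHom Sn).comp (Matrix.mulVecLin (Matrix.diagonal δ)).toAddMonoidHom := rfl
  rw [hk, ← Int.natCast_natAbs (∏ i, δ i), ← abs_of_nonneg (gcd_nonneg' δ),
    ← Int.natCast_natAbs (univ.gcd δ), ← Nat.cast_mul, ← Nat.cast_mul, key, mul_comm]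

/-- the kernel of `A` is generated by `δ' / gcd δ'`, and its intersection with `D' ℤⁿ` has index
`gcd δ'` -/
theorem relIndex_ker (δ' : Fin n → ℤ) (hδ' : ∀ i, δ' i ≠ 0) (hn : 0 < n)
    (A : Matrix (Fin n) (Fin n) ℤ) (hA : A.rank = n - 1) (hAδ : Matrix.mulVecLin A δ' = 0) :
    ((Matrix.mulVecLin (Matrix.diagonal δ')).toAddMonoidHom.range).relIndex
      (Matrix.mulVecLin A).toAddMonoidHom.ker = (univ.gcd δ').natAbs := by
  classical
  have hg0 : univ.gcd δ' ≠ 0 := by
    intro h
    have := Finset.gcd_dvd (f := δ') (Finset.mem_univ (⟨0, hn⟩ : Fin n))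
    rw [h, zero_dvd_iff] at this
    exact hδ' _ this
  choose u hu using fun i : Fin n => Finset.gcd_dvd (f := δ') (Finset.mem_univ i)
  obtain ⟨w, hw⟩ := Finset.gcd_eq_sum_mul (univ : Finset (Fin n)) δ'
  have hbez : ∑ i, u i * w i = 1 := by
    apply mul_left_cancel₀ hg0
    rw [mul_one, Finset.mul_sum]
    conv_rhs => rw [hw]
    refine Finset.sum_congr rfl fun i _ => ?_
    rw [← mul_assoc, ← hu i]
  have hδu : δ' = univ.gcd δ' • u := by
    funext i
    rw [Pi.smul_apply, smul_eq_mul]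
    exact hu i
  have hAu : Matrix.mulVecLin A u = 0 := by
    rw [hδu, map_smul] at hAδ
    exact (smul_eq_zero.mp hAδ).resolve_left hg0
  -- the kernel has rank one
  have hker1 : Module.finrank ℤ (LinearMap.ker (Matrix.mulVecLin A)) = 1 := by
    have h := (LinearMap.ker (Matrix.mulVecLin A)).finrank_quotient_add_finrank
    have hr : Module.finrank ℤ (LinearMap.range (Matrix.mulVecLin A)) = n - 1 := hA
    rw [(Matrix.mulVecLin A).quotKerEquivRange.finrank_eq, hr, Module.finrank_pi,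
      Fintype.card_fin] at h
    omega
  -- the kernel is `ℤ u`
  have hkerle : ∀ x : Fin n → ℤ, Matrix.mulVecLin A x = 0 → ∃ t : ℤ, t • u = x := by
    intro x hx
    have hnli : ¬ LinearIndependent ℤ
        (![⟨x, hx⟩, ⟨u, hAu⟩] : Fin 2 → LinearMap.ker (Matrix.mulVecLin A)) := by
      intro hli
      have := hli.fintype_card_le_finrank
      rw [hker1, Fintype.card_fin] at this
      omega
    rw [Fintype.not_linearIndependent_iff] at hnli
    obtain ⟨c, hc, hc0⟩ := hnli
    rw [Fin.sum_univ_two] at hc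
    have hc' : c 0 • x + c 1 • u = 0 := by
      have := congrArg Subtype.val hc
      simpa using this
    have hci : ∀ i, c 0 * x i + c 1 * u i = 0 := fun i => by
      have := congrFun hc' i
      simpa using this
    have hc1 : c 1 = -(c 0 * ∑ i, x i * w i) := by
      have h1 : ∑ i, (c 0 * x i + c 1 * u i) * w i = 0 :=
        Finset.sum_eq_zero fun i _ => by rw [hci i, zero_mul]
      have h2 : ∑ i, (c 0 * x i + c 1 * u i) * w i =
          c 0 * ∑ i, x i * w i + c 1 * ∑ i, u i * w i := by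
        rw [Finset.mul_sum, Finset.mul_sum, ← Finset.sum_add_distrib]
        exact Finset.sum_congr rfl fun i _ => by ring
      rw [h2, hbez, mul_one] at h1
      linarith
    have hc00 : c 0 ≠ 0 := by
      intro h0
      have h1 : c 1 = 0 := by rw [hc1, h0, zero_mul, neg_zero]
      obtain ⟨i, hi⟩ := hc0
      fin_cases i
      · exact hi h0
      · exact hi h1
    refine ⟨∑ i, x i * w i, ?_⟩
    funext i
    rw [Pi.smul_apply, smul_eq_mul]
    apply mul_left_cancel₀ hc00
    have := hci i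
    rw [hc1] at this
    linear_combination -this
  -- parametrise the kernel
  let φ : ℤ →+ (Fin n → ℤ) := (LinearMap.toSpanSingleton ℤ (Fin n → ℤ) u).toAddMonoidHom
  have hφ : ∀ t : ℤ, φ t = t • u := fun t => rfl
  have hrange : φ.range = (Matrix.mulVecLin A).toAddMonoidHom.ker := by
    ext x
    constructor
    · rintro ⟨t, rfl⟩
      show Matrix.mulVecLin A (φ t) = 0
      rw [hφ, map_smul, hAu, smul_zero]
    · intro hx
      obtain ⟨t, ht⟩ := hkerle x hx
      exact ⟨t, by rw [hφ, ht]⟩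
  rw [← hrange, ← AddSubgroup.index_comap]
  have hcomap : (Matrix.mulVecLin (Matrix.diagonal δ')).toAddMonoidHom.range.comap φ =
      AddSubgroup.zmultiples (univ.gcd δ') := by
    ext t
    rw [Int.mem_zmultiples_iff, AddSubgroup.mem_comap, AddMonoidHom.mem_range]
    constructor
    · rintro ⟨y, hy⟩
      have hyi : ∀ i, δ' i * y i = t * u i := fun i => by
        have := congrFun hy i
        rw [hφ, Pi.smul_apply, smul_eq_mul] at this
        rw [← this]
        exact (D_apply δ' y i).symm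
      refine ⟨∑ i, u i * y i * w i, ?_⟩
      have h1 : t = ∑ i, t * u i * w i := by
        rw [← mul_one t]
        conv_lhs => rw [← hbez, Finset.mul_sum]
        exact Finset.sum_congr rfl fun i _ => by ring
      rw [h1, Finset.mul_sum]
      refine Finset.sum_congr rfl fun i _ => ?_
      rw [← hyi i, hu i]
      ring
    · rintro ⟨c, rfl⟩
      refine ⟨fun _ => c, ?_⟩
      funext i
      rw [hφ, Pi.smul_apply, smul_eq_mul]
      show Matrix.mulVecLin (Matrix.diagonal δ') (fun _ => c) i = _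
      rw [D_apply, hu i]
      ring
  rw [hcomap, Int.index_zmultiples]

theorem main06 (hn : 0 < n) (δ δ' : Fin n → ℤ) (hδ : ∀ i, δ i ≠ 0) (hδ' : ∀ i, δ' i ≠ 0)
    (A : Matrix (Fin n) (Fin n) ℤ) (hA : A.rank = n - 1)
    (hSDA : Sn ∘ₗ (Matrix.mulVecLin (Matrix.diagonal δ)) ∘ₗ (Matrix.mulVecLin A) = 0)
    (hADΔ : (Matrix.mulVecLin A) ∘ₗ (Matrix.mulVecLin (Matrix.diagonal δ')) ∘ₗ
        (LinearMap.pi fun _ : Fin n => (LinearMap.id : ℤ →ₗ[ℤ] ℤ)) = 0) :
    (Nat.card (LinearMap.ker Sn ⧸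
        (LinearMap.range ((Matrix.mulVecLin (Matrix.diagonal δ)) ∘ₗ (Matrix.mulVecLin A))).comap
          (LinearMap.ker Sn).subtype) : ℤ) * |∏ i, δ' i| =
      (univ.gcd δ') * Nat.card (LinearMap.ker Sn ⧸
        (LinearMap.range ((Matrix.mulVecLin (Matrix.diagonal δ)) ∘ₗ (Matrix.mulVecLin A) ∘ₗ
          (Matrix.mulVecLin (Matrix.diagonal δ')))).comap (LinearMap.ker Sn).subtype) := by
  rw [card_quot_comap, card_quot_comap, LinearMap.ker_toAddSubgroup,
    LinearMap.range_toAddSubgroup, LinearMap.range_toAddSubgroup]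
  -- notation
  obtain ⟨f, hf⟩ : ∃ f : (Fin n → ℤ) →+ (Fin n → ℤ), f =
      ((Matrix.mulVecLin (Matrix.diagonal δ)) ∘ₗ (Matrix.mulVecLin A)).toAddMonoidHom := ⟨_, rfl⟩
  have hAδ : Matrix.mulVecLin A δ' = 0 := by
    have h := LinearMap.congr_fun hADΔ 1
    have h2 : Matrix.mulVecLin (Matrix.diagonal δ')
        ((LinearMap.pi fun _ : Fin n => (LinearMap.id : ℤ →ₗ[ℤ] ℤ)) 1) = δ' := by
      funext i
      rw [D_apply]
      simp
    rw [LinearMap.comp_apply, LinearMap.comp_apply, h2] at h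
    exact h
  have hfker : f.ker = (Matrix.mulVecLin A).toAddMonoidHom.ker := by
    ext x
    rw [hf]
    constructor
    · intro hx
      exact D_injective δ hδ ((show Matrix.mulVecLin (Matrix.diagonal δ) (Matrix.mulVecLin A x) = 0
        from hx).trans (map_zero _).symm)
    · intro hx
      show Matrix.mulVecLin (Matrix.diagonal δ) (Matrix.mulVecLin A x) = 0
      rw [show Matrix.mulVecLin A x = 0 from hx, map_zero]
  have hrange2 : ((Matrix.mulVecLin (Matrix.diagonal δ)) ∘ₗ (Matrix.mulVecLin A) ∘ₗ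
      (Matrix.mulVecLin (Matrix.diagonal δ'))).toAddMonoidHom.range =
      (Matrix.mulVecLin (Matrix.diagonal δ')).toAddMonoidHom.range.map f := by
    rw [AddMonoidHom.map_range, hf]
    rfl
  have hle1 : f.range ≤ (LinearMap.toAddMonoidHom Sn).ker := by
    rw [hf]
    rintro _ ⟨x, rfl⟩
    exact LinearMap.congr_fun hSDA x
  have hle2 : (Matrix.mulVecLin (Matrix.diagonal δ')).toAddMonoidHom.range.map f ≤ f.range := by
    rintro _ ⟨x, -, rfl⟩
    exact ⟨x, rfl⟩
  have h1 := AddSubgroup.relIndex_mul_relIndex _ _ _ hle2 hle1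
  have h2 := idx2 f (Matrix.mulVecLin (Matrix.diagonal δ')).toAddMonoidHom.range
  rw [hfker, relIndex_ker δ' hδ' hn A hA hAδ, index_range_D δ' hδ'] at h2
  rw [hrange2, ← hf, ← Int.natCast_natAbs (∏ i, δ' i), ← abs_of_nonneg (gcd_nonneg' δ'),
    ← Int.natCast_natAbs (univ.gcd δ'), ← Nat.cast_mul, ← Nat.cast_mul, ← h2, ← h1]
  ring_nf

end concrete

end Groth.Agent.H74.LatIdx
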