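-- helper74: a multiplicative law descends along a surjective algebra map whose kernel lies in the
-- kernel of the law.
import Groth.Agent.H74.GammaSpan

set_option autoImplicit false
universe u

open scoped TensorProduct

namespace Groth.Agent.H74.LawDesc

open PolLaw Groth.Agent.H74.GammaSpan

variable {A : Type u} [CommRing A] {R₁ R₂ C : Type u} [CommRing R₁] [Algebra A R₁] [CommRing R₂]
  [Algebra A R₂] [CommRing C] [Algebra A C]

/-- adding an element of `S ⊗ ker q` does not change the value of the law -/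
theorem toFun'_add_lTensor_subtype (G : R₁ →ₚₗ[A] C) (K : Submodule A R₁)
    (hK : ∀ k ∈ K, k ∈ PolLaw.ker G) (S : Type u) [CommSemiring S] [Algebra A S]
    (y : S ⊗[A] K) : ∀ w : S ⊗[A] R₁, G.toFun' S (w + K.subtype.lTensor S y) = G.toFun' S w := by
  induction y using TensorProduct.induction_on with
  | zero => intro w; rw [map_zero, add_zero]
  | tmul s k =>
    intro w
    rw [LinearMap.lTensor_tmul, Submodule.subtype_apply]
    have h : s ⊗ₜ[A] (k : R₁) = (s ⊗ₜ[A] (1 : R₁)) * ((1 : S) ⊗ₜ[A] (k : R₁)) := by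
      rw [Algebra.TensorProduct.tmul_mul_tmul, mul_one, one_mul]
    rw [h]
    exact hK k k.2 S w _
  | add y y' hy hy' =>
    intro w
    rw [map_add, ← add_assoc, hy', hy]

variable (q : R₁ →ₐ[A] R₂) (hq : Function.Surjective q)

include hq in
theorem toFun'_eq_of_lTensor_eq (G : R₁ →ₚₗ[A] C) (hk : ∀ k : R₁, q k = 0 → k ∈ PolLaw.ker G)
    (n : ℕ) (w w' : MvPolynomial (Fin n) A ⊗[A] R₁)
    (h : q.toLinearMap.lTensor (MvPolynomial (Fin n) A) w =
      q.toLinearMap.lTensor (MvPolynomial (Fin n) A) w') :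
    G.toFun' (MvPolynomial (Fin n) A) w = G.toFun' (MvPolynomial (Fin n) A) w' := by
  have hex := lTensor_exact (MvPolynomial (Fin n) A)
    (LinearMap.exact_subtype_ker_map q.toLinearMap) (g := q.toLinearMap) hq
  have hmem : w' - w ∈ LinearMap.ker (q.toLinearMap.lTensor (MvPolynomial (Fin n) A)) := by
    rw [LinearMap.mem_ker, map_sub, h, sub_self]
  rw [hex.linearMap_ker_eq] at hmem
  obtain ⟨y, hy⟩ := hmem
  have := toFun'_add_lTensor_subtype G (LinearMap.ker q.toLinearMap)
    (fun k hk' => hk k (by simpa using hk')) (MvPolynomial (Fin n) A) y w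
  rw [hy, add_sub_cancel] at this
  exact this.symm

/-- the descended law on polynomial rings -/
noncomputable def Td (G : R₁ →ₚₗ[A] C) (n : ℕ) (z : MvPolynomial (Fin n) A ⊗[A] R₂) :
    MvPolynomial (Fin n) A ⊗[A] C :=
  G.toFun' (MvPolynomial (Fin n) A)
    (Classical.choose (LinearMap.lTensor_surjective (g := q.toLinearMap) (MvPolynomial (Fin n) A) hq z))

theorem lTensor_choose (n : ℕ) (z : MvPolynomial (Fin n) A ⊗[A] R₂) :
    q.toLinearMap.lTensor (MvPolynomial (Fin n) A)
      (Classical.choose (LinearMap.lTensor_surjective (g := q.toLinearMap) (MvPolynomial (Fin n) A) hq z)) = z :=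
  Classical.choose_spec (LinearMap.lTensor_surjective (g := q.toLinearMap) (MvPolynomial (Fin n) A) hq z)

theorem Td_lTensor (G : R₁ →ₚₗ[A] C) (hk : ∀ k : R₁, q k = 0 → k ∈ PolLaw.ker G) (n : ℕ)
    (w : MvPolynomial (Fin n) A ⊗[A] R₁) :
    Td q hq G n (q.toLinearMap.lTensor (MvPolynomial (Fin n) A) w) =
      G.toFun' (MvPolynomial (Fin n) A) w :=
  toFun'_eq_of_lTensor_eq q hq G hk n _ _ (lTensor_choose q hq n _)

theorem Td_compat (G : R₁ →ₚₗ[A] C) (hk : ∀ k : R₁, q k = 0 → k ∈ PolLaw.ker G) (n m : ℕ)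
    (φ : MvPolynomial (Fin n) A →ₐ[A] MvPolynomial (Fin m) A) :
    φ.toLinearMap.rTensor C ∘ Td q hq G n = Td q hq G m ∘ φ.toLinearMap.rTensor R₂ := by
  funext z
  simp only [Function.comp_apply]
  obtain ⟨w, rfl⟩ := LinearMap.lTensor_surjective (g := q.toLinearMap) (MvPolynomial (Fin n) A) hq z
  rw [Td_lTensor q hq G hk, ← LinearMap.comp_apply, LinearMap.rTensor_comp_lTensor,
    ← LinearMap.lTensor_comp_rTensor, LinearMap.comp_apply, Td_lTensor q hq G hk]
  exact congr_fun (G.isCompat' φ) w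

include hq in
/-- **Descent** of a multiplicative law along a surjection. -/
theorem exists_descent {e : ℕ} (G : MulLaw A R₁ C e)
    (hk : ∀ k : R₁, q k = 0 → k ∈ PolLaw.ker G.law) :
    ∃ Gb : MulLaw A R₂ C e, precomp Gb.law q.toLinearMap = G.law := by
  obtain ⟨F₀, hF₀⟩ := (Groth.Agent.S13174.result (A := A) (M := R₂) (N := C)).2
    ⟨Td q hq G.law, Td_compat q hq G.law hk⟩
  have hF₀' : ∀ n, F₀.toFun' (MvPolynomial (Fin n) A) = Td q hq G.law n :=
    fun n => congr_fun (congrArg Subtype.val hF₀) n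
  have hpre : precomp F₀ q.toLinearMap = G.law := by
    apply (Groth.Agent.S13174.result (A := A) (M := R₁) (N := C)).1
    refine Subtype.ext (funext (fun n => funext (fun w => ?_)))
    show F₀.toFun' (MvPolynomial (Fin n) A) (q.toLinearMap.lTensor _ w) = _
    rw [hF₀', Td_lTensor q hq G.law hk]
  have hval : ∀ (S : Type u) [CommSemiring S] [Algebra A S] (w : S ⊗[A] R₁),
      F₀.toFun' S (q.toLinearMap.lTensor S w) = G.law.toFun' S w := by
    intro S _ _ w
    have := congrFun (congrFun (congrFun (congrFun (congrArg PolynomialLaw.toFun' hpre) S) _) _) w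
    exact this
  refine ⟨⟨F₀, ?_, ?_⟩, hpre⟩
  · intro S _ _ s x
    obtain ⟨w, rfl⟩ := LinearMap.lTensor_surjective (g := q.toLinearMap) S hq x
    have hs : s • q.toLinearMap.lTensor S w = q.toLinearMap.lTensor S (s • w) := by
      rw [lTensor_algHom_apply, lTensor_algHom_apply, map_smul]
    rw [hs, hval, hval, G.homog]
  · intro S _ _
    refine ⟨?_, fun x y => ?_⟩
    · have h1 : (1 : S ⊗[A] R₂) = q.toLinearMap.lTensor S 1 := by
        rw [lTensor_algHom_apply, map_one]
      rw [h1, hval, (G.mult S).1]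
    · obtain ⟨w, rfl⟩ := LinearMap.lTensor_surjective (g := q.toLinearMap) S hq x
      obtain ⟨w', rfl⟩ := LinearMap.lTensor_surjective (g := q.toLinearMap) S hq y
      have hm : q.toLinearMap.lTensor S w * q.toLinearMap.lTensor S w' =
          q.toLinearMap.lTensor S (w * w') := by
        rw [lTensor_algHom_apply, lTensor_algHom_apply, lTensor_algHom_apply, map_mul]
      rw [hm, hval, hval, hval, (G.mult S).2]

end Groth.Agent.H74.LawDesc
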