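import Mathlib
import Groth.Prelude.Def_PolLaw
import Groth.Agent.H74.CharpolyDeg

/-!
# Helper library (helper74): torsion-freeness of the image of a multiplicative law over a domain
-/

set_option autoImplicit false
universe u
open scoped TensorProduct
open PolLaw

namespace Groth.Agent.H74.LawTorsion

variable {A : Type u} [CommRing A] {B : Type u} [CommRing B] [Algebra A B] {d : ℕ}

/-- over a domain, the image algebra `B ⧸ ker F` is torsion free: `a • s ∈ ker F`, `a ≠ 0` give `s ∈ ker F`. -/
theorem mem_ker_of_smul_mem [IsDomain A] (F : MulLaw A B A d) {a : A} (ha : a ≠ 0) {s : B}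
    (hs : a • s ∈ ker F.law) : s ∈ ker F.law := by
  intro S _ _ x w
  obtain ⟨n, ψ, p, q, rfl, rfl⟩ := Groth.Agent.H74.GammaSpan.exists_lift_pair x w
  rw [← Groth.Agent.H74.CayleyHam.rTensor_add_mul_tmul]
  have hc := fun y => congr_fun (F.law.isCompat' ψ) y
  simp only [Function.comp_apply] at hc
  rw [← hc, ← hc]
  congr 1
  -- now over the polynomial ring
  set S' := MvPolynomial (Fin n) A
  have h1 := F.homog S' (algebraMap A S' a) (p + q * ((1 : S') ⊗ₜ[A] s))
  have h2 := F.homog S' (algebraMap A S' a) p
  have h3 : algebraMap A S' a • (p + q * ((1 : S') ⊗ₜ[A] s)) =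
      algebraMap A S' a • p + q * ((1 : S') ⊗ₜ[A] (a • s)) := by
    rw [algebraMap_smul, smul_add, ← mul_smul_comm, ← TensorProduct.tmul_smul, algebraMap_smul]
  rw [h3, hs S' _ q, h2] at h1
  have e := Algebra.TensorProduct.rid A S' S'
  apply e.injective
  have h4 := congrArg e h1
  rw [map_smul, map_smul, smul_eq_mul, smul_eq_mul] at h4
  have hne : (algebraMap A S' a) ^ d ≠ 0 := by
    apply pow_ne_zero
    rw [MvPolynomial.algebraMap_eq]
    exact (map_ne_zero_iff _ (MvPolynomial.C_injective _ _)).mpr ha
  exact (mul_left_cancel₀ hne h4).symm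

end Groth.Agent.H74.LawTorsion
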