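import Mathlib
import Groth.Prelude.Def_Disp2
import Groth.Agent.H74.DispBC2
import Groth.Agent.H74.DispBC3
import Groth.Agent.H74.FrobLift
import Groth.Agent.H74.DieuProj

/-! Homomorphisms of displays and nilpotent thickenings: base change of homomorphisms,
kernel of `P → W(R) ⊗ P`, and the `p`-torsion cokernel. -/

set_option autoImplicit false
set_option maxHeartbeats 400000
universe u v w

namespace Groth.Agent.H74.Prop40

open W4c1extbt610 Dieu TensorProduct BCLib DispBC DispBC3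

/-! ### Kernel of `y ↦ 1 ⊗ y` for a surjective ring map -/

section Ker

variable {A B : Type u} [CommRing A] [CommRing B] (g : A →+* B)
variable {P : Type v} [AddCommGroup P] [Module A P]

theorem tmul_one_eq_zero_of_mem (y : P) (hy : y ∈ RingHom.ker g • (⊤ : Submodule A P)) :
    BC.tmul g 1 y = 0 := by
  refine Submodule.smul_induction_on hy (fun a ha x _ => ?_) (fun x y hx hy => ?_)
  · rw [← BC.tmul_apply_eq, RingHom.mem_ker.mp ha, BC.zero_tmul]
  · rw [BC.tmul_add, hx, hy, add_zero]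

theorem mem_of_tmul_one_eq_zero (hg : Function.Surjective g) (y : P)
    (hy : BC.tmul g 1 y = 0) : y ∈ RingHom.ker g • (⊤ : Submodule A P) := by
  let φ : A →ₗ[A] Res g :=
    { toFun := fun a => Res.mk g (g a)
      map_add' := fun a b => by rw [map_add]; rfl
      map_smul' := fun a b => by
        rw [smul_eq_mul, map_mul, RingHom.id_apply, Res.smul_mk] }
  have hφ : (RingHom.ker g : Submodule A A) ≤ LinearMap.ker φ := by
    intro a ha
    rw [LinearMap.mem_ker]
    show Res.mk g (g a) = 0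
    rw [RingHom.mem_ker.mp ha]; rfl
  let ρ : (A ⧸ (RingHom.ker g : Submodule A A)) →ₗ[A] Res g := Submodule.liftQ _ φ hφ
  have hρinj : Function.Injective ρ := by
    rw [← LinearMap.ker_eq_bot]
    refine Submodule.ker_liftQ_eq_bot _ _ _ ?_
    intro a ha
    exact RingHom.mem_ker.mpr (LinearMap.mem_ker.mp ha)
  have hρsurj : Function.Surjective ρ := by
    intro b
    obtain ⟨a, ha⟩ := hg b.val
    exact ⟨Submodule.Quotient.mk a, by
      show Res.mk g (g a) = b
      rw [ha]; rfl⟩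
  let e := LinearEquiv.ofBijective ρ ⟨hρinj, hρsurj⟩
  have h1 : (LinearEquiv.rTensor P e) ((Submodule.Quotient.mk (1 : A) :
      A ⧸ (RingHom.ker g : Submodule A A)) ⊗ₜ[A] y) = 0 := by
    rw [LinearEquiv.rTensor_tmul]
    have h2 : e (Submodule.Quotient.mk (1 : A)) = Res.mk g 1 := by
      show Res.mk g (g 1) = Res.mk g 1
      rw [map_one]
    rw [h2]
    exact hy
  have h3 : (Submodule.Quotient.mk (1 : A) : A ⧸ (RingHom.ker g : Submodule A A)) ⊗ₜ[A] y = 0 :=
    (LinearEquiv.rTensor P e).injective (by rw [h1, map_zero])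
  have h4 : y ∈ LinearMap.ker (TensorProduct.mk A (A ⧸ RingHom.ker g) P 1) := by
    rw [LinearMap.mem_ker]
    exact h3
  rw [LinearMap.ker_tensorProductMk] at h4
  exact h4

theorem tmul_one_surjective (hg : Function.Surjective g) (z : BC g P) :
    ∃ y : P, BC.tmul g 1 y = z := by
  induction z using BC.induction_on g with
  | zero => exact ⟨0, BC.tmul_zero g 1⟩
  | tmul b x =>
    obtain ⟨a, rfl⟩ := hg b
    exact ⟨a • x, (BC.tmul_apply_eq g a x).symm⟩
  | add z₁ z₂ h₁ h₂ =>
    obtain ⟨y₁, rfl⟩ := h₁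
    obtain ⟨y₂, rfl⟩ := h₂
    exact ⟨y₁ + y₂, BC.tmul_add g 1 y₁ y₂⟩

end Ker

/-! ### Witt vectors with coefficients in an ideal -/

section Wid

variable (p : ℕ) [Fact p.Prime] {S : Type u} [CommRing S]

/-- Witt vectors all of whose coefficients lie in `𝔞`. -/
noncomputable def Wid (𝔞 : Ideal S) : Ideal (WittVector p S) :=
  RingHom.ker (WittVector.map (Ideal.Quotient.mk 𝔞) : WittVector p S →+* WittVector p (S ⧸ 𝔞))

theorem mem_Wid {𝔞 : Ideal S} {w : WittVector p S} : w ∈ Wid p 𝔞 ↔ ∀ n, w.coeff n ∈ 𝔞 := by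
  rw [Wid, RingHom.mem_ker, WittVector.ext_iff]
  simp only [WittVector.map_coeff, WittVector.zero_coeff, Ideal.Quotient.eq_zero_iff_mem]

theorem Wid_mono {𝔞 𝔟 : Ideal S} (h : 𝔞 ≤ 𝔟) : Wid p 𝔞 ≤ Wid p 𝔟 :=
  fun _ hw => (mem_Wid p).mpr fun n => h ((mem_Wid p).mp hw n)

theorem Wid_bot : Wid p (⊥ : Ideal S) = ⊥ := by
  ext w
  rw [mem_Wid, Ideal.mem_bot, WittVector.ext_iff]
  simp only [Ideal.mem_bot, WittVector.zero_coeff]

theorem ker_map_eq {R : Type u} [CommRing R] (f : S →+* R) :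
    RingHom.ker (WittVector.map f : WittVector p S →+* WittVector p R) =
      Wid p (RingHom.ker f) := by
  ext w
  rw [mem_Wid, RingHom.mem_ker, WittVector.ext_iff]
  simp only [WittVector.map_coeff, WittVector.zero_coeff, RingHom.mem_ker]

theorem verschiebung_mem_Wid {𝔞 : Ideal S} {w : WittVector p S} :
    WittVector.verschiebung w ∈ Wid p 𝔞 ↔ w ∈ Wid p 𝔞 := by
  rw [mem_Wid, mem_Wid]
  constructor
  · intro h n
    have := h (n + 1)
    rwa [WittVector.verschiebung_coeff_succ] at this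
  · intro h n
    cases n with
    | zero => rw [WittVector.verschiebung_coeff_zero]; exact zero_mem _
    | succ n => rw [WittVector.verschiebung_coeff_succ]; exact h n

local notation "Fr" => (WittVector.frobenius : WittVector p S →+* WittVector p S)

theorem frob_pow_versch_iter (N : ℕ) (a : WittVector p S) :
    (Fr ^ N) ((WittVector.verschiebung)^[N] a) = a * (p : WittVector p S) ^ N := by
  induction N generalizing a with
  | zero => rw [pow_zero, pow_zero, mul_one]; rfl
  | succ N ih =>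
    have h1 : (Fr ^ (N + 1)) ((WittVector.verschiebung)^[N + 1] a) =
        (Fr ^ N) (Fr ((WittVector.verschiebung)^[N + 1] a)) := by
      rw [pow_succ]; rfl
    rw [h1, Function.iterate_succ_apply', WittVector.frobenius_verschiebung, map_mul,
      map_natCast, ih, pow_succ, mul_assoc]

theorem iterate_verschiebung_mem_Wid {𝔞 : Ideal S} (N : ℕ) {w : WittVector p S}
    (hw : w ∈ Wid p 𝔞) : (WittVector.verschiebung)^[N] w ∈ Wid p 𝔞 := by
  induction N with
  | zero => exact hw
  | succ N ih =>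
    rw [Function.iterate_succ_apply']
    exact (verschiebung_mem_Wid p).mpr ih

end Wid

/-! ### Base change of homomorphisms -/

section BaseChangeHom

variable {p : ℕ} [Fact p.Prime] {S R : Type u} [CommRing S] [CommRing R] (f : S →+* R)
variable {P : Type v} [AddCommGroup P] [Module (WittVector p S) P]
variable {P' : Type w} [AddCommGroup P'] [Module (WittVector p S) P']

local notation "gW" => (WittVector.map f : WittVector p S →+* WittVector p R)
local notation "σS" => (WittVector.frobenius : WittVector p S →+* WittVector p S)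
local notation "σR" => (WittVector.frobenius : WittVector p R →+* WittVector p R)

theorem isHom_baseChange (D : Display3n p S P) (D' : Display3n p S P')
    (DR : Display3n p R (BC gW P)) (hDR : IsDispBaseChange f D DR)
    (DR' : Display3n p R (BC gW P')) (hDR' : IsDispBaseChange f D' DR')
    (ψ : P →ₗ[WittVector p S] P') (hψ : IsHom D D' ψ) : IsHom DR DR' (BC.map gW ψ) := by
  have hmaps : ∀ q : BC gW P, q ∈ DR.Q → BC.map gW ψ q ∈ DR'.Q := by
    intro q hq
    rw [hDR.Q_eq] at hq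
    rw [hDR'.Q_eq]
    have h1 := mem_QR_gen f D.Q q hq
    have h2 : IV p R • (⊤ : Submodule (WittVector p R) (BC gW P)) ⊔
        LinearMap.range (BC.map gW D.Q.subtype) ≤
        Submodule.comap (BC.map gW ψ) (LinearMap.ker (bcQuotMap f D'.Q)) := by
      refine sup_le ?_ ?_
      · refine Submodule.smul_le.mpr (fun r hr z _ => ?_)
        rw [Submodule.mem_comap, map_smul]
        exact IV_smul_le_QR f D'.Q (Submodule.smul_mem_smul hr Submodule.mem_top)
      · rintro _ ⟨ζ, rfl⟩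
        rw [Submodule.mem_comap]
        induction ζ using BC.induction_on gW with
        | zero => rw [map_zero, map_zero]; exact zero_mem _
        | tmul b y =>
          rw [BC.map_tmul, BC.map_tmul]
          exact tmul_mem_QR f D'.Q b _ (hψ.mapsTo _ y.2)
        | add z₁ z₂ h₁ h₂ => rw [map_add, map_add]; exact add_mem h₁ h₂
    exact h2 h1
  refine ⟨hmaps, ?_, ?_⟩
  · intro z
    induction z using BC.induction_on gW with
    | zero => rw [map_zero, map_zero, map_zero]
    | tmul b x =>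
      rw [hDR.F_tmul, BC.map_tmul, BC.map_tmul, hDR'.F_tmul, hψ.comm_F]
    | add z₁ z₂ h₁ h₂ => rw [map_add, map_add, h₁, h₂, map_add, map_add]
  · have key : (BC.map gW ψ).comp DR.Vinv =
        DR'.Vinv.comp ((BC.map gW ψ).restrict hmaps) := by
      refine QR_semilinear_ext f D.Q DR.Q hDR.Q_eq _ _ ?_ ?_
      · intro w x hm
        rw [LinearMap.comp_apply, hDR.Vinv_verschiebung_tmul w x hm, BC.map_tmul,
          LinearMap.comp_apply]
        have hm' : BC.tmul gW (WittVector.verschiebung w) (ψ x) ∈ DR'.Q := by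
          rw [← BC.map_tmul]; exact hmaps _ hm
        have e : ((BC.map gW ψ).restrict hmaps ⟨_, hm⟩ : DR'.Q) =
            ⟨BC.tmul gW (WittVector.verschiebung w) (ψ x), hm'⟩ :=
          Subtype.ext (BC.map_tmul gW ψ _ _)
        rw [e, hDR'.Vinv_verschiebung_tmul w (ψ x) hm', hψ.comm_F]
      · intro b y hm
        rw [LinearMap.comp_apply, hDR.Vinv_tmul b y hm, BC.map_tmul, LinearMap.comp_apply]
        have hm' : BC.tmul gW b ((⟨ψ y, hψ.mapsTo _ y.2⟩ : D'.Q) : P') ∈ DR'.Q := by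
          show BC.tmul gW b (ψ y) ∈ DR'.Q
          rw [← BC.map_tmul]; exact hmaps _ hm
        have e : ((BC.map gW ψ).restrict hmaps ⟨_, hm⟩ : DR'.Q) =
            ⟨BC.tmul gW b ((⟨ψ y, hψ.mapsTo _ y.2⟩ : D'.Q) : P'), hm'⟩ :=
          Subtype.ext (BC.map_tmul gW ψ _ _)
        rw [e, hDR'.Vinv_tmul b ⟨ψ y, hψ.mapsTo _ y.2⟩ hm', hψ.comm_Vinv]
    intro q
    exact LinearMap.congr_fun key q

theorem isHom_sub (D : Display3n p S P) (D' : Display3n p S P')
    (ψ χ : P →ₗ[WittVector p S] P') (hψ : IsHom D D' ψ) (hχ : IsHom D D' χ) :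
    IsHom D D' (ψ - χ) := by
  have hmaps : ∀ q : P, q ∈ D.Q → (ψ - χ) q ∈ D'.Q := fun q hq => by
    rw [LinearMap.sub_apply]
    exact sub_mem (hψ.mapsTo q hq) (hχ.mapsTo q hq)
  refine ⟨hmaps, fun x => ?_, fun q => ?_⟩
  · rw [LinearMap.sub_apply, LinearMap.sub_apply, hψ.comm_F, hχ.comm_F, map_sub]
  · rw [LinearMap.sub_apply, hψ.comm_Vinv, hχ.comm_Vinv, ← map_sub]
    rfl

/-! ### The `p`-torsion cokernel -/

theorem exists_pow_smul_lift (hp : IsNilpotent (p : S)) (hf : Function.Surjective f)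
    (hker : IsNilpotent (RingHom.ker f))
    (D : Display3n p S P) (D' : Display3n p S P')
    (DR : Display3n p R (BC gW P)) (hDR : IsDispBaseChange f D DR)
    (DR' : Display3n p R (BC gW P')) (hDR' : IsDispBaseChange f D' DR')
    (χ : BC gW P →ₗ[WittVector p R] BC gW P') (hχ : IsHom DR DR' χ) :
    ∃ (n : ℕ) (ψ : P →ₗ[WittVector p S] P'), IsHom D D' ψ ∧
      BC.map gW ψ = ((p : WittVector p R) ^ n) • χ := by
  have hgsurj : Function.Surjective gW := WittVector.map_surjective f hf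
  obtain ⟨N₀, hN₀⟩ := hker
  have hN₀' : ∀ a : S, f a = 0 → a ^ N₀ = 0 := by
    intro a ha
    have h1 : a ^ N₀ ∈ (RingHom.ker f) ^ N₀ := Ideal.pow_mem_pow (RingHom.mem_ker.mpr ha) N₀
    rw [hN₀] at h1
    exact h1
  obtain ⟨N, hN⟩ := FrobLift.exists_frobenius_pow_eq_zero p f hp N₀ hN₀'
  -- `p^N` kills the kernel of `W(S) → W(R)`
  have hpow : ∀ a ∈ RingHom.ker gW, (p : WittVector p S) ^ N * a = 0 := by
    intro a ha
    have h1 : (WittVector.verschiebung)^[N] a ∈ RingHom.ker gW := by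
      rw [ker_map_eq] at ha ⊢
      exact iterate_verschiebung_mem_Wid p N ha
    have h2 := frob_pow_versch_iter p N a
    rw [hN _ h1] at h2
    rw [mul_comm, ← h2]
  have hkill : ∀ y y' : P', BC.tmul gW 1 y = BC.tmul gW 1 y' →
      ((p : WittVector p S) ^ N) • y = ((p : WittVector p S) ^ N) • y' := by
    intro y y' h
    have h1 : BC.tmul gW 1 (y - y') = 0 := by
      rw [sub_eq_add_neg, BC.tmul_add, BC.tmul_neg, h, add_neg_cancel]
    have h2 := mem_of_tmul_one_eq_zero gW hgsurj _ h1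
    have h3 : ((p : WittVector p S) ^ N) • (y - y') = 0 := by
      refine Submodule.smul_induction_on h2 (fun a ha x _ => ?_) (fun x y hx hy => ?_)
      · rw [smul_smul, hpow a ha, zero_smul]
      · rw [smul_add, hx, hy, add_zero]
    rw [smul_sub] at h3
    exact sub_eq_zero.mp h3
  -- a linear lift of `χ`
  haveI := D.projective
  obtain ⟨s, hs⟩ := (Module.projective_def' (R := WittVector p S) (P := P)).mp inferInstance
  have hY : ∀ j : P, ∃ y : P', BC.tmul gW 1 y = χ (BC.tmul gW 1 j) :=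
    fun j => tmul_one_surjective gW hgsurj _
  choose Y hY using hY
  let χt : P →ₗ[WittVector p S] P' := (Finsupp.linearCombination (WittVector p S) Y) ∘ₗ s
  have hχt : ∀ x : P, BC.tmul gW 1 (χt x) = χ (BC.tmul gW 1 x) := by
    intro x
    have hx : x = Finsupp.linearCombination (WittVector p S) id (s x) :=
      (LinearMap.congr_fun hs x).symm
    conv_rhs => rw [hx]
    show BC.ι gW P' (Finsupp.linearCombination (WittVector p S) Y (s x)) =
      χ (BC.ι gW P (Finsupp.linearCombination (WittVector p S) id (s x)))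
    rw [Finsupp.linearCombination_apply, Finsupp.linearCombination_apply, Finsupp.sum,
      Finsupp.sum, map_sum, map_sum, map_sum]
    refine Finset.sum_congr rfl fun j _ => ?_
    rw [LinearMap.map_smulₛₗ, LinearMap.map_smulₛₗ, map_smul, BC.ι_apply, BC.ι_apply, hY j]
    rfl
  -- lifting elements of `Q'_R`
  have hQlift : ∀ z : BC gW P', z ∈ DR'.Q → ∃ q' : P', q' ∈ D'.Q ∧ BC.tmul gW 1 q' = z := by
    intro z hz
    rw [hDR'.Q_eq] at hz
    have h1 := mem_QR_gen f D'.Q z hz
    obtain ⟨z₁, hz₁, z₂, hz₂, rfl⟩ := Submodule.mem_sup.mp h1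
    have hA : ∀ z₁ ∈ IV p R • (⊤ : Submodule (WittVector p R) (BC gW P')),
        ∃ q' : P', q' ∈ D'.Q ∧ BC.tmul gW 1 q' = z₁ := by
      intro z₁ hz₁
      refine Submodule.smul_induction_on hz₁ (fun r hr z _ => ?_) (fun x y hx hy => ?_)
      · have hr' : r ∈ RingHom.ker (WittVector.constantCoeff : WittVector p R →+* R) := by
          rw [← WittDisp.IV_eq_ker]; exact hr
        obtain ⟨w, rfl⟩ := (WittAdic.mem_ker_constantCoeff_iff p r).mp hr'
        obtain ⟨w', rfl⟩ := hgsurj w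
        obtain ⟨y, rfl⟩ := tmul_one_surjective gW hgsurj z
        refine ⟨WittVector.verschiebung w' • y, D'.IV_smul_le
          (Submodule.smul_mem_smul (verschiebung_mem_IV p S w') Submodule.mem_top), ?_⟩
        rw [← BC.tmul_apply_eq, WittVector.map_verschiebung, BC.smul_tmul, mul_one]
      · obtain ⟨a, ha, rfl⟩ := hx
        obtain ⟨b, hb, rfl⟩ := hy
        exact ⟨a + b, add_mem ha hb, BC.tmul_add gW 1 a b⟩
    have hB : ∀ ζ : BC gW D'.Q, ∃ q' : P', q' ∈ D'.Q ∧
        BC.tmul gW 1 q' = BC.map gW D'.Q.subtype ζ := by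
      intro ζ
      induction ζ using BC.induction_on gW with
      | zero => exact ⟨0, zero_mem _, by rw [map_zero, BC.tmul_zero]⟩
      | tmul b y =>
        obtain ⟨a, rfl⟩ := hgsurj b
        refine ⟨a • (y : P'), D'.Q.smul_mem a y.2, ?_⟩
        rw [BC.map_tmul, ← BC.tmul_apply_eq]
        rfl
      | add ζ₁ ζ₂ h₁ h₂ =>
        obtain ⟨a, ha, ha'⟩ := h₁
        obtain ⟨b, hb, hb'⟩ := h₂
        exact ⟨a + b, add_mem ha hb, by rw [BC.tmul_add, ha', hb', map_add]⟩
    obtain ⟨q₁, hq₁, rfl⟩ := hA z₁ hz₁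
    obtain ⟨ζ, rfl⟩ := hz₂
    obtain ⟨q₂, hq₂, hq₂'⟩ := hB ζ
    exact ⟨q₁ + q₂, add_mem hq₁ hq₂, by rw [BC.tmul_add, hq₂']⟩
  have hQ1 : ∀ q : P, q ∈ D.Q → BC.tmul gW 1 q ∈ DR.Q := by
    intro q hq
    rw [hDR.Q_eq]
    exact tmul_mem_QR f D.Q 1 q hq
  have hQ1' : ∀ q : P', q ∈ D'.Q → BC.tmul gW 1 q ∈ DR'.Q := by
    intro q hq
    rw [hDR'.Q_eq]
    exact tmul_mem_QR f D'.Q 1 q hq
  have hq' : ∀ q : P, q ∈ D.Q → ∃ q' : P', q' ∈ D'.Q ∧
      BC.tmul gW 1 q' = BC.tmul gW 1 (χt q) := by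
    intro q hq
    obtain ⟨q', hq', h⟩ := hQlift _ (hχ.mapsTo _ (hQ1 q hq))
    exact ⟨q', hq', by rw [h, hχt]⟩
  have hmaps : ∀ q : P, q ∈ D.Q → (((p : WittVector p S) ^ N) • χt) q ∈ D'.Q := by
    intro q hq
    obtain ⟨q', hq'mem, h⟩ := hq' q hq
    rw [LinearMap.smul_apply, ← hkill _ _ h]
    exact D'.Q.smul_mem _ hq'mem
  refine ⟨N, ((p : WittVector p S) ^ N) • χt, ⟨hmaps, ?_, ?_⟩, ?_⟩
  · intro x
    rw [LinearMap.smul_apply, LinearMap.smul_apply, LinearMap.map_smulₛₗ, map_pow, map_natCast]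
    apply hkill
    have e1 : BC.tmul gW 1 (D.F x) = DR.F (BC.tmul gW 1 x) := by rw [hDR.F_tmul, map_one]
    have e2 : BC.tmul gW 1 (D'.F (χt x)) = DR'.F (BC.tmul gW 1 (χt x)) := by
      rw [hDR'.F_tmul, map_one]
    rw [hχt, e1, hχ.comm_F, e2, hχt]
  · intro q
    obtain ⟨q', hq'mem, h⟩ := hq' q q.2
    have e : (⟨(((p : WittVector p S) ^ N) • χt) q, hmaps q q.2⟩ : D'.Q) =
        ((p : WittVector p S) ^ N) • (⟨q', hq'mem⟩ : D'.Q) :=
      Subtype.ext (by
        show ((p : WittVector p S) ^ N) • χt q = ((p : WittVector p S) ^ N) • q'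
        exact (hkill _ _ h).symm)
    rw [e, LinearMap.map_smulₛₗ, map_pow, map_natCast, LinearMap.smul_apply]
    apply hkill
    have e1 : BC.tmul gW 1 (D.Vinv q) = DR.Vinv ⟨BC.tmul gW 1 (q : P), hQ1 q q.2⟩ := by
      rw [hDR.Vinv_tmul 1 q (hQ1 q q.2), map_one]
    have e2 : BC.tmul gW 1 (D'.Vinv ⟨q', hq'mem⟩) =
        DR'.Vinv ⟨BC.tmul gW 1 q', hQ1' q' hq'mem⟩ := by
      rw [hDR'.Vinv_tmul 1 ⟨q', hq'mem⟩ (hQ1' q' hq'mem), map_one]
    rw [hχt, e1, hχ.comm_Vinv, e2]
    congr 1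
    apply Subtype.ext
    show χ (BC.tmul gW 1 (q : P)) = BC.tmul gW 1 q'
    rw [← hχt]
    exact h.symm
  · apply BC.ext gW
    intro x
    rw [BC.map_tmul, LinearMap.smul_apply, LinearMap.smul_apply, ← hχt, ← BC.tmul_apply_eq,
      map_pow, map_natCast, BC.tmul_eq_smul_tmul_one]

end BaseChangeHom

end Groth.Agent.H74.Prop40
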