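import Mathlib
import Groth.Agent.H74.Prop40A
import Groth.Agent.H74.ExtPowUniv

/-! Homomorphisms of displays vanishing modulo a square-zero ideal killed by `p`. -/

set_option autoImplicit false
set_option maxHeartbeats 400000
universe u v w

namespace Groth.Agent.H74.Prop40

open W4c1extbt610 Dieu TensorProduct BCLib

/-! ### Ghost components and Teichmüller representatives -/

section Ghost

variable (p : ℕ) [hp : Fact p.Prime]

theorem pow_mul_cancel {A : Type*} [CommRing A] (hA : ∀ a : A, (p : A) * a = 0 → a = 0) :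
    ∀ (n : ℕ) (a : A), (p : A) ^ n * a = 0 → a = 0
  | 0, a, h => by rwa [pow_zero, one_mul] at h
  | n + 1, a, h => pow_mul_cancel hA n a (hA _ (by rw [← mul_assoc, ← pow_succ']; exact h))

theorem ghost_injective {A : Type*} [CommRing A] (hA : ∀ a : A, (p : A) * a = 0 → a = 0)
    (x y : WittVector p A)
    (h : ∀ n, WittVector.ghostComponent n x = WittVector.ghostComponent n y) : x = y := by
  ext n
  induction n using Nat.strong_induction_on with
  | _ n ih =>
    have hn := h n
    rw [WittVector.ghostComponent_apply, WittVector.ghostComponent_apply,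
      wittPolynomial_eq_sum_C_mul_X_pow, map_sum, map_sum, Finset.sum_range_succ,
      Finset.sum_range_succ] at hn
    have hsum : ∑ i ∈ Finset.range n, (MvPolynomial.aeval x.coeff)
          (MvPolynomial.C ((p : ℤ) ^ i) * MvPolynomial.X i ^ p ^ (n - i)) =
        ∑ i ∈ Finset.range n, (MvPolynomial.aeval y.coeff)
          (MvPolynomial.C ((p : ℤ) ^ i) * MvPolynomial.X i ^ p ^ (n - i)) := by
      refine Finset.sum_congr rfl fun i hi => ?_
      simp only [map_mul, map_pow, MvPolynomial.aeval_C, MvPolynomial.aeval_X]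
      rw [ih i (Finset.mem_range.mp hi)]
    rw [hsum] at hn
    have h2 := add_left_cancel hn
    simp only [map_mul, map_pow, MvPolynomial.aeval_C, MvPolynomial.aeval_X, Nat.sub_self,
      pow_zero, pow_one, eq_intCast, Int.cast_natCast, map_natCast] at h2
    have h3 : (p : A) ^ n * (x.coeff n - y.coeff n) = 0 := by
      rw [mul_sub, h2, sub_self]
    exact sub_eq_zero.mp (pow_mul_cancel p hA n _ h3)

theorem inr_pow_eq_zero (m : ℤ × ℤ) (k : ℕ) (hk : 2 ≤ k) :
    (TrivSqZeroExt.inr m : TrivSqZeroExt ℤ (ℤ × ℤ)) ^ k = 0 := by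
  obtain ⟨j, rfl⟩ : ∃ j, k = 2 + j := ⟨k - 2, by omega⟩
  rw [pow_add, pow_two, TrivSqZeroExt.inr_mul_inr, zero_mul]

theorem tsze_torsionFree (x : TrivSqZeroExt ℤ (ℤ × ℤ))
    (h : (p : TrivSqZeroExt ℤ (ℤ × ℤ)) * x = 0) : x = 0 := by
  have hp0 : (p : ℤ) ≠ 0 := by exact_mod_cast hp.out.ne_zero
  have h1 := congrArg TrivSqZeroExt.fst h
  have h2 := congrArg TrivSqZeroExt.snd h
  rw [TrivSqZeroExt.fst_mul, TrivSqZeroExt.fst_natCast, TrivSqZeroExt.fst_zero] at h1
  rw [TrivSqZeroExt.snd_mul, TrivSqZeroExt.fst_natCast, TrivSqZeroExt.snd_natCast, smul_zero,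
    add_zero, TrivSqZeroExt.snd_zero] at h2
  have hx1 : x.fst = 0 := (mul_eq_zero.mp h1).resolve_left hp0
  have hx2 : x.snd = 0 := by
    have h3 := congrArg Prod.fst h2
    have h4 := congrArg Prod.snd h2
    simp only [Prod.smul_fst, Prod.smul_snd, Prod.fst_zero, Prod.snd_zero, smul_eq_mul,
      mul_eq_zero] at h3 h4
    exact Prod.ext (h3.resolve_left hp0) (h4.resolve_left hp0)
  exact TrivSqZeroExt.ext hx1 hx2

theorem teichmuller_add_of_sq_zero {S : Type*} [CommRing S] (a b : S) (haa : a * a = 0)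
    (hab : a * b = 0) (hbb : b * b = 0) :
    WittVector.teichmuller p (a + b) =
      WittVector.teichmuller p a + WittVector.teichmuller p b := by
  let g : (ℤ × ℤ) →ₗ[ℤ] S :=
    (LinearMap.toSpanSingleton ℤ S a).coprod (LinearMap.toSpanSingleton ℤ S b)
  have hg_apply : ∀ x : ℤ × ℤ, g x = (x.1 : S) * a + (x.2 : S) * b := by
    intro x
    simp only [g, LinearMap.coprod_apply, LinearMap.toSpanSingleton_apply, zsmul_eq_mul]
  have hg : ∀ x y, g x * g y = 0 := by
    intro x y
    rw [hg_apply, hg_apply]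
    have e : ((x.1 : S) * a + (x.2 : S) * b) * ((y.1 : S) * a + (y.2 : S) * b) =
        ((x.1 : S) * y.1) * (a * a) + ((x.1 : S) * y.2 + x.2 * y.1) * (a * b) +
          ((x.2 : S) * y.2) * (b * b) := by ring
    rw [e, haa, hab, hbb, mul_zero, mul_zero, mul_zero, add_zero, add_zero]
  let φ : TrivSqZeroExt ℤ (ℤ × ℤ) →ₐ[ℤ] S :=
    TrivSqZeroExt.lift (Algebra.ofId ℤ S) g hg
      (fun r x => by rw [map_smul, zsmul_eq_mul, Algebra.ofId_apply, eq_intCast])
      (fun r x => by
        rw [op_smul_eq_smul, map_smul, zsmul_eq_mul, Algebra.ofId_apply, eq_intCast, mul_comm])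
  have hX : φ (TrivSqZeroExt.inr (1, 0)) = a := by
    rw [TrivSqZeroExt.lift_apply_inr, hg_apply]
    simp
  have hY : φ (TrivSqZeroExt.inr (0, 1)) = b := by
    rw [TrivSqZeroExt.lift_apply_inr, hg_apply]
    simp
  have key : WittVector.teichmuller p
      ((TrivSqZeroExt.inr (1, 0) : TrivSqZeroExt ℤ (ℤ × ℤ)) + TrivSqZeroExt.inr (0, 1)) =
      WittVector.teichmuller p (TrivSqZeroExt.inr (1, 0) : TrivSqZeroExt ℤ (ℤ × ℤ)) +
        WittVector.teichmuller p (TrivSqZeroExt.inr (0, 1) : TrivSqZeroExt ℤ (ℤ × ℤ)) := by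
    apply ghost_injective p (tsze_torsionFree p)
    intro n
    rw [map_add (WittVector.ghostComponent n), WittVector.ghostComponent_teichmuller,
      WittVector.ghostComponent_teichmuller, WittVector.ghostComponent_teichmuller]
    cases n with
    | zero => rw [pow_zero, pow_one, pow_one, pow_one]
    | succ n =>
      have h2 : 2 ≤ p ^ (n + 1) :=
        calc 2 ≤ p := hp.out.two_le
          _ = p ^ 1 := (pow_one p).symm
          _ ≤ p ^ (n + 1) := Nat.pow_le_pow_right hp.out.pos (by omega)
      rw [← TrivSqZeroExt.inr_add, inr_pow_eq_zero _ _ h2, inr_pow_eq_zero _ _ h2,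
        inr_pow_eq_zero _ _ h2, add_zero]
  have h5 := congrArg (WittVector.map (φ : TrivSqZeroExt ℤ (ℤ × ℤ) →+* S)) key
  rw [map_add (WittVector.map (φ : TrivSqZeroExt ℤ (ℤ × ℤ) →+* S)), WittVector.map_teichmuller,
    WittVector.map_teichmuller, WittVector.map_teichmuller,
    map_add (φ : TrivSqZeroExt ℤ (ℤ × ℤ) →+* S)] at h5
  simp only [RingHom.coe_coe] at h5
  rw [hX, hY] at h5
  exact h5

end Ghost

/-! ### The special case: structure of `W(𝔞)` -/

/-- `𝔞` has square zero and is killed by `p`. -/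
structure IsSpecial (p : ℕ) {S : Type u} [CommRing S] (𝔞 : Ideal S) : Prop where
  mul_eq_zero : ∀ a ∈ 𝔞, ∀ b ∈ 𝔞, a * b = 0
  p_mul_eq_zero : ∀ a ∈ 𝔞, (p : S) * a = 0

section Special

variable {p : ℕ} [Fact p.Prime] {S : Type u} [CommRing S] {𝔞 : Ideal S}

theorem exists_decomp (x : WittVector p S) :
    ∃ x' : WittVector p S,
      x = WittVector.teichmuller p (x.coeff 0) + WittVector.verschiebung x' := by
  have h1 : x - WittVector.teichmuller p (x.coeff 0) ∈
      RingHom.ker (WittVector.constantCoeff : WittVector p S →+* S) := by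
    rw [RingHom.mem_ker, map_sub, WittVector.constantCoeff_apply, WittVector.constantCoeff_apply,
      WittVector.teichmuller_coeff_zero, sub_self]
  obtain ⟨y, hy⟩ := (WittAdic.mem_ker_constantCoeff_iff p _).mp h1
  exact ⟨y, by rw [← hy]; ring⟩

theorem teich_mem {a : S} (ha : a ∈ 𝔞) : WittVector.teichmuller p a ∈ Wid p 𝔞 := by
  rw [mem_Wid]
  intro n
  cases n with
  | zero => rw [WittVector.teichmuller_coeff_zero]; exact ha
  | succ n => rw [WittVector.teichmuller_coeff_pos p a _ (Nat.succ_pos n)]; exact zero_mem _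

theorem exists_sh (a : WittVector p S) (ha : a ∈ Wid p 𝔞) :
    ∃ a' ∈ Wid p 𝔞,
      a = WittVector.teichmuller p (a.coeff 0) + WittVector.verschiebung a' := by
  obtain ⟨a', ha'⟩ := exists_decomp a
  refine ⟨a', ?_, ha'⟩
  have h1 : WittVector.verschiebung a' = a - WittVector.teichmuller p (a.coeff 0) := by
    rw [eq_sub_iff_add_eq']; exact ha'.symm
  rw [← verschiebung_mem_Wid, h1]
  exact Ideal.sub_mem _ ha (teich_mem ((mem_Wid p).mp ha 0))

/-- the shift on `W(𝔞)` -/
noncomputable def shFun (a : Wid p 𝔞) : Wid p 𝔞 :=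
  ⟨Classical.choose (exists_sh a.1 a.2), (Classical.choose_spec (exists_sh a.1 a.2)).1⟩

theorem shFun_spec (a : Wid p 𝔞) :
    (a : WittVector p S) = WittVector.teichmuller p ((a : WittVector p S).coeff 0) +
      WittVector.verschiebung (shFun a : WittVector p S) :=
  (Classical.choose_spec (exists_sh a.1 a.2)).2

theorem shFun_unique (a : Wid p 𝔞) (b : WittVector p S)
    (h : (a : WittVector p S) = WittVector.teichmuller p ((a : WittVector p S).coeff 0) +
      WittVector.verschiebung b) : (shFun a : WittVector p S) = b := by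
  have h1 := (shFun_spec a).symm.trans h
  exact WittVector.verschiebung_injective p S (add_left_cancel h1)

variable (h𝔞 : IsSpecial p 𝔞)
include h𝔞

theorem frobenius_eq_zero (w : WittVector p S) (hw : w ∈ Wid p 𝔞) :
    WittVector.frobenius w = 0 := by
  ext n
  rw [WittVector.zero_coeff]
  have h1 := FrobLift.coeff_frobenius_mem p 𝔞 ⊥
    (fun a ha => by rw [h𝔞.p_mul_eq_zero a ha]; exact zero_mem _)
    (fun a ha => by
      have h2 : a ^ 2 = 0 := by rw [pow_two]; exact h𝔞.mul_eq_zero a ha a ha
      rw [pow_eq_zero_of_le (Fact.out : p.Prime).two_le h2]; exact zero_mem _)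
    w ((mem_Wid p).mp hw) n
  exact Ideal.mem_bot.mp h1

theorem mul_p_eq_zero (a : WittVector p S) (ha : a ∈ Wid p 𝔞) :
    a * (p : WittVector p S) = 0 := by
  rw [← WittVector.frobenius_verschiebung]
  exact frobenius_eq_zero h𝔞 _ ((verschiebung_mem_Wid p).mpr ha)

theorem verschiebung_mul_eq_zero (w a : WittVector p S) (ha : a ∈ Wid p 𝔞) :
    WittVector.verschiebung w * a = 0 := by
  rw [← WittVector.verschiebung_mul_frobenius, frobenius_eq_zero h𝔞 a ha, mul_zero, map_zero]

theorem le_annihilator : IV p S ⊔ Ideal.span {(p : WittVector p S)} ≤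
    Submodule.annihilator (Wid p 𝔞 : Submodule (WittVector p S) (WittVector p S)) := by
  refine sup_le ?_ ?_
  · rw [IV, Ideal.span_le]
    rintro _ ⟨w, rfl⟩
    exact Submodule.mem_annihilator.mpr fun a ha => verschiebung_mul_eq_zero h𝔞 w a ha
  · rw [Ideal.span_singleton_le_iff_mem]
    exact Submodule.mem_annihilator.mpr fun a ha => by
      rw [smul_eq_mul, mul_comm]; exact mul_p_eq_zero h𝔞 a ha

theorem shFun_add (a b : Wid p 𝔞) : shFun (a + b) = shFun a + shFun b := by
  apply Subtype.ext
  apply shFun_unique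
  have ha0 := (mem_Wid p).mp a.2 0
  have hb0 := (mem_Wid p).mp b.2 0
  have ht := teichmuller_add_of_sq_zero p _ _ (h𝔞.mul_eq_zero _ ha0 _ ha0)
    (h𝔞.mul_eq_zero _ ha0 _ hb0) (h𝔞.mul_eq_zero _ hb0 _ hb0)
  show (a : WittVector p S) + (b : WittVector p S) =
    WittVector.teichmuller p (((a : WittVector p S) + (b : WittVector p S)).coeff 0) +
      WittVector.verschiebung ((shFun a : WittVector p S) + (shFun b : WittVector p S))
  rw [WittVector.add_coeff_zero, ht, map_add]
  calc (a : WittVector p S) + (b : WittVector p S)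
      = (WittVector.teichmuller p ((a : WittVector p S).coeff 0) +
          WittVector.verschiebung (shFun a : WittVector p S)) +
        (WittVector.teichmuller p ((b : WittVector p S).coeff 0) +
          WittVector.verschiebung (shFun b : WittVector p S)) :=
        congrArg₂ (· + ·) (shFun_spec a) (shFun_spec b)
    _ = _ := by abel

theorem shFun_smul (x : WittVector p S) (a : Wid p 𝔞) :
    shFun (x • a) = WittVector.frobenius x • shFun a := by
  apply Subtype.ext
  apply shFun_unique
  obtain ⟨x', hx'⟩ := exists_decomp x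
  have ha0 := (mem_Wid p).mp a.2 0
  have hFt : WittVector.frobenius (WittVector.teichmuller p ((a : WittVector p S).coeff 0)) = 0 :=
    frobenius_eq_zero h𝔞 _ (teich_mem ha0)
  have e1 : x * WittVector.teichmuller p ((a : WittVector p S).coeff 0) =
      WittVector.teichmuller p (x.coeff 0 * (a : WittVector p S).coeff 0) := by
    conv_lhs => rw [hx']
    rw [add_mul, ← map_mul, ← WittVector.verschiebung_mul_frobenius, hFt, mul_zero, map_zero,
      add_zero]
  have e2 : x * WittVector.verschiebung (shFun a : WittVector p S) =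
      WittVector.verschiebung (WittVector.frobenius x * (shFun a : WittVector p S)) := by
    rw [mul_comm, ← WittVector.verschiebung_mul_frobenius, mul_comm]
  show x * (a : WittVector p S) =
    WittVector.teichmuller p ((x * (a : WittVector p S)).coeff 0) +
      WittVector.verschiebung (WittVector.frobenius x * (shFun a : WittVector p S))
  rw [WittVector.mul_coeff_zero, ← e1, ← e2, ← mul_add, ← shFun_spec a]

omit h𝔞 in
theorem shFun_verschiebung (a : WittVector p S) (ha : a ∈ Wid p 𝔞) :
    (shFun ⟨WittVector.verschiebung a, (verschiebung_mem_Wid p).mpr ha⟩ : WittVector p S) = a := by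
  apply shFun_unique
  show WittVector.verschiebung a =
    WittVector.teichmuller p ((WittVector.verschiebung a).coeff 0) + WittVector.verschiebung a
  rw [WittVector.verschiebung_coeff_zero, WittVector.teichmuller_zero, zero_add]

/-- the shift as a Frobenius-semilinear map -/
noncomputable def sh : ↥(Wid p 𝔞) →ₛₗ[(WittVector.frobenius : WittVector p S →+* WittVector p S)]
    ↥(Wid p 𝔞) where
  toFun := shFun
  map_add' := shFun_add h𝔞
  map_smul' := shFun_smul h𝔞

end Special

end Groth.Agent.H74.Prop40
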