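import Mathlib
import Groth.Agent.H74.Prop40B

/-! Homomorphisms of displays and nilpotent thickenings: injectivity of base change. -/

set_option autoImplicit false
set_option maxHeartbeats 400000
universe u v w

namespace Groth.Agent.H74.Prop40

open W4c1extbt610 Dieu TensorProduct BCLib DispBC DispBC2 DispBC3

/-! ### Generalities on projective modules -/

section Gen

variable {A : Type u} [CommRing A] {M : Type v} [AddCommGroup M] [Module A M]

theorem functional_mem (K : Ideal A) (φ : M →ₗ[A] A) (x : M)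
    (hx : x ∈ K • (⊤ : Submodule A M)) : φ x ∈ K := by
  refine Submodule.smul_induction_on hx (fun a ha y _ => ?_) (fun x y hx hy => ?_)
  · rw [map_smul, smul_eq_mul]
    exact K.mul_mem_right _ ha
  · rw [map_add]
    exact K.add_mem hx hy

theorem smul_top_inf [Module.Projective A M] (I J : Ideal A) :
    I • (⊤ : Submodule A M) ⊓ J • (⊤ : Submodule A M) ≤ (I ⊓ J) • (⊤ : Submodule A M) := by
  rintro x ⟨hI, hJ⟩
  obtain ⟨s, hs⟩ := (Module.projective_def' (R := A) (P := M)).mp inferInstance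
  have key : Finsupp.linearCombination A id (s x) ∈ (I ⊓ J) • (⊤ : Submodule A M) := by
    rw [Finsupp.linearCombination_apply, Finsupp.sum]
    refine Submodule.sum_mem _ (fun j _ => ?_)
    have h1 : (s x) j ∈ I := functional_mem I ((Finsupp.lapply j).comp s) x hI
    have h2 : (s x) j ∈ J := functional_mem J ((Finsupp.lapply j).comp s) x hJ
    exact Submodule.smul_mem_smul (Submodule.mem_inf.mpr ⟨h1, h2⟩) Submodule.mem_top
  have hx : Finsupp.linearCombination A id (s x) = x := LinearMap.congr_fun hs x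
  rwa [hx] at key

theorem projective_ptf [Module.Projective A M] {a : A} (ha : ∀ b : A, a * b = 0 → b = 0)
    (m : M) (hm : a • m = 0) : m = 0 := by
  obtain ⟨s, hs⟩ := (Module.projective_def' (R := A) (P := M)).mp inferInstance
  have hx : Finsupp.linearCombination A id (s m) = m := LinearMap.congr_fun hs m
  have h0 : s m = 0 := by
    refine Finsupp.ext (fun j => ?_)
    rw [Finsupp.zero_apply]
    apply ha
    have h1 : (s (a • m)) j = a * (s m) j := by rw [map_smul]; rfl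
    rw [← h1, hm, map_zero]
    rfl
  rw [← hx, h0, map_zero]

end Gen

/-! ### The multiplication map `I ⊗ M → M` -/

section MulMap

variable {A : Type u} [CommRing A] (I : Ideal A) (M : Type v) [AddCommGroup M] [Module A M]

noncomputable def mulMap : (↥I ⊗[A] M) →ₗ[A] M :=
  (TensorProduct.lid A M).toLinearMap.comp (LinearMap.rTensor M (Submodule.subtype I))

theorem mulMap_tmul (a : I) (y : M) : mulMap I M (a ⊗ₜ[A] y) = (a : A) • y := by
  rw [mulMap, LinearMap.comp_apply, LinearMap.rTensor_tmul, Submodule.subtype_apply]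
  exact TensorProduct.lid_tmul _ _

theorem mulMap_injective [Module.Flat A M] : Function.Injective (mulMap I M) := by
  have h1 : Function.Injective (LinearMap.rTensor M (Submodule.subtype I)) :=
    Module.Flat.rTensor_preserves_injective_linearMap _ (Submodule.injective_subtype I)
  intro x y h
  apply h1
  apply (TensorProduct.lid A M).injective
  exact h

theorem range_mulMap : LinearMap.range (mulMap I M) = I • (⊤ : Submodule A M) := by
  apply le_antisymm
  · rintro _ ⟨t, rfl⟩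
    induction t using TensorProduct.induction_on with
    | zero => rw [map_zero]; exact zero_mem _
    | tmul a y => rw [mulMap_tmul]; exact Submodule.smul_mem_smul a.2 Submodule.mem_top
    | add t₁ t₂ h₁ h₂ => rw [map_add]; exact add_mem h₁ h₂
  · refine Submodule.smul_le.mpr (fun a ha y _ => ?_)
    exact ⟨(⟨a, ha⟩ : I) ⊗ₜ[A] y, mulMap_tmul I M ⟨a, ha⟩ y⟩

noncomputable def mulEquiv [Module.Flat A M] :
    (↥I ⊗[A] M) ≃ₗ[A] ↥(I • (⊤ : Submodule A M)) :=
  LinearEquiv.ofBijective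
    ((mulMap I M).codRestrict (I • (⊤ : Submodule A M))
      (fun t => by rw [← range_mulMap]; exact ⟨t, rfl⟩))
    ⟨fun x y h => mulMap_injective I M (congrArg Subtype.val h),
     fun m => by
       have hm : (m : M) ∈ LinearMap.range (mulMap I M) := by
         rw [range_mulMap]; exact m.2
       obtain ⟨t, ht⟩ := hm
       exact ⟨t, Subtype.ext ht⟩⟩

theorem mulEquiv_tmul [Module.Flat A M] (a : I) (y : M) :
    ((mulEquiv I M (a ⊗ₜ[A] y) : ↥(I • (⊤ : Submodule A M))) : M) = (a : A) • y :=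
  mulMap_tmul I M a y

end MulMap

/-! ### The operator `ŝ` on `W(𝔞) P'` -/

section Shat

variable {p : ℕ} [Fact p.Prime] {S : Type u} [CommRing S] {𝔞 : Ideal S}
variable {P' : Type w} [AddCommGroup P'] [Module (WittVector p S) P']

local notation "σ" => (WittVector.frobenius : WittVector p S →+* WittVector p S)

/-- the underlying Witt vector of the shift -/
noncomputable def shv (h𝔞 : IsSpecial p 𝔞) (a : ↥(Wid p 𝔞)) : WittVector p S :=
  ((sh h𝔞 a : ↥(Wid p 𝔞)) : WittVector p S)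

theorem shv_mem (h𝔞 : IsSpecial p 𝔞) (a : ↥(Wid p 𝔞)) : shv h𝔞 a ∈ Wid p 𝔞 := (sh h𝔞 a).2

theorem shv_add (h𝔞 : IsSpecial p 𝔞) (a b : ↥(Wid p 𝔞)) :
    shv h𝔞 (a + b) = shv h𝔞 a + shv h𝔞 b := by
  rw [shv, map_add]; rfl

theorem shv_smul (h𝔞 : IsSpecial p 𝔞) (c : WittVector p S) (a : ↥(Wid p 𝔞)) :
    shv h𝔞 (c • a) = σ c * shv h𝔞 a := by
  rw [shv, LinearMap.map_smulₛₗ]; rfl

theorem shv_verschiebung (h𝔞 : IsSpecial p 𝔞) (b : WittVector p S) (hb : b ∈ Wid p 𝔞)
    (h : WittVector.verschiebung b ∈ Wid p 𝔞) :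
    shv h𝔞 ⟨WittVector.verschiebung b, h⟩ = b :=
  shFun_verschiebung b hb

theorem shv_mul_p (h𝔞 : IsSpecial p 𝔞) (a : ↥(Wid p 𝔞)) :
    shv h𝔞 a * (p : WittVector p S) = 0 :=
  mul_p_eq_zero h𝔞 _ (shv_mem h𝔞 a)

theorem exists_shat (h𝔞 : IsSpecial p 𝔞) [Module.Flat (WittVector p S) P']
    (Φ : P' →ₛₗ[σ] P') :
    ∃ ŝ : ↥(Wid p 𝔞 • (⊤ : Submodule (WittVector p S) P')) →ₛₗ[σ]
        ↥(Wid p 𝔞 • (⊤ : Submodule (WittVector p S) P')),
      ∀ (a : ↥(Wid p 𝔞)) (y : P')
        (h : (a : WittVector p S) • y ∈ Wid p 𝔞 • (⊤ : Submodule (WittVector p S) P')),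
        ((ŝ ⟨(a : WittVector p S) • y, h⟩ :
          ↥(Wid p 𝔞 • (⊤ : Submodule (WittVector p S) P'))) : P') = shv h𝔞 a • Φ y := by
  let B : ↥(Wid p 𝔞) →ₛₗ[σ] P' →ₛₗ[σ]
      ↥(Wid p 𝔞 • (⊤ : Submodule (WittVector p S) P')) :=
    LinearMap.mk₂'ₛₗ σ σ
      (fun a y => ⟨shv h𝔞 a • Φ y,
        Submodule.smul_mem_smul (shv_mem h𝔞 a) Submodule.mem_top⟩)
      (fun a b y => Subtype.ext (by
        show shv h𝔞 (a + b) • Φ y = shv h𝔞 a • Φ y + shv h𝔞 b • Φ y
        rw [shv_add, add_smul]))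
      (fun c a y => Subtype.ext (by
        show shv h𝔞 (c • a) • Φ y = σ c • (shv h𝔞 a • Φ y)
        rw [shv_smul, mul_smul]))
      (fun a y y' => Subtype.ext (by
        show shv h𝔞 a • Φ (y + y') = shv h𝔞 a • Φ y + shv h𝔞 a • Φ y'
        rw [map_add, smul_add]))
      (fun c a y => Subtype.ext (by
        show shv h𝔞 a • Φ (c • y) = σ c • (shv h𝔞 a • Φ y)
        rw [LinearMap.map_smulₛₗ, smul_comm]))
  refine ⟨(TensorProduct.lift B).comp (mulEquiv (Wid p 𝔞) P').symm.toLinearMap,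
    fun a y h => ?_⟩
  have e : (mulEquiv (Wid p 𝔞) P').symm ⟨(a : WittVector p S) • y, h⟩ =
      a ⊗ₜ[WittVector p S] y := by
    rw [LinearEquiv.symm_apply_eq]
    exact Subtype.ext (mulEquiv_tmul (Wid p 𝔞) P' a y).symm
  show ((TensorProduct.lift B ((mulEquiv (Wid p 𝔞) P').symm
    ⟨(a : WittVector p S) • y, h⟩) :
      ↥(Wid p 𝔞 • (⊤ : Submodule (WittVector p S) P'))) : P') = _
  rw [e]
  rfl

theorem Vinv_eq_shat (h𝔞 : IsSpecial p 𝔞) (D' : Display3n p S P')
    (ŝ : ↥(Wid p 𝔞 • (⊤ : Submodule (WittVector p S) P')) →ₛₗ[σ]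
        ↥(Wid p 𝔞 • (⊤ : Submodule (WittVector p S) P')))
    (hŝ : ∀ (a : ↥(Wid p 𝔞)) (y : P')
        (h : (a : WittVector p S) • y ∈ Wid p 𝔞 • (⊤ : Submodule (WittVector p S) P')),
        ((ŝ ⟨(a : WittVector p S) • y, h⟩ :
          ↥(Wid p 𝔞 • (⊤ : Submodule (WittVector p S) P'))) : P') = shv h𝔞 a • D'.F y)
    (q : P') (hq : q ∈ D'.Q)
    (hm : q ∈ Wid p 𝔞 • (⊤ : Submodule (WittVector p S) P')) :
    D'.Vinv ⟨q, hq⟩ =
      ((ŝ ⟨q, hm⟩ : ↥(Wid p 𝔞 • (⊤ : Submodule (WittVector p S) P'))) : P') := by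
  haveI := D'.projective
  have hgen : ∀ q ∈ (Wid p 𝔞 • D'.Q ⊔
      (Wid p 𝔞 ⊓ IV p S) • (⊤ : Submodule (WittVector p S) P')),
      ∃ (hq : q ∈ D'.Q) (hm : q ∈ Wid p 𝔞 • (⊤ : Submodule (WittVector p S) P')),
        D'.Vinv ⟨q, hq⟩ =
          ((ŝ ⟨q, hm⟩ : ↥(Wid p 𝔞 • (⊤ : Submodule (WittVector p S) P'))) : P') := by
    have hadd : ∀ q₁ q₂ : P',
        (∃ (hq : q₁ ∈ D'.Q) (hm : q₁ ∈ Wid p 𝔞 • (⊤ : Submodule (WittVector p S) P')),
          D'.Vinv ⟨q₁, hq⟩ =
            ((ŝ ⟨q₁, hm⟩ : ↥(Wid p 𝔞 • (⊤ : Submodule (WittVector p S) P'))) : P')) →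
        (∃ (hq : q₂ ∈ D'.Q) (hm : q₂ ∈ Wid p 𝔞 • (⊤ : Submodule (WittVector p S) P')),
          D'.Vinv ⟨q₂, hq⟩ =
            ((ŝ ⟨q₂, hm⟩ : ↥(Wid p 𝔞 • (⊤ : Submodule (WittVector p S) P'))) : P')) →
        ∃ (hq : q₁ + q₂ ∈ D'.Q)
          (hm : q₁ + q₂ ∈ Wid p 𝔞 • (⊤ : Submodule (WittVector p S) P')),
          D'.Vinv ⟨q₁ + q₂, hq⟩ =
            ((ŝ ⟨q₁ + q₂, hm⟩ :
              ↥(Wid p 𝔞 • (⊤ : Submodule (WittVector p S) P'))) : P') := by
      rintro q₁ q₂ ⟨hq₁, hm₁, e₁⟩ ⟨hq₂, hm₂, e₂⟩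
      refine ⟨add_mem hq₁ hq₂, add_mem hm₁ hm₂, ?_⟩
      have a1 : (⟨q₁ + q₂, add_mem hq₁ hq₂⟩ : D'.Q) = ⟨q₁, hq₁⟩ + ⟨q₂, hq₂⟩ := rfl
      have a2 : (⟨q₁ + q₂, add_mem hm₁ hm₂⟩ :
          ↥(Wid p 𝔞 • (⊤ : Submodule (WittVector p S) P'))) = ⟨q₁, hm₁⟩ + ⟨q₂, hm₂⟩ := rfl
      rw [a1, a2, map_add, map_add, Submodule.coe_add, e₁, e₂]
    intro q hq
    obtain ⟨q₁, hq₁, q₂, hq₂, rfl⟩ := Submodule.mem_sup.mp hq
    refine hadd q₁ q₂ ?_ ?_
    · refine Submodule.smul_induction_on hq₁ (fun a ha l hl => ?_)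
        (fun x y hx hy => hadd x y hx hy)
      have hQ : a • l ∈ D'.Q := D'.Q.smul_mem a hl
      have hM : a • l ∈ Wid p 𝔞 • (⊤ : Submodule (WittVector p S) P') :=
        Submodule.smul_mem_smul ha Submodule.mem_top
      refine ⟨hQ, hM, ?_⟩
      have e1 : (⟨a • l, hQ⟩ : D'.Q) = a • ⟨l, hl⟩ := rfl
      rw [e1, LinearMap.map_smulₛₗ, frobenius_eq_zero h𝔞 a ha, zero_smul]
      have e2 : ((ŝ ⟨a • l, hM⟩ :
          ↥(Wid p 𝔞 • (⊤ : Submodule (WittVector p S) P'))) : P') =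
          shv h𝔞 ⟨a, ha⟩ • D'.F l := hŝ ⟨a, ha⟩ l hM
      have e3 : (⟨WittVector.verschiebung (1 : WittVector p S) • l,
          ExtPowUniv.v1_smul_mem D' l⟩ : D'.Q) =
          WittVector.verschiebung (1 : WittVector p S) • ⟨l, hl⟩ := rfl
      rw [e2, ExtPowUniv.F_eq D' l, e3, LinearMap.map_smulₛₗ,
        WittVector.frobenius_verschiebung, one_mul, smul_smul, shv_mul_p, zero_smul]
    · refine Submodule.smul_induction_on hq₂ (fun c hc y _ => ?_)
        (fun x y hx hy => hadd x y hx hy)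
      obtain ⟨hc1, hc2⟩ := Submodule.mem_inf.mp hc
      have hc' : c ∈ RingHom.ker (WittVector.constantCoeff : WittVector p S →+* S) := by
        rw [← WittDisp.IV_eq_ker]; exact hc2
      obtain ⟨b, rfl⟩ := (WittAdic.mem_ker_constantCoeff_iff p c).mp hc'
      have hb : b ∈ Wid p 𝔞 := (verschiebung_mem_Wid p).mp hc1
      have hQ : WittVector.verschiebung b • y ∈ D'.Q :=
        D'.IV_smul_le (Submodule.smul_mem_smul (verschiebung_mem_IV p S b) Submodule.mem_top)
      have hM : WittVector.verschiebung b • y ∈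
          Wid p 𝔞 • (⊤ : Submodule (WittVector p S) P') :=
        Submodule.smul_mem_smul hc1 Submodule.mem_top
      refine ⟨hQ, hM, ?_⟩
      have e2 : ((ŝ ⟨WittVector.verschiebung b • y, hM⟩ :
          ↥(Wid p 𝔞 • (⊤ : Submodule (WittVector p S) P'))) : P') =
          shv h𝔞 ⟨WittVector.verschiebung b, hc1⟩ • D'.F y :=
        hŝ ⟨WittVector.verschiebung b, hc1⟩ y hM
      rw [e2, shv_verschiebung h𝔞 b hb hc1]
      exact D'.Vinv_verschiebung_smul b y
  obtain ⟨L, T, hLT, hQ⟩ := D'.exists_normal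
  obtain ⟨eL, eT, heLmem, heTmem, heLL, heTL, heTT, heLT, hsum⟩ := exists_projections L T hLT
  have hLQ : L ≤ D'.Q := by rw [hQ]; exact le_sup_left
  have h1 : eL q ∈ Wid p 𝔞 • D'.Q := by
    refine Submodule.smul_induction_on hm (fun a ha y _ => ?_) (fun x y hx hy => ?_)
    · rw [map_smul]; exact Submodule.smul_mem_smul ha (hLQ (heLmem y))
    · rw [map_add]; exact add_mem hx hy
  have h2 : eT q ∈ Wid p 𝔞 • (⊤ : Submodule (WittVector p S) P') := by
    refine Submodule.smul_induction_on hm (fun a ha y _ => ?_) (fun x y hx hy => ?_)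
    · rw [map_smul]; exact Submodule.smul_mem_smul ha Submodule.mem_top
    · rw [map_add]; exact add_mem hx hy
  have h3 : eT q ∈ IV p S • (⊤ : Submodule (WittVector p S) P') := by
    have hq' : q ∈ L ⊔ IV p S • T := by rw [← hQ]; exact hq
    obtain ⟨l, hl, i, hi, hli⟩ := Submodule.mem_sup.mp hq'
    have hiT : i ∈ T := Submodule.smul_le.mpr (fun r _ t ht => T.smul_mem r ht) hi
    rw [← hli, map_add, heTL l hl, zero_add, heTT i hiT]
    exact Submodule.smul_mono le_rfl le_top hi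
  have h4 : eT q ∈ (Wid p 𝔞 ⊓ IV p S) • (⊤ : Submodule (WittVector p S) P') :=
    smul_top_inf _ _ ⟨h2, h3⟩
  have h5 : q ∈ Wid p 𝔞 • D'.Q ⊔
      (Wid p 𝔞 ⊓ IV p S) • (⊤ : Submodule (WittVector p S) P') := by
    have h6 := Submodule.add_mem_sup h1 h4
    rwa [hsum q] at h6
  obtain ⟨_, _, e⟩ := hgen q h5
  exact e

end Shat

/-! ### Iterating -/

section Iter

variable {p : ℕ} [Fact p.Prime] {S : Type u} [CommRing S]
variable {P : Type v} [AddCommGroup P] [Module (WittVector p S) P]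
variable {M : Type w} [AddCommGroup M] [Module (WittVector p S) M]

local notation "σ" => (WittVector.frobenius : WittVector p S →+* WittVector p S)

theorem iterate_smul (ŝ : M →ₛₗ[σ] M) (n : ℕ) (c : WittVector p S) (m : M) :
    (⇑ŝ)^[n] (c • m) = (σ ^ n) c • (⇑ŝ)^[n] m := by
  induction n with
  | zero => rw [pow_zero]; rfl
  | succ n ih =>
    rw [Function.iterate_succ_apply', Function.iterate_succ_apply', ih,
      LinearMap.map_smulₛₗ, pow_succ']
    rfl

/-- `x ↦ ŝ^{n+1} (α x)` -/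
noncomputable def iterSL (ŝ : M →ₛₗ[σ] M) (α : P →ₗ[WittVector p S] M) (n : ℕ) :
    P →ₛₗ[σ ^ (n + 1)] M where
  toFun x := (⇑ŝ)^[n + 1] (α x)
  map_add' x y := by
    show (⇑ŝ)^[n + 1] (α (x + y)) = (⇑ŝ)^[n + 1] (α x) + (⇑ŝ)^[n + 1] (α y)
    rw [map_add, iterate_map_add]
  map_smul' c x := by
    show (⇑ŝ)^[n + 1] (α (c • x)) = (σ ^ (n + 1)) c • (⇑ŝ)^[n + 1] (α x)
    rw [map_smul, iterate_smul]

theorem iterSL_apply (ŝ : M →ₛₗ[σ] M) (α : P →ₗ[WittVector p S] M) (n : ℕ) (x : P) :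
    iterSL ŝ α n x = (⇑ŝ)^[n + 1] (α x) := rfl

theorem lift_castHom {A B : Type u} [CommRing A] [CommRing B] {g g' : A →+* B} (e : g = g')
    {P : Type v} [AddCommGroup P] [Module A P] {N : Type w} [AddCommGroup N] [Module B N]
    (φ : P →ₛₗ[g] N) (φ' : P →ₛₗ[g'] N) (h : ∀ x, φ x = φ' x) (z : BC g P) :
    BC.lift g' φ' (BC.castHom e z) = BC.lift g φ z := by
  subst e
  have h' : φ = φ' := LinearMap.ext h
  subst h'
  rfl

theorem lift_merge (ŝ : M →ₛₗ[σ] M) (α : P →ₗ[WittVector p S] M) (n : ℕ)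
    (v : BC σ (BC (σ ^ (n + 1)) P)) :
    BC.lift (σ ^ (n + 1 + 1)) (iterSL ŝ α (n + 1)) (merge σ n P v) =
      BC.lift σ (ŝ.comp (BC.lift (σ ^ (n + 1)) (iterSL ŝ α n))) v := by
  induction v using BC.induction_on σ with
  | zero => simp only [map_zero]
  | tmul a w =>
    induction w using BC.induction_on (σ ^ (n + 1)) with
    | zero => simp only [BC.tmul_zero, map_zero]
    | tmul b x =>
      rw [merge_tmul, BC.lift_tmul, BC.lift_tmul, LinearMap.comp_apply, BC.lift_tmul,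
        LinearMap.map_smulₛₗ, iterSL_apply, iterSL_apply,
        Function.iterate_succ_apply' (⇑ŝ) (n + 1), mul_smul]
    | add w₁ w₂ h₁ h₂ =>
      rw [BC.tmul_add, map_add, map_add, map_add, h₁, h₂]
  | add v₁ v₂ h₁ h₂ => rw [map_add, map_add, map_add, h₁, h₂]

theorem lift_map_eq (ŝ : M →ₛₗ[σ] M) (α : P →ₗ[WittVector p S] M) {N : Type*}
    [AddCommGroup N] [Module (WittVector p S) N]
    (X : P →ₗ[WittVector p S] N) (Λ : N →ₗ[WittVector p S] M) (h : ∀ x, Λ (X x) = α x)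
    (z : BC σ P) :
    BC.lift σ (ŝ.comp Λ) (BC.map σ X z) = BC.lift σ (ŝ.comp α) z := by
  induction z using BC.induction_on σ with
  | zero => simp only [map_zero]
  | tmul a x =>
    rw [BC.map_tmul, BC.lift_tmul, BC.lift_tmul, LinearMap.comp_apply, LinearMap.comp_apply, h]
  | add z₁ z₂ h₁ h₂ => rw [map_add, map_add, map_add, h₁, h₂]

theorem lift_vSharpPow (ŝ : M →ₛₗ[σ] M) (α : P →ₗ[WittVector p S] M)
    (Vs : P →ₗ[WittVector p S] BC σ P)
    (h : ∀ x, BC.lift σ (ŝ.comp α) (Vs x) = α x) (n : ℕ) (x : P) :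
    BC.lift (σ ^ (n + 1)) (iterSL ŝ α n) (vSharpPow Vs n x) = α x := by
  induction n generalizing x with
  | zero =>
    show BC.lift (σ ^ (0 + 1)) (iterSL ŝ α 0) (BC.castHom (pow_one σ).symm (Vs x)) = α x
    exact (lift_castHom (pow_one σ).symm (ŝ.comp α) (iterSL ŝ α 0) (fun x => rfl)
      (Vs x)).trans (h x)
  | succ n ih =>
    rw [vSharpPow_succ_eq_merge, lift_merge,
      lift_map_eq ŝ α (vSharpPow Vs n) (BC.lift (σ ^ (n + 1)) (iterSL ŝ α n)) ih]
    exact h x

end Iter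

/-! ### The special case -/

section SpecialCase

variable {p : ℕ} [Fact p.Prime] {S : Type u} [CommRing S] {𝔞 : Ideal S}
variable {P : Type v} [AddCommGroup P] [Module (WittVector p S) P]
variable {P' : Type w} [AddCommGroup P'] [Module (WittVector p S) P']

local notation "σ" => (WittVector.frobenius : WittVector p S →+* WittVector p S)

theorem special_injective (h𝔞 : IsSpecial p 𝔞) (D : Display3n p S P) (D' : Display3n p S P')
    (hD : IsDisplay D) (α : P →ₗ[WittVector p S] P') (hα : IsHom D D' α)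
    (hmem : ∀ x, α x ∈ Wid p 𝔞 • (⊤ : Submodule (WittVector p S) P')) : α = 0 := by
  haveI := D'.projective
  haveI : Module.Flat (WittVector p S) P' := Module.Flat.of_projective
  obtain ⟨ŝ, hŝ⟩ := exists_shat h𝔞 D'.F
  obtain ⟨Vs, hVs, N, hN⟩ := hD
  let α𝔐 : P →ₗ[WittVector p S] ↥(Wid p 𝔞 • (⊤ : Submodule (WittVector p S) P')) :=
    α.codRestrict _ hmem
  have hα𝔐 : ∀ x, ((α𝔐 x : ↥(Wid p 𝔞 • (⊤ : Submodule (WittVector p S) P'))) : P') = α x :=
    fun x => rfl
  have hfix : ∀ x, BC.lift σ (ŝ.comp α𝔐) (Vs x) = α𝔐 x := by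
    have hlin : (BC.lift σ (ŝ.comp α𝔐)).comp Vs = α𝔐 := by
      refine LinearMap.ext_on D.span_range_Vinv ?_
      rintro _ ⟨y, rfl⟩
      rw [LinearMap.comp_apply]
      have e1 : Vs (D.Vinv y) = BC.tmul σ 1 (y : P) := by
        have h1 := hVs.app_smul_Vinv 1 y
        rwa [one_smul] at h1
      rw [e1, BC.lift_tmul, one_smul, LinearMap.comp_apply]
      apply Subtype.ext
      rw [hα𝔐, hα.comm_Vinv y]
      exact (Vinv_eq_shat h𝔞 D' ŝ hŝ (α y) (hα.mapsTo y y.2) (hmem y)).symm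
    intro x
    exact LinearMap.congr_fun hlin x
  have hiter := lift_vSharpPow ŝ α𝔐 Vs hfix N
  have hann : ∀ r : WittVector p S, r ∈ IV p S ⊔ Ideal.span {(p : WittVector p S)} →
      ∀ m : ↥(Wid p 𝔞 • (⊤ : Submodule (WittVector p S) P')), r • m = 0 := by
    intro r hr m
    apply Subtype.ext
    rw [Submodule.coe_smul, Submodule.coe_zero]
    have hr' := le_annihilator h𝔞 hr
    refine Submodule.smul_induction_on m.2 (fun a ha y _ => ?_) (fun x y hx hy => ?_)
    · have h1 : r * a = 0 := by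
        have h2 := Submodule.mem_annihilator.mp hr' a ha
        rwa [smul_eq_mul] at h2
      rw [smul_smul, h1, zero_smul]
    · rw [smul_add, hx, hy, add_zero]
  have hzero : ∀ (Λ : BC (σ ^ (N + 1)) P →ₗ[WittVector p S]
      ↥(Wid p 𝔞 • (⊤ : Submodule (WittVector p S) P'))) (z : BC (σ ^ (N + 1)) P),
      z ∈ (IV p S ⊔ Ideal.span {(p : WittVector p S)}) •
        (⊤ : Submodule (WittVector p S) (BC (σ ^ (N + 1)) P)) → Λ z = 0 := by
    intro Λ z hz
    refine Submodule.smul_induction_on hz (fun r hr z _ => ?_) (fun x y hx hy => ?_)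
    · rw [map_smul]; exact hann r hr _
    · rw [map_add, hx, hy, add_zero]
  apply LinearMap.ext
  intro x
  have h1 : α𝔐 x = 0 := by
    rw [← hiter x]
    exact hzero _ _ (hN x)
  exact congrArg Subtype.val h1

end SpecialCase

/-! ### The induction -/

section Step

variable {p : ℕ} [Fact p.Prime] {S R : Type u} [CommRing S] [CommRing R] (f : S →+* R)
variable {P : Type v} [AddCommGroup P] [Module (WittVector p S) P]
variable {P' : Type w} [AddCommGroup P'] [Module (WittVector p S) P']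

local notation "gW" => (WittVector.map f : WittVector p S →+* WittVector p R)

theorem tmul_mem_Wid_smul (𝔞 : Ideal S) (y : P')
    (hy : y ∈ Wid p 𝔞 • (⊤ : Submodule (WittVector p S) P')) (b : WittVector p R) :
    BC.tmul gW b y ∈
      Wid p (𝔞.map f) • (⊤ : Submodule (WittVector p R) (BC gW P')) := by
  refine Submodule.smul_induction_on hy ?_ ?_
  · intro a ha x _
    rw [← BC.tmul_mul_apply, mul_comm, ← BC.smul_tmul]
    refine Submodule.smul_mem_smul ?_ Submodule.mem_top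
    rw [mem_Wid]
    intro n
    rw [WittVector.map_coeff]
    exact Ideal.mem_map_of_mem f ((mem_Wid p).mp ha n)
  · intro x y hx hy
    rw [BC.tmul_add]
    exact add_mem hx hy

theorem step (hf : Function.Surjective f) (𝔞 : Ideal S)
    (h1 : ∀ a ∈ 𝔞, ∀ b ∈ 𝔞, f (a * b) = 0) (h2 : ∀ a ∈ 𝔞, f ((p : S) * a) = 0)
    (D : Display3n p S P) (D' : Display3n p S P') (hD : IsDisplay D)
    (α : P →ₗ[WittVector p S] P') (hα : IsHom D D' α)
    (hmem : ∀ x, α x ∈ Wid p 𝔞 • (⊤ : Submodule (WittVector p S) P')) :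
    ∀ x, α x ∈ Wid p (RingHom.ker f) • (⊤ : Submodule (WittVector p S) P') := by
  have hgsurj : Function.Surjective gW := WittVector.map_surjective f hf
  obtain ⟨DR, hDR⟩ := exists_baseChange f D
  obtain ⟨DR', hDR'⟩ := exists_baseChange f D'
  have hDRd : IsDisplay DR := isDisplay_baseChange f D hD DR hDR
  have hαR : IsHom DR DR' (BC.map gW α) := isHom_baseChange f D D' DR hDR DR' hDR' α hα
  have hsp : IsSpecial p (𝔞.map f) := by
    constructor
    · intro a ha b hb
      obtain ⟨a', ha', rfl⟩ := (Ideal.mem_map_iff_of_surjective f hf).mp ha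
      obtain ⟨b', hb', rfl⟩ := (Ideal.mem_map_iff_of_surjective f hf).mp hb
      rw [← map_mul]
      exact h1 a' ha' b' hb'
    · intro a ha
      obtain ⟨a', ha', rfl⟩ := (Ideal.mem_map_iff_of_surjective f hf).mp ha
      have e : (p : R) = f (p : S) := (map_natCast f p).symm
      rw [e, ← map_mul]
      exact h2 a' ha'
  have hmemR : ∀ z, BC.map gW α z ∈
      Wid p (𝔞.map f) • (⊤ : Submodule (WittVector p R) (BC gW P')) := by
    intro z
    induction z using BC.induction_on gW with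
    | zero => rw [map_zero]; exact zero_mem _
    | tmul b x => rw [BC.map_tmul]; exact tmul_mem_Wid_smul f 𝔞 _ (hmem x) b
    | add z₁ z₂ h₁ h₂ => rw [map_add]; exact add_mem h₁ h₂
  have hzero := special_injective hsp DR DR' hDRd (BC.map gW α) hαR hmemR
  intro x
  have h3 : BC.tmul gW 1 (α x) = 0 := by
    rw [← BC.map_tmul gW α 1 x, hzero, LinearMap.zero_apply]
  have h4 := mem_of_tmul_one_eq_zero gW hgsurj _ h3
  rw [ker_map_eq p f] at h4
  exact h4

omit [CommRing R] in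
theorem inj_of_le (𝔠 : Ideal S) (hp𝔠 : (p : S) ∈ 𝔠) (D : Display3n p S P)
    (D' : Display3n p S P') (hD : IsDisplay D) (α : P →ₗ[WittVector p S] P')
    (hα : IsHom D D' α) :
    ∀ (k : ℕ) (𝔞 : Ideal S), 𝔞 ≤ 𝔠 → 𝔠 ^ k * 𝔞 = ⊥ →
      (∀ x, α x ∈ Wid p 𝔞 • (⊤ : Submodule (WittVector p S) P')) → α = 0 := by
  intro k
  induction k with
  | zero =>
    intro 𝔞 _ h0 hmem
    rw [pow_zero, one_mul] at h0
    apply LinearMap.ext
    intro x
    have hx := hmem x
    rw [h0, Wid_bot, Submodule.bot_smul, Submodule.mem_bot] at hx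
    rw [hx, LinearMap.zero_apply]
  | succ k ih =>
    intro 𝔞 h𝔞 h0 hmem
    have hb1 : 𝔞 * 𝔞 ⊔ Ideal.span {(p : S)} * 𝔞 ≤ 𝔠 * 𝔞 :=
      sup_le (Ideal.mul_mono_left h𝔞)
        (Ideal.mul_mono_left ((Ideal.span_singleton_le_iff_mem _).mpr hp𝔠))
    have hb2 : 𝔠 ^ k * (𝔞 * 𝔞 ⊔ Ideal.span {(p : S)} * 𝔞) = ⊥ := by
      apply le_bot_iff.mp
      calc 𝔠 ^ k * (𝔞 * 𝔞 ⊔ Ideal.span {(p : S)} * 𝔞) ≤ 𝔠 ^ k * (𝔠 * 𝔞) :=
            Ideal.mul_mono_right hb1
        _ = 𝔠 ^ (k + 1) * 𝔞 := by rw [pow_succ, mul_assoc]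
        _ = ⊥ := h0
    have hstep : ∀ x, α x ∈ Wid p (𝔞 * 𝔞 ⊔ Ideal.span {(p : S)} * 𝔞) •
        (⊤ : Submodule (WittVector p S) P') := by
      have h3 := step (Ideal.Quotient.mk (𝔞 * 𝔞 ⊔ Ideal.span {(p : S)} * 𝔞))
        Ideal.Quotient.mk_surjective 𝔞
        (fun a ha b hb => Ideal.Quotient.eq_zero_iff_mem.mpr
          (Ideal.mem_sup_left (Ideal.mul_mem_mul ha hb)))
        (fun a ha => Ideal.Quotient.eq_zero_iff_mem.mpr
          (Ideal.mem_sup_right (Ideal.mul_mem_mul (Ideal.mem_span_singleton_self _) ha)))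
        D D' hD α hα hmem
      rw [Ideal.mk_ker] at h3
      exact h3
    exact ih _ (hb1.trans Ideal.mul_le_left) hb2 hstep

theorem inj_of_nilpotent (hp : IsNilpotent (p : S)) (hf : Function.Surjective f)
    (hker : IsNilpotent (RingHom.ker f))
    (D : Display3n p S P) (D' : Display3n p S P') (hD : IsDisplay D)
    (α : P →ₗ[WittVector p S] P') (hα : IsHom D D' α)
    (h0 : ∀ x, BC.tmul gW 1 (α x) = 0) : α = 0 := by
  have hgsurj : Function.Surjective gW := WittVector.map_surjective f hf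
  have hmem : ∀ x, α x ∈ Wid p (RingHom.ker f) • (⊤ : Submodule (WittVector p S) P') := by
    intro x
    have h1 := mem_of_tmul_one_eq_zero gW hgsurj _ (h0 x)
    rwa [ker_map_eq p f] at h1
  have hpn : IsNilpotent (Ideal.span {(p : S)}) := by
    obtain ⟨k, hk⟩ := hp
    refine ⟨k, ?_⟩
    rw [Ideal.span_singleton_pow, hk, Ideal.span_singleton_eq_bot.mpr rfl]
    rfl
  have hc : IsNilpotent (RingHom.ker f ⊔ Ideal.span {(p : S)}) := by
    rw [← Ideal.add_eq_sup]
    exact (Commute.all _ _).isNilpotent_add hker hpn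
  obtain ⟨N, hN⟩ := hc
  refine inj_of_le (RingHom.ker f ⊔ Ideal.span {(p : S)})
    (Ideal.mem_sup_right (Ideal.mem_span_singleton_self _)) D D' hD α hα N (RingHom.ker f)
    le_sup_left ?_ hmem
  rw [hN, zero_mul]
  rfl

/-! ### `p`-torsion -/

theorem hom_ptf_of (hp : IsNilpotent (p : S)) (hf : Function.Surjective f)
    (hker : IsNilpotent (RingHom.ker f))
    (hR : ∀ a : WittVector p R, (p : WittVector p R) * a = 0 → a = 0)
    (D : Display3n p S P) (D' : Display3n p S P') (hD : IsDisplay D)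
    (ψ : P →ₗ[WittVector p S] P') (hψ : IsHom D D' ψ)
    (h : (p : WittVector p S) • ψ = 0) : ψ = 0 := by
  haveI := D'.projective
  haveI : Module.Projective (WittVector p R) (BC gW P') := bc_projective gW P'
  refine inj_of_nilpotent f hp hf hker D D' hD ψ hψ (fun x => ?_)
  have h1 : (p : WittVector p R) • BC.tmul gW 1 (ψ x) = 0 := by
    rw [BC.smul_tmul, mul_one]
    have e : (p : WittVector p R) = gW (p : WittVector p S) := (map_natCast gW p).symm
    rw [e, BC.tmul_apply_eq]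
    have h2 : (p : WittVector p S) • ψ x = 0 := by
      have h3 := LinearMap.congr_fun h x
      rwa [LinearMap.smul_apply, LinearMap.zero_apply] at h3
    rw [h2, BC.tmul_zero]
  exact projective_ptf hR _ h1

end Step

section Reduced

variable {p : ℕ} [Fact p.Prime]

theorem witt_ptf_of_reduced {R : Type u} [CommRing R] [IsReduced R] (hpR : (p : R) = 0)
    (a : WittVector p R) (ha : (p : WittVector p R) * a = 0) : a = 0 := by
  rcases subsingleton_or_nontrivial R with hs | hnt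
  · ext n; exact Subsingleton.elim _ _
  · haveI : CharP R p := (CharP.charP_iff_prime_eq_zero (Fact.out : p.Prime)).mpr hpR
    have h1 : WittVector.verschiebung (WittVector.frobenius a) = 0 := by
      rw [WittVector.verschiebung_frobenius, mul_comm]; exact ha
    have h2 : WittVector.frobenius a = 0 := by
      apply WittVector.verschiebung_injective p R
      rw [h1, map_zero]
    rw [WittVector.frobenius_eq_map_frobenius] at h2
    have hinj : Function.Injective (WittVector.map (_root_.frobenius R p) :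
        WittVector p R → WittVector p R) :=
      WittVector.map_injective _ (frobenius_inj R p)
    apply hinj
    rw [h2, map_zero]

variable {S : Type u} [CommRing S]
variable {P : Type v} [AddCommGroup P] [Module (WittVector p S) P]
variable {P' : Type w} [AddCommGroup P'] [Module (WittVector p S) P']

theorem hom_ptf (hp : IsNilpotent (p : S)) (hn : IsNilpotent (nilradical S))
    (D : Display3n p S P) (D' : Display3n p S P') (hD : IsDisplay D)
    (ψ : P →ₗ[WittVector p S] P') (hψ : IsHom D D' ψ)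
    (h : (p : WittVector p S) • ψ = 0) : ψ = 0 := by
  haveI : IsReduced (S ⧸ nilradical S) :=
    (Ideal.isRadical_iff_quotient_reduced (nilradical S)).mp (Ideal.radical_isRadical _)
  have hpR : (p : S ⧸ nilradical S) = 0 := by
    have e : (p : S ⧸ nilradical S) = Ideal.Quotient.mk (nilradical S) (p : S) :=
      (map_natCast (Ideal.Quotient.mk (nilradical S)) p).symm
    rw [e]
    exact Ideal.Quotient.eq_zero_iff_mem.mpr (mem_nilradical.mpr hp)
  have hker : IsNilpotent (RingHom.ker (Ideal.Quotient.mk (nilradical S))) := by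
    rw [Ideal.mk_ker]; exact hn
  exact hom_ptf_of (Ideal.Quotient.mk (nilradical S)) hp Ideal.Quotient.mk_surjective hker
    (fun a ha => witt_ptf_of_reduced hpR a ha) D D' hD ψ hψ h

end Reduced

end Groth.Agent.H74.Prop40
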