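import Mathlib

/-!
# Counting ring homomorphisms into a finite field (for S13070)

`card_ringHom_le`: if `D` is generated over `R₀` by `x₁..xₙ`, each `x_j` being a root of a
polynomial `Q_j` over `R₀[a₁..a_t]` which stays nonzero under every specialisation into the
finite field `F`, then `#(D →+* F) ≤ (∏ deg Q_j) * #F ^ t`.
-/

set_option autoImplicit false

open Polynomial

namespace Groth.Agent.H74.PtCount

/-- Two ring homs out of `D = R₀[x]` agreeing on `R₀` and on the `x_j` are equal. -/
theorem ringHom_ext_of_adjoin {R₀ D F : Type*} [CommRing R₀] [CommRing D] [Algebra R₀ D]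
    [Semiring F] {n : ℕ} (x : Fin n → D) (hx : Algebra.adjoin R₀ (Set.range x) = ⊤)
    (φ ψ : D →+* F) (h0 : φ.comp (algebraMap R₀ D) = ψ.comp (algebraMap R₀ D))
    (h1 : ∀ j, φ (x j) = ψ (x j)) : φ = ψ := by
  ext d
  have hd : d ∈ Algebra.adjoin R₀ (Set.range x) := by rw [hx]; trivial
  induction hd using Algebra.adjoin_induction with
  | mem y hy =>
    obtain ⟨j, rfl⟩ := hy
    exact h1 j
  | algebraMap r => exact congrArg (fun f => f r) h0
  | add y z _ _ hy hz => rw [map_add, map_add, hy, hz]
  | mul y z _ _ hy hz => rw [map_mul, map_mul, hy, hz]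

/-- Finiteness of the set of ring homs from a finitely generated ring to a finite ring. -/
theorem finite_ringHom (A F : Type*) [CommRing A] [Algebra.FiniteType ℤ A] [CommRing F]
    [Finite F] : Finite (A →+* F) := by
  obtain ⟨n, f, hf⟩ := Algebra.FiniteType.iff_quotient_mvPolynomial''.mp
    (inferInstance : Algebra.FiniteType ℤ A)
  let x : Fin n → A := fun j => f (MvPolynomial.X j)
  have hx : Algebra.adjoin ℤ (Set.range x) = ⊤ := by
    rw [Algebra.adjoin_range_eq_range_aeval]
    have : MvPolynomial.aeval x = f := by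
      apply MvPolynomial.algHom_ext
      intro i
      simp [x]
    rw [this]
    exact (AlgHom.range_eq_top f).mpr hf
  apply Finite.of_injective (fun φ : A →+* F => fun j => φ (x j))
  intro φ ψ h
  exact ringHom_ext_of_adjoin x hx φ ψ (Subsingleton.elim _ _) (fun j => congrFun h j)

theorem card_ringHom_le {R₀ D F : Type*} [CommRing R₀] [CommRing D] [Algebra R₀ D] [Field F]
    [Finite F] [Subsingleton (R₀ →+* F)] {t n : ℕ} (a : Fin t → D) (x : Fin n → D)
    (hx : Algebra.adjoin R₀ (Set.range x) = ⊤)
    (Q : Fin n → Polynomial (MvPolynomial (Fin t) R₀))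
    (hQ : ∀ j, (Q j).eval₂
      ((MvPolynomial.aeval a : MvPolynomial (Fin t) R₀ →ₐ[R₀] D) : MvPolynomial (Fin t) R₀ →+* D)
      (x j) = 0)
    (hne : ∀ j (ρ : R₀ →+* F) (α : Fin t → F), (Q j).map (MvPolynomial.eval₂Hom ρ α) ≠ 0) :
    Finite (D →+* F) ∧ Nat.card (D →+* F) ≤ (∏ j, (Q j).natDegree) * Nat.card F ^ t := by
  classical
  haveI : Fintype F := Fintype.ofFinite F
  by_cases hemp : IsEmpty (D →+* F)
  · exact ⟨inferInstance, by simp⟩
  rw [not_isEmpty_iff] at hemp
  obtain ⟨φ₀⟩ := hemp
  set ρ : R₀ →+* F := φ₀.comp (algebraMap R₀ D) with hρ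
  have hρ' : ∀ φ : D →+* F, φ.comp (algebraMap R₀ D) = ρ := fun φ => Subsingleton.elim _ _
  -- the target finite set
  let S : Finset (Σ _ : Fin t → F, (Fin n → F)) :=
    (Finset.univ : Finset (Fin t → F)).sigma (fun α =>
      Fintype.piFinset (fun j => ((Q j).map (MvPolynomial.eval₂Hom ρ α)).roots.toFinset))
  have hcomp : ∀ φ : D →+* F,
      φ.comp ((MvPolynomial.aeval a : MvPolynomial (Fin t) R₀ →ₐ[R₀] D) :
        MvPolynomial (Fin t) R₀ →+* D) = MvPolynomial.eval₂Hom ρ (fun i => φ (a i)) := by
    intro φ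
    apply MvPolynomial.ringHom_ext
    · intro r
      simp only [RingHom.comp_apply, RingHom.coe_coe, MvPolynomial.aeval_C,
        MvPolynomial.eval₂Hom_C]
      exact congrArg (fun f => f r) (hρ' φ)
    · intro i
      simp
  have hmem : ∀ φ : D →+* F,
      (⟨fun i => φ (a i), fun j => φ (x j)⟩ : Σ _ : Fin t → F, (Fin n → F)) ∈ S := by
    intro φ
    simp only [S, Finset.mem_sigma, Finset.mem_univ, true_and, Fintype.mem_piFinset,
      Multiset.mem_toFinset]
    intro j
    rw [Polynomial.mem_roots (hne j ρ _), Polynomial.IsRoot, Polynomial.eval_map, ← hcomp φ,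
      ← Polynomial.hom_eval₂, hQ j, map_zero]
  let Φ : (D →+* F) → S := fun φ => ⟨_, hmem φ⟩
  have hΦ : Function.Injective Φ := by
    intro φ ψ h
    have h' : (⟨fun i => φ (a i), fun j => φ (x j)⟩ : Σ _ : Fin t → F, (Fin n → F)) =
        ⟨fun i => ψ (a i), fun j => ψ (x j)⟩ := congrArg Subtype.val h
    have h2 : (fun j => φ (x j)) = fun j => ψ (x j) := by
      have := (Sigma.mk.inj_iff.mp h').2
      exact eq_of_heq this
    exact ringHom_ext_of_adjoin x hx φ ψ ((hρ' φ).trans (hρ' ψ).symm) (fun j => congrFun h2 j)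
  refine ⟨Finite.of_injective Φ hΦ, ?_⟩
  calc Nat.card (D →+* F) ≤ Nat.card S := Nat.card_le_card_of_injective Φ hΦ
    _ = S.card := by rw [Nat.card_eq_fintype_card, Fintype.card_coe]
    _ ≤ (∏ j, (Q j).natDegree) * Nat.card F ^ t := by
      rw [Finset.card_sigma]
      calc ∑ α : Fin t → F, (Fintype.piFinset (fun j =>
              ((Q j).map (MvPolynomial.eval₂Hom ρ α)).roots.toFinset)).card
          ≤ ∑ _α : Fin t → F, ∏ j, (Q j).natDegree := by
            apply Finset.sum_le_sum
            intro α _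
            rw [Fintype.card_piFinset]
            apply Finset.prod_le_prod'
            intro j _
            exact (Multiset.toFinset_card_le _).trans
              ((Polynomial.card_roots' _).trans (Polynomial.natDegree_map_le))
        _ = (∏ j, (Q j).natDegree) * Nat.card F ^ t := by
            rw [Finset.sum_const, Finset.card_univ, Fintype.card_fun, Fintype.card_fin,
              Nat.card_eq_fintype_card, smul_eq_mul, mul_comm]

end Groth.Agent.H74.PtCount
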