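import Mathlib
import Groth.Agent.H54.IntegralDim
import Groth.Agent.H74.PtCount1

/-!
# Point counts: the case of a finitely generated algebra over a field (for S13070)
-/

set_option autoImplicit false

open Polynomial

namespace Groth.Agent.H74.PtCount

/-- Generators of a finite type algebra as a `Fin`-indexed family. -/
theorem exists_fin_generators (R A : Type*) [CommRing R] [CommRing A] [Algebra R A]
    [Algebra.FiniteType R A] :
    ∃ (n : ℕ) (x : Fin n → A), Algebra.adjoin R (Set.range x) = ⊤ := by
  obtain ⟨n, f, hf⟩ := Algebra.FiniteType.iff_quotient_mvPolynomial''.mp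
    (inferInstance : Algebra.FiniteType R A)
  refine ⟨n, fun j => f (MvPolynomial.X j), ?_⟩
  rw [Algebra.adjoin_range_eq_range_aeval]
  have : MvPolynomial.aeval (fun j => f (MvPolynomial.X j)) = f := by
    apply MvPolynomial.algHom_ext
    intro i
    simp
  rw [this]
  exact (AlgHom.range_eq_top f).mpr hf

theorem isEmpty_ringHom_of_subsingleton (B F : Type*) [CommRing B] [Subsingleton B] [Field F] :
    IsEmpty (B →+* F) :=
  ⟨fun φ => by
    have h1 : φ 1 = φ 0 := congrArg φ (Subsingleton.elim _ _)
    rw [map_one, map_zero] at h1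
    exact one_ne_zero h1⟩

/-- A finite type algebra of dimension `≤ r` over a field `k` has at most `c * q ^ r` points with
values in a finite field with `q` elements (admitting at most one map from `k`). -/
theorem field_case (k : Type*) [Field k] (B : Type*) [CommRing B] [Algebra k B]
    [Algebra.FiniteType k B] (r : ℕ) (hr : ringKrullDim B ≤ r) :
    ∃ c : ℕ, 0 < c ∧ ∀ (F : Type*) [Field F] [Finite F] [Subsingleton (k →+* F)],
      Finite (B →+* F) ∧ Nat.card (B →+* F) ≤ c * Nat.card F ^ r := by
  rcases subsingleton_or_nontrivial B with hB | hB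
  · refine ⟨1, one_pos, ?_⟩
    intro F _ _ _
    haveI := isEmpty_ringHom_of_subsingleton B F
    exact ⟨inferInstance, by simp⟩
  · obtain ⟨s, g, hinj, hint⟩ := exists_integral_inj_algHom_of_fg k B
    have hdim : ringKrullDim B = s := by
      rw [Groth.Agent.H54.ringKrullDim_eq_of_ringHom_isIntegral_of_injective g.toRingHom hint hinj,
        Groth.Agent.H54.ringKrullDim_mvPolynomial_field]
    have hsr : s ≤ r := by
      rw [hdim] at hr
      exact_mod_cast hr
    obtain ⟨n, x, hx⟩ := exists_fin_generators k B
    choose P hPm hP using fun j => hint (x j)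
    refine ⟨(∏ j, (P j).natDegree) + 1, Nat.succ_pos _, ?_⟩
    intro F _ _ _
    have hq : 1 ≤ Nat.card F := Nat.card_pos
    have hg : ((MvPolynomial.aeval (fun i => g (MvPolynomial.X i)) :
        MvPolynomial (Fin s) k →ₐ[k] B) : MvPolynomial (Fin s) k →+* B) = g.toRingHom := by
      have : MvPolynomial.aeval (fun i => g (MvPolynomial.X i)) = g := by
        apply MvPolynomial.algHom_ext
        intro i
        simp
      rw [this]
      rfl
    obtain ⟨hfin, hcard⟩ := card_ringHom_le (R₀ := k) (F := F) (fun i => g (MvPolynomial.X i)) x hx P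
      (fun j => by rw [hg]; exact hP j) (fun j ρ α => ((hPm j).map _).ne_zero)
    refine ⟨hfin, ?_⟩
    calc Nat.card (B →+* F) ≤ (∏ j, (P j).natDegree) * Nat.card F ^ s := hcard
      _ ≤ ((∏ j, (P j).natDegree) + 1) * Nat.card F ^ r :=
        Nat.mul_le_mul (Nat.le_succ _) (Nat.pow_le_pow_right hq hsr)

end Groth.Agent.H74.PtCount
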