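import Mathlib
import Groth.Agent.H54.IntegralDim
import Groth.Agent.H74.PtCount1
import Groth.Agent.H74.PtCount2

/-!
# Point counts: finitely generated `ℤ`-domains of characteristic zero (for S13070)

Generic Noether normalisation over `ℤ[1/N]`, in the form needed for counting points.
-/

set_option autoImplicit false

universe u

open Polynomial

namespace Groth.Agent.H74.PtCount

section Denominators

variable {σ : Type*}

/-- The coefficient map `ℤ[σ] → ℚ[σ]`. -/
noncomputable abbrev iota (σ : Type*) : MvPolynomial σ ℤ →+* MvPolynomial σ ℚ :=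
  MvPolynomial.map (Int.castRingHom ℚ)

theorem iota_injective (σ : Type*) : Function.Injective (iota σ) :=
  MvPolynomial.map_injective _ Int.cast_injective

theorem clear_mv (c : MvPolynomial σ ℚ) :
    ∃ (M : ℕ) (c' : MvPolynomial σ ℤ), M ≠ 0 ∧ iota σ c' = MvPolynomial.C (M : ℚ) * c := by
  induction c using MvPolynomial.induction_on with
  | C q =>
    refine ⟨q.den, MvPolynomial.C q.num, q.den_ne_zero, ?_⟩
    rw [iota, MvPolynomial.map_C, ← MvPolynomial.C_mul]
    congr 1
    rw [eq_intCast, Rat.den_mul_eq_num]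
  | add p q hp hq =>
    obtain ⟨M₁, p', h1, e1⟩ := hp
    obtain ⟨M₂, q', h2, e2⟩ := hq
    refine ⟨M₁ * M₂, MvPolynomial.C (M₂ : ℤ) * p' + MvPolynomial.C (M₁ : ℤ) * q',
      mul_ne_zero h1 h2, ?_⟩
    have hC : ∀ k : ℕ, iota σ (MvPolynomial.C (k : ℤ)) = MvPolynomial.C (k : ℚ) := by
      intro k
      simp [iota]
    rw [map_add, map_mul, map_mul, e1, e2, hC, hC, Nat.cast_mul, MvPolynomial.C_mul]
    ring
  | mul_X p i hp =>
    obtain ⟨M, p', h, e⟩ := hp
    exact ⟨M, p' * MvPolynomial.X i, h, by rw [map_mul, e, iota, MvPolynomial.map_X, mul_assoc]⟩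

theorem clear_poly (p : Polynomial (MvPolynomial σ ℚ)) :
    ∃ (M : ℕ) (p' : Polynomial (MvPolynomial σ ℤ)), M ≠ 0 ∧
      p'.map (iota σ) = Polynomial.C (MvPolynomial.C (M : ℚ)) * p := by
  induction p using Polynomial.induction_on' with
  | add p q hp hq =>
    obtain ⟨M₁, p', h1, e1⟩ := hp
    obtain ⟨M₂, q', h2, e2⟩ := hq
    refine ⟨M₁ * M₂, Polynomial.C (MvPolynomial.C (M₂ : ℤ)) * p' +
      Polynomial.C (MvPolynomial.C (M₁ : ℤ)) * q', mul_ne_zero h1 h2, ?_⟩
    have hC : ∀ k : ℕ, (Polynomial.C (MvPolynomial.C (k : ℤ))).map (iota σ) =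
        Polynomial.C (MvPolynomial.C (k : ℚ)) := by
      intro k
      simp [iota]
    rw [Polynomial.map_add, Polynomial.map_mul, Polynomial.map_mul, e1, e2, hC, hC, Nat.cast_mul,
      MvPolynomial.C_mul, Polynomial.C_mul]
    ring
  | monomial n c =>
    obtain ⟨M, c', h, e⟩ := clear_mv c
    exact ⟨M, Polynomial.monomial n c', h, by
      rw [Polynomial.map_monomial, e, Polynomial.C_mul_monomial]⟩

end Denominators

theorem char_zero_case (D : Type u) [CommRing D] [IsDomain D] [CharZero D]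
    [Algebra.FiniteType ℤ D]
    (hdimLem : ∀ (E : Type u) [CommRing E] [Algebra D E]
      [IsLocalization (Algebra.algebraMapSubmonoid D (nonZeroDivisors ℤ)) E] (s : ℕ),
      ringKrullDim E = s → ((s + 1 : ℕ) : WithBot ℕ∞) ≤ ringKrullDim D)
    (r : ℕ) (hr : ringKrullDim D ≤ r) :
    ∃ c N : ℕ, 0 < c ∧ 0 < N ∧ ∀ (F : Type*) [Field F] [Finite F], (N : F) ≠ 0 →
      Nat.card (D →+* F) * Nat.card F ≤ c * Nat.card F ^ r := by
  classical
  set S_D := Algebra.algebraMapSubmonoid D (nonZeroDivisors ℤ) with hS_D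
  have hle : S_D ≤ nonZeroDivisors D := by
    rintro _ ⟨m, hm, rfl⟩
    apply mem_nonZeroDivisors_of_ne_zero
    rw [algebraMap_int_eq, eq_intCast, Int.cast_ne_zero]
    exact nonZeroDivisors.ne_zero hm
  let E := Localization S_D
  letI : Algebra ℚ E := localizationAlgebra (nonZeroDivisors ℤ) D
  have hinjE : Function.Injective (algebraMap D E) := IsLocalization.injective E hle
  haveI : IsDomain E := IsLocalization.isDomain_of_le_nonZeroDivisors E hle
  obtain ⟨n, x, hx⟩ := exists_fin_generators ℤ D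
  have hDE : ∀ d : D, algebraMap D E d ∈
      Algebra.adjoin ℚ (Set.range (fun j => algebraMap D E (x j))) := by
    intro d
    have hd : d ∈ Algebra.adjoin ℤ (Set.range x) := by rw [hx]; trivial
    induction hd using Algebra.adjoin_induction with
    | mem y hy =>
      obtain ⟨j, rfl⟩ := hy
      exact Algebra.subset_adjoin ⟨j, rfl⟩
    | algebraMap k =>
      have : algebraMap D E (algebraMap ℤ D k) = algebraMap ℚ E (k : ℚ) := by simp
      rw [this]
      exact Subalgebra.algebraMap_mem _ _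
    | add y z _ _ hy hz => rw [map_add]; exact add_mem hy hz
    | mul y z _ _ hy hz => rw [map_mul]; exact mul_mem hy hz
  have hsurj : ∀ z : E, ∃ (d : D) (m : ℤ), m ≠ 0 ∧ (m : E) * z = algebraMap D E d := by
    intro z
    obtain ⟨⟨d, ⟨nn, hnn⟩⟩, h⟩ := IsLocalization.surj S_D z
    obtain ⟨m, hm, rfl⟩ := hnn
    refine ⟨d, m, nonZeroDivisors.ne_zero hm, ?_⟩
    rw [mul_comm]
    simpa using h
  have hxE : Algebra.adjoin ℚ (Set.range (fun j => algebraMap D E (x j))) = ⊤ := by
    rw [eq_top_iff]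
    rintro z -
    obtain ⟨d, m, hm0, h⟩ := hsurj z
    have hmq : (m : ℚ) ≠ 0 := Int.cast_ne_zero.mpr hm0
    have hmE : (m : E) = algebraMap ℚ E (m : ℚ) := by simp
    have : z = algebraMap ℚ E ((m : ℚ)⁻¹) * algebraMap D E d := by
      rw [← h, hmE, ← mul_assoc, ← map_mul, inv_mul_cancel₀ hmq, map_one, one_mul]
    rw [this]
    exact mul_mem (Subalgebra.algebraMap_mem _ _) (hDE d)
  haveI : Algebra.FiniteType ℚ E :=
    ⟨⟨Finset.univ.image (fun j => algebraMap D E (x j)), by
      rw [Finset.coe_image, Finset.coe_univ, Set.image_univ]; exact hxE⟩⟩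
  obtain ⟨s, g, hginj, hgint⟩ := exists_integral_inj_algHom_of_fg ℚ E
  have hdimE : ringKrullDim E = s := by
    rw [Groth.Agent.H54.ringKrullDim_eq_of_ringHom_isIntegral_of_injective g.toRingHom hgint hginj,
      Groth.Agent.H54.ringKrullDim_mvPolynomial_field]
  have hs1 : s + 1 ≤ r := by
    have := (hdimLem E s hdimE).trans hr
    exact_mod_cast this
  choose a m hm0 hay using fun i => hsurj (g (MvPolynomial.X i))
  let g' : MvPolynomial (Fin s) ℚ →ₐ[ℚ] E := MvPolynomial.aeval (fun i => algebraMap D E (a i))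
  let τ : MvPolynomial (Fin s) ℚ →ₐ[ℚ] MvPolynomial (Fin s) ℚ :=
    MvPolynomial.aeval (fun i => MvPolynomial.C ((m i : ℚ)⁻¹) * MvPolynomial.X i)
  have hcomp : g'.comp τ = g := by
    apply MvPolynomial.algHom_ext
    intro i
    have hmq : (m i : ℚ) ≠ 0 := Int.cast_ne_zero.mpr (hm0 i)
    have hmE : (m i : E) = algebraMap ℚ E (m i : ℚ) := by simp
    simp only [AlgHom.comp_apply, τ, g', MvPolynomial.aeval_X, map_mul, MvPolynomial.aeval_C]
    rw [← hay i, hmE, ← mul_assoc, ← map_mul, inv_mul_cancel₀ hmq, map_one, one_mul]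
  -- integral equations for the generators
  have hP : ∀ j, ∃ P : Polynomial (MvPolynomial (Fin s) ℚ), P.Monic ∧
      P.eval₂ (g' : MvPolynomial (Fin s) ℚ →+* E) (algebraMap D E (x j)) = 0 := by
    intro j
    obtain ⟨P, hPm, hP0⟩ := hgint (algebraMap D E (x j))
    refine ⟨P.map (τ : MvPolynomial (Fin s) ℚ →+* MvPolynomial (Fin s) ℚ), hPm.map _, ?_⟩
    rw [Polynomial.eval₂_map]
    have : (g' : MvPolynomial (Fin s) ℚ →+* E).comp
        (τ : MvPolynomial (Fin s) ℚ →+* MvPolynomial (Fin s) ℚ) = g.toRingHom := by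
      rw [← hcomp]; rfl
    rw [this]
    exact hP0
  choose P hPm hP0 using hP
  choose M Q hM0 hQP using fun j => clear_poly (P j)
  have hring : (algebraMap D E).comp
      ((MvPolynomial.aeval a : MvPolynomial (Fin s) ℤ →ₐ[ℤ] D) : MvPolynomial (Fin s) ℤ →+* D) =
      (g' : MvPolynomial (Fin s) ℚ →+* E).comp (iota (Fin s)) := by
    apply MvPolynomial.ringHom_ext
    · intro k
      simp [g', iota]
    · intro i
      simp [g', iota]
  have hQ : ∀ j, (Q j).eval₂
      ((MvPolynomial.aeval a : MvPolynomial (Fin s) ℤ →ₐ[ℤ] D) : MvPolynomial (Fin s) ℤ →+* D)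
      (x j) = 0 := by
    intro j
    apply hinjE
    rw [Polynomial.hom_eval₂, hring, ← Polynomial.eval₂_map, hQP j, Polynomial.eval₂_mul,
      hP0 j, mul_zero, map_zero]
  have hcoeff : ∀ j, (Q j).coeff (P j).natDegree = MvPolynomial.C (M j : ℤ) := by
    intro j
    apply iota_injective
    have h1 : iota (Fin s) ((Q j).coeff (P j).natDegree) =
        ((Q j).map (iota (Fin s))).coeff (P j).natDegree := (Polynomial.coeff_map _ _).symm
    rw [h1, hQP j, Polynomial.coeff_C_mul, (hPm j).coeff_natDegree, mul_one]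
    simp [iota]
  refine ⟨(∏ j, (Q j).natDegree) + 1, ∏ j, M j, Nat.succ_pos _,
    Nat.pos_of_ne_zero (Finset.prod_ne_zero_iff.mpr (fun j _ => hM0 j)), ?_⟩
  intro F _ _ hN
  have hMF : ∀ j, ((M j : ℕ) : F) ≠ 0 := by
    intro j
    rw [Nat.cast_prod] at hN
    exact (Finset.prod_ne_zero_iff.mp hN) j (Finset.mem_univ j)
  have hne : ∀ j (ρ : ℤ →+* F) (α : Fin s → F),
      (Q j).map (MvPolynomial.eval₂Hom ρ α) ≠ 0 := by
    intro j ρ α h0
    have h1 : ((Q j).map (MvPolynomial.eval₂Hom ρ α)).coeff (P j).natDegree = 0 := by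
      rw [h0, Polynomial.coeff_zero]
    rw [Polynomial.coeff_map, hcoeff j, MvPolynomial.eval₂Hom_C] at h1
    apply hMF j
    rw [← h1]
    simp
  obtain ⟨_, hcard⟩ := card_ringHom_le (R₀ := ℤ) (F := F) a x hx Q hQ hne
  have hq : 1 ≤ Nat.card F := Nat.card_pos
  calc Nat.card (D →+* F) * Nat.card F
      ≤ ((∏ j, (Q j).natDegree) * Nat.card F ^ s) * Nat.card F := Nat.mul_le_mul_right _ hcard
    _ = (∏ j, (Q j).natDegree) * Nat.card F ^ (s + 1) := by rw [pow_succ, mul_assoc]
    _ ≤ ((∏ j, (Q j).natDegree) + 1) * Nat.card F ^ r :=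
        Nat.mul_le_mul (Nat.le_succ _) (Nat.pow_le_pow_right hq hs1)

end Groth.Agent.H74.PtCount
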