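import Mathlib
import Groth.Agent.H74.PtCount3

/-!
# Point counts of finitely generated rings: ring-level main theorem (for S13070)
-/

set_option autoImplicit false

universe u

open Polynomial TensorProduct

namespace Groth.Agent.H74.PtCount

/-- The hypothesis form of the dimension lemma (DIM). -/
def DimLemma : Prop :=
  ∀ (D : Type u) [CommRing D] [IsDomain D] [CharZero D] [Algebra.FiniteType ℤ D]
    (E : Type u) [CommRing E] [Algebra D E]
    [IsLocalization (Algebra.algebraMapSubmonoid D (nonZeroDivisors ℤ)) E] (s : ℕ),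
    ringKrullDim E = s → ((s + 1 : ℕ) : WithBot ℕ∞) ≤ ringKrullDim D

theorem finiteType_quotient (A : Type*) [CommRing A] [Algebra.FiniteType ℤ A] (I : Ideal A) :
    @Algebra.FiniteType ℤ (A ⧸ I) _ _ (Ring.toIntAlgebra _) := by
  have h : Algebra.FiniteType ℤ (A ⧸ I) :=
    Algebra.FiniteType.of_surjective (Ideal.Quotient.mkₐ ℤ I) (Ideal.Quotient.mkₐ_surjective ℤ I)
  have e : (Ideal.instAlgebraQuotient ℤ I : Algebra ℤ (A ⧸ I)) = Ring.toIntAlgebra _ :=
    Subsingleton.elim _ _
  exact e ▸ h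

theorem domain_case (hdimLem : DimLemma.{u}) (D : Type u) [CommRing D] [IsDomain D]
    [Algebra.FiniteType ℤ D] (r : ℕ) (hr : ringKrullDim D ≤ r) :
    ∃ c p₀ : ℕ, 0 < c ∧ ∀ (F : Type u) [Field F] [Finite F], p₀ ≤ ringChar F →
      Nat.card (D →+* F) * Nat.card F ≤ c * Nat.card F ^ r := by
  obtain ⟨ℓ, hℓ⟩ := CharP.exists D
  rcases CharP.char_is_prime_or_zero D ℓ with hp | h0
  · refine ⟨1, ℓ + 1, one_pos, ?_⟩
    intro F _ _ hF
    have : IsEmpty (D →+* F) := ⟨fun φ => by
      have h1 : ((ℓ : ℕ) : F) = 0 := by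
        rw [← map_natCast φ, CharP.cast_eq_zero D ℓ, map_zero]
      have h2 : ringChar F ∣ ℓ := ringChar.dvd h1
      have h3 := Nat.le_of_dvd hp.pos h2
      omega⟩
    simp
  · subst h0
    haveI : CharZero D := CharP.charP_to_charZero D
    obtain ⟨c, N, hc, hN, h⟩ := char_zero_case D (fun E _ _ _ s hs => hdimLem D E s hs) r hr
    refine ⟨c, N + 1, hc, ?_⟩
    intro F _ _ hF
    apply h F
    intro h1
    have h2 : ringChar F ∣ N := ringChar.dvd h1
    have h3 := Nat.le_of_dvd hN h2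
    omega

theorem weak_case (A : Type u) [CommRing A] [Algebra.FiniteType ℤ A] (r : ℕ)
    (hr : ringKrullDim A ≤ r) (p : ℕ) [Fact p.Prime] :
    ∃ c : ℕ, 0 < c ∧ ∀ (F : Type u) [Field F] [Finite F], ringChar F = p →
      Nat.card (A →+* F) ≤ c * Nat.card F ^ r := by
  let B := ZMod p ⊗[ℤ] A
  have hsurj : Function.Surjective
      (Algebra.TensorProduct.includeRight : A →ₐ[ℤ] ZMod p ⊗[ℤ] A) := by
    intro z
    induction z using TensorProduct.induction_on with
    | zero => exact ⟨0, map_zero _⟩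
    | tmul y a =>
      obtain ⟨k, rfl⟩ := ZMod.intCast_surjective y
      refine ⟨k • a, ?_⟩
      rw [Algebra.TensorProduct.includeRight_apply, TensorProduct.tmul_smul,
        TensorProduct.smul_tmul', zsmul_eq_mul, mul_one]
    | add y z hy hz =>
      obtain ⟨a, rfl⟩ := hy
      obtain ⟨b, rfl⟩ := hz
      exact ⟨a + b, map_add _ _ _⟩
  have hdim : ringKrullDim B ≤ r :=
    (ringKrullDim_le_of_surjective
      (Algebra.TensorProduct.includeRight : A →ₐ[ℤ] ZMod p ⊗[ℤ] A).toRingHom hsurj).trans hr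
  obtain ⟨c, hc, h⟩ := field_case (ZMod p) B r hdim
  refine ⟨c, hc, ?_⟩
  intro F _ _ hF
  haveI : CharP F p := hF ▸ ringChar.charP F
  obtain ⟨hfin, hcard⟩ := h F
  let f0 : ZMod p →ₐ[ℤ] F := (ZMod.castHom (dvd_refl p) F).toIntAlgHom
  let Φ : (A →+* F) → (B →+* F) := fun φ =>
    (Algebra.TensorProduct.productMap f0 φ.toIntAlgHom).toRingHom
  have hΦ : Function.Injective Φ := by
    intro φ ψ h
    ext a
    have h1 : (Algebra.TensorProduct.productMap f0 φ.toIntAlgHom) ((1 : ZMod p) ⊗ₜ[ℤ] a) =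
        (Algebra.TensorProduct.productMap f0 ψ.toIntAlgHom) ((1 : ZMod p) ⊗ₜ[ℤ] a) :=
      congrArg (fun θ : B →+* F => θ ((1 : ZMod p) ⊗ₜ[ℤ] a)) h
    rw [Algebra.TensorProduct.productMap_apply_tmul, Algebra.TensorProduct.productMap_apply_tmul,
      map_one, one_mul, one_mul] at h1
    exact h1
  exact (Nat.card_le_card_of_injective Φ hΦ).trans hcard

theorem card_le_sum_minimalPrimes (A : Type u) [CommRing A] [Algebra.FiniteType ℤ A]
    [Fintype (minimalPrimes A)] (F : Type u) [Field F] [Finite F] :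
    Nat.card (A →+* F) ≤ ∑ P : minimalPrimes A, Nat.card ((A ⧸ (P : Ideal A)) →+* F) := by
  classical
  haveI : ∀ P : minimalPrimes A, Finite ((A ⧸ (P : Ideal A)) →+* F) := fun P => by
    haveI := finiteType_quotient A (P : Ideal A)
    exact finite_ringHom _ F
  have hex : ∀ φ : A →+* F, ∃ P : minimalPrimes A, (P : Ideal A) ≤ RingHom.ker φ := by
    intro φ
    haveI : (RingHom.ker φ).IsPrime := RingHom.ker_isPrime φ
    obtain ⟨P, hP, hle⟩ := Ideal.exists_minimalPrimes_le (bot_le : (⊥ : Ideal A) ≤ RingHom.ker φ)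
    exact ⟨⟨P, hP⟩, hle⟩
  choose Pφ hPφ using hex
  let Φ : (A →+* F) → (Σ P : minimalPrimes A, ((A ⧸ (P : Ideal A)) →+* F)) := fun φ =>
    ⟨Pφ φ, Ideal.Quotient.lift _ φ (fun a ha => RingHom.mem_ker.mp (hPφ φ ha))⟩
  let Ψ : (Σ P : minimalPrimes A, ((A ⧸ (P : Ideal A)) →+* F)) → (A →+* F) := fun z =>
    z.2.comp (Ideal.Quotient.mk _)
  have hΨΦ : Function.LeftInverse Ψ Φ := by
    intro φ
    ext a
    simp [Φ, Ψ]
  calc Nat.card (A →+* F)
      ≤ Nat.card (Σ P : minimalPrimes A, ((A ⧸ (P : Ideal A)) →+* F)) :=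
        Nat.card_le_card_of_injective Φ hΨΦ.injective
    _ = ∑ P : minimalPrimes A, Nat.card ((A ⧸ (P : Ideal A)) →+* F) := Nat.card_sigma

theorem ring_main (hdimLem : DimLemma.{u}) (A : Type u) [CommRing A] [Algebra.FiniteType ℤ A]
    (r : ℕ) (hr : ringKrullDim A ≤ r) :
    ∃ c p₀ : ℕ, 0 < c ∧ ∀ (F : Type u) [Field F] [Finite F],
      Nat.card (A →+* F) ≤ c * Nat.card F ^ r ∧
      (p₀ ≤ ringChar F → Nat.card (A →+* F) * Nat.card F ≤ c * Nat.card F ^ r) := by
  classical
  haveI : IsNoetherianRing A := Algebra.FiniteType.isNoetherianRing ℤ A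
  have hfin : (minimalPrimes A).Finite := minimalPrimes.finite_of_isNoetherianRing A
  letI : Fintype (minimalPrimes A) := hfin.fintype
  have hdom : ∀ P : minimalPrimes A, ∃ c p₀ : ℕ, 0 < c ∧ ∀ (F : Type u) [Field F] [Finite F],
      p₀ ≤ ringChar F →
      Nat.card ((A ⧸ (P : Ideal A)) →+* F) * Nat.card F ≤ c * Nat.card F ^ r := by
    intro P
    haveI : (P : Ideal A).IsPrime := Ideal.minimalPrimes_isPrime P.2
    haveI := finiteType_quotient A (P : Ideal A)
    exact domain_case hdimLem _ r ((ringKrullDim_quotient_le _).trans hr)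
  choose cP pP hcP hP using hdom
  have hweak : ∀ p : ℕ, ∃ c : ℕ, 0 < c ∧ ∀ (F : Type u) [Field F] [Finite F], ringChar F = p →
      Nat.card (A →+* F) ≤ c * Nat.card F ^ r := by
    intro p
    by_cases hp : p.Prime
    · haveI := Fact.mk hp
      exact weak_case A r hr p
    · refine ⟨1, one_pos, ?_⟩
      intro F _ _ hF
      exfalso
      haveI := ringChar.charP F
      exact hp (hF ▸ CharP.char_is_prime F (ringChar F))
  choose cw hcw hw using hweak
  set p₁ := ∑ P, pP P with hp₁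
  refine ⟨(∑ P, cP P) + (∑ p ∈ Finset.range p₁, cw p) + 1, p₁, Nat.succ_pos _, ?_⟩
  intro F _ _
  have hq : 1 ≤ Nat.card F := Nat.card_pos
  have hstrong : p₁ ≤ ringChar F →
      Nat.card (A →+* F) * Nat.card F ≤ (∑ P, cP P) * Nat.card F ^ r := by
    intro h
    calc Nat.card (A →+* F) * Nat.card F
        ≤ (∑ P : minimalPrimes A, Nat.card ((A ⧸ (P : Ideal A)) →+* F)) * Nat.card F :=
          Nat.mul_le_mul_right _ (card_le_sum_minimalPrimes A F)
      _ = ∑ P : minimalPrimes A, Nat.card ((A ⧸ (P : Ideal A)) →+* F) * Nat.card F :=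
          Finset.sum_mul _ _ _
      _ ≤ ∑ P : minimalPrimes A, cP P * Nat.card F ^ r := by
          apply Finset.sum_le_sum
          intro P _
          apply hP P F
          exact (Finset.single_le_sum (f := pP) (fun _ _ => Nat.zero_le _)
            (Finset.mem_univ P)).trans h
      _ = (∑ P, cP P) * Nat.card F ^ r := (Finset.sum_mul _ _ _).symm
  constructor
  · by_cases h : p₁ ≤ ringChar F
    · calc Nat.card (A →+* F) ≤ Nat.card (A →+* F) * Nat.card F := Nat.le_mul_of_pos_right _ hq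
        _ ≤ (∑ P, cP P) * Nat.card F ^ r := hstrong h
        _ ≤ _ := Nat.mul_le_mul_right _ (by omega)
    · push_neg at h
      calc Nat.card (A →+* F) ≤ cw (ringChar F) * Nat.card F ^ r := hw (ringChar F) F rfl
        _ ≤ _ := by
          apply Nat.mul_le_mul_right
          have := Finset.single_le_sum (f := cw) (fun _ _ => Nat.zero_le _)
            (Finset.mem_range.mpr h)
          omega
  · intro h
    exact (hstrong h).trans (Nat.mul_le_mul_right _ (by omega))

end Groth.Agent.H74.PtCount
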