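import Mathlib

/-!
Explicit elements of `SL(2, K)` of finite order: the matrix `S c = [[c, c^2-1],[1, c]]`, which has
eigenvalues `ξ, ξ⁻¹` whenever `2c = ξ + ξ⁻¹`.
-/

namespace Groth.Agent.H74.SL2

open Matrix

variable {K : Type*} {L : Type*} [Field K] [Field L] [Algebra K L]

/-- The matrix `[[c, c^2-1],[1, c]]`. -/
def S (c : K) : Matrix (Fin 2) (Fin 2) K := !![c, c ^ 2 - 1; 1, c]

lemma det_S (c : K) : (S c).det = 1 := by
  rw [S, Matrix.det_fin_two_of]; ring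

/-- `S c` as an element of `SL(2, K)`. -/
def σ (c : K) : Matrix.SpecialLinearGroup (Fin 2) K := ⟨S c, det_S c⟩

lemma eta_sq (ξ : L) (hξ0 : ξ ≠ 0) (c : K) (hc : algebraMap K L (2 * c) = ξ + ξ⁻¹) :
    (ξ - algebraMap K L c) ^ 2 = (algebraMap K L c) ^ 2 - 1 := by
  have h2c : 2 * algebraMap K L c = ξ + ξ⁻¹ := by rw [← hc, map_mul, map_ofNat]
  have hmul : ξ * ξ⁻¹ = 1 := mul_inv_cancel₀ hξ0
  linear_combination (-ξ) * h2c - hmul

lemma inv_eq (ξ : L) (c : K) (hc : algebraMap K L (2 * c) = ξ + ξ⁻¹) :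
    ξ⁻¹ = 2 * algebraMap K L c - ξ := by
  have h2c : 2 * algebraMap K L c = ξ + ξ⁻¹ := by rw [← hc, map_mul, map_ofNat]
  linear_combination -h2c

lemma eta_ne_zero (ξ : L) (hξ0 : ξ ≠ 0) (h2 : ξ ^ 2 ≠ 1) (c : K)
    (hc : algebraMap K L (2 * c) = ξ + ξ⁻¹) : ξ - algebraMap K L c ≠ 0 := by
  intro h0
  apply h2
  have hinv := inv_eq ξ c hc
  have hmul : ξ * ξ⁻¹ = 1 := mul_inv_cancel₀ hξ0
  rw [hinv] at hmul
  linear_combination hmul + ξ * h0 * 2

/-- The shape of the powers of `S c`. -/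
lemma pow_form (ξ : L) (hξ0 : ξ ≠ 0) (c : K) (hc : algebraMap K L (2 * c) = ξ + ξ⁻¹) (i : ℕ) :
    ∃ a b : K, S c ^ i = !![a, b * (c ^ 2 - 1); b, a] ∧
      algebraMap K L a + algebraMap K L b * (ξ - algebraMap K L c) = ξ ^ i ∧
      algebraMap K L a - algebraMap K L b * (ξ - algebraMap K L c) = ξ⁻¹ ^ i := by
  have hη2 := eta_sq ξ hξ0 c hc
  have hinv := inv_eq ξ c hc
  induction i with
  | zero =>
    refine ⟨1, 0, ?_, by simp, by simp⟩
    rw [pow_zero, Matrix.one_fin_two, zero_mul]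
  | succ i ih =>
    obtain ⟨a, b, hS, h1, h2⟩ := ih
    refine ⟨a * c + b * (c ^ 2 - 1), a + b * c, ?_, ?_, ?_⟩
    · rw [pow_succ, hS, S, Matrix.mul_fin_two]
      ext i j
      fin_cases i <;> fin_cases j <;> simp <;> ring
    · rw [pow_succ ξ i, ← h1]
      simp only [map_add, map_mul, map_sub, map_pow, map_one]
      linear_combination (-(algebraMap K L b)) * hη2
    · rw [pow_succ ξ⁻¹ i, ← h2, hinv]
      simp only [map_add, map_mul, map_sub, map_pow, map_one]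
      linear_combination (-(algebraMap K L b)) * hη2

lemma two_ne_zero' [CharZero K] : (2 : L) ≠ 0 := by
  have : CharZero L := charZero_of_injective_algebraMap (algebraMap K L).injective
  exact two_ne_zero

lemma pow_eq_one_iff [CharZero K] (ξ : L) (hξ0 : ξ ≠ 0) (h2 : ξ ^ 2 ≠ 1) (c : K)
    (hc : algebraMap K L (2 * c) = ξ + ξ⁻¹) (i : ℕ) : S c ^ i = 1 ↔ ξ ^ i = 1 := by
  obtain ⟨a, b, hS, h1, h2'⟩ := pow_form ξ hξ0 c hc i
  have hη0 := eta_ne_zero ξ hξ0 h2 c hc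
  constructor
  · intro h
    rw [hS] at h
    have h00 := congr_fun (congr_fun h 0) 0
    have h10 := congr_fun (congr_fun h 1) 0
    simp at h00 h10
    rw [← h1, h00, h10]
    simp
  · intro h
    have h' : ξ⁻¹ ^ i = 1 := by rw [inv_pow, h, inv_one]
    rw [h] at h1
    rw [h'] at h2'
    have hb : algebraMap K L b = 0 := by
      have : 2 * (algebraMap K L b * (ξ - algebraMap K L c)) = 0 := by linear_combination h1 - h2'
      rcases mul_eq_zero.mp this with h | h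
      · exact absurd h (two_ne_zero' (K := K))
      · exact (mul_eq_zero.mp h).resolve_right hη0
    have ha : algebraMap K L a = 1 := by rw [hb, zero_mul, add_zero] at h1; exact h1
    have hb' : b = 0 := (algebraMap K L).injective (by rw [hb, map_zero])
    have ha' : a = 1 := (algebraMap K L).injective (by rw [ha, map_one])
    rw [hS, ha', hb', zero_mul, Matrix.one_fin_two]

lemma pow_eq_neg_one [CharZero K] (ξ : L) (hξ0 : ξ ≠ 0) (h2 : ξ ^ 2 ≠ 1) (c : K)
    (hc : algebraMap K L (2 * c) = ξ + ξ⁻¹) (i : ℕ) (h : ξ ^ i = -1) : S c ^ i = -1 := by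
  obtain ⟨a, b, hS, h1, h2'⟩ := pow_form ξ hξ0 c hc i
  have hη0 := eta_ne_zero ξ hξ0 h2 c hc
  have h' : ξ⁻¹ ^ i = -1 := by rw [inv_pow, h, inv_neg, inv_one]
  rw [h] at h1
  rw [h'] at h2'
  have hb : algebraMap K L b = 0 := by
    have : 2 * (algebraMap K L b * (ξ - algebraMap K L c)) = 0 := by linear_combination h1 - h2'
    rcases mul_eq_zero.mp this with h | h
    · exact absurd h (two_ne_zero' (K := K))
    · exact (mul_eq_zero.mp h).resolve_right hη0
  have ha : algebraMap K L a = -1 := by rw [hb, zero_mul, add_zero] at h1; exact h1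
  have hb' : b = 0 := (algebraMap K L).injective (by rw [hb, map_zero])
  have ha' : a = -1 := (algebraMap K L).injective (by rw [ha, map_neg, map_one])
  rw [hS, ha', hb', zero_mul]
  ext i j
  fin_cases i <;> fin_cases j <;> simp

lemma σ_pow_eq_one_iff [CharZero K] (ξ : L) (hξ0 : ξ ≠ 0) (h2 : ξ ^ 2 ≠ 1) (c : K)
    (hc : algebraMap K L (2 * c) = ξ + ξ⁻¹) (i : ℕ) : σ c ^ i = 1 ↔ ξ ^ i = 1 := by
  rw [← pow_eq_one_iff ξ hξ0 h2 c hc i]
  have hcoe : ((σ c ^ i : Matrix.SpecialLinearGroup (Fin 2) K) : Matrix (Fin 2) (Fin 2) K)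
      = S c ^ i := by
    rw [Matrix.SpecialLinearGroup.coe_pow]
    rfl
  constructor
  · intro h
    rw [← hcoe, h, Matrix.SpecialLinearGroup.coe_one]
  · intro h
    apply Subtype.ext
    rw [hcoe, h, Matrix.SpecialLinearGroup.coe_one]

lemma orderOf_σ [CharZero K] (ξ : L) (hξ0 : ξ ≠ 0) (h2 : ξ ^ 2 ≠ 1) (c : K)
    (hc : algebraMap K L (2 * c) = ξ + ξ⁻¹) : orderOf (σ c) = orderOf ξ :=
  orderOf_eq_orderOf_iff.mpr (σ_pow_eq_one_iff ξ hξ0 h2 c hc)

end Groth.Agent.H74.SL2
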