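import Mathlib
import Groth.Agent.H74.SL2

/-!
Embedding the generalized quaternion group in a group via generators and relations, and in
`SL(2, K)`.
-/

namespace Groth.Agent.H74.SL2

open Matrix

section abstract

variable {G : Type*} [Group G] {n : ℕ} [NeZero n]

/-- A group with elements `s` of order `2n` and `t` with `s t s = t`, `t² = sⁿ`, `t ∉ ⟨s⟩` contains
the quaternion group of order `4n`. -/
theorem exists_quaternionGroup_hom (s t : G) (hord : orderOf s = 2 * n) (h1 : s * t * s = t)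
    (h2 : t * t = s ^ n) (h4 : ∀ k : ℕ, t * s ^ k ≠ 1) :
    ∃ f : QuaternionGroup n →* G, Function.Injective f := by
  let pw : ZMod (2 * n) → G := fun i => s ^ i.val
  have pw_add : ∀ i j : ZMod (2 * n), pw (i + j) = pw i * pw j := by
    intro i j
    show s ^ (i + j).val = s ^ i.val * s ^ j.val
    have hmod := pow_mod_orderOf s (i.val + j.val)
    rw [hord] at hmod
    rw [ZMod.val_add, ← pow_add, hmod]
  have pw_zero : pw 0 = 1 := by
    show s ^ (0 : ZMod (2 * n)).val = 1
    rw [ZMod.val_zero, pow_zero]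
  have pw_nat : ∀ k : ℕ, pw (k : ZMod (2 * n)) = s ^ k := by
    intro k
    show s ^ (k : ZMod (2 * n)).val = s ^ k
    have hmod := pow_mod_orderOf s k
    rw [hord] at hmod
    rw [ZMod.val_natCast, hmod]
  have pw_neg : ∀ i : ZMod (2 * n), pw (-i) = (pw i)⁻¹ := by
    intro i
    rw [eq_inv_iff_mul_eq_one, ← pw_add, neg_add_cancel, pw_zero]
  have hsemi : SemiconjBy t s⁻¹ s := (eq_mul_inv_of_mul_eq h1).symm
  have hcomm : ∀ i : ZMod (2 * n), pw i * t = t * (pw i)⁻¹ := by
    intro i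
    have := hsemi.pow_right i.val
    show s ^ i.val * t = t * (s ^ i.val)⁻¹
    rw [← inv_pow]
    exact this.eq.symm
  let f : QuaternionGroup n → G := fun g =>
    match g with
    | QuaternionGroup.a i => pw i
    | QuaternionGroup.xa i => t * pw i
  have hf_mul : ∀ g h : QuaternionGroup n, f (g * h) = f g * f h := by
    rintro (i | i) (j | j)
    · rw [QuaternionGroup.a_mul_a]
      exact pw_add i j
    · rw [QuaternionGroup.a_mul_xa]
      show t * pw (j - i) = pw i * (t * pw j)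
      rw [sub_eq_neg_add, pw_add, pw_neg, ← mul_assoc, ← mul_assoc, hcomm]
    · rw [QuaternionGroup.xa_mul_a]
      show t * pw (i + j) = t * pw i * pw j
      rw [pw_add, mul_assoc]
    · rw [QuaternionGroup.xa_mul_xa]
      show pw ((n : ZMod (2 * n)) + j - i) = t * pw i * (t * pw j)
      have e : (n : ZMod (2 * n)) + j - i = (n : ZMod (2 * n)) + (-i + j) := by ring
      rw [e, pw_add, pw_add, pw_neg, pw_nat, ← h2]
      calc t * t * ((pw i)⁻¹ * pw j) = t * (t * (pw i)⁻¹) * pw j := by group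
        _ = t * (pw i * t) * pw j := by rw [hcomm]
        _ = t * pw i * (t * pw j) := by group
  refine ⟨MonoidHom.mk' f hf_mul, ?_⟩
  rw [injective_iff_map_eq_one]
  rintro (i | i) h
  · have h' : s ^ i.val = 1 := h
    have hdvd : orderOf s ∣ i.val := orderOf_dvd_of_pow_eq_one h'
    rw [hord] at hdvd
    have hlt : i.val < 2 * n := ZMod.val_lt i
    have h0 : i.val = 0 := Nat.eq_zero_of_dvd_of_lt hdvd hlt
    rw [(ZMod.val_eq_zero i).mp h0, QuaternionGroup.a_zero]
  · exact absurd h (h4 i.val)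

end abstract

variable {K : Type*} {L : Type*} [Field K] [Field L] [Algebra K L]

lemma of_eq {α : Type*} (a b c d a' b' c' d' : α) (h1 : a = a') (h2 : b = b') (h3 : c = c')
    (h4 : d = d') : !![a, b; c, d] = !![a', b'; c', d'] := by
  subst h1 h2 h3 h4
  rfl

/-- The matrix `(x + y ω) J`. -/
def T (c x y : K) : Matrix (Fin 2) (Fin 2) K := !![x, -(y * (c ^ 2 - 1)); y, -x]

lemma det_T (c x y : K) (hxy : x ^ 2 - (c ^ 2 - 1) * y ^ 2 = -1) : (T c x y).det = 1 := by
  rw [T, Matrix.det_fin_two_of]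
  linear_combination -hxy

lemma T_mul_T (c x y : K) (hxy : x ^ 2 - (c ^ 2 - 1) * y ^ 2 = -1) : T c x y * T c x y = -1 := by
  have e : T c x y * T c x y
      = !![x ^ 2 - (c ^ 2 - 1) * y ^ 2, 0; 0, x ^ 2 - (c ^ 2 - 1) * y ^ 2] := by
    rw [T, Matrix.mul_fin_two]
    apply of_eq <;> ring
  rw [e, hxy]
  ext i j
  fin_cases i <;> fin_cases j <;> simp

lemma S_mul_T_mul_S (c x y : K) : S c * T c x y * S c = T c x y := by
  rw [S, T, Matrix.mul_fin_two, Matrix.mul_fin_two]
  apply of_eq <;> ring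

theorem exists_quaternionGroup_hom_SL2 [CharZero K] (n : ℕ) (hn : 2 ≤ n) (ξ : L)
    (hξ : IsPrimitiveRoot ξ (2 * n)) (c : K) (hc : algebraMap K L (2 * c) = ξ + ξ⁻¹)
    (x y : K) (hxy : x ^ 2 - (c ^ 2 - 1) * y ^ 2 = -1) :
    ∃ f : QuaternionGroup n →* Matrix.SpecialLinearGroup (Fin 2) K, Function.Injective f := by
  have : NeZero n := ⟨by omega⟩
  have hn0 : 2 * n ≠ 0 := by omega
  have hξ0 : ξ ≠ 0 := hξ.ne_zero hn0
  have h2 : ξ ^ 2 ≠ 1 := by
    intro h
    have hd := (hξ.pow_eq_one_iff_dvd 2).mp h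
    have := Nat.le_of_dvd (by norm_num) hd
    omega
  have hξn : ξ ^ n = -1 := by
    have hsq : (ξ ^ n) ^ 2 = 1 := by rw [← pow_mul, mul_comm, hξ.pow_eq_one]
    have hne : ξ ^ n ≠ 1 := hξ.pow_ne_one_of_pos_of_lt (by omega) (by omega)
    have hprod : (ξ ^ n - 1) * (ξ ^ n + 1) = 0 := by linear_combination hsq
    rcases mul_eq_zero.mp hprod with h | h
    · exact absurd (sub_eq_zero.mp h) hne
    · exact eq_neg_of_add_eq_zero_left h
  have hord : orderOf (σ c) = 2 * n := by rw [orderOf_σ ξ hξ0 h2 c hc, ← hξ.eq_orderOf]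
  have hSn : S c ^ n = -1 := pow_eq_neg_one ξ hξ0 h2 c hc n hξn
  let t : Matrix.SpecialLinearGroup (Fin 2) K := ⟨T c x y, det_T c x y hxy⟩
  refine exists_quaternionGroup_hom (σ c) t hord ?_ ?_ ?_
  · apply Subtype.ext
    rw [Matrix.SpecialLinearGroup.coe_mul, Matrix.SpecialLinearGroup.coe_mul]
    exact S_mul_T_mul_S c x y
  · apply Subtype.ext
    rw [Matrix.SpecialLinearGroup.coe_mul, Matrix.SpecialLinearGroup.coe_pow]
    exact (T_mul_T c x y hxy).trans hSn.symm
  · intro k h
    obtain ⟨a, b, hS, -, -⟩ := pow_form ξ hξ0 c hc k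
    have hm : T c x y * S c ^ k = 1 := by
      have h' := congrArg Subtype.val h
      rw [Matrix.SpecialLinearGroup.coe_mul, Matrix.SpecialLinearGroup.coe_pow,
        Matrix.SpecialLinearGroup.coe_one] at h'
      exact h'
    rw [hS, T, Matrix.mul_fin_two] at hm
    have h00 := congr_fun (congr_fun hm 0) 0
    have h11 := congr_fun (congr_fun hm 1) 1
    rw [Matrix.one_apply_eq] at h00 h11
    have h00' : x * a + -(y * (c ^ 2 - 1)) * b = 1 := h00
    have h11' : y * (b * (c ^ 2 - 1)) + -x * a = 1 := h11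
    have h20 : (2 : K) = 0 := by linear_combination (-1 : K) * h00' - h11'
    exact two_ne_zero h20

end Groth.Agent.H74.SL2
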