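import Groth.Agent.H98.GrComp

/-!
# (WP1) for helper98's S19758 squad: graded divisibility-up-to-torsion of *injectives
-/

set_option autoImplicit false
universe u
open Groth.Agent.H98.GrCat

namespace Groth.Agent.H74.SegWP1

theorem exists_div_of_isStarInj {R : Type u} [CommRing R] [IsNoetherianRing R]
    (𝒜 : ℤ → AddSubgroup R) [GradedRing 𝒜]
    {X : Type u} [AddCommGroup X] [Module R X] (𝒳 : ℤ → AddSubgroup X)
    [DirectSum.Decomposition 𝒳] [SetLike.GradedSMul 𝒜 𝒳]
    (hX : GrLC.IsStarInj 𝒜 𝒳) {d n : ℤ} {x : X} (hx : x ∈ 𝒳 d) {f : R} (hf : f ∈ 𝒜 n) :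
    ∃ (y : X) (t : ℕ), y ∈ 𝒳 (d - n) ∧ (∀ r : R, r • x = 0 → r • y = 0) ∧
      f ^ (t + 1) • y = f ^ t • x := by
  classical
  -- the chain of ideals
  let J : ℕ →o Ideal R :=
    { toFun := fun t =>
        { carrier := {r | (f ^ t * r) • x = 0}
          zero_mem' := by simp
          add_mem' := by
            intro a b ha hb
            simp only [Set.mem_setOf_eq] at ha hb ⊢
            rw [mul_add, add_smul, ha, hb, add_zero]
          smul_mem' := by
            intro c a ha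
            simp only [Set.mem_setOf_eq, smul_eq_mul] at ha ⊢
            rw [mul_left_comm, mul_smul, ha, smul_zero] }
      monotone' := by
        apply monotone_nat_of_le_succ
        intro t r hr
        show (f ^ (t + 1) * r) • x = 0
        have hr' : (f ^ t * r) • x = 0 := hr
        rw [pow_succ', mul_assoc, mul_smul, hr', smul_zero] }
  obtain ⟨t, ht⟩ := monotone_stabilizes_iff_noetherian.2 (inferInstance : IsNoetherian R R) J
  have hstab : ∀ r : R, (f ^ (t + 1) * r) • x = 0 → (f ^ t * r) • x = 0 := by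
    intro r hr
    have h1 : r ∈ J (t + 1) := hr
    rw [← ht (t + 1) (Nat.le_succ t)] at h1
    exact h1
  -- degrees of the powers
  have hpow : ∀ m : ℕ, f ^ m ∈ 𝒜 ((m : ℤ) * n) := by
    intro m
    have h := SetLike.pow_mem_graded m hf
    rwa [nsmul_eq_mul] at h
  -- the two maps out of `R`
  let j0 : R →ₗ[R] X :=
    { toFun := fun r => (f ^ (t + 1) * r) • x
      map_add' := by intro a b; rw [mul_add, add_smul]
      map_smul' := by
        intro c a
        simp only [smul_eq_mul, RingHom.id_apply]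
        rw [mul_left_comm, mul_smul] }
  let g0 : R →ₗ[R] X :=
    { toFun := fun r => (f ^ t * r) • x
      map_add' := by intro a b; rw [mul_add, add_smul]
      map_smul' := by
        intro c a
        simp only [smul_eq_mul, RingHom.id_apply]
        rw [mul_left_comm, mul_smul] }
  set s : ℤ := ((t + 1 : ℕ) : ℤ) * n + d with hs
  set e : ℤ := (t : ℤ) * n + d with he
  have hj : GrLC.IsGrHom 𝒜 (shiftGr 𝒳 s) j0 := by
    intro i a ha
    show (f ^ (t + 1) * a) • x ∈ 𝒳 (i + s)
    have h1 := gsmul_mem 𝒜 𝒳 (SetLike.mul_mem_graded (hpow (t + 1)) ha) hx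
    have h2 : ((t + 1 : ℕ) : ℤ) * n + i + d = i + s := by rw [hs]; ring
    rwa [h2] at h1
  have hg : GrLC.IsGrHomDeg 𝒜 𝒳 g0 e := by
    intro i a ha
    show (f ^ t * a) • x ∈ 𝒳 (i + e)
    have h1 := gsmul_mem 𝒜 𝒳 (SetLike.mul_mem_graded (hpow t) ha) hx
    have h2 : (t : ℤ) * n + i + d = i + e := by rw [he]; ring
    rwa [h2] at h1
  have hker : ∀ a, j0 a = 0 → g0 a = 0 := fun a ha => hstab a ha
  have key := exists_extension_deg 𝒜 𝒳 hX e (GrLC.GMod.of 𝒜 R 𝒜) (shiftG 𝒜 𝒳 s) j0 hj g0 hg hker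
  obtain ⟨h0, hh0, hhj0⟩ := key
  obtain ⟨h, hh⟩ : ∃ h : X →ₗ[R] X, ∀ z, h z = h0 z := ⟨h0, fun _ => rfl⟩
  refine ⟨h x, t, ?_, ?_, ?_⟩
  · have hxB : x ∈ 𝒳 (d - s + s) := by rw [sub_add_cancel]; exact hx
    have h1 : h0 x ∈ 𝒳 (d - s + e) := hh0 (d - s) x hxB
    have h2 : d - s + e = d - n := by rw [hs, he]; push_cast; ring
    rw [hh, ← h2]
    exact h1
  · intro r hr
    rw [← map_smul, hr, map_zero]
  · have h1 : h0 (j0 (1 : R)) = g0 (1 : R) := hhj0 (1 : R)
    have h2 : j0 (1 : R) = f ^ (t + 1) • x := by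
      show (f ^ (t + 1) * 1) • x = _
      rw [mul_one]
    have h3 : g0 (1 : R) = f ^ t • x := by
      show (f ^ t * 1) • x = _
      rw [mul_one]
    rw [← map_smul, ← h2, ← h3, hh]
    exact h1

end Groth.Agent.H74.SegWP1
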