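import Groth.Agent.H98.SegMod
import Groth.Agent.H98.TensRange
import Groth.Agent.H98.GrArtOld
import Groth.Agent.H74.SegWP1

/-!
# (WP6) for helper98's S19758 squad: the divisibility step in the Segre product
-/

set_option autoImplicit false
universe u
open scoped TensorProduct
open DirectSum
open Groth.Agent.H98.GrCat Groth.Agent.H98.GrConv Groth.Agent.H98.Seg Groth.Agent.H98.TensRange

namespace Groth.Agent.H74.SegWP6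

variable {k : Type u} [Field k]
  {R : Type u} [CommRing R] [Algebra k R] (𝒜 : ℤ → Submodule k R) [GradedAlgebra 𝒜]
  {S : Type u} [CommRing S] [Algebra k S] (ℬ : ℤ → Submodule k S) [GradedAlgebra ℬ]
  {T : Type u} [CommRing T] [Algebra k T] (𝒯 : ℤ → Submodule k T) [GradedAlgebra 𝒯]
  (ψ : T →ₐ[k] R ⊗[k] S) (hT : GrSeg.IsSegreRing 𝒜 ℬ 𝒯 ψ)
  {X : Type u} [AddCommGroup X] [Module R X] [Module k X] [IsScalarTower k R X]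
  (𝒳 : ℤ → AddSubgroup X) [Decomposition 𝒳] [SetLike.GradedSMul 𝒜 𝒳]
  {N : Type u} [AddCommGroup N] [Module S N] [Module k N] [IsScalarTower k S N]
  (𝒩 : ℤ → AddSubgroup N) [Decomposition 𝒩] [SetLike.GradedSMul ℬ 𝒩]

/-- preimages of homogeneous elements under an injective homogeneous multiplication are
homogeneous -/
theorem pre_mem {g : S} {d : ℤ} (hg : g ∈ ℬ d) (hinj : Function.Injective (fun y : N => g • y))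
    {m : ℤ} {y' : N} (hy : g • y' ∈ 𝒩 m) : y' ∈ 𝒩 (m - d) := by
  classical
  have hc : ∀ c : ℤ, c ≠ m - d → ((decompose 𝒩 y' c : 𝒩 c) : N) = 0 := by
    intro c hcm
    have h1 := Groth.Agent.H98.comp_smul_eq ℬ 𝒩 hg (rfl : d + c = d + c) y'
    have h2 : m ≠ d + c := fun h => hcm (by omega)
    rw [decompose_of_mem_ne 𝒩 hy h2] at h1
    apply hinj
    show g • _ = g • (0 : N)
    rw [smul_zero, ← h1]
  have hsum := sum_support_decompose 𝒩 y'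
  rw [← hsum]
  apply sum_mem
  intro c _
  by_cases hcm : c = m - d
  · subst hcm; exact SetLike.coe_mem _
  · rw [hc c hcm]; exact zero_mem _

section Q

variable (k R S) (f : R) (g : S) (K : Submodule k X)

/-- the divisibility property for an element of `X ⊗ N` -/
def Q (u : X ⊗[k] N) : Prop :=
  ∃ (z : X ⊗[k] N) (n : ℕ), z ∈ segSub k 𝒳 𝒩 ∧ z ∈ tR N K ∧
    GrSeg.act k R S X N ((f ^ (n + 1)) ⊗ₜ[k] (g ^ (n + 1))) z =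
      GrSeg.act k R S X N ((f ^ n) ⊗ₜ[k] (g ^ n)) u

variable {k R S f g K}

omit [Decomposition 𝒳] [Decomposition 𝒩] in
theorem act_mono {z u : X ⊗[k] N} {n : ℕ}
    (h : GrSeg.act k R S X N ((f ^ (n + 1)) ⊗ₜ[k] (g ^ (n + 1))) z =
      GrSeg.act k R S X N ((f ^ n) ⊗ₜ[k] (g ^ n)) u) (j : ℕ) :
    GrSeg.act k R S X N ((f ^ (n + j + 1)) ⊗ₜ[k] (g ^ (n + j + 1))) z =
      GrSeg.act k R S X N ((f ^ (n + j)) ⊗ₜ[k] (g ^ (n + j))) u := by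
  have e1 : (f ^ (n + j + 1)) ⊗ₜ[k] (g ^ (n + j + 1))
      = ((f ^ j) ⊗ₜ[k] (g ^ j)) * ((f ^ (n + 1)) ⊗ₜ[k] (g ^ (n + 1))) := by
    rw [Algebra.TensorProduct.tmul_mul_tmul, ← pow_add, ← pow_add]
    congr 2 <;> omega
  have e2 : (f ^ (n + j)) ⊗ₜ[k] (g ^ (n + j))
      = ((f ^ j) ⊗ₜ[k] (g ^ j)) * ((f ^ n) ⊗ₜ[k] (g ^ n)) := by
    rw [Algebra.TensorProduct.tmul_mul_tmul, ← pow_add, ← pow_add]
    congr 2 <;> omega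
  rw [e1, e2, Groth.Agent.H98.act_mul, Groth.Agent.H98.act_mul, h]

omit [Decomposition 𝒳] [Decomposition 𝒩] in
theorem Q_zero : Q k R S 𝒳 𝒩 f g K (0 : X ⊗[k] N) :=
  ⟨0, 0, zero_mem _, zero_mem _, by rw [map_zero, map_zero]⟩

omit [Decomposition 𝒳] [Decomposition 𝒩] in
theorem Q_add {u₁ u₂ : X ⊗[k] N} (h₁ : Q k R S 𝒳 𝒩 f g K u₁) (h₂ : Q k R S 𝒳 𝒩 f g K u₂) :
    Q k R S 𝒳 𝒩 f g K (u₁ + u₂) := by
  obtain ⟨z₁, n₁, hz₁, hk₁, e₁⟩ := h₁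
  obtain ⟨z₂, n₂, hz₂, hk₂, e₂⟩ := h₂
  refine ⟨z₁ + z₂, n₁ + n₂, add_mem hz₁ hz₂, add_mem hk₁ hk₂, ?_⟩
  have a₁ := act_mono e₁ n₂
  have a₂ := act_mono e₂ n₁
  rw [add_comm n₂ n₁] at a₂
  rw [map_add, map_add, a₁, a₂]

omit [Decomposition 𝒳] [Decomposition 𝒩] in
theorem Q_list (l : List (X ⊗[k] N)) (hl : ∀ u ∈ l, Q k R S 𝒳 𝒩 f g K u) :
    Q k R S 𝒳 𝒩 f g K l.sum := by
  induction l with
  | nil => rw [List.sum_nil]; exact Q_zero 𝒳 𝒩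
  | cons a l ih =>
    rw [List.sum_cons]
    exact Q_add 𝒳 𝒩 (hl a (List.mem_cons_self ..))
      (ih (fun u hu => hl u (List.mem_cons_of_mem _ hu)))

omit [Decomposition 𝒳] [Decomposition 𝒩] in
theorem Q_finset {ι : Type} (s : Finset ι) (F : ι → X ⊗[k] N)
    (hs : ∀ i ∈ s, Q k R S 𝒳 𝒩 f g K (F i)) : Q k R S 𝒳 𝒩 f g K (∑ i ∈ s, F i) := by
  classical
  induction s using Finset.induction_on with
  | empty => rw [Finset.sum_empty]; exact Q_zero 𝒳 𝒩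
  | insert a s ha ih =>
    rw [Finset.sum_insert ha]
    exact Q_add 𝒳 𝒩 (hs a (Finset.mem_insert_self _ _))
      (ih (fun i hi => hs i (Finset.mem_insert_of_mem hi)))

end Q

theorem Q_tmul [IsNoetherianRing R] (hX : GrLC.IsStarInj 𝒜 𝒳) (J : HomogeneousIdeal 𝒜)
    (f : R) (d : ℤ) (hf : f ∈ 𝒜 d) (g : S) (hg : g ∈ ℬ d)
    (hgN : Function.Bijective (fun y : N => g • y))
    {m : ℤ} {x : X} (hx : x ∈ 𝒳 m) (hxJ : x ∈ GrLC.gam J.toIdeal X) {y : N} (hy : y ∈ 𝒩 m) :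
    Q k R S 𝒳 𝒩 f g ((GrLC.gam J.toIdeal X).restrictScalars k) (x ⊗ₜ[k] y) := by
  haveI : SetLike.GradedSMul (toAS 𝒜) 𝒳 := gsmul_conv 𝒜 𝒳
  have hX' : GrLC.IsStarInj (toAS 𝒜) 𝒳 := isStarInj_conv 𝒳 hX
  obtain ⟨x', t, hx', hann, hdiv⟩ :=
    Groth.Agent.H74.SegWP1.exists_div_of_isStarInj (toAS 𝒜) 𝒳 hX' hx (f := f) (n := d) hf
  obtain ⟨y', hy'⟩ := hgN.2 y
  have hy'g : g • y' = y := hy'
  have hy'm : y' ∈ 𝒩 (m - d) := pre_mem ℬ 𝒩 hg hgN.1 (by rw [hy'g]; exact hy)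
  have hx'J : x' ∈ GrLC.gam J.toIdeal X := by
    obtain ⟨a, ha⟩ := hxJ
    exact ⟨a, fun r hr => hann r (ha r hr)⟩
  refine ⟨x' ⊗ₜ[k] y', t, ?_, ?_, ?_⟩
  · exact pc_le_segSub 𝒳 𝒩 (m - d) (Groth.Agent.H98.tmul_mem_segrePiece hx' hy'm)
  · exact tmul_mem_tR (K := (GrLC.gam J.toIdeal X).restrictScalars k) hx'J y'
  · rw [GrSeg.act_tmul, GrSeg.act_tmul, hdiv, pow_succ, mul_smul, hy'g]

theorem exists_div_seg [IsNoetherianRing R] (hX : GrLC.IsStarInj 𝒜 𝒳) (J : HomogeneousIdeal 𝒜)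
    (f : R) (d : ℤ) (hf : f ∈ 𝒜 d) (g : S) (hg : g ∈ ℬ d)
    (hgN : Function.Bijective (fun y : N => g • y)) (t : T) (hψt : ψ t = f ⊗ₜ[k] g)
    (v : (segG 𝒜 ℬ 𝒯 ψ hT 𝒳 𝒩).carrier)
    (hv : sι 𝒜 ℬ 𝒯 ψ hT 𝒳 𝒩 v ∈ tR N ((GrLC.gam J.toIdeal X).restrictScalars k)) :
    ∃ (w : (segG 𝒜 ℬ 𝒯 ψ hT 𝒳 𝒩).carrier) (n : ℕ),
      sι 𝒜 ℬ 𝒯 ψ hT 𝒳 𝒩 w ∈ tR N ((GrLC.gam J.toIdeal X).restrictScalars k) ∧
      t ^ (n + 1) • w = t ^ n • v := by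
  classical
  haveI : SetLike.GradedSMul (toAS 𝒜) 𝒳 := gsmul_conv 𝒜 𝒳
  have hhom : (GrLC.gam J.toIdeal X).IsHomogeneous 𝒳 :=
    gam_isHomogeneous (toAS 𝒜) 𝒳 (convI J)
  -- the property for `sι v`
  have hQ : Q k R S 𝒳 𝒩 f g ((GrLC.gam J.toIdeal X).restrictScalars k)
      (sι 𝒜 ℬ 𝒯 ψ hT 𝒳 𝒩 v) := by
    obtain ⟨l, hl, el⟩ := exists_list hv
    obtain ⟨s, _, hs⟩ := exists_support 𝒜 ℬ 𝒳 𝒩 (sι_mem 𝒜 ℬ 𝒯 ψ hT 𝒳 𝒩 v)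
    rw [← hs]
    apply Q_finset 𝒳 𝒩
    intro n _
    rw [el, map_list_sum, List.map_map]
    apply Q_list 𝒳 𝒩
    intro u hu
    obtain ⟨p, hp, rfl⟩ := List.mem_map.1 hu
    show Q k R S 𝒳 𝒩 f g _ (Pn 𝒜 ℬ 𝒳 𝒩 n (p.1 ⊗ₜ[k] p.2))
    rw [Pn_tmul]
    refine Q_tmul 𝒜 ℬ 𝒳 𝒩 hX J f d hf g hg hgN (pr_mem 𝒜 𝒳 n p.1) ?_ (pr_mem ℬ 𝒩 n p.2)
    rw [pr_apply]
    exact hhom n (hl p hp)
  obtain ⟨z, n, hz, hzK, he⟩ := hQ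
  refine ⟨sMk 𝒜 ℬ 𝒯 ψ hT 𝒳 𝒩 z hz, n, hzK, ?_⟩
  apply sι_injective 𝒜 ℬ 𝒯 ψ hT 𝒳 𝒩
  have hp : ∀ j : ℕ, ψ (t ^ j) = (f ^ j) ⊗ₜ[k] (g ^ j) := fun j => by
    rw [map_pow, hψt, Algebra.TensorProduct.tmul_pow]
  rw [sι_smul, sι_smul, sι_sMk, hp, hp]
  exact he

end Groth.Agent.H74.SegWP6
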