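import Mathlib
import Groth.Prelude.Def_PolLaw
import Groth.Agent.H74.FibreSupport

/-!
# Helper library (helper74): the image of a family of zero-cycles over a semilocal ring is semilocal
-/

set_option autoImplicit false
set_option linter.style.haveILetI false
universe u
open scoped TensorProduct
open PolLaw

namespace Groth.Agent.H74.SemiLocal

open Groth.Agent.H74.HomCount Groth.Agent.H74.CharpolyDeg Groth.Agent.H74.FieldSupport
  Groth.Agent.H74.LawBC Groth.Agent.H74.CharpolyBC Groth.Agent.H74.FibreSupport

variable {A : Type u} [CommRing A] {B : Type u} [CommRing B] [Algebra A B] {d : ℕ}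

/-- the maximal ideals of the image algebra over a fixed maximal ideal of `A` form a finite set -/
theorem finite_fibre (F : MulLaw A B A d) (m : Ideal A) [hm : m.IsMaximal] :
    Set.Finite {M : MaximalSpectrum (image F.law) |
      M.asIdeal.comap (algebraMap A (image F.law)) = m} := by
  letI : Field (A ⧸ m) := Ideal.Quotient.field m
  obtain ⟨hfin, -⟩ := finite_spec_baseChange F (A ⧸ m)
  rw [← Set.finite_coe_iff]
  -- the ring map to the residue field of `M`
  have hρ : ∀ M : {M : MaximalSpectrum (image F.law) |
      M.asIdeal.comap (algebraMap A (image F.law)) = m},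
      ∃ ρ : (A ⧸ m) ⊗[A] image F.law →ₐ[A] (image F.law ⧸ M.1.asIdeal),
        ∀ b : image F.law, ρ ((1 : A ⧸ m) ⊗ₜ[A] b) = Ideal.Quotient.mk M.1.asIdeal b := by
    intro M
    have h0 : ∀ a : A, a ∈ m → (Algebra.ofId A (image F.law ⧸ M.1.asIdeal)) a = 0 := by
      intro a ha
      have h1 : algebraMap A (image F.law) a ∈ M.1.asIdeal := by
        have h2 : a ∈ M.1.asIdeal.comap (algebraMap A (image F.law)) := by
          rw [M.2]; exact ha
        exact h2
      show algebraMap A (image F.law ⧸ M.1.asIdeal) a = 0
      rw [IsScalarTower.algebraMap_apply A (image F.law) (image F.law ⧸ M.1.asIdeal),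
        Ideal.Quotient.algebraMap_eq, Ideal.Quotient.eq_zero_iff_mem]
      exact h1
    refine ⟨Algebra.TensorProduct.productMap
      (Ideal.Quotient.liftₐ m (Algebra.ofId A (image F.law ⧸ M.1.asIdeal)) h0)
      (Ideal.Quotient.mkₐ A M.1.asIdeal), fun b => ?_⟩
    simp
  choose ρ hρ1 using hρ
  haveI : ∀ M : {M : MaximalSpectrum (image F.law) |
      M.asIdeal.comap (algebraMap A (image F.law)) = m}, (RingHom.ker (ρ M)).IsPrime := by
    intro M
    haveI : M.1.asIdeal.IsPrime := M.1.isMaximal.isPrime
    exact RingHom.ker_isPrime (ρ M)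
  let g : {M : MaximalSpectrum (image F.law) |
      M.asIdeal.comap (algebraMap A (image F.law)) = m} →
      PrimeSpectrum ((A ⧸ m) ⊗[A] image F.law) := fun M => ⟨RingHom.ker (ρ M), inferInstance⟩
  have hg : Function.Injective g := by
    intro M N hMN
    have h1 : RingHom.ker (ρ M) = RingHom.ker (ρ N) := congrArg PrimeSpectrum.asIdeal hMN
    apply Subtype.ext
    apply MaximalSpectrum.ext
    ext b
    rw [← Ideal.Quotient.eq_zero_iff_mem, ← hρ1 M b, ← Ideal.Quotient.eq_zero_iff_mem, ← hρ1 N b,
      ← RingHom.mem_ker, ← RingHom.mem_ker, h1]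
  exact Finite.of_injective g hg

/-- if `A` is semilocal then so is the image algebra -/
theorem finite_maximalSpectrum (F : MulLaw A B A d) [Finite (MaximalSpectrum A)] :
    Finite (MaximalSpectrum (image F.law)) := by
  haveI : Algebra.IsIntegral A (image F.law) := isIntegral_image F
  rw [← Set.finite_univ_iff]
  have hcov : (Set.univ : Set (MaximalSpectrum (image F.law))) =
      ⋃ m : MaximalSpectrum A, {M : MaximalSpectrum (image F.law) |
        M.asIdeal.comap (algebraMap A (image F.law)) = m.asIdeal} := by
    ext M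
    simp only [Set.mem_univ, Set.mem_iUnion, Set.mem_ofPred_eq, true_iff]
    haveI := M.isMaximal
    exact ⟨⟨_, Ideal.isMaximal_comap_of_isIntegral_of_isMaximal (R := A) M.asIdeal⟩, rfl⟩
  rw [hcov]
  exact Set.finite_iUnion (fun m => by
    haveI := m.isMaximal
    exact finite_fibre F m.asIdeal)

end Groth.Agent.H74.SemiLocal
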