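-- helper74: invariants of `S ⊗ T^d(P)` for a free algebra `P`: they are spanned by the orbit sums
-- (= coefficients of the tensor power law); linear maps on `T^d(P)` are determined on invariants by
-- their composite with the tensor power law; `Lmap` of a multiplicative law is multiplicative on
-- invariants.
import Groth.Agent.H74.TensorK
import Groth.Agent.H74.GammaInt

set_option autoImplicit false
universe u

open scoped TensorProduct

namespace Groth.Agent.H74.SymInv

open PolLaw Groth.Agent.H74.GammaSpan Groth.Agent.H74.LawBasis Groth.Agent.H74.TensorK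
  Groth.Agent.H74.GammaInt

section Content

variable {d : ℕ} {ι : Type*}

theorem content_apply (α : Fin d → ι) (i : ι) [DecidablePred (fun j => α j = i)] :
    content α i = (Finset.univ.filter (fun j => α j = i)).card := by
  rw [content, Finsupp.finsetSum_apply, Finset.card_filter]
  refine Finset.sum_congr rfl (fun j _ => ?_)
  rw [Finsupp.single_apply]

theorem exists_perm_of_content_eq {α β : Fin d → ι} (h : content α = content β) :
    ∃ σ : Equiv.Perm (Fin d), β ∘ σ = α := by
  classical
  have hc : ∀ i : ι, Fintype.card {j // α j = i} = Fintype.card {j // β j = i} := by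
    intro i
    rw [Fintype.card_subtype, Fintype.card_subtype, ← content_apply, ← content_apply, h]
  refine ⟨Equiv.ofFiberEquiv (f := α) (g := β) (fun i => Fintype.equivOfCardEq (hc i)), ?_⟩
  funext j
  exact Equiv.ofFiberEquiv_map _ j

end Content

section Free

variable {A : Type u} [CommRing A] {P : Type u} [CommRing P] [Algebra A P] {ι : Type u} (d : ℕ)
  (bas : Module.Basis ι A P)

/-- the basis of the tensor power -/
noncomputable abbrev E : Module.Basis (Fin d → ι) A (⨂[A] _ : Fin d, P) :=
  Basis.piTensorProduct (fun _ : Fin d => bas)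

theorem E_apply (α : Fin d → ι) :
    E d bas α = PiTensorProduct.tprod A (fun j => bas (α j)) :=
  Basis.piTensorProduct_apply _ _

/-- the orbit sums, defined as the coefficients of the tensor power law -/
noncomputable def O (μ : ι →₀ ℕ) : ⨂[A] _ : Fin d, P :=
  coeffB bas (SymTen.tpowLaw A P d).law μ

theorem prod_X_eq_monomial (α : Fin d → ι) :
    ∏ j, (MvPolynomial.X (α j) : MvPolynomial ι A) = MvPolynomial.monomial (content α) 1 := by
  rw [← content_prod α (fun i => (MvPolynomial.X i : MvPolynomial ι A)), MvPolynomial.monomial_eq,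
    map_one, one_mul]

theorem O_eq [DecidableEq ι] (μ : ι →₀ ℕ) :
    O d bas μ = ∑ α ∈ Fintype.piFinset (fun _ : Fin d => μ.support),
      if content α = μ then E d bas α else 0 := by
  rw [O, coeffB, cJ, gen, tpowLaw_sum, map_sum]
  refine Finset.sum_congr rfl (fun α _ => ?_)
  rw [cf_tmul, prod_X_eq_monomial, MvPolynomial.coeff_monomial, E_apply]
  split_ifs <;> simp

theorem repr_O [DecidableEq ι] (μ : ι →₀ ℕ) (β : Fin d → ι) :
    (E d bas).repr (O d bas μ) β = if content β = μ then 1 else 0 := by
  rw [O_eq, map_sum, Finsupp.finsetSum_apply]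
  by_cases hβ : content β = μ
  · rw [if_pos hβ, Finset.sum_eq_single β]
    · rw [if_pos hβ, Module.Basis.repr_self, Finsupp.single_eq_same]
    · intro α _ hne
      split_ifs
      · rw [Module.Basis.repr_self, Finsupp.single_apply, if_neg hne]
      · simp
    · intro hnot
      exfalso; apply hnot
      rw [Fintype.mem_piFinset]
      intro j
      rw [← hβ]; exact mem_support_content β j
  · rw [if_neg hβ]
    refine Finset.sum_eq_zero (fun α _ => ?_)
    split_ifs with hα
    · rw [Module.Basis.repr_self, Finsupp.single_apply, if_neg]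
      rintro rfl; exact hβ hα
    · simp

theorem perm_E (σ : Equiv.Perm (Fin d)) (α : Fin d → ι) :
    SymTen.perm A P d σ (E d bas α) = E d bas (α ∘ σ.symm) := by
  rw [E_apply, E_apply, SymTen.perm_tprod]; rfl

theorem repr_perm (σ : Equiv.Perm (Fin d)) (t : ⨂[A] _ : Fin d, P) (β : Fin d → ι) :
    (E d bas).repr (SymTen.perm A P d σ t) β = (E d bas).repr t (β ∘ σ) := by
  classical
  have h : (Finsupp.lapply β ∘ₗ (E d bas).repr.toLinearMap) ∘ₗ
      (SymTen.perm A P d σ).toLinearMap =
      Finsupp.lapply (β ∘ σ) ∘ₗ (E d bas).repr.toLinearMap := by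
    refine (E d bas).ext (fun α => ?_)
    simp only [LinearMap.comp_apply, AlgHom.toLinearMap_apply, LinearEquiv.coe_coe,
      Finsupp.lapply_apply]
    rw [perm_E, Module.Basis.repr_self, Module.Basis.repr_self, Finsupp.single_apply,
      Finsupp.single_apply]
    have hiff : (α ∘ σ.symm = β) ↔ (α = β ∘ σ) := by
      constructor
      · intro h; rw [← h]; funext j; simp
      · intro h; rw [h]; funext j; simp
    simp only [hiff]
  exact LinearMap.congr_fun h t

/-- invariance of an element of `S ⊗ T^d(P)` under the permutations of the factors -/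
def Inv (S : Type u) [CommSemiring S] [Algebra A S] (z : S ⊗[A] (⨂[A] _ : Fin d, P)) : Prop :=
  ∀ σ : Equiv.Perm (Fin d),
    Algebra.TensorProduct.map (AlgHom.id S S) (SymTen.perm A P d σ) z = z

theorem reprS_perm (S : Type u) [CommSemiring S] [Algebra A S] (σ : Equiv.Perm (Fin d))
    (z : S ⊗[A] (⨂[A] _ : Fin d, P)) (β : Fin d → ι) :
    (Algebra.TensorProduct.basis S (E d bas)).repr
        (Algebra.TensorProduct.map (AlgHom.id S S) (SymTen.perm A P d σ) z) β =
      (Algebra.TensorProduct.basis S (E d bas)).repr z (β ∘ σ) := by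
  induction z using TensorProduct.induction_on with
  | zero => simp
  | tmul s t =>
    rw [Algebra.TensorProduct.map_tmul, Algebra.TensorProduct.basis_repr_tmul,
      Algebra.TensorProduct.basis_repr_tmul]
    simp only [Finsupp.smul_apply, Finsupp.mapRange_apply, AlgHom.id_apply]
    rw [repr_perm]
  | add x y hx hy => simp only [map_add, Finsupp.add_apply, hx, hy]

/-- **Structure of invariants**: an invariant element is a combination of orbit sums. -/
theorem invariant_eq_sum (S : Type u) [CommSemiring S] [Algebra A S]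
    (z : S ⊗[A] (⨂[A] _ : Fin d, P)) (hz : Inv d S z) :
    ∃ (W : Finset (ι →₀ ℕ)) (ζ : (ι →₀ ℕ) → S), z = ∑ μ ∈ W, ζ μ ⊗ₜ[A] O d bas μ := by
  classical
  set bS := Algebra.TensorProduct.basis S (E d bas) with hbS
  have hcoord : ∀ α β : Fin d → ι, content α = content β → bS.repr z α = bS.repr z β := by
    intro α β h
    obtain ⟨σ, rfl⟩ := exists_perm_of_content_eq h
    rw [← reprS_perm d bas S σ z β, hz σ]
  refine ⟨(bS.repr z).support.image content,
    fun μ => if h : ∃ α : Fin d → ι, content α = μ then bS.repr z (repOf μ h) else 0, ?_⟩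
  apply bS.ext_elem
  intro β
  rw [map_sum, Finsupp.finsetSum_apply]
  have hterm : ∀ (s : S) (μ : ι →₀ ℕ), bS.repr (s ⊗ₜ[A] O d bas μ) β =
      if content β = μ then s else 0 := by
    intro s μ
    rw [hbS, Algebra.TensorProduct.basis_repr_tmul]
    simp only [Finsupp.smul_apply, Finsupp.mapRange_apply]
    rw [repr_O]
    split_ifs <;> simp
  rw [Finset.sum_congr rfl (fun μ _ => hterm _ μ), Finset.sum_ite_eq]
  by_cases hmem : content β ∈ (bS.repr z).support.image content
  · rw [if_pos hmem]
    rw [dif_pos ⟨β, rfl⟩]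
    exact (hcoord _ _ (content_repOf _ _)).symm
  · rw [if_neg hmem]
    by_contra hne
    apply hmem
    exact Finset.mem_image.2 ⟨β, Finsupp.mem_support_iff.2 hne, rfl⟩

theorem coeffB_postcomp {M N Q : Type u} [AddCommGroup M] [Module A M] [AddCommGroup N]
    [Module A N] [AddCommGroup Q] [Module A Q] (b : ι → Q) (F : Q →ₚₗ[A] M) (L : M →ₗ[A] N)
    (μ : ι →₀ ℕ) : coeffB b (postcomp L F) μ = L (coeffB b F μ) :=
  lid_rTensor_lTensor L (MvPolynomial.lcoeff A μ) _

include bas in
/-- **Uniqueness on invariants**: two linear maps on the tensor power with the same composite with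
the tensor power law agree on all invariants. -/
theorem lTensor_eq_of_inv {M : Type u} [AddCommGroup M] [Module A M]
    (L₁ L₂ : (⨂[A] _ : Fin d, P) →ₗ[A] M)
    (h : postcomp L₁ (SymTen.tpowLaw A P d).law = postcomp L₂ (SymTen.tpowLaw A P d).law)
    (S : Type u) [CommSemiring S] [Algebra A S] (z : S ⊗[A] (⨂[A] _ : Fin d, P))
    (hz : Inv d S z) : L₁.lTensor S z = L₂.lTensor S z := by
  obtain ⟨W, ζ, rfl⟩ := invariant_eq_sum d bas S z hz
  rw [map_sum, map_sum]
  refine Finset.sum_congr rfl (fun μ _ => ?_)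
  rw [LinearMap.lTensor_tmul, LinearMap.lTensor_tmul, O, ← coeffB_postcomp, ← coeffB_postcomp, h]

variable {C : Type u} [CommRing C] [Algebra A C]

theorem Lmap_O (G : MulLaw A P C d) (μ : ι →₀ ℕ) :
    Lmap d bas G.law (O d bas μ) = coeffB bas G.law μ := by
  rw [O, ← coeffB_postcomp, postcomp_Lmap d bas G.law G.homog]

theorem Lmap_O_mul (G : MulLaw A P C d) (μ ν : ι →₀ ℕ) :
    Lmap d bas G.law (O d bas μ * O d bas ν) =
      Lmap d bas G.law (O d bas μ) * Lmap d bas G.law (O d bas ν) := by
  rw [Lmap_O, Lmap_O]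
  have e1 : ∀ {C' : Type u} [CommRing C'] [Algebra A C'] (F : P →ₚₗ[A] C') (μ : ι →₀ ℕ),
      coeffB bas F μ =
        coef F (MvPolynomial ι A) (MvPolynomial.lcoeff A μ) (gen bas μ.support) :=
    fun _ _ => rfl
  rw [e1 G.law μ, e1 G.law ν, coef_mul G.law G.mult]
  have h2 := coef_postcomp (SymTen.tpowLaw A P d).law (Lmap d bas G.law)
    (MvPolynomial ι A ⊗[A] MvPolynomial ι A)
    ((TensorProduct.lid A A).toLinearMap ∘ₗ
      TensorProduct.map (MvPolynomial.lcoeff A μ) (MvPolynomial.lcoeff A ν))
    ((Algebra.TensorProduct.includeLeft :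
        MvPolynomial ι A →ₐ[A] MvPolynomial ι A ⊗[A] MvPolynomial ι A).toLinearMap.rTensor P
        (gen bas μ.support) *
      (Algebra.TensorProduct.includeRight :
        MvPolynomial ι A →ₐ[A] MvPolynomial ι A ⊗[A] MvPolynomial ι A).toLinearMap.rTensor P
        (gen bas ν.support))
  rw [postcomp_Lmap d bas G.law G.homog] at h2
  rw [h2, ← coef_mul (SymTen.tpowLaw A P d).law (SymTen.tpowLaw A P d).mult]
  rfl

theorem Lmap_one (G : MulLaw A P C d) : Lmap d bas G.law 1 = 1 := by
  have h := congrFun (congrFun (congrFun (congrFun (congrArg PolynomialLaw.toFun'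
    (postcomp_Lmap d bas G.law G.homog)) A) _) _) (1 : A ⊗[A] P)
  have h1 : (Lmap d bas G.law).lTensor A ((SymTen.tpowLaw A P d).law.toFun' A 1) =
      G.law.toFun' A 1 := h
  rw [((SymTen.tpowLaw A P d).mult A).1, (G.mult A).1, Algebra.TensorProduct.one_def,
    LinearMap.lTensor_tmul, Algebra.TensorProduct.one_def] at h1
  have h3 := congrArg (TensorProduct.lid A C) h1
  simpa using h3

/-- **Multiplicativity on invariants**. -/
theorem Lmap_lTensor_mul (G : MulLaw A P C d) (S : Type u) [CommSemiring S] [Algebra A S]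
    (z w : S ⊗[A] (⨂[A] _ : Fin d, P)) (hz : Inv d S z) (hw : Inv d S w) :
    (Lmap d bas G.law).lTensor S (z * w) =
      (Lmap d bas G.law).lTensor S z * (Lmap d bas G.law).lTensor S w := by
  obtain ⟨W, ζ, rfl⟩ := invariant_eq_sum d bas S z hz
  obtain ⟨W', ζ', rfl⟩ := invariant_eq_sum d bas S w hw
  simp only [Finset.sum_mul_sum, map_sum]
  refine Finset.sum_congr rfl (fun μ _ => Finset.sum_congr rfl (fun ν _ => ?_))
  rw [Algebra.TensorProduct.tmul_mul_tmul, LinearMap.lTensor_tmul, LinearMap.lTensor_tmul,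
    LinearMap.lTensor_tmul, Algebra.TensorProduct.tmul_mul_tmul, Lmap_O_mul]

theorem Lmap_lTensor_one (G : MulLaw A P C d) (S : Type u) [CommSemiring S] [Algebra A S] :
    (Lmap d bas G.law).lTensor S (1 : S ⊗[A] (⨂[A] _ : Fin d, P)) = 1 := by
  rw [Algebra.TensorProduct.one_def, LinearMap.lTensor_tmul, Lmap_one, Algebra.TensorProduct.one_def]

theorem inv_one (S : Type u) [CommSemiring S] [Algebra A S] :
    Inv (A := A) (P := P) d S 1 := fun _ => map_one _

theorem inv_mul (S : Type u) [CommSemiring S] [Algebra A S]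
    {z w : S ⊗[A] (⨂[A] _ : Fin d, P)} (hz : Inv d S z) (hw : Inv d S w) : Inv d S (z * w) :=
  fun σ => by rw [map_mul, hz σ, hw σ]

theorem inv_pow (S : Type u) [CommSemiring S] [Algebra A S]
    {z : S ⊗[A] (⨂[A] _ : Fin d, P)} (hz : Inv d S z) (k : ℕ) : Inv d S (z ^ k) :=
  fun σ => by rw [map_pow, hz σ]

theorem Lmap_lTensor_pow (G : MulLaw A P C d) (S : Type u) [CommSemiring S] [Algebra A S]
    (z : S ⊗[A] (⨂[A] _ : Fin d, P)) (hz : Inv d S z) (k : ℕ) :
    (Lmap d bas G.law).lTensor S (z ^ k) = ((Lmap d bas G.law).lTensor S z) ^ k := by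
  induction k with
  | zero => rw [pow_zero, pow_zero, Lmap_lTensor_one]
  | succ k ih =>
    rw [pow_succ, pow_succ, Lmap_lTensor_mul d bas G S _ _ (inv_pow d S hz k) hz, ih]

end Free

end Groth.Agent.H74.SymInv
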