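-- helper74: the symmetrised norm law `T^d(P) → C` attached to a multiplicative law `P → C` of degree
-- `d` on a free algebra `P`, and its kernel.
import Groth.Agent.H74.SymInv

set_option autoImplicit false
universe u

open scoped TensorProduct

namespace Groth.Agent.H74.SymNormP

open PolLaw Groth.Agent.H74.GammaSpan Groth.Agent.H74.LawBasis Groth.Agent.H74.TensorK
  Groth.Agent.H74.SymInv SymTen

section Nat

variable {A : Type u} [CommRing A] {P Q R : Type u} [CommRing P] [Algebra A P] [CommRing Q]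
  [Algebra A Q] [CommRing R] [Algebra A R] (d : ℕ)

theorem symmLaw_toFun' (S : Type u) [CommSemiring S] [Algebra A S]
    (z : S ⊗[A] (⨂[A] _ : Fin d, P)) :
    (symmLaw A P d).law.toFun' S z =
      ∏ σ : Equiv.Perm (Fin d), Algebra.TensorProduct.map (AlgHom.id S S) (perm A P d σ) z := rfl

theorem tpowLaw_toFun' (S : Type u) [CommSemiring S] [Algebra A S] (x : S ⊗[A] P) :
    (tpowLaw A P d).law.toFun' S x =
      ∏ j : Fin d, Algebra.TensorProduct.map (AlgHom.id S S)
        (PiTensorProduct.singleAlgHom (R := A) (A := fun _ : Fin d => P) j) x := rfl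

theorem tmap_perm (f : P →ₐ[A] Q) (σ : Equiv.Perm (Fin d)) (t : ⨂[A] _ : Fin d, P) :
    tmap A d f (perm A P d σ t) = perm A Q d σ (tmap A d f t) := by
  rw [perm_apply, perm_apply, tmap_reindex]

theorem tmap_comp_perm (f : P →ₐ[A] Q) (σ : Equiv.Perm (Fin d)) :
    (tmap A d f).comp (perm A P d σ) = (perm A Q d σ).comp (tmap A d f) :=
  AlgHom.ext (tmap_perm d f σ)

theorem tmap_single (f : P →ₐ[A] Q) (j : Fin d) (p : P) :
    tmap A d f (PiTensorProduct.singleAlgHom (R := A) (A := fun _ : Fin d => P) j p) =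
      PiTensorProduct.singleAlgHom (R := A) (A := fun _ : Fin d => Q) j (f p) := by
  rw [PiTensorProduct.singleAlgHom_apply, PiTensorProduct.singleAlgHom_apply, tmap_tprod]
  congr 1
  funext k
  simp only [MonoidHom.mulSingle_apply]
  by_cases h : k = j
  · subst h; simp
  · rw [Pi.mulSingle_eq_of_ne h, Pi.mulSingle_eq_of_ne h, map_one]

theorem tmap_comp (f : Q →ₐ[A] R) (g : P →ₐ[A] Q) :
    (tmap A d f).comp (tmap A d g) = tmap A d (f.comp g) := by
  apply PiTensorProduct.algHom_ext
  intro j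
  ext p
  simp only [AlgHom.comp_apply]
  rw [tmap_single, tmap_single, tmap_single, AlgHom.comp_apply]

theorem tmap_id : tmap A d (AlgHom.id A P) = AlgHom.id A _ := by
  apply PiTensorProduct.algHom_ext
  intro j
  ext p
  simp only [AlgHom.comp_apply]
  rw [tmap_single]; rfl

theorem symmLaw_tmap (f : P →ₐ[A] Q) (S : Type u) [CommSemiring S] [Algebra A S]
    (z : S ⊗[A] (⨂[A] _ : Fin d, P)) :
    (symmLaw A Q d).law.toFun' S (Algebra.TensorProduct.map (AlgHom.id S S) (tmap A d f) z) =
      Algebra.TensorProduct.map (AlgHom.id S S) (tmap A d f) ((symmLaw A P d).law.toFun' S z) := by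
  rw [symmLaw_toFun', symmLaw_toFun', map_prod]
  refine Finset.prod_congr rfl (fun σ _ => ?_)
  rw [← AlgHom.comp_apply, ← AlgHom.comp_apply, ← Algebra.TensorProduct.map_comp,
    ← Algebra.TensorProduct.map_comp, tmap_comp_perm]

theorem tpowLaw_tmap (f : P →ₐ[A] Q) :
    postcomp (tmap A d f).toLinearMap (tpowLaw A P d).law =
      precomp (tpowLaw A Q d).law f.toLinearMap := by
  refine PolynomialLaw.ext ?_
  funext S _ _ x
  show (tmap A d f).toLinearMap.lTensor S ((tpowLaw A P d).law.toFun' S x) =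
    (tpowLaw A Q d).law.toFun' S (f.toLinearMap.lTensor S x)
  rw [lTensor_algHom_apply, lTensor_algHom_apply, tpowLaw_toFun', tpowLaw_toFun', map_prod]
  refine Finset.prod_congr rfl (fun j _ => ?_)
  rw [← AlgHom.comp_apply, ← AlgHom.comp_apply, ← Algebra.TensorProduct.map_comp,
    ← Algebra.TensorProduct.map_comp]
  congr 2
  exact AlgHom.ext (fun p => tmap_single d f j p)

theorem perm_mul (σ ρ : Equiv.Perm (Fin d)) :
    (perm A P d σ).comp (perm A P d ρ) = perm A P d (σ * ρ) := by
  apply AlgHom.ext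
  intro t
  induction t using PiTensorProduct.induction_on with
  | smul_tprod r f =>
    simp only [AlgHom.comp_apply, map_smul, perm_tprod]
    rfl
  | add x y hx hy => simp only [map_add, hx, hy]

theorem symmLaw_inv (S : Type u) [CommSemiring S] [Algebra A S]
    (z : S ⊗[A] (⨂[A] _ : Fin d, P)) : Inv d S ((symmLaw A P d).law.toFun' S z) := by
  intro σ
  rw [symmLaw_toFun', map_prod]
  refine Fintype.prod_equiv (Equiv.mulLeft σ) _ _ (fun ρ => ?_)
  rw [← AlgHom.comp_apply, ← Algebra.TensorProduct.map_comp, perm_mul]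
  rfl

theorem symmLaw_of_inv (S : Type u) [CommSemiring S] [Algebra A S]
    (u : S ⊗[A] (⨂[A] _ : Fin d, P)) (hu : Inv d S u) :
    (symmLaw A P d).law.toFun' S u = u ^ d.factorial := by
  rw [symmLaw_toFun', Finset.prod_congr rfl (fun σ _ => hu σ), Finset.prod_const,
    Finset.card_univ, Fintype.card_perm, Fintype.card_fin]

theorem lTensor_smul' {M N : Type u} [AddCommGroup M] [Module A M] [AddCommGroup N] [Module A N]
    (L : M →ₗ[A] N) (S : Type u) [CommSemiring S] [Algebra A S] (s : S) (y : S ⊗[A] M) :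
    L.lTensor S (s • y) = s • L.lTensor S y := by
  induction y using TensorProduct.induction_on with
  | zero => simp
  | tmul a b => rw [TensorProduct.smul_tmul', LinearMap.lTensor_tmul, LinearMap.lTensor_tmul,
      TensorProduct.smul_tmul']
  | add x y hx hy => rw [smul_add, map_add, map_add, smul_add, hx, hy]

theorem postcomp_precomp {M N N' M' : Type u} [AddCommGroup M] [Module A M] [AddCommGroup N]
    [Module A N] [AddCommGroup N'] [Module A N'] [AddCommGroup M'] [Module A M']
    (L : N →ₗ[A] N') (F : M →ₚₗ[A] N) (g : M' →ₗ[A] M) :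
    postcomp L (precomp F g) = precomp (postcomp L F) g := by
  refine PolynomialLaw.ext ?_
  funext S _ _ x
  rfl

theorem precomp_precomp {M N M' M'' : Type u} [AddCommGroup M] [Module A M] [AddCommGroup N]
    [Module A N] [AddCommGroup M'] [Module A M'] [AddCommGroup M''] [Module A M'']
    (F : M →ₚₗ[A] N) (g : M' →ₗ[A] M) (g' : M'' →ₗ[A] M') :
    precomp (precomp F g) g' = precomp F (g ∘ₗ g') := by
  refine PolynomialLaw.ext ?_
  funext S _ _ x
  show F.toFun' S (g.lTensor S (g'.lTensor S x)) = F.toFun' S ((g ∘ₗ g').lTensor S x)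
  rw [LinearMap.lTensor_comp_apply]

end Nat

section FP

variable {A : Type u} [CommRing A] {P : Type u} [CommRing P] [Algebra A P] {ι : Type u} (d : ℕ)
  (bas : Module.Basis ι A P) {C : Type u} [CommRing C] [Algebra A C]

/-- the symmetrised norm law attached to a multiplicative law on a free algebra -/
noncomputable def FP (G : MulLaw A P C d) : MulLaw A (⨂[A] _ : Fin d, P) C d.factorial where
  law := postcomp (Lmap d bas G.law) (symmLaw A P d).law
  homog S _ _ s x := by
    show (Lmap d bas G.law).lTensor S ((symmLaw A P d).law.toFun' S (s • x)) =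
      s ^ d.factorial • (Lmap d bas G.law).lTensor S ((symmLaw A P d).law.toFun' S x)
    rw [(symmLaw A P d).homog S s x, lTensor_smul']
  mult S _ _ := by
    refine ⟨?_, fun x y => ?_⟩
    · show (Lmap d bas G.law).lTensor S ((symmLaw A P d).law.toFun' S 1) = 1
      rw [((symmLaw A P d).mult S).1, Lmap_lTensor_one]
    · show (Lmap d bas G.law).lTensor S ((symmLaw A P d).law.toFun' S (x * y)) =
        (Lmap d bas G.law).lTensor S ((symmLaw A P d).law.toFun' S x) *
          (Lmap d bas G.law).lTensor S ((symmLaw A P d).law.toFun' S y)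
      rw [((symmLaw A P d).mult S).2, Lmap_lTensor_mul d bas G S _ _ (symmLaw_inv d S x)
        (symmLaw_inv d S y)]

theorem FP_toFun' (G : MulLaw A P C d) (S : Type u) [CommSemiring S] [Algebra A S]
    (z : S ⊗[A] (⨂[A] _ : Fin d, P)) :
    (FP d bas G).law.toFun' S z =
      (Lmap d bas G.law).lTensor S ((symmLaw A P d).law.toFun' S z) := rfl

end FP

section Ker

open Polynomial

variable {A : Type u} [CommRing A] {P : Type u} [CommRing P] [Algebra A P] {ι : Type u} (d : ℕ)
  (bas : Module.Basis ι A P) {B C : Type u} [CommRing B] [Algebra A B] [CommRing C] [Algebra A C]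

/-- evaluation `P[X] → P` as an `A`-algebra map -/
noncomputable def evA (a : P) : P[X] →ₐ[A] P := (Polynomial.aeval a : P[X] →ₐ[P] P).restrictScalars A

theorem evA_X (a : P) : evA (A := A) a X = a := by
  simp [evA]

theorem evA_comp_C (a : P) : (evA (A := A) a).comp (CAlgHom (R := A) (A := P)) = AlgHom.id A P := by
  ext p
  simp [evA, CAlgHom]

theorem comp_evA (π : P →ₐ[A] B) (a : P) (ha : π a = 0) :
    π.comp (evA (A := A) a) = π.comp (evA (A := A) 0) := by
  apply Polynomial.algHom_ext'
  · rw [AlgHom.comp_assoc, AlgHom.comp_assoc, evA_comp_C, evA_comp_C]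
  · rw [AlgHom.comp_apply, AlgHom.comp_apply, evA_X, evA_X, ha, map_zero]

/-- **Kernel lemma**: the elements `1 ⊗ ⋯ ⊗ a ⊗ ⋯ ⊗ 1` with `π a = 0` lie in the kernel of the
symmetrised norm law of `γ ∘ π`. -/
theorem single_mem_ker (γ : MulLaw A B C d) (π : P →ₐ[A] B) (a : P) (ha : π a = 0) (j : Fin d) :
    PiTensorProduct.singleAlgHom (R := A) (A := fun _ : Fin d => P) j a ∈
      PolLaw.ker (FP d bas (γ.precomp π)).law := by
  intro S _ _ x w
  set G := γ.precomp π with hG
  set Θ := Lmap d bas G.law with hΘ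
  let basX : Module.Basis (ι × ℕ) A P[X] := bas.smulTower (Polynomial.basisMonomials P)
  let inc : (⨂[A] _ : Fin d, P) →ₐ[A] (⨂[A] _ : Fin d, P[X]) := tmap A d (CAlgHom (R := A) (A := P))
  let q1 : (⨂[A] _ : Fin d, P[X]) →ₐ[A] (⨂[A] _ : Fin d, P) := tmap A d (evA (A := A) a)
  let q0 : (⨂[A] _ : Fin d, P[X]) →ₐ[A] (⨂[A] _ : Fin d, P) := tmap A d (evA (A := A) 0)
  have hq1 : q1.comp inc = AlgHom.id A _ := by
    show (tmap A d _).comp (tmap A d _) = _
    rw [tmap_comp, evA_comp_C, tmap_id]
  have hq0 : q0.comp inc = AlgHom.id A _ := by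
    show (tmap A d _).comp (tmap A d _) = _
    rw [tmap_comp, evA_comp_C, tmap_id]
  -- the generic lift
  set zp : S ⊗[A] (⨂[A] _ : Fin d, P[X]) :=
    Algebra.TensorProduct.map (AlgHom.id S S) inc x +
      Algebra.TensorProduct.map (AlgHom.id S S) inc w *
        ((1 : S) ⊗ₜ[A] PiTensorProduct.singleAlgHom (R := A) (A := fun _ : Fin d => P[X]) j X)
    with hzp
  have hmapid : ∀ (q : (⨂[A] _ : Fin d, P[X]) →ₐ[A] (⨂[A] _ : Fin d, P))
      (hq : q.comp inc = AlgHom.id A _) (y : S ⊗[A] (⨂[A] _ : Fin d, P)),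
      Algebra.TensorProduct.map (AlgHom.id S S) q
        (Algebra.TensorProduct.map (AlgHom.id S S) inc y) = y := by
    intro q hq y
    rw [← AlgHom.comp_apply, ← Algebra.TensorProduct.map_comp, hq, AlgHom.comp_id,
      Algebra.TensorProduct.map_id, AlgHom.id_apply]
  have h1 : Algebra.TensorProduct.map (AlgHom.id S S) q1 zp =
      x + w * ((1 : S) ⊗ₜ[A] PiTensorProduct.singleAlgHom (R := A) (A := fun _ : Fin d => P) j a) := by
    rw [hzp, map_add, map_mul, hmapid q1 hq1, hmapid q1 hq1, Algebra.TensorProduct.map_tmul,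
      AlgHom.id_apply]
    show _ + _ * ((1 : S) ⊗ₜ[A] tmap A d (evA (A := A) a) _) = _
    rw [tmap_single, evA_X]
  have h0 : Algebra.TensorProduct.map (AlgHom.id S S) q0 zp = x := by
    rw [hzp, map_add, map_mul, hmapid q0 hq0, hmapid q0 hq0, Algebra.TensorProduct.map_tmul,
      AlgHom.id_apply]
    show _ + _ * ((1 : S) ⊗ₜ[A] tmap A d (evA (A := A) 0) _) = _
    rw [tmap_single, evA_X, map_zero, TensorProduct.tmul_zero, mul_zero, add_zero]
  -- the two composites agree on invariants
  have hpost : ∀ b : P, π b = 0 →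
      postcomp (Θ ∘ₗ (tmap A d (evA (A := A) b)).toLinearMap) (tpowLaw A P[X] d).law =
        precomp γ.law (π.comp (evA (A := A) b)).toLinearMap := by
    intro b _
    rw [postcomp_comp, tpowLaw_tmap, postcomp_precomp, hΘ, postcomp_Lmap d bas G.law G.homog]
    show precomp (precomp γ.law π.toLinearMap) _ = _
    rw [precomp_precomp]
    rfl
  have hLL : postcomp (Θ ∘ₗ q1.toLinearMap) (tpowLaw A P[X] d).law =
      postcomp (Θ ∘ₗ q0.toLinearMap) (tpowLaw A P[X] d).law := by
    show postcomp (Θ ∘ₗ (tmap A d (evA (A := A) a)).toLinearMap) _ =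
      postcomp (Θ ∘ₗ (tmap A d (evA (A := A) 0)).toLinearMap) _
    rw [hpost a ha, hpost 0 (map_zero π), comp_evA π a ha]
  have key := lTensor_eq_of_inv d basX (Θ ∘ₗ q1.toLinearMap) (Θ ∘ₗ q0.toLinearMap) hLL S
    ((symmLaw A P[X] d).law.toFun' S zp) (symmLaw_inv d S zp)
  rw [LinearMap.lTensor_comp_apply, LinearMap.lTensor_comp_apply, lTensor_algHom_apply,
    lTensor_algHom_apply] at key
  show (FP d bas G).law.toFun' S _ = (FP d bas G).law.toFun' S _
  rw [FP_toFun', FP_toFun', ← h1, ← hΘ]
  conv_rhs => rw [← h0]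
  rw [symmLaw_tmap, symmLaw_tmap]
  exact key

end Ker

end Groth.Agent.H74.SymNormP
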