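-- helper74: the symmetrised norm law `T^d(B) → Γ^d(B)` for an arbitrary algebra `B`, by descent from
-- a free cover `P → B`.
import Groth.Agent.H74.SymNormP
import Groth.Agent.H74.LawDesc

set_option autoImplicit false
universe u

open scoped TensorProduct

namespace Groth.Agent.H74.SymNormB

open PolLaw Groth.Agent.H74.GammaSpan Groth.Agent.H74.LawBasis Groth.Agent.H74.TensorK
  Groth.Agent.H74.SymInv Groth.Agent.H74.SymNormP Groth.Agent.H74.LawDesc SymTen

section Factor

variable {A : Type u} [CommRing A] {P B R : Type u} [CommRing P] [Algebra A P] [CommRing B]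
  [Algebra A B] [CommRing R] [Algebra A R]

theorem exists_algHom_factor (π : P →ₐ[A] B) (hπ : Function.Surjective π) (f : P →ₐ[A] R)
    (h : ∀ a, π a = 0 → f a = 0) : ∃ g : B →ₐ[A] R, ∀ p, g (π p) = f p := by
  refine ⟨(Ideal.Quotient.liftₐ (RingHom.ker π) f (fun a ha => h a (RingHom.mem_ker.1 ha))).comp
    (Ideal.quotientKerAlgEquivOfSurjective hπ).symm.toAlgHom, fun p => ?_⟩
  have h1 : (Ideal.quotientKerAlgEquivOfSurjective hπ).symm (π p) =
      Ideal.Quotient.mk (RingHom.ker π) p := by
    rw [AlgEquiv.symm_apply_eq, Ideal.quotientKerAlgEquivOfSurjective_mk]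
  rw [AlgHom.comp_apply]
  change Ideal.Quotient.liftₐ (RingHom.ker π) f _
    ((Ideal.quotientKerAlgEquivOfSurjective hπ).symm (π p)) = f p
  rw [h1]
  exact Ideal.Quotient.liftₐ_apply _ _ _ _

end Factor

section Main

variable {A : Type u} [CommRing A] {B C : Type u} [CommRing B] [Algebra A B] [CommRing C]
  [Algebra A C] (d : ℕ) (γ : MulLaw A B C d) {P : Type u} [CommRing P] [Algebra A P] {ι : Type u}
  (bas : Module.Basis ι A P) (π : P →ₐ[A] B) (hπ : Function.Surjective π)

include hπ in
theorem tmap_surjective : Function.Surjective (tmap A d π) := by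
  intro t
  induction t using PiTensorProduct.induction_on with
  | smul_tprod r f =>
    refine ⟨r • PiTensorProduct.tprod A (fun j => Classical.choose (hπ (f j))), ?_⟩
    rw [map_smul, tmap_tprod]
    congr 2
    funext j
    exact Classical.choose_spec (hπ (f j))
  | add x y hx hy =>
    obtain ⟨a, rfl⟩ := hx
    obtain ⟨b, rfl⟩ := hy
    exact ⟨a + b, map_add _ _ _⟩

include hπ in
/-- **Existence** of the symmetrised norm law on `T^d(B)`. -/
theorem exists_symNorm : ∃ F : MulLaw A (⨂[A] _ : Fin d, B) C d.factorial,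
    ∀ (S : Type u) [CommSemiring S] [Algebra A S] (w : S ⊗[A] (⨂[A] _ : Fin d, P)),
      F.law.toFun' S ((tmap A d π).toLinearMap.lTensor S w) =
        (FP d bas (γ.precomp π)).law.toFun' S w := by
  classical
  set FPl := FP d bas (γ.precomp π) with hFPl
  let K' : Ideal (⨂[A] _ : Fin d, P) := Ideal.span {t | ∃ (j : Fin d) (a : P), π a = 0 ∧
    t = PiTensorProduct.singleAlgHom (R := A) (A := fun _ : Fin d => P) j a}
  have hK' : K' ≤ PolLaw.ker FPl.law := Ideal.span_le.2 (by
    rintro _ ⟨j, a, ha, rfl⟩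
    exact single_mem_ker d bas γ π a ha j)
  let mk : (⨂[A] _ : Fin d, P) →ₐ[A] ((⨂[A] _ : Fin d, P) ⧸ K') := Ideal.Quotient.mkₐ A K'
  have hmk : Function.Surjective mk := Ideal.Quotient.mkₐ_surjective A K'
  obtain ⟨Fb, hFb⟩ := exists_descent mk hmk FPl (fun k hk => hK' (by
    have : Ideal.Quotient.mk K' k = 0 := hk
    rwa [Ideal.Quotient.eq_zero_iff_mem] at this))
  have hg : ∀ j : Fin d, ∃ g : B →ₐ[A] ((⨂[A] _ : Fin d, P) ⧸ K'), ∀ p, g (π p) =
      mk (PiTensorProduct.singleAlgHom (R := A) (A := fun _ : Fin d => P) j p) := fun j =>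
    exists_algHom_factor π hπ
      (mk.comp (PiTensorProduct.singleAlgHom (R := A) (A := fun _ : Fin d => P) j)) (fun a ha => by
        show Ideal.Quotient.mk K' _ = 0
        exact Ideal.Quotient.eq_zero_iff_mem.2 (Ideal.subset_span ⟨j, a, ha, rfl⟩))
  choose g hgspec using hg
  let M : MultilinearMap A (fun _ : Fin d => B) ((⨂[A] _ : Fin d, P) ⧸ K') :=
    (MultilinearMap.mkPiAlgebra A (Fin d) ((⨂[A] _ : Fin d, P) ⧸ K')).compLinearMap
      (fun j => (g j).toLinearMap)
  have hM : ∀ b : Fin d → B, M b = ∏ j, g j (b j) := fun b => by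
    simp [M, MultilinearMap.compLinearMap_apply, MultilinearMap.mkPiAlgebra_apply]
  let h : (⨂[A] _ : Fin d, B) →ₐ[A] ((⨂[A] _ : Fin d, P) ⧸ K') :=
    PiTensorProduct.liftAlgHom M (by rw [hM]; simp)
      (fun x y => by rw [hM, hM, hM, ← Finset.prod_mul_distrib]; simp)
  have hcomp : h.comp (tmap A d π) = mk := by
    apply PiTensorProduct.algHom_ext
    intro j
    ext p
    simp only [AlgHom.comp_apply]
    rw [tmap_single, PiTensorProduct.singleAlgHom_apply]
    change PiTensorProduct.liftAlgHom M _ _ _ = _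
    rw [PiTensorProduct.liftAlgHom_apply, PiTensorProduct.lift.tprod, hM, Finset.prod_eq_single j]
    · rw [MonoidHom.mulSingle_apply, Pi.mulSingle_eq_same, hgspec]
    · intro k _ hk
      rw [MonoidHom.mulSingle_apply, Pi.mulSingle_eq_of_ne hk, map_one]
    · intro hj
      exact absurd (Finset.mem_univ j) hj
  refine ⟨Fb.precomp h, fun S _ _ w => ?_⟩
  show Fb.law.toFun' S (h.toLinearMap.lTensor S ((tmap A d π).toLinearMap.lTensor S w)) = _
  rw [← LinearMap.lTensor_comp_apply, ← AlgHom.comp_toLinearMap, hcomp]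
  exact congrFun (congrFun (congrFun (congrFun (congrArg PolynomialLaw.toFun' hFb) S) _) _) w

end Main

end Groth.Agent.H74.SymNormB
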