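-- helper74: properties of the symmetrised norm law `T^d(B) → Γ^d(B)` relative to the canonical map
-- `φ : Γ^d(B) → TS^d(B)`; the main existence statements.
import Groth.Agent.H74.SymNormB
import Groth.Agent.H74.GammaPol

set_option autoImplicit false
universe u

open scoped TensorProduct

namespace Groth.Agent.H74.SymNormC

open PolLaw Groth.Agent.H74.GammaSpan Groth.Agent.H74.LawBasis Groth.Agent.H74.TensorK
  Groth.Agent.H74.SymInv Groth.Agent.H74.SymNormP Groth.Agent.H74.SymNormB SymTen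

section Inv

variable {A : Type u} [CommRing A] {P : Type u} [CommRing P] [Algebra A P] {ι : Type u} (d : ℕ)
  (bas : Module.Basis ι A P)

theorem content_comp_perm {κ : Type*} (β : Fin d → κ) (σ : Equiv.Perm (Fin d)) :
    content (β ∘ σ) = content β := by
  rw [content, content]
  exact Equiv.sum_comp σ (fun j => Finsupp.single (β j) 1)

theorem perm_O (σ : Equiv.Perm (Fin d)) (μ : ι →₀ ℕ) :
    perm A P d σ (O d bas μ) = O d bas μ := by
  classical
  apply (E d bas).ext_elem
  intro β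
  rw [repr_perm, repr_O, repr_O, content_comp_perm]

theorem inv_tmul_O (S : Type u) [CommSemiring S] [Algebra A S] (s : S) (μ : ι →₀ ℕ) :
    Inv d S (s ⊗ₜ[A] O d bas μ) := by
  intro σ
  rw [Algebra.TensorProduct.map_tmul, perm_O, AlgHom.id_apply]

theorem inv_zero (S : Type u) [CommSemiring S] [Algebra A S] :
    Inv (A := A) (P := P) d S 0 := fun _ => map_zero _

theorem inv_add (S : Type u) [CommSemiring S] [Algebra A S]
    {z w : S ⊗[A] (⨂[A] _ : Fin d, P)} (hz : Inv d S z) (hw : Inv d S w) : Inv d S (z + w) :=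
  fun σ => by rw [map_add, hz σ, hw σ]

theorem inv_smul (S : Type u) [CommSemiring S] [Algebra A S] (a : A)
    {z : S ⊗[A] (⨂[A] _ : Fin d, P)} (hz : Inv d S z) : Inv d S (a • z) :=
  fun σ => by rw [← lTensor_algHom_apply, map_smul, lTensor_algHom_apply, hz σ]

end Inv

section Main

variable {A : Type u} [CommRing A] {B C : Type u} [CommRing B] [Algebra A B] [CommRing C]
  [Algebra A C] (d : ℕ) (γ : MulLaw A B C d) (φ : C →ₐ[A] SymTen.TS A B d)
  (hφ : ∀ (S : Type u) [CommSemiring S] [Algebra A S] (n : ℕ) (s : Fin n → S) (b : Fin n → B),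
    ((SymTen.TS A B d).val.comp φ).toLinearMap.lTensor S (γ.law.toFun' S (∑ j, s j ⊗ₜ[A] b j)) =
      ∑ c : Fin d → Fin n, (∏ i, s (c i)) ⊗ₜ[A] PiTensorProduct.tprod A (fun i => b (c i)))

theorem tpowLaw_sum_fin (S : Type u) [CommSemiring S] [Algebra A S] (n : ℕ) (s : Fin n → S)
    (b : Fin n → B) :
    (tpowLaw A B d).law.toFun' S (∑ j, s j ⊗ₜ[A] b j) =
      ∑ c : Fin d → Fin n, (∏ i, s (c i)) ⊗ₜ[A] PiTensorProduct.tprod A (fun i => b (c i)) := by
  classical
  rw [SymTen.tpowLaw, PolLaw.MulLaw.prodMap_toFun']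
  simp only [map_sum, Algebra.TensorProduct.map_tmul, AlgHom.id_apply]
  rw [Finset.prod_univ_sum, Fintype.piFinset_univ]
  refine Finset.sum_congr rfl (fun α _ => ?_)
  rw [prod_tmul_prod]
  congr 1
  simp only [PiTensorProduct.singleAlgHom_apply, MonoidHom.mulSingle_apply]
  rw [← PiTensorProduct.tprod_prod]
  exact congrArg _ (Finset.univ_prod_mulSingle (fun j => b (α j)))

include hφ in
theorem postcomp_incφ :
    postcomp ((SymTen.TS A B d).val.comp φ).toLinearMap γ.law = (tpowLaw A B d).law := by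
  refine PolynomialLaw.ext ?_
  funext S _ _ x
  obtain ⟨n, s, b, rfl⟩ := Groth.Agent.H74.GammaPol.exists_fin_sum S x
  show ((SymTen.TS A B d).val.comp φ).toLinearMap.lTensor S (γ.law.toFun' S _) = _
  rw [hφ, tpowLaw_sum_fin]

variable {P : Type u} [CommRing P] [Algebra A P] {ι : Type u} (bas : Module.Basis ι A P)
  (π : P →ₐ[A] B)

include hφ in
theorem postcomp_incφ_Lmap :
    postcomp (((SymTen.TS A B d).val.comp φ).toLinearMap ∘ₗ Lmap d bas (γ.precomp π).law)
        (tpowLaw A P d).law =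
      postcomp (tmap A d π).toLinearMap (tpowLaw A P d).law := by
  rw [postcomp_comp, postcomp_Lmap d bas _ (γ.precomp π).homog, tpowLaw_tmap]
  show postcomp _ (precomp γ.law π.toLinearMap) = _
  rw [postcomp_precomp, postcomp_incφ d γ φ hφ]

include hφ in
theorem incφ_Lmap_of_inv (S : Type u) [CommSemiring S] [Algebra A S]
    (u : S ⊗[A] (⨂[A] _ : Fin d, P)) (hu : Inv d S u) :
    ((SymTen.TS A B d).val.comp φ).toLinearMap.lTensor S
        ((Lmap d bas (γ.precomp π).law).lTensor S u) =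
      (tmap A d π).toLinearMap.lTensor S u := by
  rw [← LinearMap.lTensor_comp_apply]
  exact lTensor_eq_of_inv d bas _ _ (postcomp_incφ_Lmap d γ φ hφ bas π) S u hu

variable (hπ : Function.Surjective π) (F : MulLaw A (⨂[A] _ : Fin d, B) C d.factorial)
  (hF : ∀ (S : Type u) [CommSemiring S] [Algebra A S] (w : S ⊗[A] (⨂[A] _ : Fin d, P)),
    F.law.toFun' S ((tmap A d π).toLinearMap.lTensor S w) =
      (FP d bas (γ.precomp π)).law.toFun' S w)

include hφ hπ hF in
/-- law-level: `φ ∘ F` is the symmetrisation law -/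
theorem incφ_F (S : Type u) [CommSemiring S] [Algebra A S] (z : S ⊗[A] (⨂[A] _ : Fin d, B)) :
    ((SymTen.TS A B d).val.comp φ).toLinearMap.lTensor S (F.law.toFun' S z) =
      (symmLaw A B d).law.toFun' S z := by
  obtain ⟨w, rfl⟩ := LinearMap.lTensor_surjective (g := (tmap A d π).toLinearMap) S
    (tmap_surjective d π hπ) z
  rw [hF, FP_toFun', incφ_Lmap_of_inv d γ φ hφ bas π S _ (symmLaw_inv d S w),
    lTensor_algHom_apply, lTensor_algHom_apply]
  exact (symmLaw_tmap d π S w).symm

theorem lid_lTensor {M N : Type u} [AddCommGroup M] [Module A M] [AddCommGroup N] [Module A N]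
    (L : M →ₗ[A] N) (y : A ⊗[A] M) :
    TensorProduct.lid A N (L.lTensor A y) = L (TensorProduct.lid A M y) := by
  induction y using TensorProduct.induction_on with
  | zero => simp
  | tmul a m => simp
  | add x y hx hy => simp only [map_add, hx, hy]

include hφ hπ hF in
theorem ground_F (z : ⨂[A] _ : Fin d, B) :
    ((SymTen.TS A B d).val (φ (F.law.ground z)) : ⨂[A] _ : Fin d, B) =
      ∏ σ : Equiv.Perm (Fin d), SymTen.perm A B d σ z := by
  have h := incφ_F d γ φ hφ bas π hπ F hF A ((1 : A) ⊗ₜ[A] z)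
  have h2 := congrArg (TensorProduct.lid A _) h
  rw [lid_lTensor] at h2
  rw [PolynomialLaw.ground_apply]
  refine h2.trans ?_
  rw [symmLaw_toFun']
  simp only [Algebra.TensorProduct.map_tmul, AlgHom.id_apply]
  rw [prod_tmul_prod, Finset.prod_const_one, TensorProduct.lid_tmul, one_smul]

theorem perm_comp_val (σ : Equiv.Perm (Fin d)) :
    (perm A B d σ).comp (SymTen.TS A B d).val = (SymTen.TS A B d).val := by
  apply AlgHom.ext
  intro t
  rw [AlgHom.comp_apply, perm_apply]
  exact t.2 σ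

include hφ hπ hF in
theorem postcomp_F_val :
    MulLaw.postcomp φ (F.precomp (SymTen.TS A B d).val) =
      MulLaw.pow A (SymTen.TS A B d) d.factorial := by
  apply MulLaw.ext
  apply (Groth.Agent.S13174.result (A := A) (M := SymTen.TS A B d) (N := SymTen.TS A B d)).1
  refine Subtype.ext (funext fun n => funext fun y => ?_)
  show φ.toLinearMap.lTensor _ (F.law.toFun' _ ((SymTen.TS A B d).val.toLinearMap.lTensor _ y)) =
    y ^ d.factorial
  apply lTensor_val_injective (SymTen.TS A B d) n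
  rw [← LinearMap.lTensor_comp_apply, ← AlgHom.comp_toLinearMap,
    incφ_F d γ φ hφ bas π hπ F hF, symmLaw_toFun']
  have hperm : ∀ σ ∈ (Finset.univ : Finset (Equiv.Perm (Fin d))),
      Algebra.TensorProduct.map (AlgHom.id (MvPolynomial (Fin n) A) (MvPolynomial (Fin n) A))
          (perm A B d σ)
        ((SymTen.TS A B d).val.toLinearMap.lTensor (MvPolynomial (Fin n) A) y) =
      (SymTen.TS A B d).val.toLinearMap.lTensor (MvPolynomial (Fin n) A) y := by
    intro σ _
    rw [lTensor_algHom_apply, ← AlgHom.comp_apply, ← Algebra.TensorProduct.map_comp,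
      perm_comp_val, AlgHom.comp_id]
  rw [Finset.prod_congr rfl hperm, Finset.prod_const, Finset.card_univ, Fintype.card_perm,
    Fintype.card_fin, lTensor_algHom_apply, lTensor_algHom_apply, map_pow]

variable (hγ : IsGammaD γ)

include hγ hπ in
theorem span_coeffB_eq_top :
    Submodule.span A (Set.range (fun μ : ι →₀ ℕ => coeffB bas (γ.precomp π).law μ)) = ⊤ := by
  classical
  apply eq_top_of_cf_mem γ hγ
  intro n x ν
  obtain ⟨x', rfl⟩ := LinearMap.lTensor_surjective (g := π.toLinearMap) (MvPolynomial (Fin n) A) hπ x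
  have h0 : γ.law.toFun' (MvPolynomial (Fin n) A)
      (π.toLinearMap.lTensor (MvPolynomial (Fin n) A) x') =
      (γ.precomp π).law.toFun' (MvPolynomial (Fin n) A) x' := rfl
  rw [h0, tmul_basis_expand bas _ x', toFun'_sum_tmul bas _ (γ.precomp π).homog, map_sum]
  refine Submodule.sum_mem _ (fun μ _ => ?_)
  rw [cf_tmul]
  exact Submodule.smul_mem _ _ (Submodule.subset_span ⟨μ, rfl⟩)

include hγ hπ in
theorem exists_inv_preimage (S : Type u) [CommSemiring S] [Algebra A S] (c : S ⊗[A] C) :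
    ∃ u : S ⊗[A] (⨂[A] _ : Fin d, P), Inv d S u ∧
      (Lmap d bas (γ.precomp π).law).lTensor S u = c := by
  have hspan := span_coeffB_eq_top d γ bas π hπ hγ
  have hpure : ∀ c₀ : C, ∀ s : S, ∃ u : S ⊗[A] (⨂[A] _ : Fin d, P), Inv d S u ∧
      (Lmap d bas (γ.precomp π).law).lTensor S u = s ⊗ₜ[A] c₀ := by
    intro c₀
    have hc₀ : c₀ ∈ Submodule.span A
        (Set.range (fun μ : ι →₀ ℕ => coeffB bas (γ.precomp π).law μ)) := by
      rw [hspan]; exact Submodule.mem_top
    refine Submodule.span_induction (p := fun c₀ _ => ∀ s : S,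
      ∃ u : S ⊗[A] (⨂[A] _ : Fin d, P), Inv d S u ∧
        (Lmap d bas (γ.precomp π).law).lTensor S u = s ⊗ₜ[A] c₀) ?_ ?_ ?_ ?_ hc₀
    · rintro _ ⟨μ, rfl⟩ s
      refine ⟨s ⊗ₜ[A] O d bas μ, inv_tmul_O d bas S s μ, ?_⟩
      rw [LinearMap.lTensor_tmul, Lmap_O]
    · intro s
      exact ⟨0, inv_zero d S, by rw [map_zero, TensorProduct.tmul_zero]⟩
    · intro x y _ _ hx hy s
      obtain ⟨u, hu, hu'⟩ := hx s
      obtain ⟨v, hv, hv'⟩ := hy s
      exact ⟨u + v, inv_add d S hu hv, by rw [map_add, hu', hv', TensorProduct.tmul_add]⟩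
    · intro a x _ hx s
      obtain ⟨u, hu, hu'⟩ := hx s
      exact ⟨a • u, inv_smul d S a hu, by rw [map_smul, hu', TensorProduct.tmul_smul]⟩
  induction c using TensorProduct.induction_on with
  | zero => exact ⟨0, inv_zero d S, map_zero _⟩
  | tmul s c₀ => exact hpure c₀ s
  | add x y hx hy =>
    obtain ⟨u, hu, hu'⟩ := hx
    obtain ⟨v, hv, hv'⟩ := hy
    exact ⟨u + v, inv_add d S hu hv, by rw [map_add, hu', hv']⟩

include hφ hπ hF hγ in
theorem precomp_F_val :
    MulLaw.precomp (F.precomp (SymTen.TS A B d).val) φ = MulLaw.pow A C d.factorial := by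
  apply MulLaw.ext
  refine PolynomialLaw.ext ?_
  funext S _ _ c
  show F.law.toFun' S ((SymTen.TS A B d).val.toLinearMap.lTensor S (φ.toLinearMap.lTensor S c)) =
    c ^ d.factorial
  rw [← LinearMap.lTensor_comp_apply, ← AlgHom.comp_toLinearMap]
  obtain ⟨u, hu, rfl⟩ := exists_inv_preimage d γ bas π hπ hγ S c
  rw [incφ_Lmap_of_inv d γ φ hφ bas π S u hu, hF, FP_toFun', symmLaw_of_inv d S u hu,
    Lmap_lTensor_pow d bas _ S u hu]

end Main

section Final

variable {A : Type u} [CommRing A] {B C : Type u} [CommRing B] [Algebra A B] [CommRing C]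
  [Algebra A C] (d : ℕ) (γ : MulLaw A B C d) (hγ : IsGammaD γ) (φ : C →ₐ[A] SymTen.TS A B d)
  (hφ : ∀ (S : Type u) [CommSemiring S] [Algebra A S] (n : ℕ) (s : Fin n → S) (b : Fin n → B),
    ((SymTen.TS A B d).val.comp φ).toLinearMap.lTensor S (γ.law.toFun' S (∑ j, s j ⊗ₜ[A] b j)) =
      ∑ c : Fin d → Fin n, (∏ i, s (c i)) ⊗ₜ[A] PiTensorProduct.tprod A (fun i => b (c i)))

theorem aeval_id_surjective :
    Function.Surjective (MvPolynomial.aeval (R := A) (fun b : B => b) : MvPolynomial B A →ₐ[A] B) :=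
  fun b => ⟨MvPolynomial.X b, by simp⟩

include hφ in
/-- **Main 1**: a multiplicative law `T^d(B) → Γ^d(B)` of degree `d!` lifting the symmetrisation. -/
theorem main1 : ∃ F : MulLaw A (⨂[A] _ : Fin d, B) C d.factorial,
    ∀ z : ⨂[A] _ : Fin d, B, ((SymTen.TS A B d).val (φ (F.law.ground z)) : ⨂[A] _ : Fin d, B) =
      ∏ σ : Equiv.Perm (Fin d), SymTen.perm A B d σ z := by
  obtain ⟨F, hF⟩ := exists_symNorm d γ (MvPolynomial.basisMonomials B A)
    (MvPolynomial.aeval (R := A) (fun b : B => b)) aeval_id_surjective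
  exact ⟨F, ground_F d γ φ hφ (MvPolynomial.basisMonomials B A) _ aeval_id_surjective F hF⟩

include hφ hγ in
/-- **Main 2**: a multiplicative law `TS^d(B) → Γ^d(B)` of degree `d!` whose composites with `φ` are
the `d!`-th power laws. -/
theorem main2 : ∃ F : MulLaw A (SymTen.TS A B d) C d.factorial,
    MulLaw.postcomp φ F = MulLaw.pow A (SymTen.TS A B d) d.factorial ∧
      MulLaw.precomp F φ = MulLaw.pow A C d.factorial := by
  obtain ⟨F, hF⟩ := exists_symNorm d γ (MvPolynomial.basisMonomials B A)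
    (MvPolynomial.aeval (R := A) (fun b : B => b)) aeval_id_surjective
  exact ⟨F.precomp (SymTen.TS A B d).val,
    postcomp_F_val d γ φ hφ (MvPolynomial.basisMonomials B A) _ aeval_id_surjective F hF,
    precomp_F_val d γ φ hφ (MvPolynomial.basisMonomials B A) _ aeval_id_surjective F hF hγ⟩

end Final

end Groth.Agent.H74.SymNormC
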