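-- helper74: the symmetric tensors of a flat algebra are generated by the elementary symmetric
-- tensors.
import Groth.Agent.H74.SymNormC
import Groth.Agent.H80.FlatTS
import Mathlib.RingTheory.AdjoinRoot

set_option autoImplicit false
set_option linter.style.haveILetI false
universe u

open scoped TensorProduct

namespace Groth.Agent.H74.SymGen

open PolLaw Groth.Agent.H74.GammaSpan Groth.Agent.H74.LawBasis Groth.Agent.H74.TensorK
  Groth.Agent.H74.SymInv Groth.Agent.H74.SymNormP Groth.Agent.H74.SymNormC SymTen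

/-- functions to `Fin 2` correspond to subsets -/
def subsetEquiv (n : ℕ) : (Fin n → Fin 2) ≃ Finset (Fin n) where
  toFun c := Finset.univ.filter (fun i => c i = 1)
  invFun I := fun i => if i ∈ I then 1 else 0
  left_inv c := by
    funext i
    simp only [Finset.mem_filter, Finset.mem_univ, true_and]
    split_ifs with h
    · exact h.symm
    · have : c i = 0 ∨ c i = 1 := by
        generalize c i = x
        fin_cases x <;> simp
      rcases this with h0 | h1
      · exact h0.symm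
      · exact absurd h1 h
  right_inv I := by
    ext i
    simp only [Finset.mem_filter, Finset.mem_univ, true_and]
    split_ifs with h
    · simp [h]
    · simp [h]

section Sig

variable (R : Type u) [CommRing R] (A : Type u) [CommRing A] [Algebra R A] (n : ℕ)

/-- the elementary symmetric tensors -/
noncomputable def sig (j : ℕ) (a : A) : ⨂[R] _ : Fin n, A :=
  ∑ I ∈ (Finset.univ : Finset (Fin n)).powersetCard j,
    PiTensorProduct.tprod R (fun i : Fin n => if i ∈ I then a else (1 : A))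

/-- the subalgebra generated by the elementary symmetric tensors -/
noncomputable def E : Subalgebra R (⨂[R] _ : Fin n, A) :=
  Algebra.adjoin R {t : ⨂[R] _ : Fin n, A | ∃ (a : A) (j : ℕ), t = sig R A n j a}

theorem sig_mem_E (j : ℕ) (a : A) : sig R A n j a ∈ E R A n :=
  Algebra.subset_adjoin ⟨a, j, rfl⟩

/-- **generating function** of the elementary symmetric tensors -/
theorem tpow_one_add (S : Type u) [CommSemiring S] [Algebra R S] (s : S) (a : A) :
    (SymTen.tpowLaw R A n).law.toFun' S ((1 : S) ⊗ₜ[R] (1 : A) + s ⊗ₜ[R] a) =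
      ∑ j ∈ Finset.range (n + 1), (s ^ j) ⊗ₜ[R] sig R A n j a := by
  classical
  have h := tpowLaw_sum_fin (A := R) (B := A) n S 2 ![1, s] ![1, a]
  rw [Fin.sum_univ_two] at h
  simp only [Matrix.cons_val_zero, Matrix.cons_val_one] at h
  rw [h]
  rw [← Fintype.sum_equiv (subsetEquiv n).symm
    (fun I : Finset (Fin n) => (s ^ I.card) ⊗ₜ[R]
      PiTensorProduct.tprod R (fun i : Fin n => if i ∈ I then a else (1 : A))) _ (fun I => ?_)]
  · rw [← Finset.sum_fiberwise_of_maps_to (s := (Finset.univ : Finset (Finset (Fin n))))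
      (t := Finset.range (n + 1)) (g := fun I => I.card)
      (fun I _ => Finset.mem_range.mpr (Nat.lt_succ_of_le (by
        simpa using Finset.card_le_univ I)))]
    refine Finset.sum_congr rfl (fun j _ => ?_)
    rw [sig, TensorProduct.tmul_sum]
    have hset : (Finset.univ : Finset (Fin n)).powersetCard j =
        (Finset.univ : Finset (Finset (Fin n))).filter (fun I => I.card = j) := by
      ext I
      simp [Finset.mem_powersetCard]
    rw [hset]
    refine Finset.sum_congr rfl (fun I hI => ?_)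
    rw [(Finset.mem_filter.mp hI).2]
  · congr 1
    · show s ^ I.card = ∏ i, (![1, s] : Fin 2 → S) (if i ∈ I then 1 else 0)
      have : ∀ i : Fin n, (![1, s] : Fin 2 → S) (if i ∈ I then 1 else 0) =
          if i ∈ I then s else 1 := by
        intro i
        split_ifs <;> simp
      simp only [this]
      rw [Finset.prod_ite, Finset.prod_const_one, mul_one, Finset.prod_const]
      congr 1
      simp
    · congr 1
      funext i
      show _ = (![1, a] : Fin 2 → A) (if i ∈ I then 1 else 0)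
      split_ifs <;> simp

/-- the elementary symmetric tensors are symmetric -/
theorem sig_mem_TS (j : ℕ) (a : A) : sig R A n j a ∈ SymTen.TS R A n := by
  classical
  rw [SymTen.mem_TS_iff]
  intro σ
  rw [sig, map_sum]
  refine Finset.sum_equiv (Equiv.finsetCongr σ) (fun I => ?_) (fun I _ => ?_)
  · simp [Finset.mem_powersetCard]
  · rw [PiTensorProduct.reindex_tprod]
    congr 1
    funext i
    simp [Equiv.finsetCongr_apply]

theorem E_le_TS : E R A n ≤ SymTen.TS R A n := by
  refine Algebra.adjoin_le ?_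
  rintro t ⟨a, j, rfl⟩
  exact sig_mem_TS R A n j a

/-- the base change of the subalgebra `E` -/
noncomputable def ES (S : Type u) [CommSemiring S] [Algebra R S] :
    Subalgebra S (S ⊗[R] (⨂[R] _ : Fin n, A)) :=
  (Algebra.TensorProduct.map (AlgHom.id S S) (E R A n).val).range

theorem U_one (S : Type u) [CommSemiring S] [Algebra R S] :
    (SymTen.tpowLaw R A n).law.toFun' S 1 ∈ ES R A n S := by
  rw [((SymTen.tpowLaw R A n).mult S).1]
  exact one_mem _

variable {R A n} in
theorem U_mul (S : Type u) [CommSemiring S] [Algebra R S] {x y : S ⊗[R] A}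
    (hx : (SymTen.tpowLaw R A n).law.toFun' S x ∈ ES R A n S)
    (hy : (SymTen.tpowLaw R A n).law.toFun' S y ∈ ES R A n S) :
    (SymTen.tpowLaw R A n).law.toFun' S (x * y) ∈ ES R A n S := by
  rw [((SymTen.tpowLaw R A n).mult S).2]
  exact mul_mem hx hy

theorem U_one_add (S : Type u) [CommSemiring S] [Algebra R S] (s : S) (a : A) :
    (SymTen.tpowLaw R A n).law.toFun' S (1 + s ⊗ₜ[R] a) ∈ ES R A n S := by
  rw [Algebra.TensorProduct.one_def, tpow_one_add]
  refine Subalgebra.sum_mem _ (fun j _ => ?_)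
  refine (AlgHom.mem_range _).mpr ⟨(s ^ j) ⊗ₜ[R] ⟨sig R A n j a, sig_mem_E R A n j a⟩, ?_⟩
  rw [Algebra.TensorProduct.map_tmul]
  rfl

/-- products of the elements `1 + s ⊗ a` approximate `1 + δ^(k+1) y` to the next order -/
theorem exists_prod (S : Type u) [CommRing S] [Algebra R S] (ε : S) (k : ℕ) (y : S ⊗[R] A) :
    ∃ g z : S ⊗[R] A, (SymTen.tpowLaw R A n).law.toFun' S g ∈ ES R A n S ∧
      g = 1 + (ε ⊗ₜ[R] (1 : A)) ^ (k + 1) * y + (ε ⊗ₜ[R] (1 : A)) ^ (k + 2) * z := by
  induction y using TensorProduct.induction_on with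
  | zero => exact ⟨1, 0, U_one R A n S, by simp⟩
  | tmul s a =>
    refine ⟨1 + (ε ^ (k + 1) * s) ⊗ₜ[R] a, 0, U_one_add R A n S _ a, ?_⟩
    rw [Algebra.TensorProduct.tmul_pow, one_pow, Algebra.TensorProduct.tmul_mul_tmul, one_mul,
      mul_zero, add_zero]
  | add y₁ y₂ h₁ h₂ =>
    obtain ⟨g₁, z₁, hg₁, e₁⟩ := h₁
    obtain ⟨g₂, z₂, hg₂, e₂⟩ := h₂
    refine ⟨g₁ * g₂, z₁ + z₂ + (ε ⊗ₜ[R] (1 : A)) ^ k * y₁ * y₂ +
      (ε ⊗ₜ[R] (1 : A)) ^ (k + 1) * (y₁ * z₂ + z₁ * y₂) +
      (ε ⊗ₜ[R] (1 : A)) ^ (k + 2) * z₁ * z₂, U_mul S hg₁ hg₂, ?_⟩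
    rw [e₁, e₂]
    ring

/-- over a ring with a nilpotent element `ε`, all `1 + ε y` are in `𝒰` -/
theorem U_one_add_nilp (S : Type u) [CommRing S] [Algebra R S] (ε : S) (N : ℕ)
    (hε : ε ^ N = 0) :
    ∀ (m k : ℕ), N ≤ k + 1 + m → ∀ y : S ⊗[R] A,
      (SymTen.tpowLaw R A n).law.toFun' S (1 + (ε ⊗ₜ[R] (1 : A)) ^ (k + 1) * y) ∈
        ES R A n S := by
  have hδ : (ε ⊗ₜ[R] (1 : A)) ^ N = 0 := by
    rw [Algebra.TensorProduct.tmul_pow, hε, TensorProduct.zero_tmul]
  intro m
  induction m with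
  | zero =>
    intro k hk y
    have h0 : (ε ⊗ₜ[R] (1 : A)) ^ (k + 1) = 0 := by
      rw [← Nat.sub_add_cancel (show N ≤ k + 1 from hk), pow_add, hδ, mul_zero]
    rw [h0, zero_mul, add_zero]
    exact U_one R A n S
  | succ m ih =>
    intro k hk y
    obtain ⟨g, z, hg, e⟩ := exists_prod R A n S ε k y
    have hnil : IsNilpotent (g - 1) := by
      refine ⟨N, ?_⟩
      have : g - 1 = (ε ⊗ₜ[R] (1 : A)) ^ (k + 1) * (y + (ε ⊗ₜ[R] (1 : A)) * z) := by
        rw [e]; ring
      rw [this, mul_pow, ← pow_mul, mul_comm (k + 1) N, pow_mul, hδ,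
        zero_pow (Nat.succ_ne_zero k), zero_mul]
    have hu : IsUnit g := by
      have := hnil.isUnit_add_one
      rwa [sub_add_cancel] at this
    obtain ⟨gi, hgi⟩ := isUnit_iff_exists_inv.mp hu
    have hh : (1 + (ε ⊗ₜ[R] (1 : A)) ^ (k + 1) * y) * gi =
        1 + (ε ⊗ₜ[R] (1 : A)) ^ (k + 1 + 1) * (-(z * gi)) := by
      linear_combination hgi - gi * e
    have hf : (1 + (ε ⊗ₜ[R] (1 : A)) ^ (k + 1) * y) =
        ((1 + (ε ⊗ₜ[R] (1 : A)) ^ (k + 1) * y) * gi) * g := by
      rw [mul_assoc, mul_comm gi g, hgi, mul_one]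
    rw [hf]
    refine U_mul S ?_ hg
    rw [hh]
    exact ih (k + 1) (by omega) _

end Sig

section Trunc

variable (R : Type u) [CommRing R] (ι : Type u) (n : ℕ)

/-- the truncated polynomial ring `R[X_i][ε]/(ε^(n+1))` -/
abbrev SS : Type u :=
  AdjoinRoot ((Polynomial.X : Polynomial (MvPolynomial ι R)) ^ (n + 1))

/-- the nilpotent element -/
noncomputable abbrev eps : SS R ι n :=
  AdjoinRoot.root ((Polynomial.X : Polynomial (MvPolynomial ι R)) ^ (n + 1))

/-- the inclusion of the polynomial ring -/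
noncomputable abbrev ofS : MvPolynomial ι R →+* SS R ι n :=
  AdjoinRoot.of ((Polynomial.X : Polynomial (MvPolynomial ι R)) ^ (n + 1))

theorem eps_pow : (eps R ι n) ^ (n + 1) = 0 := by
  rw [eps, ← AdjoinRoot.mk_X, ← map_pow]
  exact AdjoinRoot.mk_self

/-- the coefficient functional -/
noncomputable def phi (μ : ι →₀ ℕ) : SS R ι n →ₗ[R] R :=
  (MvPolynomial.lcoeff R μ) ∘ₗ
    ((Polynomial.leval (1 : MvPolynomial ι R)).restrictScalars R) ∘ₗ
    ((AdjoinRoot.modByMonicHom (Polynomial.monic_X_pow (n + 1))).restrictScalars R)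

theorem phi_apply (μ : ι →₀ ℕ) (k : ℕ) (hk : k ≤ n) (p : MvPolynomial ι R) :
    phi R ι n μ ((eps R ι n) ^ k * ofS R ι n p) = MvPolynomial.coeff μ p := by
  rcases subsingleton_or_nontrivial R with hR | hR
  · exact Subsingleton.elim _ _
  have h1 : (eps R ι n) ^ k * ofS R ι n p =
      AdjoinRoot.mk ((Polynomial.X : Polynomial (MvPolynomial ι R)) ^ (n + 1))
        (Polynomial.C p * Polynomial.X ^ k) := by
    rw [map_mul, map_pow, AdjoinRoot.mk_X, AdjoinRoot.mk_C, mul_comm]
  rw [h1, phi]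
  simp only [LinearMap.comp_apply, LinearMap.restrictScalars_apply]
  rw [AdjoinRoot.modByMonicHom_mk, (Polynomial.modByMonic_eq_self_iff
    (Polynomial.monic_X_pow (n + 1))).mpr]
  · simp [Polynomial.leval, MvPolynomial.lcoeff]
  · rw [Polynomial.degree_X_pow]
    refine lt_of_le_of_lt (Polynomial.degree_C_mul_X_pow_le k p) ?_
    exact_mod_cast Nat.lt_succ_of_le hk

end Trunc

section Extract

variable (R : Type u) [CommRing R] (A : Type u) [CommRing A] [Algebra R A] (n : ℕ)
variable {ι : Type u}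

/-- the restriction of a multi-index to a finite set -/
noncomputable def restr (J₀ : Finset ι) (ν : ι →₀ ℕ) : ι →₀ ℕ :=
  ∑ i ∈ J₀, Finsupp.single i (ν i)

theorem restr_apply [DecidableEq ι] (J₀ : Finset ι) (ν : ι →₀ ℕ) (i : ι) :
    restr J₀ ν i = if i ∈ J₀ then ν i else 0 := by
  rw [restr, Finsupp.finsetSum_apply]
  simp only [Finsupp.single_apply]
  rw [Finset.sum_ite_eq']

/-- the values of the variables -/
noncomputable def sfun [DecidableEq ι] (i₀ : ι) (i : ι) : SS R ι n :=
  if i = i₀ then 1 else eps R ι n * ofS R ι n (MvPolynomial.X i)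

theorem prod_sfun [DecidableEq ι] (i₀ : ι) (J₀ : Finset ι) (hi₀ : i₀ ∉ J₀) (ν : ι →₀ ℕ)
    (hν : ν.support ⊆ insert i₀ J₀) :
    ν.prod (fun i k => sfun R n i₀ i ^ k) =
      eps R ι n ^ (∑ i ∈ J₀, ν i) * ofS R ι n (MvPolynomial.monomial (restr J₀ ν) 1) := by
  rw [Finsupp.prod_of_support_subset ν hν _ (fun i _ => pow_zero _), Finset.prod_insert hi₀]
  rw [sfun, if_pos rfl, one_pow, one_mul, restr, MvPolynomial.monomial_sum_one, map_prod,
    ← Finset.prod_pow_eq_pow_sum, ← Finset.prod_mul_distrib]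
  refine Finset.prod_congr rfl (fun i hi => ?_)
  have hne : i ≠ i₀ := fun h => hi₀ (h ▸ hi)
  rw [sfun, if_neg hne, mul_pow, ← MvPolynomial.X_pow_eq_monomial, map_pow]

theorem eq_of_restr_eq [DecidableEq ι] (i₀ : ι) (J₀ : Finset ι) (hi₀ : i₀ ∉ J₀) (ν μ : ι →₀ ℕ)
    (hν : ν ∈ Finset.finsuppAntidiag (insert i₀ J₀) n)
    (hμ : μ ∈ Finset.finsuppAntidiag (insert i₀ J₀) n)
    (h : restr J₀ ν = restr J₀ μ) : ν = μ := by
  rw [Finset.mem_finsuppAntidiag] at hν hμ
  have hJ : ∀ i ∈ J₀, ν i = μ i := by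
    intro i hi
    have := DFunLike.congr_fun h i
    rwa [restr_apply, restr_apply, if_pos hi, if_pos hi] at this
  have h0 : ν i₀ = μ i₀ := by
    have e1 : ν i₀ + ∑ i ∈ J₀, ν i = n := by
      rw [← Finset.sum_insert hi₀]; exact hν.1
    have e2 : μ i₀ + ∑ i ∈ J₀, μ i = n := by
      rw [← Finset.sum_insert hi₀]; exact hμ.1
    have e3 : ∑ i ∈ J₀, ν i = ∑ i ∈ J₀, μ i := Finset.sum_congr rfl hJ
    rw [e3] at e1
    omega
  ext i
  by_cases hi : i ∈ J₀
  · exact hJ i hi
  · by_cases hi' : i = i₀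
    · rw [hi']; exact h0
    · have hn : i ∉ insert i₀ J₀ := by simp [hi, hi']
      rw [Finsupp.notMem_support_iff.mp (fun hh => hn (hν.2 hh)),
        Finsupp.notMem_support_iff.mp (fun hh => hn (hμ.2 hh))]

/-- **Extraction**: the coefficients of the tensor power law with respect to a family containing
`1` lie in the subalgebra generated by the elementary symmetric tensors. -/
theorem coeffB_mem_E (b : ι → A) (i₀ : ι) (hi₀ : b i₀ = 1) (μ : ι →₀ ℕ) :
    coeffB b (SymTen.tpowLaw R A n).law μ ∈ E R A n := by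
  classical
  by_cases hdeg : deg μ = n
  swap
  · rw [coeffB, cJ_eq_zero_of_deg_ne b _ (SymTen.tpowLaw R A n).homog _ _ hdeg]
    exact zero_mem _
  set J₀ := μ.support.erase i₀ with hJ₀
  have hi₀J : i₀ ∉ J₀ := Finset.notMem_erase _ _
  have hμJ : μ ∈ Finset.finsuppAntidiag (insert i₀ J₀) n := by
    rw [Finset.mem_finsuppAntidiag]
    have hsub : μ.support ⊆ insert i₀ J₀ := by
      intro i hi
      by_cases h : i = i₀
      · simp [h]
      · exact Finset.mem_insert_of_mem (Finset.mem_erase.mpr ⟨h, hi⟩)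
    refine ⟨?_, hsub⟩
    rw [← hdeg, deg, Finsupp.sum]
    exact (Finset.sum_subset hsub (fun i _ hi => Finsupp.notMem_support_iff.1 hi)).symm
  have hf : ∑ i ∈ insert i₀ J₀, sfun R n i₀ i ⊗ₜ[R] b i =
      1 + (eps R ι n ⊗ₜ[R] (1 : A)) ^ (0 + 1) *
        ∑ i ∈ J₀, ofS R ι n (MvPolynomial.X i) ⊗ₜ[R] b i := by
    rw [Finset.sum_insert hi₀J, sfun, if_pos rfl, hi₀, Algebra.TensorProduct.one_def, zero_add,
      pow_one, Finset.mul_sum]
    congr 1
    refine Finset.sum_congr rfl (fun i hi => ?_)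
    have hne : i ≠ i₀ := fun h => hi₀J (h ▸ hi)
    rw [sfun, if_neg hne, Algebra.TensorProduct.tmul_mul_tmul, one_mul]
  have hU := U_one_add_nilp R A n (SS R ι n) (eps R ι n) (n + 1) (eps_pow R ι n) (n + 1) 0
    (by omega) (∑ i ∈ J₀, ofS R ι n (MvPolynomial.X i) ⊗ₜ[R] b i)
  rw [← hf, toFun'_sum_tmul b _ (SymTen.tpowLaw R A n).homog] at hU
  obtain ⟨w, hw⟩ := (AlgHom.mem_range _).mp hU
  rw [← lTensor_algHom_apply] at hw
  have key := lid_rTensor_lTensor (E R A n).val.toLinearMap (phi R ι n (restr J₀ μ)) w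
  rw [hw, map_sum, map_sum] at key
  have hterm : ∀ ν ∈ Finset.finsuppAntidiag (insert i₀ J₀) n,
      TensorProduct.lid R _ ((phi R ι n (restr J₀ μ)).rTensor _
        ((ν.prod fun i k => sfun R n i₀ i ^ k) ⊗ₜ[R]
          coeffB b (SymTen.tpowLaw R A n).law ν)) =
      if ν = μ then coeffB b (SymTen.tpowLaw R A n).law ν else 0 := by
    intro ν hν
    have hν' := Finset.mem_finsuppAntidiag.mp hν
    rw [LinearMap.rTensor_tmul, TensorProduct.lid_tmul, prod_sfun R n i₀ J₀ hi₀J ν hν'.2,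
      phi_apply _ _ _ _ _ (le_trans (Finset.sum_le_sum_of_subset (Finset.subset_insert _ _))
        (le_of_eq hν'.1)),
      MvPolynomial.coeff_monomial]
    by_cases h : ν = μ
    · rw [if_pos h, if_pos (by rw [h]), one_smul]
    · rw [if_neg h, if_neg (fun hh => h (eq_of_restr_eq n i₀ J₀ hi₀J ν μ hν hμJ hh)), zero_smul]
  rw [Finset.sum_congr rfl hterm, Finset.sum_ite_eq', if_pos hμJ] at key
  rw [key]
  exact SetLike.coe_mem _

end Extract

section Main

variable (R : Type u) [CommRing R] (A : Type u) [CommRing A] [Algebra R A] (n : ℕ)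

theorem coeffB_precomp {M N Q : Type u} [AddCommGroup M] [Module R M] [AddCommGroup N]
    [Module R N] [AddCommGroup Q] [Module R Q] {ι : Type u} (b : ι → M) (g : M →ₗ[R] N)
    (F : N →ₚₗ[R] Q) (μ : ι →₀ ℕ) :
    coeffB b (precomp F g) μ = coeffB (fun i => g (b i)) F μ := by
  rw [coeffB, coeffB, cJ, cJ]
  congr 1
  show F.toFun' _ (g.lTensor _ (gen b μ.support)) = F.toFun' _ (gen (fun i => g (b i)) μ.support)
  congr 1
  rw [gen, map_sum, gen]
  refine Finset.sum_congr rfl (fun i _ => ?_)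
  rw [LinearMap.lTensor_tmul]

theorem TS_le_E [Module.Flat R A] : SymTen.TS R A n ≤ E R A n := by
  classical
  intro t ht
  set π : MvPolynomial A R →ₐ[R] A := MvPolynomial.aeval id with hπ
  have hsurj : Function.Surjective π.toLinearMap := fun a => ⟨MvPolynomial.X a, by simp [hπ]⟩
  obtain ⟨s, hs, hst⟩ := Groth.Agent.H80.FlatTS.exists_inv_preimage π.toLinearMap hsurj t ht
  have hmap : ∀ x, PiTensorProduct.map (fun _ : Fin n => π.toLinearMap) x =
      SymTen.tmap R n π x := by
    intro x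
    induction x using PiTensorProduct.induction_on with
    | smul_tprod r f => simp [PiTensorProduct.map_tprod]
    | add x y hx hy => simp [hx, hy]
  set bas := MvPolynomial.basisMonomials A R with hbas
  have hinv : Inv n R ((1 : R) ⊗ₜ[R] s) := by
    intro σ
    rw [Algebra.TensorProduct.map_tmul, SymTen.perm_apply, hs σ]
    rfl
  obtain ⟨W, ζ, hW⟩ := invariant_eq_sum n bas R _ hinv
  have hs' : s = ∑ μ ∈ W, ζ μ • O n bas μ := by
    have := congrArg (TensorProduct.lid R _) hW
    simpa using this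
  rw [← hst, hmap, hs', map_sum]
  refine Subalgebra.sum_mem _ (fun μ _ => ?_)
  rw [map_smul]
  refine Subalgebra.smul_mem _ ?_ _
  have h1 : SymTen.tmap R n π (O n bas μ) =
      coeffB (fun i => π (bas i)) (SymTen.tpowLaw R A n).law μ := by
    rw [O, ← AlgHom.toLinearMap_apply, ← coeffB_postcomp, tpowLaw_tmap, coeffB_precomp]
    rfl
  rw [h1]
  exact coeffB_mem_E R A n _ 0 (by simp [hbas, hπ, MvPolynomial.coe_basisMonomials]) μ

/-- **Generation of the symmetric tensors** of a flat algebra by the elementary symmetric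
tensors. -/
theorem TS_eq_E [Module.Flat R A] : SymTen.TS R A n = E R A n :=
  le_antisymm (TS_le_E R A n) (E_le_TS R A n)

end Main

end Groth.Agent.H74.SymGen
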