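-- helper74: `K ⊗ Γ^d_A(B)` embeds into `T^d_K(K ⊗ B)`; geometric reducedness of `Γ^d`.
import Groth.Agent.H74.SymPt

set_option autoImplicit false
set_option linter.style.haveILetI false
universe u

open scoped TensorProduct

namespace Groth.Agent.H74.SymRed

open PolLaw Groth.Agent.H74.GammaSpan Groth.Agent.H74.LawBasis Groth.Agent.H74.TensorK
  Groth.Agent.H74.SymInv Groth.Agent.H74.SymNormP Groth.Agent.H74.SymNormC
  Groth.Agent.H74.SymPt SymTen

section Plain

variable {A : Type u} [CommRing A] {B : Type u} [CommRing B] [Algebra A B]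
  (k : Type u) [Field k] [Algebra A k] (d : ℕ) (g : B →ₚₗ[A] k)

theorem bcLaw_isHomog (hg : IsHomog g d) : IsHomog (LawBCk.bcLaw k g) d := by
  intro S _ _ s x
  letI := LawBCk.algA (A := A) k S
  haveI := LawBCk.towerA (A := A) k S
  exact LawBCk.bcFun_smul k g hg s x

/-- the linear form on `T^d_k(k ⊗ B)` attached to the base change of a homogeneous law -/
noncomputable def L' : (⨂[k] _ : Fin d, k ⊗[A] B) →ₗ[k] k :=
  Lmap d (Module.Free.chooseBasis k (k ⊗[A] B)) (LawBCk.bcLaw k g)

theorem postcomp_L' (hg : IsHomog g d) :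
    postcomp (L' k d g) (SymTen.tpowLaw k (k ⊗[A] B) d).law = LawBCk.bcLaw k g :=
  postcomp_Lmap d _ _ (bcLaw_isHomog k d g hg)

/-- the `A`-linear form on `T^d_A(B)` -/
noncomputable def gL' : (⨂[A] _ : Fin d, B) →ₗ[A] k :=
  (L' k d g).restrictScalars A ∘ₗ (j A B k d).toLinearMap

theorem gL'_apply (t : ⨂[A] _ : Fin d, B) : gL' k d g t = L' k d g (j A B k d t) := rfl

theorem gL'_tpow_sum (hg : IsHomog g d) (S : Type u) [CommSemiring S] [Algebra A S] (n : ℕ)
    (s : Fin n → S) (b : Fin n → B) :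
    (gL' k d g).lTensor S ((SymTen.tpowLaw A B d).law.toFun' S (∑ j, s j ⊗ₜ[A] b j)) =
      g.toFun' S (∑ j, s j ⊗ₜ[A] b j) := by
  have P1 : (L' k d g).lTensor (k ⊗[A] S)
      ((SymTen.tpowLaw k (k ⊗[A] B) d).law.toFun' (k ⊗[A] S)
        (∑ j, ((1 : k) ⊗ₜ[A] s j) ⊗ₜ[k] ((1 : k) ⊗ₜ[A] b j))) =
      (LawBCk.bcLaw k g).toFun' (k ⊗[A] S)
        (∑ j, ((1 : k) ⊗ₜ[A] s j) ⊗ₜ[k] ((1 : k) ⊗ₜ[A] b j)) :=
    congrFun (congrFun (congrFun (congrFun (congrArg PolynomialLaw.toFun' (postcomp_L' k d g hg))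
      (k ⊗[A] S)) _) _) _
  have e2 : (LawBCk.bcLaw k g).toFun' (k ⊗[A] S)
      (∑ j, ((1 : k) ⊗ₜ[A] s j) ⊗ₜ[k] ((1 : k) ⊗ₜ[A] b j)) =
      (Algebra.TensorProduct.rid k (k ⊗[A] S) (k ⊗[A] S)).symm
        (TensorProduct.comm A S k (g.toFun' S (∑ j, s j ⊗ₜ[A] b j))) := by
    rw [LawBCk.bcFun_eq, LawBCk.bcFun_def, cancel_sum, ← PolynomialLaw.isCompat_apply',
      mu_includeRight]
  rw [tpowLaw_sum_fin, e2] at P1
  have P2 := congrArg (Algebra.TensorProduct.rid k (k ⊗[A] S) (k ⊗[A] S)) P1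
  rw [AlgEquiv.apply_symm_apply] at P2
  apply (TensorProduct.comm A S k).injective
  rw [← P2, tpowLaw_sum_fin]
  simp only [map_sum, LinearMap.lTensor_tmul, Algebra.TensorProduct.rid_tmul,
    TensorProduct.comm_tmul]
  refine Finset.sum_congr rfl (fun c _ => ?_)
  have hp : ∏ i, ((1 : k) ⊗ₜ[A] s (c i)) = (1 : k) ⊗ₜ[A] ∏ i, s (c i) :=
    (map_prod (Algebra.TensorProduct.includeRight : S →ₐ[A] k ⊗[A] S) (fun i => s (c i))
      Finset.univ).symm
  rw [gL'_apply, j_tprod, hp, TensorProduct.smul_tmul', smul_eq_mul, mul_one]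

theorem postcomp_gL' (hg : IsHomog g d) :
    postcomp (gL' k d g) (SymTen.tpowLaw A B d).law = g := by
  refine PolynomialLaw.ext ?_
  funext S _ _ x
  obtain ⟨n, s, b, rfl⟩ := Groth.Agent.H74.GammaPol.exists_fin_sum S x
  exact gL'_tpow_sum k d g hg S n s b

end Plain

section Embed

variable {A : Type u} [CommRing A] {B C : Type u} [CommRing B] [Algebra A B] [CommRing C]
  [Algebra A C] {d : ℕ} (γ : MulLaw A B C d) (hγ : IsGammaD γ)
  (K : Type u) [Field K] [Algebra A K]

theorem isHomog_postcomp {M N N' : Type u} [AddCommGroup M] [Module A M] [AddCommGroup N]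
    [Module A N] [AddCommGroup N'] [Module A N'] (ℓ : N →ₗ[A] N') (F : M →ₚₗ[A] N) {e : ℕ}
    (hF : IsHomog F e) : IsHomog (postcomp ℓ F) e := by
  intro S _ _ s x
  show ℓ.lTensor S (F.toFun' S (s • x)) = s ^ e • ℓ.lTensor S (F.toFun' S x)
  rw [hF S s x, lTensor_smul']

include hγ in
/-- the comparison map `K ⊗ Γ^d_A(B) → T^d_K(K ⊗ B)` and its injectivity -/
theorem exists_embedding :
    ∃ ψ : K ⊗[A] C →ₐ[K] (⨂[K] _ : Fin d, K ⊗[A] B), Function.Injective ψ := by
  obtain ⟨ψ₀, hψ₀, -⟩ := hγ (⨂[K] _ : Fin d, K ⊗[A] B)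
    (MulLaw.postcomp (j A B K d) (SymTen.tpowLaw A B d))
  have hψ₀' : postcomp ψ₀.toLinearMap γ.law =
      postcomp (j A B K d).toLinearMap (SymTen.tpowLaw A B d).law := hψ₀
  let ψ : K ⊗[A] C →ₐ[K] (⨂[K] _ : Fin d, K ⊗[A] B) :=
    Algebra.TensorProduct.lift (Algebra.ofId K _) ψ₀ (fun _ _ => Commute.all _ _)
  refine ⟨ψ, ?_⟩
  -- every functional on `K ⊗ C` factors through `ψ`
  have key : ∀ lam : Module.Dual K (K ⊗[A] C), ∃ Lam : (⨂[K] _ : Fin d, K ⊗[A] B) →ₗ[K] K,
      ∀ z : K ⊗[A] C, Lam (ψ z) = lam z := by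
    intro lam
    let incl : C →ₗ[A] K ⊗[A] C :=
      (Algebra.TensorProduct.includeRight : C →ₐ[A] K ⊗[A] C).toLinearMap
    let ℓ : C →ₗ[A] K := lam.restrictScalars A ∘ₗ incl
    let g : B →ₚₗ[A] K := postcomp ℓ γ.law
    have hg : IsHomog g d := isHomog_postcomp ℓ γ.law γ.homog
    have h1 : (L' K d g).restrictScalars A ∘ₗ ψ₀.toLinearMap = ℓ := by
      apply linearMap_ext_of_postcomp γ hγ
      intro n x
      rw [LinearMap.lTensor_comp_apply]
      have e1 : ψ₀.toLinearMap.lTensor (MvPolynomial (Fin n) A)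
          (γ.law.toFun' (MvPolynomial (Fin n) A) x) =
          (j A B K d).toLinearMap.lTensor (MvPolynomial (Fin n) A)
            ((SymTen.tpowLaw A B d).law.toFun' (MvPolynomial (Fin n) A) x) :=
        congrFun (congrFun (congrFun (congrFun (congrArg PolynomialLaw.toFun' hψ₀')
          (MvPolynomial (Fin n) A)) _) _) x
      rw [e1, ← LinearMap.lTensor_comp_apply]
      have e2 := congrFun (congrFun (congrFun (congrFun (congrArg PolynomialLaw.toFun'
        (postcomp_gL' K d g hg)) (MvPolynomial (Fin n) A)) _) _) x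
      exact e2
    refine ⟨L' K d g, fun z => ?_⟩
    induction z using TensorProduct.induction_on with
    | zero => simp
    | tmul a c =>
      have h2 : ψ (a ⊗ₜ[A] c) = a • ψ₀ c := by
        show Algebra.TensorProduct.lift (Algebra.ofId K _) ψ₀ (fun _ _ => Commute.all _ _)
          (a ⊗ₜ[A] c) = _
        rw [Algebra.TensorProduct.lift_tmul, Algebra.ofId_apply, ← Algebra.smul_def]
      have h3 : L' K d g (ψ₀ c) = lam ((1 : K) ⊗ₜ[A] c) := LinearMap.congr_fun h1 c
      rw [h2, map_smul, h3, ← map_smul, TensorProduct.smul_tmul', smul_eq_mul, mul_one]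
    | add x y hx hy => simp only [map_add, hx, hy]
  intro z w hzw
  rw [← sub_eq_zero]
  apply (Module.forall_dual_apply_eq_zero_iff K (z - w)).mp
  intro lam
  obtain ⟨Lam, hLam⟩ := key lam
  rw [← hLam, map_sub, hzw, sub_self, map_zero]

end Embed

section Red

/-- splitting off the first coordinate -/
def consE (d : ℕ) (ι : Type u) : (Fin (d + 1) → ι) ≃ ι × (Fin d → ι) where
  toFun α := (α 0, Fin.tail α)
  invFun p := Fin.cons p.1 p.2
  left_inv α := Fin.cons_self_tail α
  right_inv p := by simp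

theorem regroup {d : ℕ} {ι : Type u} {L₀ N : Type*} [AddCommMonoid L₀] [AddCommMonoid N]
    (z : (Fin (d + 1) → ι) →₀ L₀) (F : ι → (Fin d → ι) → L₀ → N) :
    z.sum (fun α c => F (α 0) (Fin.tail α) c) =
      ((z.equivMapDomain (consE d ι)).curry).sum (fun i Zi => Zi.sum (fun β c => F i β c)) := by
  rw [Finsupp.sum_curry_index]
  rw [Finsupp.sum, Finsupp.sum]
  simp only [Finsupp.equivMapDomain_apply]
  refine Finset.sum_equiv (consE d ι) (fun a => ?_) (fun a _ => ?_)
  · rw [Finsupp.mem_support_iff, Finsupp.mem_support_iff, Finsupp.equivMapDomain_apply,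
      Equiv.symm_apply_apply]
  · rw [Equiv.symm_apply_apply]
    rfl

variable {K : Type u} [Field K] {M : Type u} [CommRing M] [Algebra K M] {ι : Type u}
  (bas : Module.Basis ι K M)

/-- the value of a coefficient family at a tuple of points -/
noncomputable def pval {d : ℕ} {L₀ L : Type u} [Field L₀] [Field L] (θ : L₀ →+* L)
    (χ : Fin d → (M →+* L)) (z : (Fin d → ι) →₀ L₀) : L :=
  z.sum (fun α c => θ c * ∏ s, χ s (bas (α s)))

theorem pval_zero {d : ℕ} {L₀ L : Type u} [Field L₀] [Field L] (θ : L₀ →+* L)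
    (χ : Fin d → (M →+* L)) : pval bas θ χ (0 : (Fin d → ι) →₀ L₀) = 0 :=
  Finsupp.sum_zero_index

theorem map_pval {d : ℕ} {L₀ L L' : Type u} [Field L₀] [Field L] [Field L'] (θ : L₀ →+* L)
    (χ : Fin d → (M →+* L)) (f : L →+* L') (z : (Fin d → ι) →₀ L₀) :
    f (pval bas θ χ z) = pval bas (f.comp θ) (fun s => f.comp (χ s)) z := by
  rw [pval, pval, Finsupp.sum, Finsupp.sum, map_sum]
  refine Finset.sum_congr rfl (fun α _ => ?_)
  rw [map_mul, map_prod]
  rfl

theorem pval_cons {d : ℕ} {L₀ L : Type u} [Field L₀] [Field L] (θ : L₀ →+* L)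
    (χ₁ : M →+* L) (χ : Fin d → (M →+* L)) (z : (Fin (d + 1) → ι) →₀ L₀) :
    pval bas θ (Fin.cons χ₁ χ : Fin (d + 1) → (M →+* L)) z =
      ((z.equivMapDomain (consE d ι)).curry).sum
        (fun i Zi => χ₁ (bas i) * pval bas θ χ Zi) := by
  have h1 : pval bas θ (Fin.cons χ₁ χ : Fin (d + 1) → (M →+* L)) z =
      z.sum (fun α c => (fun (i : ι) (β : Fin d → ι) (c : L₀) =>
        χ₁ (bas i) * (θ c * ∏ s, χ s (bas (β s)))) (α 0) (Fin.tail α) c) := by
    rw [pval]
    refine Finsupp.sum_congr (fun α _ => ?_)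
    rw [Fin.prod_univ_succ]
    simp only [Fin.cons_zero, Fin.cons_succ]
    show θ (z α) * (χ₁ (bas (α 0)) * ∏ s : Fin d, χ s (bas (α s.succ))) =
      χ₁ (bas (α 0)) * (θ (z α) * ∏ s : Fin d, χ s (bas (Fin.tail α s)))
    simp only [Fin.tail]
    ring
  rw [h1]
  refine (regroup z (fun (i : ι) (β : Fin d → ι) (c : L₀) =>
    χ₁ (bas i) * (θ c * ∏ s, χ s (bas (β s))))).trans ?_
  refine Finsupp.sum_congr (fun i _ => ?_)
  rw [pval, Finsupp.mul_sum]

include bas in
theorem sep (hM : ∀ (L : Type u) [Field L] [Algebra K L], IsReduced (L ⊗[K] M)) :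
    ∀ (d : ℕ) (L₀ : Type u) [Field L₀] (κ₀ : K →+* L₀) (z : (Fin d → ι) →₀ L₀),
      (∀ (L : Type u) [Field L] (θ : L₀ →+* L) (χ : Fin d → (M →+* L)),
        (∀ s, (χ s).comp (algebraMap K M) = θ.comp κ₀) → pval bas θ χ z = 0) → z = 0 := by
  classical
  intro d
  induction d with
  | zero =>
    intro L₀ _ κ₀ z H
    have h := H L₀ (RingHom.id L₀) (fun s => s.elim0) (fun s => s.elim0)
    refine Finsupp.ext (fun α => ?_)
    have hα : ∀ β : Fin 0 → ι, β = α := fun β => Subsingleton.elim _ _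
    rw [pval, Finsupp.sum] at h
    simp only [Finset.univ_eq_empty, Finset.prod_empty, mul_one, RingHom.id_apply] at h
    by_cases hz : z α = 0
    · simpa using hz
    · have hs : z.support = {α} := by
        ext β
        rw [hα β]
        simp [hz]
      rw [hs, Finset.sum_singleton] at h
      simpa using h
  | succ d ih =>
    intro L₀ _ κ₀ z H
    have hzZ : ∀ α, z α = (z.equivMapDomain (consE d ι)).curry (α 0) (Fin.tail α) := by
      intro α
      rw [Finsupp.curry_apply, Finsupp.equivMapDomain_apply]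
      exact congrArg z ((consE d ι).symm_apply_apply α).symm
    suffices hZ0 : ∀ i, (z.equivMapDomain (consE d ι)).curry i = 0 by
      refine Finsupp.ext (fun α => ?_)
      rw [hzZ, hZ0]
      rfl
    intro i₀
    apply ih L₀ κ₀
    intro L _ θ χ' hχ'
    letI : Algebra K L := (θ.comp κ₀).toAlgebra
    haveI : IsReduced (L ⊗[K] M) := hM L
    set Z := (z.equivMapDomain (consE d ι)).curry with hZ
    have hm : Z.sum (fun i Zi => (pval bas θ χ' Zi) ⊗ₜ[K] bas i) = (0 : L ⊗[K] M) := by
      apply IsNilpotent.eq_zero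
      rw [nilpotent_iff_mem_prime]
      intro 𝔮 h𝔮
      rw [← Ideal.algebraMap_residueField_eq_zero]
      let ρ : L ⊗[K] M →+* 𝔮.ResidueField := algebraMap _ _
      let incL : L →+* L ⊗[K] M := Algebra.TensorProduct.includeLeftRingHom
      let incR : M →+* L ⊗[K] M :=
        (Algebra.TensorProduct.includeRight : M →ₐ[K] L ⊗[K] M).toRingHom
      have hcompat : ∀ s : Fin (d + 1),
          ((Fin.cons (ρ.comp incR) (fun s => (ρ.comp incL).comp (χ' s)) :
            Fin (d + 1) → (M →+* 𝔮.ResidueField)) s).comp (algebraMap K M) =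
          ((ρ.comp incL).comp θ).comp κ₀ := by
        intro s
        refine Fin.cases ?_ (fun s => ?_) s
        · rw [Fin.cons_zero]
          ext x
          simp only [RingHom.comp_apply]
          congr 1
          show (Algebra.TensorProduct.includeRight : M →ₐ[K] L ⊗[K] M) (algebraMap K M x) =
            Algebra.TensorProduct.includeLeftRingHom (θ (κ₀ x))
          rw [AlgHom.commutes, Algebra.TensorProduct.algebraMap_apply]
          rfl
        · rw [Fin.cons_succ, RingHom.comp_assoc, hχ' s]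
          rfl
      have h := H 𝔮.ResidueField ((ρ.comp incL).comp θ)
        (Fin.cons (ρ.comp incR) (fun s => (ρ.comp incL).comp (χ' s))) hcompat
      rw [pval_cons] at h
      rw [← h, Finsupp.sum, Finsupp.sum, map_sum]
      refine Finset.sum_congr rfl (fun i _ => ?_)
      rw [← map_pval]
      show ρ (pval bas θ χ' (Z i) ⊗ₜ[K] bas i) = ρ (incR (bas i)) * ρ (incL (pval bas θ χ' (Z i)))
      rw [← map_mul]
      congr 1
      show _ = ((1 : L) ⊗ₜ[K] bas i) * (pval bas θ χ' (Z i) ⊗ₜ[K] (1 : M))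
      rw [Algebra.TensorProduct.tmul_mul_tmul, one_mul, mul_one]
    have hc := congrArg (fun y => (Algebra.TensorProduct.basis L bas).repr y i₀) hm
    simp only [map_zero, Finsupp.zero_apply] at hc
    rw [Finsupp.sum, map_sum, Finsupp.finsetSum_apply] at hc
    have hterm : ∀ i, (Algebra.TensorProduct.basis L bas).repr
        (pval bas θ χ' (Z i) ⊗ₜ[K] bas i) i₀ = if i = i₀ then pval bas θ χ' (Z i) else 0 := by
      intro i
      rw [Algebra.TensorProduct.basis_repr_tmul]
      simp only [Finsupp.smul_apply, Finsupp.mapRange_apply, Module.Basis.repr_self,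
        Finsupp.single_apply]
      split_ifs <;> simp
    simp only [hterm] at hc
    rw [Finset.sum_ite_eq'] at hc
    by_cases hi : i₀ ∈ Z.support
    · rw [if_pos hi] at hc
      exact hc
    · rw [Finsupp.notMem_support_iff] at hi
      rw [hi]
      exact pval_zero bas θ χ'

include bas in
/-- tensor powers of a geometrically reduced algebra over a field are reduced -/
theorem isReduced_tensorPower (hM : ∀ (L : Type u) [Field L] [Algebra K L], IsReduced (L ⊗[K] M))
    (d : ℕ) : IsReduced (⨂[K] _ : Fin d, M) := by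
  refine ⟨fun t ht => ?_⟩
  have hz : (E d bas).repr t = 0 := by
    apply sep bas hM d K (RingHom.id K)
    intro L _ θ χ hχ
    letI : Algebra K L := θ.toAlgebra
    let χa : Fin d → (M →ₐ[K] L) := fun s =>
      { χ s with commutes' := fun x => congrArg (fun f : K →+* L => f x) (hχ s) }
    let ev : (⨂[K] _ : Fin d, M) →ₐ[K] L :=
      PiTensorProduct.liftAlgHom
        ((MultilinearMap.mkPiAlgebra K (Fin d) L).compLinearMap (fun s => (χa s).toLinearMap))
        (by simp)
        (by
          intro x y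
          simp only [MultilinearMap.compLinearMap_apply, MultilinearMap.mkPiAlgebra_apply,
            AlgHom.toLinearMap_apply, Pi.mul_apply, map_mul]
          exact Finset.prod_mul_distrib)
    have hev : ∀ m : Fin d → M, ev (PiTensorProduct.tprod K m) = ∏ s, χ s (m s) := by
      intro m
      simp [ev, χa]
    have h1 : ev t = pval bas θ χ ((E d bas).repr t) := by
      conv_lhs => rw [← (E d bas).linearCombination_repr t, Finsupp.linearCombination_apply]
      rw [pval, Finsupp.sum, Finsupp.sum, map_sum]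
      refine Finset.sum_congr rfl (fun α _ => ?_)
      rw [map_smul, E_apply, hev, Algebra.smul_def]
      rfl
    rw [← h1]
    exact (ht.map ev).eq_zero
  have := congrArg (E d bas).repr.symm hz
  simpa using this

end Red

section Final

variable {A : Type u} [CommRing A] {B C : Type u} [CommRing B] [Algebra A B] [CommRing C]
  [Algebra A C] {d : ℕ} (γ : MulLaw A B C d) (hγ : IsGammaD γ)

include hγ in
/-- geometric reducedness passes from `B` to `Γ^d_A(B)` -/
theorem isReduced_gamma
    (hred : ∀ (K : Type u) [Field K] [Algebra A K], IsReduced (K ⊗[A] B))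
    (K : Type u) [Field K] [Algebra A K] : IsReduced (K ⊗[A] C) := by
  obtain ⟨ψ, hψ⟩ := exists_embedding γ hγ K
  have hM : ∀ (L : Type u) [Field L] [Algebra K L], IsReduced (L ⊗[K] (K ⊗[A] B)) := by
    intro L _ _
    letI : Algebra A L := Algebra.compHom L (algebraMap A K)
    haveI : IsScalarTower A K L := IsScalarTower.of_algebraMap_eq (fun _ => rfl)
    haveI : IsReduced (L ⊗[A] B) := hred L
    exact isReduced_of_injective (Algebra.TensorProduct.cancelBaseChange A K L L B).toRingHom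
      (Algebra.TensorProduct.cancelBaseChange A K L L B).injective
  haveI : IsReduced (⨂[K] _ : Fin d, K ⊗[A] B) :=
    isReduced_tensorPower (Module.Free.chooseBasis K (K ⊗[A] B)) hM d
  exact isReduced_of_injective ψ.toRingHom hψ

end Final

end Groth.Agent.H74.SymRed
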