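-- helper74: `Spec TS^d_A(B) → Spec Γ^d_A(B)` is a universal homeomorphism with trivial residue
-- field extensions.
import Groth.Agent.H74.SymPt
import Groth.Agent.H69.SNTower
import Groth.Prelude.Def_Flat

set_option autoImplicit false
universe u

open scoped TensorProduct
open AlgebraicGeometry CategoryTheory

namespace Groth.Agent.H74.SymUH

open PolLaw Groth.Agent.H74.SymPt Groth.Agent.H69

section Main

variable {A : Type u} [CommRing A] {B C : Type u} [CommRing B] [Algebra A B] [CommRing C]
  [Algebra A C] (d : ℕ) (γ : MulLaw A B C d) (hγ : IsGammaD γ) (φ : C →ₐ[A] SymTen.TS A B d)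
  (hφ : ∀ (S : Type u) [CommSemiring S] [Algebra A S] (n : ℕ) (s : Fin n → S) (b : Fin n → B),
    ((SymTen.TS A B d).val.comp φ).toLinearMap.lTensor S (γ.law.toFun' S (∑ j, s j ⊗ₜ[A] b j)) =
      ∑ c : Fin d → Fin n, (∏ i, s (c i)) ⊗ₜ[A] PiTensorProduct.tprod A (fun i => b (c i)))

include hγ hφ in
theorem isIntegral : φ.toRingHom.IsIntegral := by
  obtain ⟨F, h1, -⟩ := Groth.Agent.H74.SymNormC.main2 d γ hγ φ hφ
  have e1 : ∀ y : A ⊗[A] SymTen.TS A B d,
      φ.toLinearMap.lTensor A (F.law.toFun' A y) = y ^ d.factorial := fun y =>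
    congrFun (congrFun (congrFun (congrFun (congrArg PolynomialLaw.toFun'
      (congrArg PolLaw.MulLaw.law h1)) A) _) _) y
  intro y
  have h := e1 ((1 : A) ⊗ₜ[A] y)
  rw [Algebra.TensorProduct.tmul_pow, one_pow] at h
  have h3 := congrArg (TensorProduct.lid A (SymTen.TS A B d)) h
  rw [Groth.Agent.H74.SymNormC.lid_lTensor, TensorProduct.lid_tmul, one_smul] at h3
  have hy : φ.toRingHom.IsIntegralElem (y ^ d.factorial) := by
    rw [← h3]
    exact φ.toRingHom.isIntegralElem_map
  exact @IsIntegral.of_pow C _ _ _ φ.toRingHom.toAlgebra _ _ (Nat.factorial_pos d) hy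

include hγ hφ in
theorem ringHom_ext_field (L : Type u) [Field L] (f g : SymTen.TS A B d →+* L)
    (hfg : f.comp φ.toRingHom = g.comp φ.toRingHom) : f = g := by
  obtain ⟨F, h1, -⟩ := Groth.Agent.H74.SymNormC.main2 d γ hγ φ hφ
  letI : Algebra A L := ((f.comp φ.toRingHom).comp (algebraMap A C)).toAlgebra
  have hfc : ∀ a : A, f (algebraMap A (SymTen.TS A B d) a) = algebraMap A L a := by
    intro a
    show f (algebraMap A (SymTen.TS A B d) a) = f (φ (algebraMap A C a))
    rw [AlgHom.commutes]
  have hgc : ∀ a : A, g (algebraMap A (SymTen.TS A B d) a) = algebraMap A L a := by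
    intro a
    show g (algebraMap A (SymTen.TS A B d) a) = f (φ (algebraMap A C a))
    rw [← AlgHom.commutes φ a]
    exact (congrArg (fun k : C →+* L => k (algebraMap A C a)) hfg).symm
  let f' : SymTen.TS A B d →ₐ[A] L := { f with commutes' := hfc }
  let g' : SymTen.TS A B d →ₐ[A] L := { g with commutes' := hgc }
  have hfg' : f'.comp φ = g'.comp φ := by
    ext c
    exact congrArg (fun k : C →+* L => k c) hfg
  have e1 : ∀ y : L ⊗[A] SymTen.TS A B d,
      φ.toLinearMap.lTensor L (F.law.toFun' L y) = y ^ d.factorial := fun y =>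
    congrFun (congrFun (congrFun (congrFun (congrArg PolynomialLaw.toFun'
      (congrArg PolLaw.MulLaw.law h1)) L) _) _) y
  have hm : ∀ (u : SymTen.TS A B d →ₐ[A] L) (w : L ⊗[A] C),
      Algebra.TensorProduct.productMap (AlgHom.id A L) u (φ.toLinearMap.lTensor L w) =
        Algebra.TensorProduct.productMap (AlgHom.id A L) (u.comp φ) w := by
    intro u w
    induction w using TensorProduct.induction_on with
    | zero => simp
    | tmul s c => simp
    | add x y hx hy => simp only [map_add, hx, hy]
  ext y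
  have h := e1 ((-(f y)) ⊗ₜ[A] 1 + 1 ⊗ₜ[A] y)
  have hf1 := congrArg (Algebra.TensorProduct.productMap (AlgHom.id A L) f') h
  have hg1 := congrArg (Algebra.TensorProduct.productMap (AlgHom.id A L) g') h
  rw [hm, map_pow] at hf1 hg1
  rw [hfg', hg1] at hf1
  have ef : Algebra.TensorProduct.productMap (AlgHom.id A L) f'
      ((-(f y)) ⊗ₜ[A] 1 + 1 ⊗ₜ[A] y) = 0 := by
    rw [map_add, Algebra.TensorProduct.productMap_apply_tmul,
      Algebra.TensorProduct.productMap_apply_tmul, map_one, map_one]
    show -(f y) * 1 + 1 * f y = 0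
    ring
  have eg : Algebra.TensorProduct.productMap (AlgHom.id A L) g'
      ((-(f y)) ⊗ₜ[A] 1 + 1 ⊗ₜ[A] y) = g y - f y := by
    rw [map_add, Algebra.TensorProduct.productMap_apply_tmul,
      Algebra.TensorProduct.productMap_apply_tmul, map_one, map_one]
    show -(f y) * 1 + 1 * g y = g y - f y
    ring
  rw [ef, eg, zero_pow (Nat.factorial_ne_zero d)] at hf1
  have := pow_eq_zero_iff (Nat.factorial_ne_zero d) |>.mp hf1
  exact (sub_eq_zero.mp this).symm

include hγ hφ in
theorem comap_surjective : Function.Surjective (PrimeSpectrum.comap φ.toRingHom) := by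
  intro P
  obtain ⟨g, hg⟩ := exists_lift_field d γ hγ φ hφ P.asIdeal.ResidueField
    (algebraMap C P.asIdeal.ResidueField)
  refine ⟨⟨RingHom.ker g, RingHom.ker_isPrime g⟩, PrimeSpectrum.ext ?_⟩
  show (RingHom.ker g).comap φ.toRingHom = P.asIdeal
  rw [RingHom.comap_ker, hg]
  exact Ideal.ker_algebraMap_residueField _

include hγ hφ in
theorem isUnivHomeo : FlatMor.IsUnivHomeo (Spec.map (CommRingCat.ofHom φ.toRingHom)) := by
  haveI : IsIntegralHom (Spec.map (CommRingCat.ofHom φ.toRingHom)) :=
    IsIntegralHom.SpecMap_iff.mpr (isIntegral d γ hγ φ hφ)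
  haveI : UniversallyInjective (Spec.map (CommRingCat.ofHom φ.toRingHom)) :=
    universallyInjective_Spec_of_ringHom_ext φ.toRingHom (ringHom_ext_field d γ hγ φ hφ)
  haveI : Surjective (Spec.map (CommRingCat.ofHom φ.toRingHom)) :=
    ⟨comap_surjective d γ hγ φ hφ⟩
  exact isUnivHomeo_of_integral _

include hγ hφ in
theorem resTriv : ResTriv φ.toRingHom := by
  intro q
  apply surjective_residueFieldMap_of_forall_mem_range
  intro b
  have hbij := comap_bijective_of_isUnivHomeo_Spec φ.toRingHom (isUnivHomeo d γ hγ φ hφ)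
  obtain ⟨g, hg⟩ := exists_lift_field d γ hγ φ hφ (q.asIdeal.comap φ.toRingHom).ResidueField
    (algebraMap C _)
  have hker : RingHom.ker g = q.asIdeal := by
    have : (⟨RingHom.ker g, RingHom.ker_isPrime g⟩ : PrimeSpectrum _) = q := by
      apply hbij.1
      apply PrimeSpectrum.ext
      show (RingHom.ker g).comap φ.toRingHom = q.asIdeal.comap φ.toRingHom
      rw [RingHom.comap_ker, hg]
      exact Ideal.ker_algebraMap_residueField _
    exact congrArg PrimeSpectrum.asIdeal this
  let gbar : q.asIdeal.ResidueField →+* (q.asIdeal.comap φ.toRingHom).ResidueField :=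
    Ideal.ResidueField.lift q.asIdeal g (le_of_eq hker.symm) (by
      intro t ht
      show IsUnit (g t)
      rw [isUnit_iff_ne_zero]
      intro h0
      exact ht (hker ▸ (RingHom.mem_ker.mpr h0)))
  have hcomp : gbar.comp (Ideal.ResidueField.map (q.asIdeal.comap φ.toRingHom) q.asIdeal
      φ.toRingHom rfl) = RingHom.id _ := by
    apply Ideal.ResidueField.ringHom_ext
    ext c
    simp only [RingHom.comp_apply, Ideal.ResidueField.map_algebraMap, RingHom.id_apply]
    rw [Ideal.ResidueField.lift_algebraMap]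
    exact congrArg (fun k : C →+* _ => k c) hg
  refine ⟨g b, ?_⟩
  apply gbar.injective
  have := congrArg (fun k => k (g b)) hcomp
  simp only [RingHom.comp_apply, RingHom.id_apply] at this
  rw [this, Ideal.ResidueField.lift_algebraMap]

include hγ hφ in
theorem main :
    FlatMor.IsUnivHomeo (Spec.map (CommRingCat.ofHom φ.toRingHom)) ∧
      ∀ x : ↥(Spec (CommRingCat.of (SymTen.TS A B d))),
        Function.Surjective ((Spec.map (CommRingCat.ofHom φ.toRingHom)).residueFieldMap x).hom :=
  ⟨isUnivHomeo d γ hγ φ hφ, fun x => (resTriv_iff φ.toRingHom).mpr (resTriv d γ hγ φ hφ) x⟩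

end Main

end Groth.Agent.H74.SymUH
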