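import Mathlib
import Groth.Agent.H74.Cofree
import Groth.Agent.S18812

/-!
The trace form of a finite commutative Hopf algebra is an integral (helper74).

For a finite commutative Hopf algebra `A` over a field `K`, `Algebra.trace K A : A → K` satisfies
`(tr ⊗ id) (Δ y) = tr y ⊗ 1`, because `x ⊗ y ↦ (x ⊗ 1) * comm (Δ y)` is an `A`-algebra automorphism
of `A ⊗ A` sending `1 ⊗ y` to `comm (Δ y)`.  In characteristic zero `tr / dim A` is a total
integral.
-/

set_option autoImplicit false
universe u v
open TensorProduct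

namespace Groth.Agent.H74.TraceInt

open Coalgebra

section

variable {K : Type u} {A : Type v} [Field K] [CommRing A] [HopfAlgebra K A]

/-- `comm ∘ Δ` as an algebra hom. -/
noncomputable def cop : A →ₐ[K] A ⊗[K] A :=
  (Algebra.TensorProduct.comm K A A).toAlgHom.comp (Bialgebra.comulAlgHom K A)

theorem cop_apply (y : A) :
    cop (K := K) y = TensorProduct.comm K A A (comul (R := K) y) := rfl

/-- the Galois-type map `x ⊗ y ↦ (x ⊗ 1) * comm (Δ y)`, an `A`-algebra endomorphism of `A ⊗ A` -/
noncomputable def θ : A ⊗[K] A →ₐ[A] A ⊗[K] A :=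
  Algebra.TensorProduct.lift Algebra.TensorProduct.includeLeft (cop (K := K) (A := A))
    (fun _ _ => Commute.all _ _)

theorem θ_tmul (x y : A) :
    θ (K := K) (x ⊗ₜ[K] y) =
      (x ⊗ₜ[K] (1 : A)) * TensorProduct.comm K A A (comul (R := K) y) := by
  rw [θ, Algebra.TensorProduct.lift_tmul, Algebra.TensorProduct.includeLeft_apply, cop_apply]

/-- `a ⊗ (b ⊗ v) ↦ b S(v) ⊗ a` -/
noncomputable def F₂ : A ⊗[K] (A ⊗[K] A) →ₗ[K] A ⊗[K] A :=
  (TensorProduct.comm K A A).toLinearMap ∘ₗ
    (LinearMap.mul' K A ∘ₗ (HopfAlgebra.antipode K (A := A)).lTensor A).lTensor A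

theorem key_aux (v : A) (z : A ⊗[K] A) :
    ((HopfAlgebra.antipode K v) ⊗ₜ[K] (1 : A)) * TensorProduct.comm K A A z =
      F₂ (TensorProduct.assoc K A A A (z ⊗ₜ[K] v)) := by
  induction z using TensorProduct.induction_on with
  | zero => simp
  | tmul a b =>
    simp [F₂, Algebra.TensorProduct.tmul_mul_tmul, mul_comm]
  | add z1 z2 h1 h2 =>
    rw [map_add, mul_add, h1, h2, add_tmul, map_add, map_add]

theorem step1 (w : A ⊗[K] A) :
    θ (K := K) (TensorProduct.comm K A A ((HopfAlgebra.antipode K (A := A)).lTensor A w)) =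
      F₂ (TensorProduct.assoc K A A A ((comul (R := K) (A := A)).rTensor A w)) := by
  induction w using TensorProduct.induction_on with
  | zero => simp
  | tmul u v =>
    rw [LinearMap.lTensor_tmul, TensorProduct.comm_tmul, θ_tmul, key_aux, LinearMap.rTensor_tmul]
  | add w1 w2 h1 h2 => simp only [map_add, h1, h2]

theorem θ_h (y : A) :
    θ (K := K) (TensorProduct.comm K A A
      ((HopfAlgebra.antipode K (A := A)).lTensor A (comul (R := K) y))) = (1 : A) ⊗ₜ[K] y := by
  rw [step1, Coalgebra.coassoc_apply]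
  simp only [F₂, LinearMap.comp_apply, LinearEquiv.coe_coe]
  rw [← LinearMap.comp_apply (LinearMap.lTensor A _) (LinearMap.lTensor A _),
    ← LinearMap.lTensor_comp, LinearMap.comp_assoc, HopfAlgebra.mul_antipode_lTensor_comul,
    LinearMap.lTensor_comp, LinearMap.comp_apply, Coalgebra.lTensor_counit_comul]
  simp

theorem θ_surjective : Function.Surjective (θ (K := K) (A := A)) := by
  intro z
  induction z using TensorProduct.induction_on with
  | zero => exact ⟨0, map_zero _⟩
  | tmul x y =>
    refine ⟨(x ⊗ₜ[K] (1 : A)) * TensorProduct.comm K A A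
      ((HopfAlgebra.antipode K (A := A)).lTensor A (comul (R := K) y)), ?_⟩
    have hx : x ⊗ₜ[K] (1 : A) = algebraMap A (A ⊗[K] A) x := rfl
    rw [map_mul, θ_h, hx, AlgHom.commutes, ← hx, Algebra.TensorProduct.tmul_mul_tmul, mul_one,
      one_mul]
  | add z1 z2 h1 h2 =>
    obtain ⟨a, ha⟩ := h1
    obtain ⟨b, hb⟩ := h2
    exact ⟨a + b, by rw [map_add, ha, hb]⟩

variable [Module.Finite K A]

theorem θ_bijective : Function.Bijective (θ (K := K) (A := A)) := by
  have hs := θ_surjective (K := K) (A := A)
  have hinj : Function.Injective ((θ (K := K) (A := A)).toLinearMap.restrictScalars K) :=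
    LinearMap.injective_iff_surjective.mpr (fun z => hs z)
  exact ⟨fun a b h => hinj h, hs⟩

theorem trace_one_tmul (y : A) :
    Algebra.trace A (A ⊗[K] A) ((1 : A) ⊗ₜ[K] y) = algebraMap K A (Algebra.trace K A y) := by
  rw [Algebra.trace_apply, Algebra.trace_apply, ← LinearMap.trace_baseChange]
  congr 1
  refine LinearMap.ext fun w => ?_
  induction w using TensorProduct.induction_on with
  | zero => simp
  | tmul a b => simp [Algebra.TensorProduct.tmul_mul_tmul]
  | add a b ha hb => simp only [map_add, ha, hb]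

theorem trace_tmul (x y : A) :
    Algebra.trace A (A ⊗[K] A) (x ⊗ₜ[K] y) = x * algebraMap K A (Algebra.trace K A y) := by
  have h : x ⊗ₜ[K] y = x • ((1 : A) ⊗ₜ[K] y) := by
    rw [TensorProduct.smul_tmul', smul_eq_mul, mul_one]
  rw [h, map_smul, trace_one_tmul, smul_eq_mul]

theorem trace_eq (z : A ⊗[K] A) :
    Algebra.trace A (A ⊗[K] A) z =
      TensorProduct.rid K A ((Algebra.trace K A).lTensor A z) := by
  induction z using TensorProduct.induction_on with
  | zero => simp
  | tmul x y =>
    rw [trace_tmul, LinearMap.lTensor_tmul, TensorProduct.rid_tmul, Algebra.smul_def, mul_comm]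
  | add a b ha hb => simp only [map_add, ha, hb]

omit [Module.Finite K A] in
theorem lid_rTensor_eq (f : A →ₗ[K] K) (z : A ⊗[K] A) :
    TensorProduct.lid K A (f.rTensor A z) =
      TensorProduct.rid K A (f.lTensor A (TensorProduct.comm K A A z)) := by
  induction z using TensorProduct.induction_on with
  | zero => simp
  | tmul a b => simp
  | add a b ha hb => simp only [map_add, ha, hb]

/-- The trace is an integral. -/
theorem trace_integral (y : A) :
    (Algebra.trace K A).rTensor A (comul (R := K) y) = (Algebra.trace K A y) ⊗ₜ[K] (1 : A) := by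
  apply (TensorProduct.lid K A).injective
  have e := Algebra.trace_eq_of_algEquiv
    (AlgEquiv.ofBijective (θ (K := K) (A := A)) θ_bijective) ((1 : A) ⊗ₜ[K] y)
  rw [AlgEquiv.ofBijective_apply, θ_tmul, ← Algebra.TensorProduct.one_def, one_mul, trace_eq,
    trace_one_tmul] at e
  rw [lid_rTensor_eq, e, TensorProduct.lid_tmul, Algebra.algebraMap_eq_smul_one]

theorem isComodHom_trace :
    @Hoch.IsComodHom K _ A _ _ _ A _ _ _ K _ _ (HopfRep.Comod.trivial K A K)
      (Algebra.trace K A) := by
  refine LinearMap.ext fun y => ?_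
  show (TensorProduct.mk K K A).flip 1 (Algebra.trace K A y) =
    (Algebra.trace K A).rTensor A (comul (R := K) y)
  rw [trace_integral]
  rfl

theorem exists_total_integral [CharZero K] :
    ∃ α : A →ₗ[K] K,
      @Hoch.IsComodHom K _ A _ _ _ A _ _ _ K _ _ (HopfRep.Comod.trivial K A K) α ∧ α 1 = 1 := by
  haveI : Nontrivial A := by
    refine ⟨⟨1, 0, fun h => ?_⟩⟩
    have h' := congrArg (counit (R := K)) h
    rw [Bialgebra.counit_one, map_zero] at h'
    exact one_ne_zero h'
  have hn : (Module.finrank K A : K) ≠ 0 := Nat.cast_ne_zero.mpr (Module.finrank_pos.ne')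
  refine ⟨(Module.finrank K A : K)⁻¹ • Algebra.trace K A, ?_, ?_⟩
  · letI := HopfRep.Comod.trivial K A K
    exact Groth.Agent.H40.isComodHom_smul isComodHom_trace _
  · have h1 : Algebra.trace K A (1 : A) = (Module.finrank K A : K) := by
      rw [← map_one (algebraMap K A), Algebra.trace_algebraMap, nsmul_eq_mul, mul_one]
    rw [LinearMap.smul_apply, h1, smul_eq_mul, inv_mul_cancel₀ hn]

/-- A finite commutative Hopf algebra over a field of characteristic zero: the regular comodule is
semisimple. -/
theorem isSemisimpleComod_regular [CharZero K] : HopfRep.IsSemisimpleComod K A A := by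
  obtain ⟨α, hα, h1⟩ := exists_total_integral (K := K) (A := A)
  exact Groth.Agent.S18812.result K A α hα h1 A

end

end Groth.Agent.H74.TraceInt
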