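import Mathlib
import Groth.Agent.H74.TraceInt

/-! Total integral from the trace when `dim A` is invertible in `K` (helper74). -/

set_option autoImplicit false
universe u v
open TensorProduct

namespace Groth.Agent.H74.TraceInt

variable {K : Type u} {A : Type v} [Field K] [CommRing A] [HopfAlgebra K A] [Module.Finite K A]

theorem exists_total_integral_of_finrank_ne_zero (hn : (Module.finrank K A : K) ≠ 0) :
    ∃ α : A →ₗ[K] K,
      @Hoch.IsComodHom K _ A _ _ _ A _ _ _ K _ _ (HopfRep.Comod.trivial K A K) α ∧ α 1 = 1 := by
  refine ⟨(Module.finrank K A : K)⁻¹ • Algebra.trace K A, ?_, ?_⟩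
  · letI := HopfRep.Comod.trivial K A K
    exact Groth.Agent.H40.isComodHom_smul isComodHom_trace _
  · have h1 : Algebra.trace K A (1 : A) = (Module.finrank K A : K) := by
      rw [← map_one (algebraMap K A), Algebra.trace_algebraMap, nsmul_eq_mul, mul_one]
    rw [LinearMap.smul_apply, h1, smul_eq_mul, inv_mul_cancel₀ hn]

/-- If `dim A` is invertible in `K`, every comodule over the finite commutative Hopf algebra `A`
is semisimple. -/
theorem isSemisimpleComod_of_finrank_ne_zero (hn : (Module.finrank K A : K) ≠ 0)
    (V : Type*) [AddCommGroup V] [Module K V] [HopfRep.Comod K A V] :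
    HopfRep.IsSemisimpleComod K A V := by
  obtain ⟨α, hα, h1⟩ := exists_total_integral_of_finrank_ne_zero (K := K) (A := A) hn
  exact Groth.Agent.S18812.result K A α hα h1 V

end Groth.Agent.H74.TraceInt
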