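import Groth.Prelude.Def_W4c3truncdispsmoothDesc
import Groth.Agent.H74.ExtDesc
import Groth.Agent.H74.WittDescent

/-! Full faithfulness of the functor from `W_n(R)`-modules to descent data relative to a
faithfully flat `R → R'`, on flat targets.

Implementation note: the kernel is very sensitive to comparing large terms elaborated along
different instance paths, so all large terms are produced by instantiating the generic
definitions of the first section, and conversions between the pseudofunctor world and the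
module world are only done on variables. -/

set_option autoImplicit false
set_option maxHeartbeats 400000
set_option backward.isDefEq.respectTransparency false
universe u v' u' v₁ u₁ t

namespace Groth.Agent.H74.WittDescFF

open CategoryTheory Opposite TensorProduct ChangeOfRings W4c3truncdispsmooth ExtDesc

section Gen

variable {C : Type u₁} [Category.{v₁} C] (F : Pseudofunctor (LocallyDiscrete Cᵒᵖ) Cat.{v', u'})

theorem toLoc_comp {S X Y : C} {f : X ⟶ S} {f₁ : Y ⟶ X} {q : Y ⟶ S} (h : f₁ ≫ f = q) :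
    f.op.toLoc ≫ f₁.op.toLoc = q.op.toLoc := by
  subst h
  rfl

/-- the comparison map `q^* M ⟶ f₁^* f^* M` -/
def gHom {S X Y : C} (f : X ⟶ S) (f₁ : Y ⟶ X) (q : Y ⟶ S) (h : f₁ ≫ f = q)
    (M : F.obj (.mk (op S))) :
    (F.map q.op.toLoc).toFunctor.obj M ⟶
      (F.map f₁.op.toLoc).toFunctor.obj ((F.map f.op.toLoc).toFunctor.obj M) :=
  (F.mapComp' f.op.toLoc f₁.op.toLoc q.op.toLoc (toLoc_comp h)).hom.toNatTrans.app M

/-- the comparison map `f₁^* f^* M ⟶ q^* M` -/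
def gInv {S X Y : C} (f : X ⟶ S) (f₁ : Y ⟶ X) (q : Y ⟶ S) (h : f₁ ≫ f = q)
    (M : F.obj (.mk (op S))) :
    (F.map f₁.op.toLoc).toFunctor.obj ((F.map f.op.toLoc).toFunctor.obj M) ⟶
      (F.map q.op.toLoc).toFunctor.obj M :=
  (F.mapComp' f.op.toLoc f₁.op.toLoc q.op.toLoc (toLoc_comp h)).inv.toNatTrans.app M

theorem gHom_gInv {S X Y : C} (f : X ⟶ S) (f₁ : Y ⟶ X) (q : Y ⟶ S) (h : f₁ ≫ f = q)
    (M : F.obj (.mk (op S))) : gHom F f f₁ q h M ≫ gInv F f f₁ q h M = 𝟙 _ :=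
  Cat.Hom.hom_inv_id_toNatTrans_app
    (F.mapComp' f.op.toLoc f₁.op.toLoc q.op.toLoc (toLoc_comp h)) M

theorem gInv_gHom {S X Y : C} (f : X ⟶ S) (f₁ : Y ⟶ X) (q : Y ⟶ S) (h : f₁ ≫ f = q)
    (M : F.obj (.mk (op S))) : gInv F f f₁ q h M ≫ gHom F f f₁ q h M = 𝟙 _ :=
  Cat.Hom.inv_hom_id_toNatTrans_app
    (F.mapComp' f.op.toLoc f₁.op.toLoc q.op.toLoc (toLoc_comp h)) M

/-- pullback of a morphism -/
def gMap {X Y : C} (f₁ : Y ⟶ X) {A B : F.obj (.mk (op X))} (θ : A ⟶ B) :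
    (F.map f₁.op.toLoc).toFunctor.obj A ⟶ (F.map f₁.op.toLoc).toFunctor.obj B :=
  (F.map f₁.op.toLoc).toFunctor.map θ

/-- the compatibility condition of a morphism of descent data between pulled back objects,
spelled out -/
theorem comm_generic {ι : Type t} {S : C} {X : ι → C}
    (f : ∀ i, X i ⟶ S) (M N : F.obj (.mk (op S)))
    (Ψ : (F.toDescentData f).obj M ⟶ (F.toDescentData f).obj N) {Y : C} (q : Y ⟶ S) {i₁ i₂ : ι}
    (f₁ : Y ⟶ X i₁) (f₂ : Y ⟶ X i₂) (hf₁ : f₁ ≫ f i₁ = q) (hf₂ : f₂ ≫ f i₂ = q)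
    (pf₁ : (f i₁).op.toLoc ≫ f₁.op.toLoc = q.op.toLoc)
    (pf₂ : (f i₂).op.toLoc ≫ f₂.op.toLoc = q.op.toLoc) :
    (F.mapComp' (f i₁).op.toLoc f₁.op.toLoc q.op.toLoc pf₁).hom.toNatTrans.app M ≫
      (F.map f₁.op.toLoc).toFunctor.map (Ψ.hom i₁) ≫
      (F.mapComp' (f i₁).op.toLoc f₁.op.toLoc q.op.toLoc pf₁).inv.toNatTrans.app N ≫
      (F.mapComp' (f i₂).op.toLoc f₂.op.toLoc q.op.toLoc pf₂).hom.toNatTrans.app N =
    (F.mapComp' (f i₂).op.toLoc f₂.op.toLoc q.op.toLoc pf₂).hom.toNatTrans.app M ≫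
      (F.map f₂.op.toLoc).toFunctor.map (Ψ.hom i₂) := by
  have h : (F.map f₁.op.toLoc).toFunctor.map (Ψ.hom i₁) ≫
      ((F.mapComp' (f i₁).op.toLoc f₁.op.toLoc q.op.toLoc pf₁).inv.toNatTrans.app N ≫
      (F.mapComp' (f i₂).op.toLoc f₂.op.toLoc q.op.toLoc pf₂).hom.toNatTrans.app N) =
      ((F.mapComp' (f i₁).op.toLoc f₁.op.toLoc q.op.toLoc pf₁).inv.toNatTrans.app M ≫
      (F.mapComp' (f i₂).op.toLoc f₂.op.toLoc q.op.toLoc pf₂).hom.toNatTrans.app M) ≫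
      (F.map f₂.op.toLoc).toFunctor.map (Ψ.hom i₂) := Ψ.comm q f₁ f₂ hf₁ hf₂
  rw [h]
  simp only [Category.assoc, Cat.Hom.hom_inv_id_toNatTrans_app_assoc]

/-- variable form of `comm_generic` -/
theorem gcomm {ι : Type t} {S : C} {X : ι → C}
    (f : ∀ i, X i ⟶ S) (M N : F.obj (.mk (op S)))
    (Ψ : (F.toDescentData f).obj M ⟶ (F.toDescentData f).obj N) {Y : C} (q : Y ⟶ S) {i₁ i₂ : ι}
    (f₁ : Y ⟶ X i₁) (f₂ : Y ⟶ X i₂) (hf₁ : f₁ ≫ f i₁ = q) (hf₂ : f₂ ≫ f i₂ = q)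
    (a₁ : (F.map q.op.toLoc).toFunctor.obj M ⟶
      (F.map f₁.op.toLoc).toFunctor.obj ((F.map (f i₁).op.toLoc).toFunctor.obj M))
    (b₁ : (F.map f₁.op.toLoc).toFunctor.obj ((F.map (f i₁).op.toLoc).toFunctor.obj M) ⟶
      (F.map f₁.op.toLoc).toFunctor.obj ((F.map (f i₁).op.toLoc).toFunctor.obj N))
    (a₂ : (F.map f₁.op.toLoc).toFunctor.obj ((F.map (f i₁).op.toLoc).toFunctor.obj N) ⟶
      (F.map q.op.toLoc).toFunctor.obj N)
    (a₃ : (F.map q.op.toLoc).toFunctor.obj N ⟶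
      (F.map f₂.op.toLoc).toFunctor.obj ((F.map (f i₂).op.toLoc).toFunctor.obj N))
    (a₄ : (F.map q.op.toLoc).toFunctor.obj M ⟶
      (F.map f₂.op.toLoc).toFunctor.obj ((F.map (f i₂).op.toLoc).toFunctor.obj M))
    (b₂ : (F.map f₂.op.toLoc).toFunctor.obj ((F.map (f i₂).op.toLoc).toFunctor.obj M) ⟶
      (F.map f₂.op.toLoc).toFunctor.obj ((F.map (f i₂).op.toLoc).toFunctor.obj N))
    (h₁ : a₁ = gHom F (f i₁) f₁ q hf₁ M)
    (hb₁ : b₁ = gMap F f₁ (Ψ.hom i₁))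
    (h₂ : a₂ = gInv F (f i₁) f₁ q hf₁ N)
    (h₃ : a₃ = gHom F (f i₂) f₂ q hf₂ N)
    (h₄ : a₄ = gHom F (f i₂) f₂ q hf₂ M)
    (hb₂ : b₂ = gMap F f₂ (Ψ.hom i₂)) :
    a₁ ≫ b₁ ≫ a₂ ≫ a₃ = a₄ ≫ b₂ := by
  subst h₁ hb₁ h₂ h₃ h₄ hb₂
  exact comm_generic F f M N Ψ q f₁ f₂ hf₁ hf₂ (toLoc_comp hf₁) (toLoc_comp hf₂)

end Gen

/-- value of `mapComp'` for the extension of scalars pseudofunctor -/
theorem E_mapComp'_hom_app {A B C : LocallyDiscrete CommRingCat.{u}} (a : A ⟶ B) (b : B ⟶ C)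
    (c : A ⟶ C) (h : a ≫ b = c) (M : ModuleCat.{u} A.as) (m : M)
    (k : (ModuleCat.extendScalars c.as.hom).obj M ⟶
        (ModuleCat.extendScalars b.as.hom).obj ((ModuleCat.extendScalars a.as.hom).obj M))
    (hk : k = (CommRingCat.moduleCatExtendScalarsPseudofunctor.{u}.mapComp' a b c
      h).hom.toNatTrans.app M) :
    k (tm c.as.hom M 1 m) =
    tm b.as.hom ((ModuleCat.extendScalars a.as.hom).obj M) 1 (tm a.as.hom M 1 m) := by
  subst h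
  rw [Pseudofunctor.mapComp'_eq_mapComp] at hk
  subst hk
  exact ModuleCat.extendScalarsComp_hom_app_one_tmul a.as.hom b.as.hom M m

variable (p : ℕ) [Fact p.Prime] (n : ℕ)

/-- the pseudofunctor `R ↦ W_n(R)` on locally discrete bicategories -/
noncomputable abbrev PW : Pseudofunctor (LocallyDiscrete (CommRingCat.{u}ᵒᵖ)ᵒᵖ)
    (LocallyDiscrete CommRingCat.{u}) :=
  ((unopUnop CommRingCat.{u}) ⋙ wittTrunc p n).toPseudofunctor

/-- value of `mapComp'` for `wittModPF` -/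
theorem F_mapComp'_hom_app {X Y Z : LocallyDiscrete (CommRingCat.{u}ᵒᵖ)ᵒᵖ} (a : X ⟶ Y)
    (b : Y ⟶ Z) (c : X ⟶ Z) (h : a ≫ b = c)
    (M : ModuleCat.{u} (TruncatedWittVector p n X.as.unop.unop)) (m : M)
    (k : (ModuleCat.extendScalars (WittGrp.truncMap p n c.as.unop.unop.hom)).obj M ⟶
        (ModuleCat.extendScalars (WittGrp.truncMap p n b.as.unop.unop.hom)).obj
          ((ModuleCat.extendScalars (WittGrp.truncMap p n a.as.unop.unop.hom)).obj M))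
    (hk : k = ((wittModPF.{u} p n).mapComp' a b c h).hom.toNatTrans.app M) :
    k (tm (WittGrp.truncMap p n c.as.unop.unop.hom) M 1 m) =
    tm (WittGrp.truncMap p n b.as.unop.unop.hom)
      ((ModuleCat.extendScalars (WittGrp.truncMap p n a.as.unop.unop.hom)).obj M) 1
      (tm (WittGrp.truncMap p n a.as.unop.unop.hom) M 1 m) := by
  subst h
  rw [Pseudofunctor.mapComp'_eq_mapComp] at hk
  exact E_mapComp'_hom_app ((PW p n).map a) ((PW p n).map b) ((PW p n).map (a ≫ b))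
    (LocallyDiscrete.eq_of_hom ((PW p n).mapComp a b).inv) M m k hk

/-- `1 ⊗ x`, with the unit taken along the instance path of a general commutative ring -/
noncomputable def tm1 {A B : Type u} [CommRing A] [CommRing B] (q : A →+* B) (N : ModuleCat.{u} A) (x : N) :
    (ModuleCat.extendScalars q).obj N := tm q N 1 x

section K

variable {S₀ X₀ Y₀ : CommRingCat.{u}ᵒᵖ} (f₀ : X₀ ⟶ S₀) (f₁ : Y₀ ⟶ X₀)
    (q₀ : Y₀ ⟶ S₀) (hf₁ : f₁ ≫ f₀ = q₀)
    (M : ModuleCat.{u} (TruncatedWittVector p n S₀.unop))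

/-- the comparison isomorphism, typed as a morphism of modules -/
noncomputable def kHom :
    (ModuleCat.extendScalars (WittGrp.truncMap p n q₀.unop.hom)).obj M ⟶
      (ModuleCat.extendScalars (WittGrp.truncMap p n f₁.unop.hom)).obj
        ((ModuleCat.extendScalars (WittGrp.truncMap p n f₀.unop.hom)).obj M) :=
  gHom (wittModPF.{u} p n) f₀ f₁ q₀ hf₁ M

/-- the inverse comparison isomorphism, typed as a morphism of modules -/
noncomputable def kInv :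
    (ModuleCat.extendScalars (WittGrp.truncMap p n f₁.unop.hom)).obj
        ((ModuleCat.extendScalars (WittGrp.truncMap p n f₀.unop.hom)).obj M) ⟶
    (ModuleCat.extendScalars (WittGrp.truncMap p n q₀.unop.hom)).obj M :=
  gInv (wittModPF.{u} p n) f₀ f₁ q₀ hf₁ M

theorem kHom_eq : kHom p n f₀ f₁ q₀ hf₁ M = gHom (wittModPF.{u} p n) f₀ f₁ q₀ hf₁ M :=
  rfl

theorem kInv_eq : kInv p n f₀ f₁ q₀ hf₁ M = gInv (wittModPF.{u} p n) f₀ f₁ q₀ hf₁ M :=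
  rfl

theorem spec_aux (m : M)
    (k : (ModuleCat.extendScalars (WittGrp.truncMap p n q₀.unop.hom)).obj M ⟶
      (ModuleCat.extendScalars (WittGrp.truncMap p n f₁.unop.hom)).obj
        ((ModuleCat.extendScalars (WittGrp.truncMap p n f₀.unop.hom)).obj M))
    (hk : k = gHom (wittModPF.{u} p n) f₀ f₁ q₀ hf₁ M) :
    k (tm (WittGrp.truncMap p n q₀.unop.hom) M 1 m) =
      tm (WittGrp.truncMap p n f₁.unop.hom)
      ((ModuleCat.extendScalars (WittGrp.truncMap p n f₀.unop.hom)).obj M) 1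
      (tm (WittGrp.truncMap p n f₀.unop.hom) M 1 m) :=
  F_mapComp'_hom_app p n _ _ _ (toLoc_comp hf₁) M m k hk

theorem kHom_spec (m : M) :
    kHom p n f₀ f₁ q₀ hf₁ M (tm (WittGrp.truncMap p n q₀.unop.hom) M 1 m) =
      tm (WittGrp.truncMap p n f₁.unop.hom)
      ((ModuleCat.extendScalars (WittGrp.truncMap p n f₀.unop.hom)).obj M) 1
      (tm (WittGrp.truncMap p n f₀.unop.hom) M 1 m) :=
  spec_aux p n f₀ f₁ q₀ hf₁ M m (kHom p n f₀ f₁ q₀ hf₁ M) (kHom_eq p n f₀ f₁ q₀ hf₁ M)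

theorem iso_aux
    (k : (ModuleCat.extendScalars (WittGrp.truncMap p n q₀.unop.hom)).obj M ⟶
      (ModuleCat.extendScalars (WittGrp.truncMap p n f₁.unop.hom)).obj
        ((ModuleCat.extendScalars (WittGrp.truncMap p n f₀.unop.hom)).obj M))
    (k' : (ModuleCat.extendScalars (WittGrp.truncMap p n f₁.unop.hom)).obj
        ((ModuleCat.extendScalars (WittGrp.truncMap p n f₀.unop.hom)).obj M) ⟶
      (ModuleCat.extendScalars (WittGrp.truncMap p n q₀.unop.hom)).obj M)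
    (hk : k = gHom (wittModPF.{u} p n) f₀ f₁ q₀ hf₁ M)
    (hk' : k' = gInv (wittModPF.{u} p n) f₀ f₁ q₀ hf₁ M) :
    k ≫ k' = 𝟙 _ ∧ k' ≫ k = 𝟙 _ := by
  subst hk hk'
  exact ⟨gHom_gInv (wittModPF.{u} p n) f₀ f₁ q₀ hf₁ M, gInv_gHom (wittModPF.{u} p n) f₀ f₁ q₀ hf₁ M⟩

theorem spec_aux' (m : M)
    (k : (ModuleCat.extendScalars (WittGrp.truncMap p n q₀.unop.hom)).obj M ⟶
      (ModuleCat.extendScalars (WittGrp.truncMap p n f₁.unop.hom)).obj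
        ((ModuleCat.extendScalars (WittGrp.truncMap p n f₀.unop.hom)).obj M))
    (hk : k = gHom (wittModPF.{u} p n) f₀ f₁ q₀ hf₁ M) :
    k (tm1 (WittGrp.truncMap p n q₀.unop.hom) M m) =
      tm1 (WittGrp.truncMap p n f₁.unop.hom)
      ((ModuleCat.extendScalars (WittGrp.truncMap p n f₀.unop.hom)).obj M)
      (tm1 (WittGrp.truncMap p n f₀.unop.hom) M m) :=
  spec_aux p n f₀ f₁ q₀ hf₁ M m k hk

theorem kHom_spec' (m : M) :
    kHom p n f₀ f₁ q₀ hf₁ M (tm1 (WittGrp.truncMap p n q₀.unop.hom) M m) =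
      tm1 (WittGrp.truncMap p n f₁.unop.hom)
      ((ModuleCat.extendScalars (WittGrp.truncMap p n f₀.unop.hom)).obj M)
      (tm1 (WittGrp.truncMap p n f₀.unop.hom) M m) :=
  spec_aux' p n f₀ f₁ q₀ hf₁ M m (kHom p n f₀ f₁ q₀ hf₁ M) (kHom_eq p n f₀ f₁ q₀ hf₁ M)

/-- the comparison isomorphism, typed as an isomorphism of modules -/
noncomputable def kIso :
    (ModuleCat.extendScalars (WittGrp.truncMap p n q₀.unop.hom)).obj M ≅
      (ModuleCat.extendScalars (WittGrp.truncMap p n f₁.unop.hom)).obj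
        ((ModuleCat.extendScalars (WittGrp.truncMap p n f₀.unop.hom)).obj M) where
  hom := kHom p n f₀ f₁ q₀ hf₁ M
  inv := kInv p n f₀ f₁ q₀ hf₁ M
  hom_inv_id := (iso_aux p n f₀ f₁ q₀ hf₁ M _ _ (kHom_eq p n f₀ f₁ q₀ hf₁ M)
    (kInv_eq p n f₀ f₁ q₀ hf₁ M)).1
  inv_hom_id := (iso_aux p n f₀ f₁ q₀ hf₁ M _ _ (kHom_eq p n f₀ f₁ q₀ hf₁ M)
    (kInv_eq p n f₀ f₁ q₀ hf₁ M)).2

end K

section Main

variable {S₀ X₀ Y₀ : CommRingCat.{u}ᵒᵖ} (f₀ : X₀ ⟶ S₀) (f₁ f₂ : Y₀ ⟶ X₀)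
    (q₀ : Y₀ ⟶ S₀) (hf₁ : f₁ ≫ f₀ = q₀) (hf₂ : f₂ ≫ f₀ = q₀)
    (M N : ModuleCat.{u} (TruncatedWittVector p n S₀.unop))

theorem map_conv (f₁ : Y₀ ⟶ X₀) (A B : ModuleCat.{u} (TruncatedWittVector p n X₀.unop))
    (Θ : A ⟶ B) :
    (ModuleCat.extendScalars (WittGrp.truncMap p n f₁.unop.hom)).map Θ =
      gMap (wittModPF.{u} p n) f₁ Θ := rfl

theorem kcomm_aux
    (Ψ : ((wittModPF.{u} p n).toDescentData (fun _ : PUnit.{u + 1} => f₀)).obj M ⟶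
      ((wittModPF.{u} p n).toDescentData (fun _ : PUnit.{u + 1} => f₀)).obj N)
    (a₁ : (ModuleCat.extendScalars (WittGrp.truncMap p n q₀.unop.hom)).obj M ⟶
      (ModuleCat.extendScalars (WittGrp.truncMap p n f₁.unop.hom)).obj
        ((ModuleCat.extendScalars (WittGrp.truncMap p n f₀.unop.hom)).obj M))
    (b₁ : (ModuleCat.extendScalars (WittGrp.truncMap p n f₁.unop.hom)).obj
        ((ModuleCat.extendScalars (WittGrp.truncMap p n f₀.unop.hom)).obj M) ⟶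
      (ModuleCat.extendScalars (WittGrp.truncMap p n f₁.unop.hom)).obj
        ((ModuleCat.extendScalars (WittGrp.truncMap p n f₀.unop.hom)).obj N))
    (a₂ : (ModuleCat.extendScalars (WittGrp.truncMap p n f₁.unop.hom)).obj
        ((ModuleCat.extendScalars (WittGrp.truncMap p n f₀.unop.hom)).obj N) ⟶
      (ModuleCat.extendScalars (WittGrp.truncMap p n q₀.unop.hom)).obj N)
    (a₃ : (ModuleCat.extendScalars (WittGrp.truncMap p n q₀.unop.hom)).obj N ⟶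
      (ModuleCat.extendScalars (WittGrp.truncMap p n f₂.unop.hom)).obj
        ((ModuleCat.extendScalars (WittGrp.truncMap p n f₀.unop.hom)).obj N))
    (a₄ : (ModuleCat.extendScalars (WittGrp.truncMap p n q₀.unop.hom)).obj M ⟶
      (ModuleCat.extendScalars (WittGrp.truncMap p n f₂.unop.hom)).obj
        ((ModuleCat.extendScalars (WittGrp.truncMap p n f₀.unop.hom)).obj M))
    (b₂ : (ModuleCat.extendScalars (WittGrp.truncMap p n f₂.unop.hom)).obj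
        ((ModuleCat.extendScalars (WittGrp.truncMap p n f₀.unop.hom)).obj M) ⟶
      (ModuleCat.extendScalars (WittGrp.truncMap p n f₂.unop.hom)).obj
        ((ModuleCat.extendScalars (WittGrp.truncMap p n f₀.unop.hom)).obj N))
    (h₁ : a₁ = gHom (wittModPF.{u} p n) f₀ f₁ q₀ hf₁ M)
    (hb₁ : b₁ = gMap (wittModPF.{u} p n) f₁ (Ψ.hom PUnit.unit))
    (h₂ : a₂ = gInv (wittModPF.{u} p n) f₀ f₁ q₀ hf₁ N)
    (h₃ : a₃ = gHom (wittModPF.{u} p n) f₀ f₂ q₀ hf₂ N)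
    (h₄ : a₄ = gHom (wittModPF.{u} p n) f₀ f₂ q₀ hf₂ M)
    (hb₂ : b₂ = gMap (wittModPF.{u} p n) f₂ (Ψ.hom PUnit.unit)) :
    a₁ ≫ b₁ ≫ a₂ ≫ a₃ = a₄ ≫ b₂ :=
  gcomm (wittModPF.{u} p n) (fun _ : PUnit.{u + 1} => f₀) M N Ψ q₀ (i₁ := PUnit.unit)
    (i₂ := PUnit.unit) f₁ f₂ hf₁ hf₂ a₁ b₁ a₂ a₃ a₄ b₂ h₁ hb₁ h₂ h₃ h₄ hb₂

theorem kcomm
    (Ψ : ((wittModPF.{u} p n).toDescentData (fun _ : PUnit.{u + 1} => f₀)).obj M ⟶
      ((wittModPF.{u} p n).toDescentData (fun _ : PUnit.{u + 1} => f₀)).obj N)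
    (Θ : (ModuleCat.extendScalars (WittGrp.truncMap p n f₀.unop.hom)).obj M ⟶
      (ModuleCat.extendScalars (WittGrp.truncMap p n f₀.unop.hom)).obj N)
    (hΘ : Θ = Ψ.hom PUnit.unit) :
    kHom p n f₀ f₁ q₀ hf₁ M ≫
      (ModuleCat.extendScalars (WittGrp.truncMap p n f₁.unop.hom)).map Θ ≫
      kInv p n f₀ f₁ q₀ hf₁ N ≫ kHom p n f₀ f₂ q₀ hf₂ N =
    kHom p n f₀ f₂ q₀ hf₂ M ≫
      (ModuleCat.extendScalars (WittGrp.truncMap p n f₂.unop.hom)).map Θ :=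
  kcomm_aux p n f₀ f₁ f₂ q₀ hf₁ hf₂ M N Ψ _ _ _ _ _ _
    (kHom_eq p n f₀ f₁ q₀ hf₁ M)
    ((map_conv p n f₁ _ _ Θ).trans (congrArg (fun θ => gMap (wittModPF.{u} p n) f₁ θ) hΘ))
    (kInv_eq p n f₀ f₁ q₀ hf₁ N)
    (kHom_eq p n f₀ f₂ q₀ hf₂ N)
    (kHom_eq p n f₀ f₂ q₀ hf₂ M)
    ((map_conv p n f₂ _ _ Θ).trans (congrArg (fun θ => gMap (wittModPF.{u} p n) f₂ θ) hΘ))

theorem final_aux (φ : M ⟶ N)
    (Ψ : ((wittModPF.{u} p n).toDescentData (fun _ : PUnit.{u + 1} => f₀)).obj M ⟶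
      ((wittModPF.{u} p n).toDescentData (fun _ : PUnit.{u + 1} => f₀)).obj N)
    (h : (ModuleCat.extendScalars (WittGrp.truncMap p n f₀.unop.hom)).map φ = Ψ.hom PUnit.unit) :
    ((wittModPF.{u} p n).toDescentData (fun _ : PUnit.{u + 1} => f₀)).map φ = Ψ := by
  apply Pseudofunctor.DescentData.hom_ext
  intro i
  exact h


theorem surj_aux {A B B₂ : Type u} [CommRing A] [CommRing B] [CommRing B₂] (g : A →+* B)
    (ψ₁ ψ₂ : B →+* B₂) (q : A →+* B₂)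
    (hinj : Function.Injective g) (heq : ∀ b : B, ψ₁ b = ψ₂ b → b ∈ Set.range g)
    (M N : ModuleCat.{u} A) [Module.Flat A N]
    (kM₁ : (ModuleCat.extendScalars q).obj M ⟶
      (ModuleCat.extendScalars ψ₁).obj ((ModuleCat.extendScalars g).obj M))
    (kM₂ : (ModuleCat.extendScalars q).obj M ⟶
      (ModuleCat.extendScalars ψ₂).obj ((ModuleCat.extendScalars g).obj M))
    (kN₁ : (ModuleCat.extendScalars q).obj N ⟶
      (ModuleCat.extendScalars ψ₁).obj ((ModuleCat.extendScalars g).obj N))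
    (kN₁' : (ModuleCat.extendScalars ψ₁).obj ((ModuleCat.extendScalars g).obj N) ⟶
      (ModuleCat.extendScalars q).obj N)
    (kN₂ : (ModuleCat.extendScalars q).obj N ⟶
      (ModuleCat.extendScalars ψ₂).obj ((ModuleCat.extendScalars g).obj N))
    (kN₂' : (ModuleCat.extendScalars ψ₂).obj ((ModuleCat.extendScalars g).obj N) ⟶
      (ModuleCat.extendScalars q).obj N)
    (h11 : kN₁ ≫ kN₁' = 𝟙 _) (h12 : kN₁' ≫ kN₁ = 𝟙 _)
    (h21 : kN₂ ≫ kN₂' = 𝟙 _) (h22 : kN₂' ≫ kN₂ = 𝟙 _)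
    (hkM₁ : ∀ m : M, kM₁ (tm1 q M m) =
      tm1 ψ₁ ((ModuleCat.extendScalars g).obj M) (tm1 g M m))
    (hkM₂ : ∀ m : M, kM₂ (tm1 q M m) =
      tm1 ψ₂ ((ModuleCat.extendScalars g).obj M) (tm1 g M m))
    (hkN₁ : ∀ x : N, kN₁ (tm1 q N x) =
      tm1 ψ₁ ((ModuleCat.extendScalars g).obj N) (tm1 g N x))
    (hkN₂ : ∀ x : N, kN₂ (tm1 q N x) =
      tm1 ψ₂ ((ModuleCat.extendScalars g).obj N) (tm1 g N x))
    (e₁ : ψ₁.comp g = q) (e₂ : ψ₂.comp g = q)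
    (Θ : (ModuleCat.extendScalars g).obj M ⟶ (ModuleCat.extendScalars g).obj N)
    (hcomm : kM₁ ≫ (ModuleCat.extendScalars ψ₁).map Θ ≫ kN₁' ≫ kN₂ =
      kM₂ ≫ (ModuleCat.extendScalars ψ₂).map Θ) :
    ∃ φ : M ⟶ N, (ModuleCat.extendScalars g).map φ = Θ :=
  core hinj heq M N kM₁ kM₂ ⟨kN₁, kN₁', h11, h12⟩ ⟨kN₂, kN₂', h21, h22⟩ hkM₁ hkM₂ hkN₁ hkN₂
    e₁ e₂ Θ hcomm

theorem kHom_kInv : kHom p n f₀ f₁ q₀ hf₁ M ≫ kInv p n f₀ f₁ q₀ hf₁ M = 𝟙 _ :=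
  (iso_aux p n f₀ f₁ q₀ hf₁ M _ _ (kHom_eq p n f₀ f₁ q₀ hf₁ M)
    (kInv_eq p n f₀ f₁ q₀ hf₁ M)).1

theorem kInv_kHom : kInv p n f₀ f₁ q₀ hf₁ M ≫ kHom p n f₀ f₁ q₀ hf₁ M = 𝟙 _ :=
  (iso_aux p n f₀ f₁ q₀ hf₁ M _ _ (kHom_eq p n f₀ f₁ q₀ hf₁ M)
    (kInv_eq p n f₀ f₁ q₀ hf₁ M)).2

include q₀ hf₁ hf₂ in
theorem surj_part
    (hinj : Function.Injective (WittGrp.truncMap p n f₀.unop.hom))
    (heq : ∀ b, WittGrp.truncMap p n f₁.unop.hom b = WittGrp.truncMap p n f₂.unop.hom b →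
      b ∈ Set.range (WittGrp.truncMap p n f₀.unop.hom))
    [Module.Flat (TruncatedWittVector p n S₀.unop) N]
    (Ψ : ((wittModPF.{u} p n).toDescentData (fun _ : PUnit.{u + 1} => f₀)).obj M ⟶
      ((wittModPF.{u} p n).toDescentData (fun _ : PUnit.{u + 1} => f₀)).obj N)
    (Θ : (ModuleCat.extendScalars (WittGrp.truncMap p n f₀.unop.hom)).obj M ⟶
      (ModuleCat.extendScalars (WittGrp.truncMap p n f₀.unop.hom)).obj N)
    (hΘ : Θ = Ψ.hom PUnit.unit) :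
    ∃ φ : M ⟶ N, (ModuleCat.extendScalars (WittGrp.truncMap p n f₀.unop.hom)).map φ = Θ := by
  have e₁ : (WittGrp.truncMap p n f₁.unop.hom).comp (WittGrp.truncMap p n f₀.unop.hom) =
      WittGrp.truncMap p n q₀.unop.hom := by
    rw [← hf₁, ← WittGrp.truncMap_comp]
    rfl
  have e₂ : (WittGrp.truncMap p n f₂.unop.hom).comp (WittGrp.truncMap p n f₀.unop.hom) =
      WittGrp.truncMap p n q₀.unop.hom := by
    rw [← hf₂, ← WittGrp.truncMap_comp]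
    rfl
  exact surj_aux (WittGrp.truncMap p n f₀.unop.hom)
      (WittGrp.truncMap p n f₁.unop.hom) (WittGrp.truncMap p n f₂.unop.hom)
      (WittGrp.truncMap p n q₀.unop.hom) hinj heq M N
      (kHom p n f₀ f₁ q₀ hf₁ M) (kHom p n f₀ f₂ q₀ hf₂ M)
      (kHom p n f₀ f₁ q₀ hf₁ N) (kInv p n f₀ f₁ q₀ hf₁ N)
      (kHom p n f₀ f₂ q₀ hf₂ N) (kInv p n f₀ f₂ q₀ hf₂ N)
      (kHom_kInv p n f₀ f₁ q₀ hf₁ N) (kInv_kHom p n f₀ f₁ q₀ hf₁ N)
      (kHom_kInv p n f₀ f₂ q₀ hf₂ N) (kInv_kHom p n f₀ f₂ q₀ hf₂ N)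
      (kHom_spec' p n f₀ f₁ q₀ hf₁ M) (kHom_spec' p n f₀ f₂ q₀ hf₂ M)
      (kHom_spec' p n f₀ f₁ q₀ hf₁ N) (kHom_spec' p n f₀ f₂ q₀ hf₂ N)
      e₁ e₂ Θ (kcomm p n f₀ f₁ f₂ q₀ hf₁ hf₂ M N Ψ Θ hΘ)


theorem inj_part
    (hinj : Function.Injective (WittGrp.truncMap p n f₀.unop.hom))
    [Module.Flat (TruncatedWittVector p n S₀.unop) N] :
    Function.Injective (fun φ : M ⟶ N =>
      ((wittModPF.{u} p n).toDescentData (fun _ : PUnit.{u + 1} => f₀)).map φ) := by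
  intro φ φ' h
  have h1 := congrArg (fun D => Pseudofunctor.DescentData.Hom.hom D PUnit.unit) h
  exact ext_faithful hinj M N φ φ' h1

include q₀ hf₁ hf₂ in

theorem bijective_of_equalizer
    (hinj : Function.Injective (WittGrp.truncMap p n f₀.unop.hom))
    (heq : ∀ b, WittGrp.truncMap p n f₁.unop.hom b = WittGrp.truncMap p n f₂.unop.hom b →
      b ∈ Set.range (WittGrp.truncMap p n f₀.unop.hom))
    [Module.Flat (TruncatedWittVector p n S₀.unop) N] :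
    Function.Bijective (fun φ : M ⟶ N =>
      ((wittModPF.{u} p n).toDescentData (fun _ : PUnit.{u + 1} => f₀)).map φ) := by
  refine ⟨inj_part p n f₀ M N hinj, ?_⟩
  intro Ψ
  obtain ⟨φ, hφ⟩ := surj_part p n f₀ f₁ f₂ q₀ hf₁ hf₂ M N hinj heq Ψ _ rfl
  exact ⟨φ, final_aux p n f₀ M N φ Ψ hφ⟩

end Main

end Groth.Agent.H74.WittDescFF
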