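import Mathlib
import Groth.Agent.H74.WittAdic

/-! Small consequences of the Witt vector computations in `WittAdic`. -/

namespace Groth.Agent.H74.WittMisc

variable (p : ℕ) [hp : Fact p.Prime] (R : Type*) [CommRing R]

theorem natCast_dvd_teichmuller_pow :
    (p : WittVector p R) ∣ WittVector.teichmuller p ((p : R) ^ p) := by
  have h0 : WittVector.teichmuller p (p : R) - (p : WittVector p R)
      ∈ RingHom.ker (WittVector.constantCoeff : WittVector p R →+* R) := by
    have e2 : (WittVector.constantCoeff : WittVector p R →+* R) (p : WittVector p R) = (p : R) :=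
      map_natCast _ _
    have e1 : (WittVector.constantCoeff : WittVector p R →+* R)
        (WittVector.teichmuller p (p : R)) = (p : R) := by
      rw [WittVector.constantCoeff_apply, WittVector.teichmuller_coeff_zero]
    rw [RingHom.mem_ker, map_sub, e1, e2, sub_self]
  obtain ⟨y, hy⟩ := (WittAdic.mem_ker_constantCoeff_iff p _).mp h0
  have h1 : WittVector.teichmuller p (p : R)
      = (p : WittVector p R) + WittVector.verschiebung y := by rw [← hy]; ring
  rw [map_pow, h1, add_pow]
  refine Finset.dvd_sum fun m _ => ?_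
  rcases Nat.eq_zero_or_pos m with rfl | hm0
  · have hp2 : 2 ≤ p := hp.out.two_le
    have e : WittVector.verschiebung y ^ p
        = WittVector.verschiebung y ^ 2 * WittVector.verschiebung y ^ (p - 2) := by
      rw [← pow_add]; congr 1; omega
    have hd : (p : WittVector p R) ∣ WittVector.verschiebung y ^ (p - 0) := by
      rw [Nat.sub_zero, e, pow_two, WittAdic.verschiebung_mul_verschiebung, mul_assoc]
      exact Dvd.intro _ rfl
    exact Dvd.dvd.mul_right (Dvd.dvd.mul_left hd _) _
  · exact Dvd.dvd.mul_right (Dvd.dvd.mul_right (dvd_pow_self _ hm0.ne') _) _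

theorem topologies (hpn : IsNilpotent (p : R)) :
    (∀ n : ℕ, ∃ m : ℕ, (RingHom.ker (WittVector.constantCoeff : WittVector p R →+* R)) ^ m
        ≤ Ideal.span {(p : WittVector p R)} ^ n) ∧
      (∀ n : ℕ, ∃ m : ℕ, Ideal.span {(p : WittVector p R)} ^ m
        ≤ (RingHom.ker (WittVector.constantCoeff : WittVector p R →+* R)) ^ n) ∧
        ∀ n : ℕ, ∃ m : ℕ, Ideal.span {(p : WittVector p R)} ^ m
          ≤ RingHom.ker (WittVector.truncate (p := p) (R := R) n) := by
  obtain ⟨c, hc⟩ := hpn
  refine ⟨fun n => ⟨n + 1, ?_⟩, fun n => ?_, fun n => ⟨n + c, ?_⟩⟩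
  · rw [WittAdic.ker_pow, Ideal.span_singleton_pow]
    exact Ideal.mul_le_left
  · cases n with
    | zero => exact ⟨0, by simp⟩
    | succ n =>
      refine ⟨n + c, ?_⟩
      rw [WittAdic.ker_pow, Ideal.span_singleton_pow, Ideal.span_singleton_le_iff_mem, pow_add]
      refine Ideal.mul_mem_mul (Ideal.mem_span_singleton_self _) ?_
      rw [RingHom.mem_ker, map_pow, map_natCast, hc]
  · rw [Ideal.span_singleton_pow]
    intro z hz
    obtain ⟨a, rfl⟩ := Ideal.mem_span_singleton'.mp hz
    rw [WittVector.mem_ker_truncate]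
    intro i hi
    have h1 := WittAdic.coeff_mul_pow_mem p (n + c) i (by omega) a
    have h2 : (p : R) ^ (n + c - i) = 0 := pow_eq_zero_of_le (by omega) hc
    rw [h2] at h1
    simpa using h1

end Groth.Agent.H74.WittMisc
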