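import Mathlib
import Groth.Agent.H74.Prop40B
import Groth.Agent.H74.IdemLift
import Groth.Agent.H74.WittAdic

/-! Lifting finitely generated projective modules along `W(S) → W(R)` for a surjection `S → R`
with nil kernel (`p` nilpotent in `S`). -/

set_option autoImplicit false
set_option maxHeartbeats 400000
universe u

namespace Groth.Agent.H74.WittProjLift

open Polynomial Filter Groth.Agent.H74

/-! ### Generalities -/

theorem isAdicComplete_of_isNilpotent {A : Type*} [CommRing A] (I : Ideal A) (hI : IsNilpotent I)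
    (M : Type*) [AddCommGroup M] [Module A M] : IsAdicComplete I M := by
  obtain ⟨N, hN⟩ := hI
  have hbot : (I ^ N • ⊤ : Submodule A M) = ⊥ := by
    rw [hN, Ideal.zero_eq_bot, Submodule.bot_smul]
  have h1 : IsHausdorff I M := ⟨fun x hx => by
    have h1 := SModEq.sub_mem.mp (hx N)
    rw [hbot, Submodule.mem_bot, sub_zero] at h1
    exact h1⟩
  have h2 : IsPrecomplete I M := ⟨fun f hf => ⟨f N, fun n => by
    rcases le_total n N with h | h
    · exact hf h
    · have h1 := SModEq.sub_mem.mp (hf h)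
      rw [hbot, Submodule.mem_bot, sub_eq_zero] at h1
      rw [SModEq.sub_mem, h1, sub_self]
      exact zero_mem _⟩⟩
  exact { toIsHausdorff := h1, toIsPrecomplete := h2 }

theorem matrix_isNilpotent {B : Type*} [CommRing B] {k : ℕ} (ε : Matrix (Fin k) (Fin k) B)
    (h : ∀ i j, IsNilpotent (ε i j)) : IsNilpotent ε := by
  obtain ⟨𝔠, h𝔠⟩ : ∃ 𝔠 : Ideal B,
      𝔠 = Ideal.span (Set.range (fun ij : Fin k × Fin k => ε ij.1 ij.2)) := ⟨_, rfl⟩
  have hfg : 𝔠.FG := by
    rw [h𝔠]
    exact Submodule.fg_span (Set.finite_range _)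
  have hle : 𝔠 ≤ nilradical B := by
    rw [h𝔠, Ideal.span_le]
    rintro _ ⟨ij, rfl⟩
    exact mem_nilradical.mpr (h ij.1 ij.2)
  have hent : ∀ i j, ε i j ∈ 𝔠 := by
    intro i j
    rw [h𝔠]
    exact Ideal.subset_span ⟨(i, j), rfl⟩
  obtain ⟨N, hN⟩ := hfg.isNilpotent_iff_le_nilradical.mpr hle
  have hmem : ∀ m i j, (ε ^ m) i j ∈ 𝔠 ^ m := by
    intro m
    induction m with
    | zero =>
      intro i j
      rw [pow_zero, Ideal.one_eq_top]
      exact Submodule.mem_top
    | succ m ih =>
      intro i j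
      rw [pow_succ, pow_succ, Matrix.mul_apply]
      exact Ideal.sum_mem _ (fun l _ => Ideal.mul_mem_mul (ih i l) (hent l j))
  refine ⟨N, ?_⟩
  refine Matrix.ext (fun i j => ?_)
  have h1 := hmem N i j
  rw [hN, Ideal.zero_eq_bot, Ideal.mem_bot] at h1
  rw [h1, Matrix.zero_apply]

/-! ### Newton iteration for idempotents -/

theorem dvd_delta (m : ℕ) :
    ((X : ℤ[X]) ^ 2 - X) ^ (m + 1) ∣ IdemLift.pN ℤ m ^ 2 - IdemLift.pN ℤ m := by
  induction m with
  | zero =>
    show ((X : ℤ[X]) ^ 2 - X) ^ (0 + 1) ∣ (X : ℤ[X]) ^ 2 - X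
    rw [zero_add, pow_one]
  | succ m ih =>
    rw [IdemLift.pN_delta_succ]
    have h1 : ((X : ℤ[X]) ^ 2 - X) ∣ IdemLift.pN ℤ m ^ 2 - IdemLift.pN ℤ m :=
      dvd_trans (dvd_pow_self _ (Nat.succ_ne_zero m)) ih
    have h2 := mul_dvd_mul ih h1
    rw [← pow_succ] at h2
    exact dvd_trans h2 ⟨4 * (IdemLift.pN ℤ m ^ 2 - IdemLift.pN ℤ m) - 3, by ring⟩

section Generic

variable {A : Type*} [Ring A]

/-- Newton iterates towards an idempotent. -/
noncomputable def newt (e₀ : A) (m : ℕ) : A := aeval e₀ (IdemLift.pN ℤ m)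

theorem map_newt {B : Type*} [Ring B] (T : A →+* B) (e₀ : A) (m : ℕ) :
    T (newt e₀ m) = newt (T e₀) m :=
  (Polynomial.aeval_algHom_apply T.toIntAlgHom e₀ (IdemLift.pN ℤ m)).symm

theorem newt_of_idem (E : A) (hE : E * E = E) (m : ℕ) : newt E m = E := by
  induction m with
  | zero =>
    show aeval E (X : ℤ[X]) = E
    exact aeval_X E
  | succ m ih =>
    show aeval E (3 * IdemLift.pN ℤ m ^ 2 - 2 * IdemLift.pN ℤ m ^ 3) = E
    have ih' : aeval E (IdemLift.pN ℤ m) = E := ih
    have h3 : E ^ 3 = E := by rw [pow_succ, pow_two, hE, hE]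
    simp only [map_sub, map_mul, map_pow, map_ofNat, ih']
    rw [h3, pow_two, hE, ← sub_mul]
    norm_num

theorem newt_stabilize (b : A) (N : ℕ) (hN : (b * b - b) ^ N = 0) :
    ∀ m, N ≤ m → (newt b m * newt b m - newt b m = 0 ∧ newt b m = newt b N) := by
  have hX : aeval b ((X : ℤ[X]) ^ 2 - X) = b * b - b := by
    rw [map_sub, map_pow, aeval_X, pow_two]
  have hΔ : ∀ m, N ≤ m → aeval b (IdemLift.pN ℤ m ^ 2 - IdemLift.pN ℤ m) = 0 := by
    intro m hm
    obtain ⟨U, hU⟩ := dvd_delta m
    rw [hU, map_mul, map_pow, hX, pow_eq_zero_of_le (by omega) hN, zero_mul]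
  have hstep : ∀ m, N ≤ m → newt b (m + 1) = newt b m := by
    intro m hm
    have h1 : aeval b (IdemLift.pN ℤ (m + 1) - IdemLift.pN ℤ m) = 0 := by
      rw [IdemLift.pN_succ_sub, map_mul, hΔ m hm, zero_mul]
    rw [map_sub] at h1
    exact sub_eq_zero.mp h1
  intro m hm
  constructor
  · have e2 : newt b m * newt b m - newt b m =
        aeval b (IdemLift.pN ℤ m ^ 2 - IdemLift.pN ℤ m) := by
      rw [map_sub, map_pow, pow_two]
      rfl
    rw [e2, hΔ m hm]
  · induction m, hm using Nat.le_induction with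
    | base => rfl
    | succ m hm ih => rw [hstep m hm, ih]

end Generic

/-! ### Truncations of Witt vectors -/

section Trunc

variable {p : ℕ} [Fact p.Prime] {S : Type u} [CommRing S]

theorem eq_zero_of_truncate (x : WittVector p S)
    (h : ∀ n, WittVector.truncate (p := p) n x = 0) : x = 0 := by
  ext l
  rw [WittVector.zero_coeff]
  exact (WittVector.mem_ker_truncate (l + 1) x).mp (RingHom.mem_ker.mpr (h (l + 1))) l
    (Nat.lt_succ_self l)

theorem exists_limit (a : ℕ → WittVector p S)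
    (h : ∀ n, ∃ c : TruncatedWittVector p n S,
      ∀ᶠ m in atTop, WittVector.truncate n (a m) = c) :
    ∃ x : WittVector p S, ∀ n,
      ∀ᶠ m in atTop, WittVector.truncate n (a m) = WittVector.truncate n x := by
  choose c hc using h
  refine ⟨WittVector.mk p (fun l => (c (l + 1)).coeff ⟨l, Nat.lt_succ_self l⟩), fun n => ?_⟩
  have h1 : ∀ i : Fin n, ∀ᶠ m in atTop,
      (a m).coeff i = (c ((i : ℕ) + 1)).coeff ⟨i, Nat.lt_succ_self i⟩ := by
    intro i
    refine (hc ((i : ℕ) + 1)).mono (fun m hm => ?_)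
    rw [← hm, WittVector.coeff_truncate]
  refine (eventually_all.mpr h1).mono (fun m hm => ?_)
  apply TruncatedWittVector.ext
  intro i
  rw [WittVector.coeff_truncate, WittVector.coeff_truncate, WittVector.coeff_mk]
  exact hm i

theorem verschiebung_pow (x : WittVector p S) (m : ℕ) :
    WittVector.verschiebung x ^ (m + 1) =
      (p : WittVector p S) ^ m * WittVector.verschiebung (x ^ (m + 1)) := by
  induction m with
  | zero => rw [pow_zero, one_mul, zero_add, pow_one, pow_one]
  | succ m ih =>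
    rw [pow_succ, ih, mul_assoc, WittAdic.verschiebung_mul_verschiebung, ← mul_assoc,
      ← pow_succ, ← pow_succ]

theorem isNilpotent_truncate (n : ℕ) :
    ∀ x ∈ Prop40.Wid p (nilradical S), IsNilpotent (WittVector.truncate (p := p) n x) := by
  induction n with
  | zero =>
    intro x _
    exact ⟨1, TruncatedWittVector.ext (fun i => i.elim0)⟩
  | succ n ih =>
    intro x hx
    obtain ⟨x', hx', hdec⟩ := Prop40.exists_sh x hx
    rw [hdec, map_add]
    refine Commute.isNilpotent_add (Commute.all _ _) ?_ ?_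
    · obtain ⟨m, hm⟩ := mem_nilradical.mp ((Prop40.mem_Wid p).mp hx 0)
      have e : WittVector.teichmuller p (x.coeff 0) ^ m = 0 := by
        rw [← map_pow, hm, WittVector.teichmuller_zero]
      exact ⟨m, by rw [← map_pow, e, map_zero]⟩
    · obtain ⟨M, hM⟩ := ih x' hx'
      have h0 : x' ^ (M + 1) ∈ RingHom.ker (WittVector.truncate (p := p) (R := S) n) := by
        rw [RingHom.mem_ker, pow_succ, map_mul, map_pow, hM, zero_mul]
      have h1 : WittVector.verschiebung (x' ^ (M + 1)) ∈
          RingHom.ker (WittVector.truncate (p := p) (R := S) (n + 1)) := by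
        rw [WittVector.mem_ker_truncate] at h0 ⊢
        intro i hi
        cases i with
        | zero => exact WittVector.verschiebung_coeff_zero _
        | succ j =>
          rw [WittVector.verschiebung_coeff_succ]
          exact h0 j (Nat.lt_of_succ_lt_succ hi)
      refine ⟨M + 1, ?_⟩
      rw [← map_pow, verschiebung_pow, map_mul, RingHom.mem_ker.mp h1, mul_zero]

/-- entrywise truncation of matrices -/
noncomputable def Tm (p : ℕ) [Fact p.Prime] (S : Type u) [CommRing S] (k n : ℕ) :
    Matrix (Fin k) (Fin k) (WittVector p S) →+*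
      Matrix (Fin k) (Fin k) (TruncatedWittVector p n S) :=
  (WittVector.truncate n).mapMatrix

theorem Tm_apply (k n : ℕ) (e : Matrix (Fin k) (Fin k) (WittVector p S)) (i j : Fin k) :
    Tm p S k n e i j = WittVector.truncate n (e i j) := rfl

theorem exists_idem_lift {k : ℕ} (e₀ : Matrix (Fin k) (Fin k) (WittVector p S))
    (hδ : ∀ i j, (e₀ * e₀ - e₀) i j ∈ Prop40.Wid p (nilradical S)) :
    ∃ e : Matrix (Fin k) (Fin k) (WittVector p S), e * e = e ∧
      ∀ n, ∀ᶠ m in atTop, Tm p S k n (newt e₀ m) = Tm p S k n e := by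
  have hstab : ∀ n, ∃ N, ∀ m, N ≤ m →
      (newt (Tm p S k n e₀) m * newt (Tm p S k n e₀) m - newt (Tm p S k n e₀) m = 0 ∧
        newt (Tm p S k n e₀) m = newt (Tm p S k n e₀) N) := by
    intro n
    have hε : IsNilpotent (Tm p S k n e₀ * Tm p S k n e₀ - Tm p S k n e₀) := by
      have e1 : Tm p S k n e₀ * Tm p S k n e₀ - Tm p S k n e₀ =
          Tm p S k n (e₀ * e₀ - e₀) := by
        rw [map_sub, map_mul]
      rw [e1]
      apply matrix_isNilpotent
      intro i j
      show IsNilpotent (WittVector.truncate n ((e₀ * e₀ - e₀) i j))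
      exact isNilpotent_truncate n _ (hδ i j)
    obtain ⟨N, hN⟩ := hε
    exact ⟨N, newt_stabilize _ N hN⟩
  have hent : ∀ i j, ∃ x : WittVector p S, ∀ n, ∀ᶠ m in atTop,
      WittVector.truncate n (newt e₀ m i j) = WittVector.truncate n x := by
    intro i j
    refine exists_limit (fun m => newt e₀ m i j) ?_
    intro n
    obtain ⟨N, hN⟩ := hstab n
    refine ⟨newt (Tm p S k n e₀) N i j, eventually_atTop.mpr ⟨N, fun m hm => ?_⟩⟩
    show Tm p S k n (newt e₀ m) i j = newt (Tm p S k n e₀) N i j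
    rw [map_newt, (hN m hm).2]
  choose x hx using hent
  have hlim : ∀ n, ∀ᶠ m in atTop, Tm p S k n (newt e₀ m) = Tm p S k n (Matrix.of x) := by
    intro n
    have h1 : ∀ᶠ m in atTop, ∀ i j,
        WittVector.truncate n (newt e₀ m i j) = WittVector.truncate n (x i j) :=
      eventually_all.mpr (fun i => eventually_all.mpr (fun j => hx i j n))
    refine h1.mono (fun m hm => ?_)
    exact Matrix.ext (fun i j => hm i j)
  refine ⟨Matrix.of x, ?_, hlim⟩
  have h0 : Matrix.of x * Matrix.of x - Matrix.of x = 0 := by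
    refine Matrix.ext (fun i j => ?_)
    rw [Matrix.zero_apply]
    apply eq_zero_of_truncate
    intro n
    obtain ⟨N, hN⟩ := hstab n
    obtain ⟨m, hm1, hm2⟩ := ((hlim n).and (eventually_ge_atTop N)).exists
    have h2 : Tm p S k n (Matrix.of x * Matrix.of x - Matrix.of x) = 0 := by
      rw [map_sub, map_mul, ← hm1, map_newt]
      exact (hN m hm2).1
    exact congrFun (congrFun h2 i) j
  exact sub_eq_zero.mp h0

end Trunc

/-! ### Lifting modules -/

section Lift

variable {p : ℕ} [Fact p.Prime] {S R : Type u} [CommRing S] [CommRing R] (φ : S →+* R)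

local notation "g" => (WittVector.map φ : WittVector p S →+* WittVector p R)

/-- apply `W(φ)` entrywise to a vector -/
noncomputable def gvec (k : ℕ) : (Fin k → WittVector p S) →ₛₗ[g] (Fin k → WittVector p R) where
  toFun x := fun i => g (x i)
  map_add' x y := funext fun i => map_add g (x i) (y i)
  map_smul' c x := funext fun i => map_mul g c (x i)

theorem gvec_apply (k : ℕ) (x : Fin k → WittVector p S) (i : Fin k) :
    gvec φ k x i = g (x i) := rfl

theorem gvec_surjective (hφ : Function.Surjective φ) (k : ℕ) :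
    Function.Surjective (gvec (p := p) φ k) := by
  intro v
  have h := fun i => WittVector.map_surjective φ hφ (v i)
  choose z hz using h
  exact ⟨z, funext hz⟩

theorem gvec_mulVec (k : ℕ) (e : Matrix (Fin k) (Fin k) (WittVector p S))
    (x : Fin k → WittVector p S) :
    gvec φ k (Matrix.toLin' e x) = Matrix.toLin' ((RingHom.mapMatrix g) e) (gvec φ k x) := by
  funext i
  show g (∑ j, e i j * x j) = ∑ j, g (e i j) * g (x j)
  rw [map_sum]
  exact Finset.sum_congr rfl (fun j _ => map_mul g _ _)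

theorem exists_lift (hφ : Function.Surjective φ) (hnil : ∀ a : S, φ a = 0 → IsNilpotent a)
    (P : Type u) [AddCommGroup P] [Module (WittVector p R) P]
    [Module.Finite (WittVector p R) P] [Module.Projective (WittVector p R) P] :
    ∃ (P' : Type u) (_ : AddCommGroup P') (_ : Module (WittVector p S) P'),
      Module.Finite (WittVector p S) P' ∧ Module.Projective (WittVector p S) P' ∧
        ∃ π : P' →ₛₗ[g] P, Function.Surjective π ∧
          LinearMap.ker π = RingHom.ker g • (⊤ : Submodule (WittVector p S) P') := by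
  obtain ⟨k, q, hq⟩ := Module.Finite.exists_fin' (WittVector p R) P
  obtain ⟨s, hs⟩ := Module.projective_lifting_property q LinearMap.id hq
  have hqs : ∀ y, q (s y) = y := fun y => LinearMap.congr_fun hs y
  obtain ⟨E', hE'⟩ : ∃ E' : (Fin k → WittVector p R) →ₗ[WittVector p R] (Fin k → WittVector p R),
      ∀ v, E' v = s (q v) := ⟨s ∘ₗ q, fun v => rfl⟩
  have hE'E' : E' ∘ₗ E' = E' := by
    apply LinearMap.ext
    intro v
    rw [LinearMap.comp_apply, hE', hE', hqs]
  obtain ⟨E, hEdef⟩ : ∃ E : Matrix (Fin k) (Fin k) (WittVector p R),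
      E = LinearMap.toMatrix' E' := ⟨_, rfl⟩
  have hEE : E * E = E := by
    rw [hEdef, ← LinearMap.toMatrix'_comp, hE'E']
  have hElin : Matrix.toLin' E = E' := by
    rw [hEdef]; exact Matrix.toLin'_toMatrix' E'
  have hsurj : Function.Surjective g := WittVector.map_surjective φ hφ
  have hent := fun i j => hsurj (E i j)
  choose e₀f he₀f using hent
  obtain ⟨e₀, he₀⟩ : ∃ e₀ : Matrix (Fin k) (Fin k) (WittVector p S), ∀ i j, e₀ i j = e₀f i j :=
    ⟨Matrix.of e₀f, fun i j => rfl⟩
  have hge₀ : (RingHom.mapMatrix g) e₀ = E := by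
    refine Matrix.ext (fun i j => ?_)
    show g (e₀ i j) = E i j
    rw [he₀, he₀f]
  have hW : Prop40.Wid p (RingHom.ker φ) ≤ Prop40.Wid p (nilradical S) :=
    Prop40.Wid_mono p (fun a ha => mem_nilradical.mpr (hnil a (RingHom.mem_ker.mp ha)))
  have hδ : ∀ i j, (e₀ * e₀ - e₀) i j ∈ Prop40.Wid p (nilradical S) := by
    intro i j
    have h1 : (RingHom.mapMatrix g) (e₀ * e₀ - e₀) = 0 := by
      rw [map_sub, map_mul, hge₀, hEE, sub_self]
    have h2 : g ((e₀ * e₀ - e₀) i j) = 0 := congrFun (congrFun h1 i) j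
    have h3 : (e₀ * e₀ - e₀) i j ∈ Prop40.Wid p (RingHom.ker φ) := by
      rw [← Prop40.ker_map_eq]
      exact RingHom.mem_ker.mpr h2
    exact hW h3
  obtain ⟨e, hee, hlim⟩ := exists_idem_lift e₀ hδ
  have hge : (RingHom.mapMatrix g) e = E := by
    refine Matrix.ext (fun i j => ?_)
    show g (e i j) = E i j
    ext l
    rw [WittVector.map_coeff]
    obtain ⟨m, hm⟩ := (hlim (l + 1)).exists
    have h1 : WittVector.truncate (l + 1) (newt e₀ m i j) =
        WittVector.truncate (l + 1) (e i j) := congrFun (congrFun hm i) j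
    have h2 : (newt e₀ m i j).coeff l = (e i j).coeff l := by
      have h3 := congrArg
        (fun y => TruncatedWittVector.coeff (⟨l, Nat.lt_succ_self l⟩ : Fin (l + 1)) y) h1
      simpa only [WittVector.coeff_truncate] using h3
    rw [← h2]
    have h4 : (RingHom.mapMatrix g) (newt e₀ m) = E := by
      rw [map_newt, hge₀, newt_of_idem E hEE]
    have h5 : g (newt e₀ m i j) = E i j := congrFun (congrFun h4 i) j
    rw [← h5, WittVector.map_coeff]
  obtain ⟨Pt, hPt⟩ : ∃ Pt : Submodule (WittVector p S) (Fin k → WittVector p S),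
      Pt = LinearMap.range (Matrix.toLin' e) := ⟨_, rfl⟩
  have hmemPt : ∀ z, Matrix.toLin' e z ∈ Pt := fun z => by
    rw [hPt]; exact LinearMap.mem_range_self _ z
  have hfix : ∀ x ∈ Pt, Matrix.toLin' e x = x := by
    intro x hx
    rw [hPt] at hx
    obtain ⟨y, rfl⟩ := hx
    rw [← Matrix.toLin'_mul_apply, hee]
  have hfin : Module.Finite (WittVector p S) ↥Pt := by
    rw [hPt]; infer_instance
  have hproj : Module.Projective (WittVector p S) ↥Pt := by
    refine Module.Projective.of_split Pt.subtype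
      ((Matrix.toLin' e).codRestrict Pt hmemPt) ?_
    apply LinearMap.ext
    intro x
    apply Subtype.ext
    exact hfix x.1 x.2
  obtain ⟨π, hπ⟩ : ∃ π : ↥Pt →ₛₗ[g] P,
      ∀ x : ↥Pt, π x = q (gvec φ k (x : Fin k → WittVector p S)) :=
    ⟨(q.comp (gvec φ k)).comp Pt.subtype, fun x => rfl⟩
  refine ⟨↥Pt, inferInstance, inferInstance, hfin, hproj, π, ?_, ?_⟩
  · intro y
    obtain ⟨z, hz⟩ := gvec_surjective φ hφ k (s y)
    refine ⟨⟨Matrix.toLin' e z, hmemPt z⟩, ?_⟩
    rw [hπ]
    show q (gvec φ k (Matrix.toLin' e z)) = y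
    rw [gvec_mulVec, hge, hElin, hz, hE', hqs, hqs]
  · apply le_antisymm
    · intro x hx
      have hx0 : q (gvec φ k (x : Fin k → WittVector p S)) = 0 := by
        rw [← hπ]; exact LinearMap.mem_ker.mp hx
      have h1 : gvec φ k (x : Fin k → WittVector p S) = 0 := by
        have h2 : gvec φ k (Matrix.toLin' e (x : Fin k → WittVector p S)) =
            gvec φ k (x : Fin k → WittVector p S) := by rw [hfix _ x.2]
        rw [gvec_mulVec, hge, hElin, hE', hx0, map_zero] at h2
        exact h2.symm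
      have h3 : ∀ i, (x : Fin k → WittVector p S) i ∈ RingHom.ker g :=
        fun i => RingHom.mem_ker.mpr (congrFun h1 i)
      have h4 : x = ∑ i, ((x : Fin k → WittVector p S) i) •
          (⟨Matrix.toLin' e (Pi.single i 1), hmemPt _⟩ : ↥Pt) := by
        apply Subtype.ext
        rw [Submodule.coe_sum]
        show (x : Fin k → WittVector p S) =
          ∑ i, (x : Fin k → WittVector p S) i • Matrix.toLin' e (Pi.single i 1)
        conv_lhs => rw [← hfix _ x.2, pi_eq_sum_univ' (x : Fin k → WittVector p S)]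
        rw [map_sum]
        exact Finset.sum_congr rfl (fun i _ => map_smul _ _ _)
      rw [h4]
      exact Submodule.sum_mem _
        (fun i _ => Submodule.smul_mem_smul (h3 i) Submodule.mem_top)
    · refine Submodule.smul_le.mpr (fun j hj x _ => ?_)
      rw [LinearMap.mem_ker, LinearMap.map_smulₛₗ, RingHom.mem_ker.mp hj, zero_smul]

theorem J_le_jacobson (hp : IsNilpotent (p : S)) :
    Prop40.Wid p (nilradical S) ≤ Ideal.jacobson (⊥ : Ideal (WittVector p S)) := by
  have hpn : IsNilpotent (Ideal.span {(p : S)}) := by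
    obtain ⟨k, hk⟩ := hp
    refine ⟨k, ?_⟩
    rw [Ideal.span_singleton_pow, hk, Ideal.span_singleton_eq_bot.mpr rfl]
    rfl
  haveI : IsAdicComplete (Ideal.span {(p : S)}) S := isAdicComplete_of_isNilpotent _ hpn S
  haveI : IsAdicComplete (RingHom.ker (WittVector.constantCoeff : WittVector p S →+* S))
      (WittVector p S) := (WittAdic.main p (R := S)).2
  have hI1 : RingHom.ker (WittVector.constantCoeff : WittVector p S →+* S) ≤
      Ideal.jacobson ⊥ := IsAdicComplete.le_jacobson_bot _
  intro x hx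
  obtain ⟨x', _, hdec⟩ := Prop40.exists_sh x hx
  rw [hdec]
  refine Ideal.add_mem _ ?_ (hI1 ?_)
  · have hn : IsNilpotent (WittVector.teichmuller p (x.coeff 0)) := by
      obtain ⟨m, hm⟩ := mem_nilradical.mp ((Prop40.mem_Wid p).mp hx 0)
      exact ⟨m, by rw [← map_pow, hm, WittVector.teichmuller_zero]⟩
    exact Ideal.radical_le_jacobson (mem_nilradical.mpr hn)
  · rw [RingHom.mem_ker, WittVector.constantCoeff_apply, WittVector.verschiebung_coeff_zero]

theorem unique_lift (hnil : ∀ a : S, φ a = 0 → IsNilpotent a) (hp : IsNilpotent (p : S))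
    (P : Type u) [AddCommGroup P] [Module (WittVector p R) P]
    (P₁ : Type u) [AddCommGroup P₁] [Module (WittVector p S) P₁]
    [Module.Finite (WittVector p S) P₁] [Module.Projective (WittVector p S) P₁]
    (P₂ : Type u) [AddCommGroup P₂] [Module (WittVector p S) P₂]
    [Module.Finite (WittVector p S) P₂] [Module.Projective (WittVector p S) P₂]
    (π₁ : P₁ →ₛₗ[g] P) (π₂ : P₂ →ₛₗ[g] P)
    (h₁s : Function.Surjective π₁)
    (h₁k : LinearMap.ker π₁ = RingHom.ker g • (⊤ : Submodule (WittVector p S) P₁))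
    (h₂s : Function.Surjective π₂)
    (h₂k : LinearMap.ker π₂ = RingHom.ker g • (⊤ : Submodule (WittVector p S) P₂)) :
    ∃ e : P₁ ≃ₗ[WittVector p S] P₂, ∀ x : P₁, π₂ (e x) = π₁ x := by
  have hJ : RingHom.ker g ≤ Ideal.jacobson (⊥ : Ideal (WittVector p S)) := by
    rw [Prop40.ker_map_eq]
    exact (Prop40.Wid_mono p
      (fun a ha => mem_nilradical.mpr (hnil a (RingHom.mem_ker.mp ha)))).trans (J_le_jacobson hp)
  obtain ⟨s₁, hs₁⟩ := (Module.projective_def' (R := WittVector p S) (P := P₁)).mp inferInstance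
  have hY : ∀ x : P₁, ∃ y : P₂, π₂ y = π₁ x := fun x => h₂s (π₁ x)
  choose Y hY using hY
  obtain ⟨ψ, hψdef⟩ : ∃ ψ : P₁ →ₗ[WittVector p S] P₂,
      ∀ x, ψ x = Finsupp.linearCombination (WittVector p S) Y (s₁ x) :=
    ⟨(Finsupp.linearCombination (WittVector p S) Y) ∘ₗ s₁, fun x => rfl⟩
  have hψ : ∀ x, π₂ (ψ x) = π₁ x := by
    intro x
    have hx : x = Finsupp.linearCombination (WittVector p S) id (s₁ x) :=
      (LinearMap.congr_fun hs₁ x).symm
    conv_rhs => rw [hx]
    rw [hψdef, Finsupp.linearCombination_apply, Finsupp.linearCombination_apply, Finsupp.sum,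
      Finsupp.sum, map_sum, map_sum]
    refine Finset.sum_congr rfl fun j _ => ?_
    rw [LinearMap.map_smulₛₗ, LinearMap.map_smulₛₗ, hY j]
    rfl
  have hψsurj : Function.Surjective ψ := by
    rw [← LinearMap.range_eq_top]
    apply top_le_iff.mp
    refine Submodule.le_of_le_smul_of_le_jacobson_bot Module.Finite.fg_top hJ ?_
    intro y _
    obtain ⟨x, hx⟩ := h₁s (π₂ y)
    have h1 : y - ψ x ∈ LinearMap.ker π₂ := by
      rw [LinearMap.mem_ker, map_sub, hψ, hx, sub_self]
    rw [h₂k] at h1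
    have h2 : y = ψ x + (y - ψ x) := by abel
    rw [h2]
    exact Submodule.add_mem_sup (LinearMap.mem_range_self ψ x) h1
  obtain ⟨τ, hτ⟩ := Module.projective_lifting_property ψ LinearMap.id hψsurj
  have hτ' : ∀ y, ψ (τ y) = y := fun y => LinearMap.congr_fun hτ y
  obtain ⟨ρ, hρ⟩ : ∃ ρ : P₁ →ₗ[WittVector p S] P₁, ∀ x, ρ x = x - τ (ψ x) :=
    ⟨LinearMap.id - τ ∘ₗ ψ, fun x => rfl⟩
  have hρK : ∀ y, ψ (ρ y) = 0 := by
    intro y
    rw [hρ, map_sub, hτ', sub_self]
  have hρid : ∀ x, ψ x = 0 → ρ x = x := by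
    intro x hx
    rw [hρ, hx, map_zero, sub_zero]
  have hKfg : (LinearMap.ker ψ).FG := by
    have e1 : LinearMap.ker ψ = LinearMap.range ρ := by
      apply le_antisymm
      · intro x hx
        exact ⟨x, hρid x (LinearMap.mem_ker.mp hx)⟩
      · rintro _ ⟨y, rfl⟩
        exact LinearMap.mem_ker.mpr (hρK y)
    rw [e1, LinearMap.range_eq_map]
    exact (Module.Finite.fg_top).map ρ
  have hKle : LinearMap.ker ψ ≤ RingHom.ker g • LinearMap.ker ψ := by
    intro x hx
    have hx0 : ψ x = 0 := LinearMap.mem_ker.mp hx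
    have h1 : x ∈ LinearMap.ker π₁ := by
      rw [LinearMap.mem_ker, ← hψ, hx0, map_zero]
    rw [h₁k] at h1
    have h2 : ρ x ∈ RingHom.ker g • LinearMap.ker ψ := by
      refine Submodule.smul_induction_on h1 (fun j hj y _ => ?_) (fun a b ha hb => ?_)
      · rw [map_smul]
        exact Submodule.smul_mem_smul hj (LinearMap.mem_ker.mpr (hρK y))
      · rw [map_add]
        exact add_mem ha hb
    rwa [hρid x hx0] at h2
  have hK : LinearMap.ker ψ = ⊥ :=
    Submodule.eq_bot_of_le_smul_of_le_jacobson_bot _ _ hKfg hKle hJ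
  exact ⟨LinearEquiv.ofBijective ψ ⟨LinearMap.ker_eq_bot.mp hK, hψsurj⟩, fun x => hψ x⟩

end Lift

end Groth.Agent.H74.WittProjLift
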