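import Mathlib
import Groth.Agent.H74.WittProjLift
import Groth.Agent.H74.WittMisc
import Groth.Agent.H74.Prop40C

/-! Finitely generated projective `W(R)`-modules and their truncations (`p` nilpotent in `R`). -/

set_option autoImplicit false
set_option maxHeartbeats 400000
universe u v w

namespace Groth.Agent.H74.WittProjTrunc

open Groth.Agent.H74

/-! ### Generalities on `M ⧸ I • ⊤` -/

section Gen

variable {A : Type u} [CommRing A] (I : Ideal A) {M : Type v} [AddCommGroup M] [Module A M]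

theorem smul_quot_eq_zero {a : A} (ha : a ∈ I) (z : M ⧸ (I • ⊤ : Submodule A M)) : a • z = 0 := by
  obtain ⟨y, rfl⟩ := Submodule.Quotient.mk_surjective _ z
  rw [← Submodule.Quotient.mk_smul, Submodule.Quotient.mk_eq_zero]
  exact Submodule.smul_mem_smul ha Submodule.mem_top

theorem quot_finite [Module.Finite A M] :
    Module.Finite (A ⧸ I) (M ⧸ (I • ⊤ : Submodule A M)) :=
  Module.Finite.of_restrictScalars_finite A (A ⧸ I) (M ⧸ (I • ⊤ : Submodule A M))

theorem quot_projective [Module.Projective A M] :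
    Module.Projective (A ⧸ I) (M ⧸ (I • ⊤ : Submodule A M)) := by
  obtain ⟨s, hs⟩ := (Module.projective_def' (R := A) (P := M)).mp inferInstance
  let φ : A →ₗ[A] (A ⧸ I) := (Ideal.Quotient.mkₐ A I).toLinearMap
  have hφ : ∀ a : A, φ a = Ideal.Quotient.mk I a := fun a => rfl
  let i₀ : M →ₗ[A] (M →₀ (A ⧸ I)) := (Finsupp.mapRange.linearMap φ) ∘ₗ s
  have hi₀ : (I • ⊤ : Submodule A M) ≤ LinearMap.ker i₀ := by
    rw [Submodule.smul_le]
    intro a ha x _
    rw [LinearMap.mem_ker, map_smul]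
    ext j
    rw [Finsupp.smul_apply, Finsupp.zero_apply, ← algebraMap_smul (A ⧸ I) a, smul_eq_mul,
      Ideal.Quotient.algebraMap_eq, Ideal.Quotient.eq_zero_iff_mem.mpr ha, zero_mul]
  let i₁ : (M ⧸ (I • ⊤ : Submodule A M)) →ₗ[A] (M →₀ (A ⧸ I)) := Submodule.liftQ _ i₀ hi₀
  let i : (M ⧸ (I • ⊤ : Submodule A M)) →ₗ[A ⧸ I] (M →₀ (A ⧸ I)) :=
    LinearMap.extendScalarsOfSurjective Ideal.Quotient.mk_surjective i₁
  let π : (M →₀ (A ⧸ I)) →ₗ[A ⧸ I] (M ⧸ (I • ⊤ : Submodule A M)) :=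
    Finsupp.linearCombination (A ⧸ I) (fun x : M => Submodule.Quotient.mk x)
  refine Module.Projective.of_split i π ?_
  refine LinearMap.ext fun x => ?_
  obtain ⟨x, rfl⟩ := Submodule.Quotient.mk_surjective _ x
  have hx : x = Finsupp.linearCombination A id (s x) := (LinearMap.congr_fun hs x).symm
  have e1 : i (Submodule.Quotient.mk x) = Finsupp.mapRange φ (map_zero φ) (s x) := rfl
  rw [LinearMap.comp_apply, LinearMap.id_apply, e1]
  conv_rhs => rw [hx]
  rw [Finsupp.linearCombination_apply, Finsupp.linearCombination_apply,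
    Finsupp.sum_mapRange_index
      (h := fun (i : M) (a : A ⧸ I) =>
        a • (Submodule.Quotient.mk i : M ⧸ (I • ⊤ : Submodule A M)))
      (fun _ => zero_smul _ _), Finsupp.sum, Finsupp.sum,
    ← Submodule.mkQ_apply, map_sum]
  refine Finset.sum_congr rfl fun j _ => ?_
  rw [hφ]
  rfl

/-- A finitely generated projective cover which is an isomorphism modulo `𝔪`. -/
theorem exists_cover (𝔪 : Ideal A) [IsAdicComplete 𝔪 A] (P : Type v) [AddCommGroup P]
    [Module A P] [IsHausdorff 𝔪 P]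
    [Module.Finite (A ⧸ 𝔪) (P ⧸ (𝔪 • ⊤ : Submodule A P))]
    [Module.Projective (A ⧸ 𝔪) (P ⧸ (𝔪 • ⊤ : Submodule A P))] :
    ∃ (k : ℕ) (Pt : Submodule A (Fin k → A)) (h : ↥Pt →ₗ[A] P),
      Module.Finite A ↥Pt ∧ Module.Projective A ↥Pt ∧ Function.Surjective h ∧
        ∀ x : ↥Pt, h x ∈ (𝔪 • ⊤ : Submodule A P) → x ∈ (𝔪 • ⊤ : Submodule A ↥Pt) := by
  haveI : Module.Finite A (P ⧸ (𝔪 • ⊤ : Submodule A P)) := Module.Finite.trans (A ⧸ 𝔪) _
  obtain ⟨k, f, hf⟩ := Module.Finite.exists_fin' A (P ⧸ (𝔪 • ⊤ : Submodule A P))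
  obtain ⟨g₀, hg₀⟩ := Module.projective_lifting_property
    (Submodule.mkQ (𝔪 • ⊤ : Submodule A P)) f (Submodule.mkQ_surjective _)
  have hg₀' : ∀ v, (Submodule.Quotient.mk (g₀ v) : P ⧸ (𝔪 • ⊤ : Submodule A P)) = f v :=
    fun v => LinearMap.congr_fun hg₀ v
  have hfkill : ∀ v ∈ (𝔪 • ⊤ : Submodule A (Fin k → A)), f v = 0 := by
    intro v hv
    refine Submodule.smul_induction_on hv (fun a ha z _ => ?_) (fun a b ha hb => ?_)
    · rw [map_smul]
      exact smul_quot_eq_zero 𝔪 ha _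
    · rw [map_add, ha, hb, add_zero]
  let f₁ : ((Fin k → A) ⧸ (𝔪 • ⊤ : Submodule A (Fin k → A))) →ₗ[A]
      (P ⧸ (𝔪 • ⊤ : Submodule A P)) :=
    Submodule.liftQ _ f (fun v hv => LinearMap.mem_ker.mpr (hfkill v hv))
  have hf₁ : ∀ v, f₁ (Submodule.Quotient.mk v) = f v := fun v => rfl
  let f₁' : ((Fin k → A) ⧸ (𝔪 • ⊤ : Submodule A (Fin k → A))) →ₗ[A ⧸ 𝔪]
      (P ⧸ (𝔪 • ⊤ : Submodule A P)) :=
    LinearMap.extendScalarsOfSurjective Ideal.Quotient.mk_surjective f₁
  have hf₁' : ∀ z, f₁' z = f₁ z := fun z => rfl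
  have hsurj' : Function.Surjective f₁' := by
    intro z
    obtain ⟨v, hv⟩ := hf z
    exact ⟨Submodule.Quotient.mk v, by rw [hf₁', hf₁, hv]⟩
  obtain ⟨σ₁, hσ₁⟩ := Module.projective_lifting_property f₁' LinearMap.id hsurj'
  have hσ₁' : ∀ z, f₁ (σ₁ z) = z := fun z => LinearMap.congr_fun hσ₁ z
  obtain ⟨φ₀, hφ₀⟩ := Module.projective_lifting_property
    (Submodule.mkQ (𝔪 • ⊤ : Submodule A (Fin k → A))) ((σ₁.restrictScalars A) ∘ₗ f)
    (Submodule.mkQ_surjective _)
  have hφ₀' : ∀ v, (Submodule.Quotient.mk (φ₀ v) :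
      (Fin k → A) ⧸ (𝔪 • ⊤ : Submodule A (Fin k → A))) = σ₁ (f v) :=
    fun v => LinearMap.congr_fun hφ₀ v
  have hfφ₀ : ∀ v, f (φ₀ v) = f v := by
    intro v
    rw [← hf₁, hφ₀', hσ₁']
  have h0 : LinearMap.range (φ₀ * φ₀ - φ₀) ≤ (𝔪 • ⊤ : Submodule A (Fin k → A)) := by
    rintro _ ⟨v, rfl⟩
    rw [LinearMap.sub_apply, Module.End.mul_apply, ← Submodule.Quotient.eq, hφ₀', hφ₀', hfφ₀]
  haveI : IsAdicComplete 𝔪 (Fin k → A) := IdemLift.isAdicComplete_pi 𝔪 k
  obtain ⟨e, he, hedif⟩ := IdemLift.exists_idempotent 𝔪 φ₀ h0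
  have hee : ∀ v, e (e v) = e v := fun v => LinearMap.congr_fun he v
  have hfe : ∀ v, f (e v) = f v := by
    intro v
    have h1 := hfkill _ (hedif v)
    rw [map_sub, sub_eq_zero] at h1
    rw [h1, hfφ₀]
  obtain ⟨Pt, hPt⟩ : ∃ Pt : Submodule A (Fin k → A), Pt = LinearMap.range e := ⟨_, rfl⟩
  have hmemPt : ∀ v, e v ∈ Pt := fun v => by
    rw [hPt]; exact LinearMap.mem_range_self _ v
  have hfix : ∀ x ∈ Pt, e x = x := by
    intro x hx
    rw [hPt] at hx
    obtain ⟨y, rfl⟩ := hx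
    exact hee y
  have hfin : Module.Finite A ↥Pt := by
    rw [hPt]; infer_instance
  have hproj : Module.Projective A ↥Pt := by
    refine Module.Projective.of_split Pt.subtype (e.codRestrict Pt hmemPt) ?_
    apply LinearMap.ext
    intro x
    apply Subtype.ext
    exact hfix x.1 x.2
  refine ⟨k, Pt, g₀ ∘ₗ Pt.subtype, hfin, hproj, ?_, ?_⟩
  · haveI := hfin
    haveI := hproj
    haveI : IsAdicComplete 𝔪 ↥Pt := IdemLift.isAdicComplete_of_finite_projective 𝔪
    apply surjective_of_mkQ_comp_surjective (I := 𝔪)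
    intro z
    obtain ⟨v, hv⟩ := hf z
    refine ⟨⟨e v, hmemPt v⟩, ?_⟩
    show (Submodule.Quotient.mk (g₀ (e v)) : P ⧸ (𝔪 • ⊤ : Submodule A P)) = z
    rw [hg₀', hfe, hv]
  · intro x hx
    have hx' : g₀ (x : Fin k → A) ∈ (𝔪 • ⊤ : Submodule A P) := hx
    have h1 : f (x : Fin k → A) = 0 := by
      rw [← hg₀']
      exact (Submodule.Quotient.mk_eq_zero _).mpr hx'
    have h2 : φ₀ (x : Fin k → A) ∈ (𝔪 • ⊤ : Submodule A (Fin k → A)) := by
      rw [← Submodule.Quotient.mk_eq_zero, hφ₀', h1, map_zero]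
    have h3 : (x : Fin k → A) ∈ (𝔪 • ⊤ : Submodule A (Fin k → A)) := by
      have h4 := add_mem (hedif (x : Fin k → A)) h2
      rwa [sub_add_cancel, hfix _ x.2] at h4
    have h5 : ∀ v ∈ (𝔪 • ⊤ : Submodule A (Fin k → A)),
        e.codRestrict Pt hmemPt v ∈ (𝔪 • ⊤ : Submodule A ↥Pt) := by
      intro v hv
      refine Submodule.smul_induction_on hv (fun a ha z _ => ?_) (fun a b ha hb => ?_)
      · rw [map_smul]
        exact Submodule.smul_mem_smul ha Submodule.mem_top
      · rw [map_add]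
        exact add_mem ha hb
    have h6 : e.codRestrict Pt hmemPt (x : Fin k → A) = x := Subtype.ext (hfix x.1 x.2)
    rw [← h6]
    exact h5 _ h3

/-- Injectivity modulo `I` from injectivity modulo `𝔪` and projectivity of the target. -/
theorem inj_mod (𝔪 : Ideal A) (hI𝔪 : I ≤ 𝔪) (m : ℕ) (hm : 𝔪 ^ m ≤ I)
    {Pt : Type w} [AddCommGroup Pt] [Module A Pt] {P : Type v} [AddCommGroup P] [Module A P]
    (h : Pt →ₗ[A] P) (hsurj : Function.Surjective h)
    (hinj : ∀ x, h x ∈ (𝔪 • ⊤ : Submodule A P) → x ∈ (𝔪 • ⊤ : Submodule A Pt))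
    [Module.Projective (A ⧸ I) (P ⧸ (I • ⊤ : Submodule A P))]
    (x : Pt) (hx : h x ∈ (I • ⊤ : Submodule A P)) : x ∈ (I • ⊤ : Submodule A Pt) := by
  have hle : (I • ⊤ : Submodule A Pt) ≤ Submodule.comap h (I • ⊤ : Submodule A P) := by
    rw [Submodule.smul_le]
    intro a ha y _
    rw [Submodule.mem_comap, map_smul]
    exact Submodule.smul_mem_smul ha Submodule.mem_top
  let hn : (Pt ⧸ (I • ⊤ : Submodule A Pt)) →ₗ[A] (P ⧸ (I • ⊤ : Submodule A P)) :=
    Submodule.mapQ _ _ h hle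
  have hn_mk : ∀ y, hn (Submodule.Quotient.mk y) = Submodule.Quotient.mk (h y) := fun y => rfl
  let hn' : (Pt ⧸ (I • ⊤ : Submodule A Pt)) →ₗ[A ⧸ I] (P ⧸ (I • ⊤ : Submodule A P)) :=
    LinearMap.extendScalarsOfSurjective Ideal.Quotient.mk_surjective hn
  have hn'surj : Function.Surjective hn' := by
    intro z
    obtain ⟨y, rfl⟩ := Submodule.Quotient.mk_surjective _ z
    obtain ⟨y', rfl⟩ := hsurj y
    exact ⟨Submodule.Quotient.mk y', rfl⟩
  obtain ⟨t, ht⟩ := Module.projective_lifting_property hn' LinearMap.id hn'surj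
  have ht' : ∀ z, hn (t z) = z := fun z => LinearMap.congr_fun ht z
  obtain ⟨ρ, hρ⟩ : ∃ ρ : (Pt ⧸ (I • ⊤ : Submodule A Pt)) →ₗ[A] (Pt ⧸ (I • ⊤ : Submodule A Pt)),
      ∀ z, ρ z = z - t (hn z) := ⟨LinearMap.id - (t.restrictScalars A) ∘ₗ hn, fun z => rfl⟩
  have hρK : ∀ z, hn (ρ z) = 0 := by
    intro z
    rw [hρ, map_sub, ht', sub_self]
  have hρid : ∀ z, hn z = 0 → ρ z = z := by
    intro z hz
    rw [hρ, hz, map_zero, sub_zero]
  have hK1 : LinearMap.ker hn ≤ 𝔪 • LinearMap.ker hn := by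
    intro z hz
    have hz0 : hn z = 0 := LinearMap.mem_ker.mp hz
    obtain ⟨y, rfl⟩ := Submodule.Quotient.mk_surjective _ z
    have hz1 := hz0
    rw [hn_mk, Submodule.Quotient.mk_eq_zero] at hz1
    have hy : y ∈ (𝔪 • ⊤ : Submodule A Pt) := hinj y (Submodule.smul_mono_left hI𝔪 hz1)
    have h2 : ∀ y ∈ (𝔪 • ⊤ : Submodule A Pt),
        ρ (Submodule.Quotient.mk y) ∈ 𝔪 • LinearMap.ker hn := by
      intro y hy
      refine Submodule.smul_induction_on hy (fun a ha z _ => ?_) (fun a b ha hb => ?_)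
      · rw [Submodule.Quotient.mk_smul, map_smul]
        exact Submodule.smul_mem_smul ha (LinearMap.mem_ker.mpr (hρK _))
      · rw [Submodule.Quotient.mk_add, map_add]
        exact add_mem ha hb
    have h3 := h2 y hy
    rwa [hρid _ hz0] at h3
  have hKm : ∀ j : ℕ, LinearMap.ker hn ≤ 𝔪 ^ j • LinearMap.ker hn := by
    intro j
    induction j with
    | zero => rw [pow_zero, Ideal.one_eq_top, Submodule.top_smul]
    | succ j ih =>
      calc LinearMap.ker hn ≤ 𝔪 • LinearMap.ker hn := hK1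
        _ ≤ 𝔪 • (𝔪 ^ j • LinearMap.ker hn) := Submodule.smul_mono le_rfl ih
        _ = 𝔪 ^ (j + 1) • LinearMap.ker hn := by rw [pow_succ', Submodule.mul_smul]
  have hK0 : LinearMap.ker hn = ⊥ := by
    rw [eq_bot_iff]
    refine (hKm m).trans ?_
    rw [Submodule.smul_le]
    intro a ha z _
    rw [Submodule.mem_bot]
    exact smul_quot_eq_zero I (hm ha) z
  have hz : (Submodule.Quotient.mk x : Pt ⧸ (I • ⊤ : Submodule A Pt)) ∈ LinearMap.ker hn := by
    rw [LinearMap.mem_ker, hn_mk, Submodule.Quotient.mk_eq_zero]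
    exact hx
  rw [hK0, Submodule.mem_bot, Submodule.Quotient.mk_eq_zero] at hz
  exact hz

end Gen

/-! ### Witt vectors -/

section Witt

variable {p : ℕ} [Fact p.Prime] {R : Type u} [CommRing R]
variable {P : Type v} [AddCommGroup P] [Module (WittVector p R) P]

/-- Witt vectors whose first `n` components vanish. -/
noncomputable abbrev In (p : ℕ) [Fact p.Prime] (R : Type u) [CommRing R] (n : ℕ) : Ideal (WittVector p R) :=
  RingHom.ker (WittVector.truncate (p := p) (R := R) n)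

theorem In_anti {m n : ℕ} (h : m ≤ n) : In p R n ≤ In p R m := by
  intro x hx
  exact (WittVector.mem_ker_truncate m x).mpr
    (fun i hi => (WittVector.mem_ker_truncate n x).mp hx i (lt_of_lt_of_le hi h))

theorem In_one :
    In p R 1 = RingHom.ker (WittVector.constantCoeff : WittVector p R →+* R) := by
  ext x
  rw [WittVector.mem_ker_truncate, RingHom.mem_ker, WittVector.constantCoeff_apply]
  exact ⟨fun h => h 0 Nat.one_pos, fun h i hi => by
    obtain rfl : i = 0 := by omega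
    exact h⟩

theorem iInf_In : (⨅ n, In p R n) = ⊥ := by
  rw [eq_bot_iff]
  intro x hx
  rw [Ideal.mem_bot]
  apply WittProjLift.eq_zero_of_truncate
  intro n
  exact RingHom.mem_ker.mp ((Submodule.mem_iInf _).mp hx n)

theorem sep_of_projective [Module.Projective (WittVector p R) P] :
    (⨅ n, In p R n • (⊤ : Submodule (WittVector p R) P)) = ⊥ := by
  rw [eq_bot_iff]
  intro x hx
  obtain ⟨s, hs⟩ := (Module.projective_def' (R := WittVector p R) (P := P)).mp inferInstance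
  have hx' : Finsupp.linearCombination (WittVector p R) id (s x) = x := LinearMap.congr_fun hs x
  have h0 : s x = 0 := by
    refine Finsupp.ext (fun j => ?_)
    rw [Finsupp.zero_apply]
    have h1 : (s x) j ∈ (⨅ n, In p R n) := by
      refine (Submodule.mem_iInf _).mpr (fun n => ?_)
      exact Prop40.functional_mem (In p R n) ((Finsupp.lapply j).comp s) x
        ((Submodule.mem_iInf _).mp hx n)
    rw [iInf_In] at h1
    exact Ideal.mem_bot.mp h1
  rw [Submodule.mem_bot, ← hx', h0, map_zero]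

theorem of_truncations (hp : IsNilpotent (p : R))
    (hsep : (⨅ n, In p R n • (⊤ : Submodule (WittVector p R) P)) = ⊥)
    (hfin1 : Module.Finite (WittVector p R ⧸ In p R 1)
      (P ⧸ (In p R 1 • ⊤ : Submodule (WittVector p R) P)))
    (hproj : ∀ n, Module.Projective (WittVector p R ⧸ In p R n)
      (P ⧸ (In p R n • ⊤ : Submodule (WittVector p R) P))) :
    Module.Finite (WittVector p R) P ∧ Module.Projective (WittVector p R) P := by
  have hpn : IsNilpotent (Ideal.span {(p : R)}) := by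
    obtain ⟨k, hk⟩ := hp
    refine ⟨k, ?_⟩
    rw [Ideal.span_singleton_pow, hk, Ideal.span_singleton_eq_bot.mpr rfl]
    rfl
  haveI : IsAdicComplete (Ideal.span {(p : R)}) R :=
    WittProjLift.isAdicComplete_of_isNilpotent _ hpn R
  haveI hWc : IsAdicComplete (In p R 1) (WittVector p R) := by
    rw [In_one]
    exact (WittAdic.main p (R := R)).2
  have hpow : ∀ n, ∃ m, (In p R 1) ^ m ≤ In p R n := by
    intro n
    obtain ⟨t1, _, t3⟩ := WittMisc.topologies p R hp
    obtain ⟨m₁, hm₁⟩ := t3 n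
    obtain ⟨m₂, hm₂⟩ := t1 m₁
    refine ⟨m₂, ?_⟩
    rw [In_one]
    exact hm₂.trans hm₁
  haveI hPh : IsHausdorff (In p R 1) P := ⟨fun x hx => by
    have h2 : x ∈ (⨅ n, In p R n • (⊤ : Submodule (WittVector p R) P)) := by
      refine (Submodule.mem_iInf _).mpr (fun n => ?_)
      obtain ⟨m, hm⟩ := hpow n
      have h3 := SModEq.sub_mem.mp (hx m)
      rw [sub_zero] at h3
      exact Submodule.smul_mono_left hm h3
    rw [hsep] at h2
    exact (Submodule.mem_bot _).mp h2⟩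
  haveI := hfin1
  haveI := hproj 1
  obtain ⟨k, Pt, h, hfin, hprojPt, hsurj, hinj⟩ := exists_cover (In p R 1) P
  haveI := hfin
  haveI := hprojPt
  have hker : ∀ x, h x = 0 → x = 0 := by
    intro x hx
    have h1 : x ∈ (⨅ n, In p R n • (⊤ : Submodule (WittVector p R) ↥Pt)) := by
      refine (Submodule.mem_iInf _).mpr (fun n => ?_)
      haveI := hproj (n + 1)
      obtain ⟨m, hm⟩ := hpow (n + 1)
      have h2 := inj_mod (In p R (n + 1)) (In p R 1) (In_anti (by omega)) m hm h hsurj hinj x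
        (by rw [hx]; exact zero_mem _)
      exact Submodule.smul_mono_left (In_anti (Nat.le_succ n)) h2
    rw [sep_of_projective] at h1
    exact (Submodule.mem_bot _).mp h1
  have hbij : Function.Bijective h := ⟨(injective_iff_map_eq_zero h).mpr hker, hsurj⟩
  exact ⟨Module.Finite.equiv (LinearEquiv.ofBijective h hbij),
    Module.Projective.of_equiv (LinearEquiv.ofBijective h hbij)⟩

theorem main (hp : IsNilpotent (p : R)) :
    (Module.Finite (WittVector p R) P ∧ Module.Projective (WittVector p R) P) ↔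
      ((⨅ n : ℕ, In p R n • (⊤ : Submodule (WittVector p R) P)) = ⊥ ∧
        ∀ n : ℕ, Module.Finite (WittVector p R ⧸ In p R n)
              (P ⧸ (In p R n • ⊤ : Submodule (WittVector p R) P)) ∧
            Module.Projective (WittVector p R ⧸ In p R n)
              (P ⧸ (In p R n • ⊤ : Submodule (WittVector p R) P))) := by
  constructor
  · rintro ⟨h1, h2⟩
    haveI := h1
    haveI := h2
    exact ⟨sep_of_projective, fun n => ⟨quot_finite _, quot_projective _⟩⟩
  · rintro ⟨hsep, hall⟩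
    exact of_truncations hp hsep (hall 1).1 (fun n => (hall n).2)

end Witt

end Groth.Agent.H74.WittProjTrunc
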