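import Mathlib
import Groth.Agent.H74.WittAdic
import Groth.Agent.H74.IdemLift

/-! Solving `p^u x = a` in truncated Witt vectors over a `p`-torsion-free `p`-adic ring. -/

namespace Groth.Agent.H74.WittSolve

open Finset

/-- Easy direction of the ghost component criterion. -/
theorem ghost_dvd_of_dvd {S : Type*} [CommRing S] (p : ℕ) (hp : 1 < p) (x : ℕ → S) (s n : ℕ)
    (hs : 1 ≤ s) (h : ∀ i ≤ n, (p : S) ^ s ∣ x i) :
    (p : S) ^ (n + s) ∣ ∑ i ∈ range (n + 1), (p : S) ^ i * x i ^ p ^ (n - i) := by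
  refine Finset.dvd_sum fun i hi => ?_
  have hin : i ≤ n := Nat.lt_succ_iff.mp (Finset.mem_range.mp hi)
  obtain ⟨y, hy⟩ := h i hin
  rw [hy, mul_pow, ← pow_mul, ← mul_assoc, ← pow_add]
  refine Dvd.dvd.mul_right (pow_dvd_pow _ ?_) _
  have hd : n - i + 1 ≤ p ^ (n - i) := Nat.lt_pow_self hp
  have h3 : n - i ≤ s * (n - i) := Nat.le_mul_of_pos_left _ hs
  have h5 : s * (n - i) + s ≤ s * p ^ (n - i) := by
    calc s * (n - i) + s = s * (n - i + 1) := by ring
      _ ≤ s * p ^ (n - i) := Nat.mul_le_mul_left s hd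
  generalize s * (n - i) = A at h3 h5
  generalize s * p ^ (n - i) = B at h5 ⊢
  omega

variable (p : ℕ) [hp : Fact p.Prime] {R : Type*} [CommRing R]

theorem ghostComponent_eq_sum (n : ℕ) (x : WittVector p R) :
    WittVector.ghostComponent n x
      = ∑ i ∈ range (n + 1), (p : R) ^ i * x.coeff i ^ p ^ (n - i) := by
  rw [WittVector.ghostComponent_apply, aeval_wittPolynomial]

theorem mem_K {n m : ℕ} {x : WittVector p R} :
    x ∈ WittAdic.K p R n m ↔ ∀ i < n, x.coeff i ∈ Ideal.span {(p : R) ^ m} := by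
  have := WittAdic.sub_mem_K p (n := n) (m := m) (x := x) (y := 0)
  simpa using this

theorem K_anti (n : ℕ) {s t : ℕ} (h : s ≤ t) : WittAdic.K p R n t ≤ WittAdic.K p R n s := by
  intro x hx
  rw [mem_K] at hx ⊢
  intro i hi
  exact Ideal.span_singleton_le_span_singleton.mpr (pow_dvd_pow _ h) (hx i hi)

theorem tf_pow (hR : ∀ y : R, (p : R) * y = 0 → y = 0) :
    ∀ (n : ℕ) (a : R), (p : R) ^ n * a = 0 → a = 0 := by
  intro n
  induction n with
  | zero => intro a h; simpa using h
  | succ n ih =>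
    intro a h
    apply hR
    apply ih
    rw [← mul_assoc, ← pow_succ]
    exact h

/-- Dividing by `p^u` costs `u` in the exponent. -/
theorem mem_K_of_pow_mul_mem (hR : ∀ y : R, (p : R) * y = 0 → y = 0) (m u s : ℕ) (hs : 1 ≤ s)
    (y : WittVector p R) (h : (p : WittVector p R) ^ u * y ∈ WittAdic.K p R m (s + u)) :
    y ∈ WittAdic.K p R m s := by
  rw [mem_K] at h ⊢
  intro i hi
  rw [Ideal.mem_span_singleton]
  refine WittAdic.pow_dvd_of_ghost p hp.out.one_lt (tf_pow p hR) y.coeff s i ?_ i le_rfl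
  intro n hn
  rw [← ghostComponent_eq_sum]
  have h1 : (p : R) ^ (n + (s + u)) ∣ WittVector.ghostComponent n ((p : WittVector p R) ^ u * y) := by
    rw [ghostComponent_eq_sum]
    apply ghost_dvd_of_dvd p hp.out.one_lt _ (s + u) n (by omega)
    intro j hj
    rw [← Ideal.mem_span_singleton]
    exact h j (by omega)
  rw [map_mul, map_pow, map_natCast] at h1
  obtain ⟨c, hc⟩ := h1
  refine ⟨c, ?_⟩
  have h2 : (p : R) ^ u * (WittVector.ghostComponent n y - (p : R) ^ (n + s) * c) = 0 := by
    rw [mul_sub, hc]; ring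
  exact sub_eq_zero.mp (tf_pow p hR u _ h2)

theorem main (hR : ∀ y : R, (p : R) * y = 0 → y = 0) [IsAdicComplete (Ideal.span {(p : R)}) R]
    (a : WittVector p R) (m u : ℕ)
    (h : ∀ s : ℕ, ∃ z : WittVector p R, ∀ i < m,
      ((p : WittVector p R) ^ u * z - a).coeff i ∈ Ideal.span {(p : R) ^ s}) :
    ∃ x : WittVector p R, ∀ i < m, ((p : WittVector p R) ^ u * x - a).coeff i = 0 := by
  choose z hz using h
  have hzK : ∀ s, (p : WittVector p R) ^ u * z s - a ∈ WittAdic.K p R m s := fun s =>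
    (mem_K p).mpr (hz s)
  -- the Cauchy sequence
  let ζ : ℕ → WittVector p R := fun t => z (t + u + 1)
  have hζ : ∀ t, ζ (t + 1) - ζ t ∈ WittAdic.K p R m t := by
    intro t
    apply K_anti p m (Nat.le_succ t)
    apply mem_K_of_pow_mul_mem p hR m u (t + 1) (by omega)
    have e : (p : WittVector p R) ^ u * (ζ (t + 1) - ζ t)
        = ((p : WittVector p R) ^ u * z (t + 1 + u + 1) - a)
          - ((p : WittVector p R) ^ u * z (t + u + 1) - a) := by
      simp only [ζ]; ring
    rw [e]
    refine sub_mem (K_anti p m (by omega) (hzK _)) ?_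
    have : t + 1 + u = t + u + 1 := by omega
    rw [this]
    exact hzK _
  -- coefficientwise limits
  have hlim : ∀ i, ∃ L : R, ∀ t, i < m → (ζ t).coeff i - L ∈ Ideal.span {(p : R) ^ t} := by
    intro i
    by_cases hi : i < m
    · have hstep : ∀ t, (ζ (t + 1)).coeff i - (ζ t).coeff i
          ∈ (Ideal.span {(p : R)} ^ t • ⊤ : Submodule R R) := by
        intro t
        rw [smul_eq_mul, Ideal.mul_top, Ideal.span_singleton_pow]
        exact (WittAdic.sub_mem_K p).mp (hζ t) i hi
      obtain ⟨L, hL⟩ := IdemLift.exists_limit_of_step (Ideal.span {(p : R)})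
        (fun t => (ζ t).coeff i) hstep
      refine ⟨L, fun t _ => ?_⟩
      have := hL t
      rwa [smul_eq_mul, Ideal.mul_top, Ideal.span_singleton_pow] at this
    · exact ⟨0, fun t h => absurd h hi⟩
  choose L hL using hlim
  refine ⟨WittVector.mk p L, fun i hi => ?_⟩
  have hx : ∀ t, WittVector.mk p L - ζ t ∈ WittAdic.K p R m t := by
    intro t
    rw [WittAdic.sub_mem_K]
    intro j hj
    rw [WittVector.coeff_mk, ← neg_sub]
    exact neg_mem (hL j t hj)
  have hall : ∀ t, (p : WittVector p R) ^ u * WittVector.mk p L - a ∈ WittAdic.K p R m t := by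
    intro t
    have e : (p : WittVector p R) ^ u * WittVector.mk p L - a
        = (p : WittVector p R) ^ u * (WittVector.mk p L - ζ t)
          + ((p : WittVector p R) ^ u * z (t + u + 1) - a) := by
      simp only [ζ]; ring
    rw [e]
    exact add_mem (Ideal.mul_mem_left _ _ (hx t)) (K_anti p m (by omega) (hzK _))
  apply IsHausdorff.haus' (I := Ideal.span {(p : R)})
  intro t
  rw [SModEq.sub_mem, sub_zero, smul_eq_mul, Ideal.mul_top, Ideal.span_singleton_pow]
  exact (mem_K p).mp (hall t) i hi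

end Groth.Agent.H74.WittSolve
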