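import Mathlib
import Groth.Prelude.Def_PolLaw
import Groth.Agent.H74.OpenImage
import Groth.Agent.H74.LawBC
import Groth.Agent.H74.MvKer

/-!
# Helper library (helper74): openness of the image of a family of zero-cycles over polynomial rings
-/

set_option autoImplicit false
universe u
open scoped TensorProduct
open PolLaw

namespace Groth.Agent.H74.ZeroCycOpen

open Groth.Agent.H74.LawBC Groth.Agent.H74.MvKer Groth.Agent.H74.OpenImage

/-- an open map of prime spectra is generalizing -/
theorem generalizingMap_comap_of_isOpenMap {R S : Type u} [CommRing R] [CommRing S] (φ : R →+* S)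
    (h : IsOpenMap (PrimeSpectrum.comap φ)) : GeneralizingMap (PrimeSpectrum.comap φ) := by
  intro Q q' hq'
  set J : Ideal S := q'.asIdeal.map φ with hJ
  set M : Submonoid S := Q.asIdeal.primeCompl ⊔ (q'.asIdeal.primeCompl.map (φ : R →* S)) with hM
  have hdisj : Disjoint (J : Set S) M := by
    rw [Set.disjoint_left]
    intro y hyJ hyM
    obtain ⟨g, hg, t, ht, rfl⟩ := Submonoid.mem_sup.mp hyM
    obtain ⟨s, hs, rfl⟩ := Submonoid.mem_map.mp ht
    have hopen := h _ (PrimeSpectrum.basicOpen g).isOpen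
    have hmem : PrimeSpectrum.comap φ Q ∈
        PrimeSpectrum.comap φ '' (PrimeSpectrum.basicOpen g : Set (PrimeSpectrum S)) :=
      ⟨Q, hg, rfl⟩
    obtain ⟨P, hP, rfl⟩ := hopen.stableUnderGeneralization hq' hmem
    have hJP : J ≤ P.asIdeal := Ideal.map_le_iff_le_comap.mpr le_rfl
    rcases P.2.mem_or_mem (hJP hyJ) with h1 | h1
    · exact hP h1
    · exact hs h1
  obtain ⟨Q', hQ'p, hJQ', hQ'M⟩ := Ideal.exists_le_prime_disjoint J M hdisj
  refine ⟨⟨Q', hQ'p⟩, ?_, ?_⟩
  · show (⟨Q', hQ'p⟩ : PrimeSpectrum S) ⤳ Q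
    rw [← PrimeSpectrum.le_iff_specializes]
    intro x hx
    by_contra hxQ
    exact Set.disjoint_left.mp hQ'M hx (Submonoid.mem_sup_left hxQ)
  · apply PrimeSpectrum.ext
    apply le_antisymm
    · intro a ha
      by_contra haq
      exact Set.disjoint_left.mp hQ'M ha
        (Submonoid.mem_sup_right (Submonoid.mem_map.mpr ⟨a, haq, rfl⟩))
    · exact Ideal.map_le_iff_le_comap.mp hJQ'


variable {A : Type u} [CommRing A] {B : Type u} [CommRing B] [Algebra A B] {d : ℕ}

/-- the hypothesis of helper7's `universallyOpen_Spec_of_poly` for the image algebra of a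
multiplicative law -/
theorem isOpen_image_poly (F : MulLaw A B A d) (n : ℕ) (c : Fin n → image F.law) :
    IsOpen (PrimeSpectrum.comap (MvPolynomial.map (σ := Fin n) (algebraMap A (image F.law))) ''
      (PrimeSpectrum.basicOpen (∑ j : Fin n, MvPolynomial.X j * MvPolynomial.C (c j)) :
        Set (PrimeSpectrum (MvPolynomial (Fin n) (image F.law))))) := by
  have hb : ∀ j, ∃ b : B, Ideal.Quotient.mk (ker F.law) b = c j :=
    fun j => Ideal.Quotient.mk_surjective _
  choose b hb using hb
  set R := MvPolynomial (Fin n) A with hR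
  set G := bc R F with hG
  set Z : R ⊗[A] B := ∑ j, (MvPolynomial.X j : R) ⊗ₜ[A] b j with hZdef
  set mkA : B →ₐ[A] (image F.law) := Ideal.Quotient.mkₐ A (ker F.law) with hmkA
  have hmk_surj : Function.Surjective mkA := Ideal.Quotient.mkₐ_surjective A (ker F.law)
  set θ₁ : R ⊗[A] B →ₐ[A] R ⊗[A] (image F.law) := Algebra.TensorProduct.map (AlgHom.id A R) mkA with hθ₁
  set ε : R ⊗[A] (image F.law) ≃+* MvPolynomial (Fin n) (image F.law) :=
    ((Algebra.TensorProduct.comm A R (image F.law)).toRingEquiv).trans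
      (MvPolynomial.algebraTensorAlgEquiv A (image F.law)).toRingEquiv with hε
  set θ : R ⊗[A] B →+* MvPolynomial (Fin n) (image F.law) :=
    (ε : R ⊗[A] (image F.law) →+* MvPolynomial (Fin n) (image F.law)).comp (θ₁ : R ⊗[A] B →+* R ⊗[A] (image F.law)) with hθ
  have hθ_tmul : ∀ (r : R) (b' : B), θ (r ⊗ₜ[A] b') =
      (mkA b') • MvPolynomial.map (algebraMap A (image F.law)) r := by
    intro r b'
    simp [hθ, hθ₁, hε]
    rw [MvPolynomial.algebraTensorAlgEquiv_tmul]
  have hθsurj : Function.Surjective θ := by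
    rw [hθ]
    exact ε.surjective.comp
      (Algebra.TensorProduct.map_surjective (AlgHom.id A R) mkA (fun x => ⟨x, rfl⟩) hmk_surj)
  have hker : RingHom.ker θ = ker G.law := by
    have h1 : RingHom.ker θ = RingHom.ker θ₁ := by
      ext x
      rw [RingHom.mem_ker, RingHom.mem_ker, hθ, RingHom.comp_apply]
      exact map_eq_zero_iff _ ε.injective
    rw [h1, hθ₁, Algebra.TensorProduct.lTensor_ker _ hmk_surj, hG]
    show _ = ker (bcLaw R F.law)
    have hkmk : RingHom.ker mkA = ker F.law := by
      ext x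
      rw [RingHom.mem_ker]
      exact Ideal.Quotient.eq_zero_iff_mem
    rw [ker_bcLaw, kerBC_mvPolynomial, hkmk]
  have hγ : MvPolynomial.map (algebraMap A (image F.law)) = θ.comp (algebraMap R (R ⊗[A] B)) := by
    refine RingHom.ext (fun r => ?_)
    rw [RingHom.comp_apply, Algebra.TensorProduct.algebraMap_apply, Algebra.algebraMap_self,
      RingHom.id_apply, hθ_tmul, map_one, one_smul]
  have hZ : θ Z = ∑ j : Fin n, MvPolynomial.X j * MvPolynomial.C (c j) := by
    rw [hZdef, map_sum]
    refine Finset.sum_congr rfl (fun j _ => ?_)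
    rw [hθ_tmul, MvPolynomial.map_X, hmkA, Ideal.Quotient.mkₐ_eq_mk, hb, MvPolynomial.smul_eq_C_mul,
      mul_comm]
  rw [← hZ, image_comap_eq θ hθsurj _ hγ Z, hker]
  exact isOpen_image G Z

end Groth.Agent.H74.ZeroCycOpen
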