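import Mathlib

/-!
# Completely multiplicative functions with prescribed values at the primes (for S13086)
-/

set_option autoImplicit false

open Finset

namespace Groth.Agent.H74.ZetaAN

/-- The completely multiplicative function on `ℕ` with value `v ℓ` at every prime `ℓ`. -/
noncomputable def cm (v : ℕ → ℂ) : ℕ →*₀ ℂ where
  toFun n := if n = 0 then 0 else n.factorization.prod (fun ℓ k => v ℓ ^ k)
  map_zero' := by simp
  map_one' := by simp
  map_mul' m n := by
    by_cases hm : m = 0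
    · simp [hm]
    by_cases hn : n = 0
    · simp [hn]
    simp only [hm, hn, mul_eq_zero, or_self, if_false]
    rw [Nat.factorization_mul hm hn, Finsupp.prod_add_index']
    · intro a; simp
    · intro a b c; exact pow_add _ _ _

theorem cm_apply_of_ne_zero (v : ℕ → ℂ) {n : ℕ} (hn : n ≠ 0) :
    cm v n = n.factorization.prod (fun ℓ k => v ℓ ^ k) := by
  show (if n = 0 then 0 else n.factorization.prod (fun ℓ k => v ℓ ^ k)) = _
  rw [if_neg hn]

theorem cm_prime (v : ℕ → ℂ) {ℓ : ℕ} (hℓ : ℓ.Prime) : cm v ℓ = v ℓ := by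
  rw [cm_apply_of_ne_zero v hℓ.ne_zero, Nat.Prime.factorization hℓ, Finsupp.prod_single_index]
  · exact pow_one _
  · exact pow_zero _

/-- The norm of `cm v` as a monoid hom to `ℝ`. -/
noncomputable def nf (v : ℕ → ℂ) : ℕ →* ℝ where
  toFun n := ‖cm v n‖
  map_one' := by simp
  map_mul' m n := by simp

theorem inv_one_sub_le_exp {u c : ℝ} (hu : 0 ≤ u) (huc : u ≤ c) (hc : c < 1) :
    (1 - u)⁻¹ ≤ Real.exp (u / (1 - c)) := by
  have h1c : 0 < 1 - c := by linarith
  have h1u : 0 < 1 - u := by linarith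
  set w := u / (1 - c) with hw
  have hw0 : 0 ≤ w := div_nonneg hu h1c.le
  have hwc : w * (1 - c) = u := by rw [hw]; field_simp
  have h2 : (1 - u)⁻¹ ≤ 1 + w := by
    rw [inv_le_iff_one_le_mul₀ h1u]
    nlinarith [mul_nonneg hw0 (sub_nonneg.2 huc)]
  calc (1 - u)⁻¹ ≤ 1 + w := h2
    _ = w + 1 := add_comm _ _
    _ ≤ Real.exp w := Real.add_one_le_exp w

theorem summable_norm_cm (v : ℕ → ℂ) (c : ℝ) (hc : c < 1) (hv : ∀ ℓ, ‖v ℓ‖ ≤ c)
    (hsum : Summable (fun ℓ => ‖v ℓ‖)) : Summable (fun n => ‖cm v n‖) := by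
  have hc0 : 0 ≤ c := (norm_nonneg _).trans (hv 0)
  have h1c : 0 < 1 - c := by linarith
  have hp : ∀ {p : ℕ}, p.Prime → ‖nf v p‖ < 1 := by
    intro p hp
    show ‖‖cm v p‖‖ < 1
    rw [norm_norm, cm_prime v hp]
    exact (hv p).trans_lt hc
  apply summable_of_sum_range_le (c := Real.exp ((∑' ℓ, ‖v ℓ‖) / (1 - c)))
  · intro n; exact norm_nonneg _
  intro N
  obtain ⟨hs, hh⟩ := EulerProduct.summable_and_hasSum_smoothNumbers_prod_primesBelow_geometric
    (f := nf v) hp N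
  have hs' : Summable (fun m : N.smoothNumbers => nf v m) := by
    refine hs.congr ?_
    intro m
    show ‖‖cm v m‖‖ = ‖cm v m‖
    rw [norm_norm]
  classical
  let s : Finset ℕ := (Finset.range N).filter (fun n => n ≠ 0)
  have hmem : ∀ x ∈ s, x ∈ N.smoothNumbers := by
    intro x hx
    rw [Finset.mem_filter, Finset.mem_range] at hx
    exact Nat.mem_smoothNumbers_of_lt (Nat.pos_of_ne_zero hx.2) hx.1
  have h1 : ∑ i ∈ Finset.range N, ‖cm v i‖ = ∑ i ∈ s, ‖cm v i‖ := by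
    rw [Finset.sum_filter]
    apply Finset.sum_congr rfl
    intro i _
    by_cases hi : i = 0
    · simp [hi]
    · simp [hi]
  have h2 : ∑ i ∈ s, ‖cm v i‖ = ∑ x ∈ s.subtype (fun n => n ∈ N.smoothNumbers), nf v x :=
    (Finset.sum_subtype_of_mem (fun i => ‖cm v i‖) hmem).symm
  have h3 : ∑ x ∈ s.subtype (fun n => n ∈ N.smoothNumbers), nf v x ≤
      ∑' m : N.smoothNumbers, nf v m :=
    hs'.sum_le_tsum _ (fun m _ => (norm_nonneg (cm v m) : (0 : ℝ) ≤ ‖cm v m‖))
  have h4 : ∑' m : N.smoothNumbers, nf v m = ∏ p ∈ N.primesBelow, (1 - nf v p)⁻¹ := hh.tsum_eq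
  have h5 : ∏ p ∈ N.primesBelow, (1 - nf v p)⁻¹ ≤
      ∏ p ∈ N.primesBelow, Real.exp (‖v p‖ / (1 - c)) := by
    apply Finset.prod_le_prod
    · intro p hp'
      have hpp : p.Prime := Nat.prime_of_mem_primesBelow hp'
      have : nf v p = ‖v p‖ := by
        show ‖cm v p‖ = _
        rw [cm_prime v hpp]
      rw [this]
      exact inv_nonneg.2 (by linarith [hv p])
    · intro p hp'
      have hpp : p.Prime := Nat.prime_of_mem_primesBelow hp'
      have : nf v p = ‖v p‖ := by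
        show ‖cm v p‖ = _
        rw [cm_prime v hpp]
      rw [this]
      exact inv_one_sub_le_exp (norm_nonneg _) (hv p) hc
  have h6 : ∏ p ∈ N.primesBelow, Real.exp (‖v p‖ / (1 - c)) =
      Real.exp (∑ p ∈ N.primesBelow, ‖v p‖ / (1 - c)) := (Real.exp_sum _ _).symm
  have h7 : ∑ p ∈ N.primesBelow, ‖v p‖ / (1 - c) ≤ (∑' ℓ, ‖v ℓ‖) / (1 - c) := by
    rw [← Finset.sum_div]
    apply div_le_div_of_nonneg_right _ h1c.le
    exact hsum.sum_le_tsum _ (fun _ _ => norm_nonneg _)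
  calc ∑ i ∈ Finset.range N, ‖cm v i‖ = ∑ i ∈ s, ‖cm v i‖ := h1
    _ = _ := h2
    _ ≤ _ := h3
    _ = _ := h4
    _ ≤ _ := h5
    _ = _ := h6
    _ ≤ _ := Real.exp_le_exp.2 h7

end Groth.Agent.H74.ZetaAN
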