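import Mathlib
import Groth.Agent.H74.ZetaAN1

/-!
# Euler products over an arbitrary countable index set, via an encoding into the primes
-/

set_option autoImplicit false

open Finset

namespace Groth.Agent.H74.ZetaAN

variable {I : Type*}

/-- The encoding of a finitely supported function as a natural number. -/
noncomputable def enc (ι : I → ℕ) (α : I →₀ ℕ) : ℕ := α.prod (fun i k => ι i ^ k)

theorem enc_ne_zero (ι : I → ℕ) (hι : ∀ i, (ι i).Prime) (α : I →₀ ℕ) : enc ι α ≠ 0 := by
  unfold enc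
  rw [Finsupp.prod]
  exact Finset.prod_ne_zero_iff.mpr (fun i _ => pow_ne_zero _ (hι i).ne_zero)

theorem factorization_enc (ι : I → ℕ) (hι : ∀ i, (ι i).Prime) (α : I →₀ ℕ) :
    (enc ι α).factorization = α.mapDomain ι := by
  unfold enc
  rw [Finsupp.prod, Nat.factorization_prod (fun i _ => pow_ne_zero _ (hι i).ne_zero),
    Finsupp.mapDomain, Finsupp.sum]
  apply Finset.sum_congr rfl
  intro i _
  rw [Nat.factorization_pow, Nat.Prime.factorization (hι i), Finsupp.smul_single, smul_eq_mul,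
    mul_one]

theorem enc_injective (ι : I → ℕ) (hι : ∀ i, (ι i).Prime) (hinj : Function.Injective ι) :
    Function.Injective (enc ι) := by
  intro α β h
  have := congrArg Nat.factorization h
  rw [factorization_enc ι hι, factorization_enc ι hι] at this
  exact Finsupp.mapDomain_injective hinj this

theorem support_cm_subset (ι : I → ℕ) (hι : ∀ i, (ι i).Prime) (hinj : Function.Injective ι)
    (t : I → ℂ) :
    Function.support (cm (Function.extend ι t 0)) ⊆ Set.range (enc ι) := by
  intro n hn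
  rw [Function.mem_support] at hn
  have hn0 : n ≠ 0 := by
    rintro rfl
    exact hn (map_zero _)
  rw [cm_apply_of_ne_zero _ hn0] at hn
  have hsub : (↑n.factorization.support : Set ℕ) ⊆ Set.range ι := by
    intro ℓ hℓ
    by_contra hnot
    apply hn
    rw [Finsupp.prod]
    apply Finset.prod_eq_zero (Finset.mem_coe.mp hℓ)
    rw [Function.extend_apply' _ _ _ hnot]
    exact zero_pow (Finsupp.mem_support_iff.mp (Finset.mem_coe.mp hℓ))
  refine ⟨n.factorization.comapDomain ι hinj.injOn, ?_⟩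
  apply Nat.eq_of_factorization_eq (enc_ne_zero ι hι _) hn0
  intro p
  rw [factorization_enc ι hι, Finsupp.mapDomain_comapDomain ι hinj _ hsub]

theorem cm_enc (ι : I → ℕ) (hι : ∀ i, (ι i).Prime) (hinj : Function.Injective ι) (t : I → ℂ)
    (α : I →₀ ℕ) :
    cm (Function.extend ι t 0) (enc ι α) = α.prod (fun i k => t i ^ k) := by
  unfold enc
  rw [map_finsuppProd]
  apply Finsupp.prod_congr
  intro i _
  rw [map_pow, cm_prime _ (hι i), hinj.extend_apply]

theorem tsum_cm_eq (ι : I → ℕ) (hι : ∀ i, (ι i).Prime) (hinj : Function.Injective ι)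
    (t : I → ℂ) :
    ∑' n, cm (Function.extend ι t 0) n = ∑' α : I →₀ ℕ, α.prod (fun i k => t i ^ k) := by
  rw [← (enc_injective ι hι hinj).tsum_eq (support_cm_subset ι hι hinj t)]
  congr 1
  ext α
  exact cm_enc ι hι hinj t α

theorem natCast_prod_cpow {J : Type*} (T : Finset J) (m : J → ℕ) (z : ℂ) :
    (((∏ i ∈ T, m i : ℕ) : ℂ)) ^ z = ∏ i ∈ T, ((m i : ℂ)) ^ z := by
  classical
  induction T using Finset.induction_on with
  | empty => simp
  | insert a T ha ih =>
    rw [Finset.prod_insert ha, Finset.prod_insert ha, Nat.cast_mul,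
      Complex.natCast_mul_natCast_cpow, ih]

theorem natCast_pow_cpow (m k : ℕ) (z : ℂ) :
    (((m ^ k : ℕ) : ℂ)) ^ z = ((m : ℂ) ^ z) ^ k := by
  induction k with
  | zero => simp
  | succ k ih => rw [pow_succ, Nat.cast_mul, Complex.natCast_mul_natCast_cpow, ih, pow_succ]

/-- The norm of a `0`-cycle. -/
noncomputable def nrm (N : I → ℕ) (α : I →₀ ℕ) : ℕ := α.prod (fun i k => N i ^ k)

theorem nrm_pos (N : I → ℕ) (hN : ∀ i, 2 ≤ N i) (α : I →₀ ℕ) : 0 < nrm N α := by
  unfold nrm
  rw [Finsupp.prod]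
  apply Finset.prod_pos
  intro i _
  exact pow_pos (by linarith [hN i]) _

theorem prod_t_eq (N : I → ℕ) (z : ℂ) (α : I →₀ ℕ) :
    α.prod (fun i k => ((N i : ℂ) ^ z) ^ k) = ((nrm N α : ℕ) : ℂ) ^ z := by
  unfold nrm
  rw [Finsupp.prod, Finsupp.prod, natCast_prod_cpow]
  apply Finset.prod_congr rfl
  intro i _
  rw [natCast_pow_cpow]

theorem main_sum (N : I → ℕ) (hN : ∀ i, 2 ≤ N i) (s : ℂ) (hs0 : 0 < s.re)
    (hs : Summable (fun i => ((N i : ℝ)) ^ (-s.re))) :
    Summable (fun α : I →₀ ℕ => ‖((nrm N α : ℕ) : ℂ) ^ (-s)‖) ∧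
      ∑' α : I →₀ ℕ, ((nrm N α : ℕ) : ℂ) ^ (-s) ≠ 0 := by
  classical
  set t : I → ℂ := fun i => (N i : ℂ) ^ (-s) with ht
  have hnorm : ∀ i, ‖t i‖ = ((N i : ℝ)) ^ (-s.re) := by
    intro i
    rw [ht, Complex.norm_natCast_cpow_of_pos (by linarith [hN i]), Complex.neg_re]
  set c : ℝ := (2 : ℝ) ^ (-s.re) with hc
  have hc1 : c < 1 := Real.rpow_lt_one_of_one_lt_of_neg (by norm_num) (by linarith)
  have htc : ∀ i, ‖t i‖ ≤ c := by
    intro i
    rw [hnorm i, hc]
    exact Real.rpow_le_rpow_of_nonpos (by norm_num) (by exact_mod_cast hN i) (by linarith)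
  have hc0 : 0 ≤ c := by positivity
  -- countability
  have hsupp : Function.support (fun i => ((N i : ℝ)) ^ (-s.re)) = Set.univ := by
    ext i
    simp only [Function.mem_support, Set.mem_univ, iff_true]
    have : (0 : ℝ) < (N i : ℝ) := by exact_mod_cast (by linarith [hN i] : 0 < N i)
    exact (Real.rpow_pos_of_pos this _).ne'
  haveI : Countable I := by
    have := hs.countable_support
    rw [hsupp] at this
    exact Set.countable_univ_iff.mp this
  obtain ⟨ι₀, hι₀⟩ := exists_injective_nat I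
  set ι : I → ℕ := fun i => Nat.nth Nat.Prime (ι₀ i) with hι
  have hιp : ∀ i, (ι i).Prime := fun i => Nat.prime_nth_prime _
  have hinj : Function.Injective ι :=
    (Nat.nth_injective Nat.infinite_setOfPred_prime).comp hι₀
  set v : ℕ → ℂ := Function.extend ι t 0 with hv
  have hvc : ∀ ℓ, ‖v ℓ‖ ≤ c := by
    intro ℓ
    by_cases h : ∃ i, ι i = ℓ
    · obtain ⟨i, rfl⟩ := h
      rw [hv, hinj.extend_apply]
      exact htc i
    · rw [hv, Function.extend_apply' _ _ _ h]
      simpa using hc0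
  have hvsum : Summable (fun ℓ => ‖v ℓ‖) := by
    refine (Function.Injective.summable_iff hinj ?_).mp ?_
    · intro ℓ hℓ
      have h : ¬ ∃ i, ι i = ℓ := fun ⟨i, hi⟩ => hℓ ⟨i, hi⟩
      rw [hv, Function.extend_apply' _ _ _ h]
      simp
    · refine hs.congr ?_
      intro i
      simp only [Function.comp_apply]
      rw [hv, hinj.extend_apply, hnorm i]
  have hcm := summable_norm_cm v c hc1 hvc hvsum
  have hα : ∀ α : I →₀ ℕ, cm v (enc ι α) = ((nrm N α : ℕ) : ℂ) ^ (-s) := by
    intro α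
    rw [hv, cm_enc ι hιp hinj t α, ht, prod_t_eq]
  constructor
  · have := hcm.comp_injective (enc_injective ι hιp hinj)
    refine this.congr ?_
    intro α
    simp only [Function.comp_apply]
    rw [hα α]
  · have h1 : ∑' α : I →₀ ℕ, ((nrm N α : ℕ) : ℂ) ^ (-s) = ∑' n, cm v n := by
      rw [hv, tsum_cm_eq ι hιp hinj t]
      congr 1
      ext α
      rw [ht, prod_t_eq]
    rw [h1, ← EulerProduct.exp_tsum_primes_log_eq_tsum hcm]
    exact Complex.exp_ne_zero _

end Groth.Agent.H74.ZetaAN
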