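import Mathlib
import Groth.Agent.H74.ZetaAN2

/-!
# Dirichlet series of `0`-cycle counts: convergence and non-vanishing (for S13086)
-/

set_option autoImplicit false

open Finset

namespace Groth.Agent.H74.ZetaAN

theorem AN_core {I : Type*} (N : I → ℕ) (hN : ∀ i, 2 ≤ N i) (a : ℕ → ℂ)
    (ha : ∀ n, a n = (Nat.card {α : I →₀ ℕ // nrm N α = n} : ℂ)) (s : ℂ) (hs0 : 0 < s.re)
    (hs : Summable (fun i => ((N i : ℝ)) ^ (-s.re))) :
    LSeriesSummable a s ∧ LSeries a s ≠ 0 := by
  obtain ⟨hsum, hne⟩ := main_sum N hN s hs0 hs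
  have hF : Summable (fun α : I →₀ ℕ => ((nrm N α : ℕ) : ℂ) ^ (-s)) := hsum.of_norm
  have hfib := hF.hasSum.tsum_fiberwise (nrm N)
  have hterm : ∀ n : ℕ, ∑' α : (nrm N ⁻¹' {n} : Set (I →₀ ℕ)), ((nrm N α.1 : ℕ) : ℂ) ^ (-s) =
      LSeries.term a s n := by
    intro n
    have hconst : ∀ α : (nrm N ⁻¹' {n} : Set (I →₀ ℕ)),
        ((nrm N α.1 : ℕ) : ℂ) ^ (-s) = ((n : ℕ) : ℂ) ^ (-s) := by
      intro α
      have : nrm N α.1 = n := α.2
      rw [this]
    rw [tsum_congr hconst, tsum_const]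
    rcases eq_or_ne n 0 with rfl | hn
    · have : IsEmpty (nrm N ⁻¹' {0} : Set (I →₀ ℕ)) := ⟨fun α => by
        have h1 : nrm N α.1 = 0 := α.2
        have h2 := nrm_pos N hN α.1
        omega⟩
      simp
    · rw [LSeries.term_of_ne_zero hn, ha n, nsmul_eq_mul, Complex.cpow_neg, div_eq_mul_inv]
      rfl
  have hfib' : HasSum (LSeries.term a s) (∑' α : I →₀ ℕ, ((nrm N α : ℕ) : ℂ) ^ (-s)) := by
    refine hfib.congr_fun ?_
    intro n
    exact (hterm n).symm
  refine ⟨hfib'.summable, ?_⟩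
  rw [LSeries, hfib'.tsum_eq]
  exact hne

theorem AN_main {Xp : Type*} (C : Xp → Prop) (N : Xp → ℕ) (hN : ∀ x, C x → 2 ≤ N x) (r : ℕ)
    (hsum : ∀ σ : ℝ, (r : ℝ) < σ → Summable (fun x : {x // C x} => ((N x.1 : ℝ)) ^ (-σ)))
    (a : ℕ → ℂ)
    (ha : ∀ n, a n = (Nat.card {α : Xp →₀ ℕ // (∀ x ∈ α.support, C x) ∧
      α.prod (fun x m => N x ^ m) = n} : ℂ)) :
    LSeries.abscissaOfAbsConv a ≤ (r : ℝ) ∧ ∀ s : ℂ, (r : ℝ) < s.re → LSeries a s ≠ 0 := by
  classical
  let NI : {x // C x} → ℕ := fun x => N x.1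
  have hNI : ∀ i, 2 ≤ NI i := fun i => hN i.1 i.2
  -- the two descriptions of the coefficient agree
  have hcard : ∀ n, Nat.card {α : Xp →₀ ℕ // (∀ x ∈ α.support, C x) ∧
      α.prod (fun x m => N x ^ m) = n} = Nat.card {β : {x // C x} →₀ ℕ // nrm NI β = n} := by
    intro n
    let f : {α : Xp →₀ ℕ // (∀ x ∈ α.support, C x) ∧ α.prod (fun x m => N x ^ m) = n} →
        {β : {x // C x} →₀ ℕ // nrm NI β = n} := fun α =>
      ⟨α.1.subtypeDomain C, by
        show (α.1.subtypeDomain C).prod (fun i k => N i.1 ^ k) = n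
        rw [Finsupp.prod_subtypeDomain_index (h := fun x m => N x ^ m) α.2.1]
        exact α.2.2⟩
    apply Nat.card_eq_of_bijective f
    constructor
    · intro α α' h
      have h' : α.1.subtypeDomain C = α'.1.subtypeDomain C := congrArg Subtype.val h
      apply Subtype.ext
      ext x
      by_cases hx : C x
      · have := DFunLike.congr_fun h' ⟨x, hx⟩
        simpa [Finsupp.subtypeDomain_apply] using this
      · have h1 : α.1 x = 0 := by
          by_contra h0
          exact hx (α.2.1 x (Finsupp.mem_support_iff.mpr h0))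
        have h2 : α'.1 x = 0 := by
          by_contra h0
          exact hx (α'.2.1 x (Finsupp.mem_support_iff.mpr h0))
        rw [h1, h2]
    · intro β
      refine ⟨⟨β.1.embDomain (Function.Embedding.subtype C), ?_, ?_⟩, ?_⟩
      · intro x hx
        rw [Finsupp.support_embDomain, Finset.mem_map] at hx
        obtain ⟨i, _, rfl⟩ := hx
        exact i.2
      · rw [Finsupp.prod_embDomain]
        exact β.2
      · apply Subtype.ext
        ext i
        show (β.1.embDomain (Function.Embedding.subtype C)) i.1 = β.1 i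
        exact Finsupp.embDomain_apply_self (Function.Embedding.subtype C) β.1 i
  have ha' : ∀ n, a n = (Nat.card {β : {x // C x} →₀ ℕ // nrm NI β = n} : ℂ) := by
    intro n
    rw [ha n, hcard n]
  have hr0 : (0 : ℝ) ≤ r := Nat.cast_nonneg r
  constructor
  · apply LSeries.abscissaOfAbsConv_le_of_forall_lt_LSeriesSummable
    intro y hy
    have h1 : (0 : ℝ) < ((y : ℂ)).re := by rw [Complex.ofReal_re]; linarith
    have h2 : Summable (fun i => ((NI i : ℝ)) ^ (-((y : ℂ)).re)) := by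
      rw [Complex.ofReal_re]; exact hsum y hy
    exact (AN_core NI hNI a ha' (y : ℂ) h1 h2).1
  · intro s hs
    have h1 : (0 : ℝ) < s.re := by linarith
    exact (AN_core NI hNI a ha' s h1 (hsum s.re hs)).2

end Groth.Agent.H74.ZetaAN
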