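import Mathlib

/-!
# Abstract summability lemma for S13086/S13084

If `N : I → ℕ` takes prime-power values with finite fibres, and the fibre over `p^m` has at most
`c p^{m(r-1)}` elements for `p ≥ p₀` and at most `c p^{mr}` for `p < p₀`, then
`∑ N(i)^{-σ}` converges for `σ > r`.
-/

set_option autoImplicit false
open scoped BigOperators

namespace Groth.Agent.H74.ZetaGeo

theorem rpow_pow_swap (p : ℝ) (hp : 0 < p) (m : ℕ) (t : ℝ) :
    (p ^ m) ^ t = (p ^ t) ^ m := by
  rw [← Real.rpow_natCast, ← Real.rpow_natCast, ← Real.rpow_mul hp.le, ← Real.rpow_mul hp.le,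
    mul_comm]

theorem summable_prime_powers (c ε : ℝ) (hε : 0 < ε) (p : ℕ)
    [DecidablePred fun q : ℕ => p.Prime ∧ ∃ m : ℕ, q = p ^ m] :
    Summable (fun q : ℕ =>
      if p.Prime ∧ ∃ m : ℕ, q = p ^ m then c * (q : ℝ) ^ (-ε) else 0) := by
  by_cases hp : p.Prime
  · have hinj : Function.Injective (fun m : ℕ => p ^ m) := Nat.pow_right_injective hp.two_le
    rw [← hinj.summable_iff]
    · have h2 : (2 : ℝ) ≤ p := by exact_mod_cast hp.two_le
      have hp0 : (0 : ℝ) < p := by linarith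
      have hlt : (p : ℝ) ^ (-ε) < 1 :=
        Real.rpow_lt_one_of_one_lt_of_neg (by linarith) (by linarith)
      have hnn : 0 ≤ (p : ℝ) ^ (-ε) := Real.rpow_nonneg hp0.le _
      refine ((summable_geometric_of_lt_one hnn hlt).mul_left c).congr ?_
      intro m
      simp only [Function.comp]
      rw [if_pos ⟨hp, m, rfl⟩, Nat.cast_pow, rpow_pow_swap _ hp0]
    · intro q hq
      rw [if_neg]
      rintro ⟨-, m, rfl⟩
      exact hq ⟨m, rfl⟩
  · have : (fun q : ℕ =>
        if p.Prime ∧ ∃ m : ℕ, q = p ^ m then c * (q : ℝ) ^ (-ε) else 0) = fun _ => 0 := by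
      funext q
      rw [if_neg]
      exact fun h => hp h.1
    rw [this]
    exact summable_zero

theorem summable_of_fiber_bounds {I : Type*} (N : I → ℕ) (r : ℕ) (c : ℝ) (hc : 0 < c) (p₀ : ℕ)
    (hpp : ∀ i, ∃ p m : ℕ, p.Prime ∧ 1 ≤ m ∧ N i = p ^ m)
    (hfin : ∀ q : ℕ, Finite {i // N i = q})
    (hb : ∀ p m : ℕ, p.Prime → 1 ≤ m →
      (p₀ ≤ p → (Nat.card {i // N i = p ^ m} : ℝ) ≤ c * (p : ℝ) ^ ((m : ℝ) * ((r : ℝ) - 1))) ∧
      (p < p₀ → (Nat.card {i // N i = p ^ m} : ℝ) ≤ c * (p : ℝ) ^ ((m : ℝ) * r)))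
    (σ : ℝ) (hσ : (r : ℝ) < σ) : Summable (fun i => ((N i : ℝ)) ^ (-σ)) := by
  classical
  set ε : ℝ := σ - r with hε
  have hε0 : 0 < ε := by rw [hε]; linarith
  rw [← (Equiv.sigmaFiberEquiv N).summable_iff]
  have hnn : ∀ x : (Σ q : ℕ, {i // N i = q}),
      0 ≤ ((fun i => ((N i : ℝ)) ^ (-σ)) ∘ (Equiv.sigmaFiberEquiv N)) x :=
    fun x => Real.rpow_nonneg (Nat.cast_nonneg _) _
  rw [summable_sigma_of_nonneg hnn]
  refine ⟨fun q => ?_, ?_⟩
  · have := hfin q
    exact Summable.of_finite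
  · have hfib : ∀ q : ℕ, (∑' y : {i // N i = q},
        ((fun i => ((N i : ℝ)) ^ (-σ)) ∘ (Equiv.sigmaFiberEquiv N)) ⟨q, y⟩) =
        (Nat.card {i // N i = q} : ℝ) * (q : ℝ) ^ (-σ) := by
      intro q
      have h1 : ∀ y : {i // N i = q},
          ((fun i => ((N i : ℝ)) ^ (-σ)) ∘ (Equiv.sigmaFiberEquiv N)) ⟨q, y⟩ = (q : ℝ) ^ (-σ) := by
        intro y
        simp only [Function.comp, Equiv.sigmaFiberEquiv_apply]
        rw [y.2]
      simp_rw [h1]
      rw [tsum_const, nsmul_eq_mul]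
    simp_rw [hfib]
    -- the dominating function
    let h : ℕ → ℝ := fun q => c * (q : ℝ) ^ (-(1 + ε)) +
      ∑ p ∈ Finset.range p₀, (if p.Prime ∧ ∃ m : ℕ, q = p ^ m then c * (q : ℝ) ^ (-ε) else 0)
    have hsum : Summable h := by
      refine Summable.add ?_ ?_
      · exact (Real.summable_nat_rpow.mpr (by linarith)).mul_left c
      · exact summable_sum fun p _ => summable_prime_powers c ε hε0 p
    have hterm_nn : ∀ (q p : ℕ),
        0 ≤ (if p.Prime ∧ ∃ m : ℕ, q = p ^ m then c * (q : ℝ) ^ (-ε) else 0) := by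
      intro q p
      split_ifs
      · exact mul_nonneg hc.le (Real.rpow_nonneg (Nat.cast_nonneg _) _)
      · exact le_rfl
    refine Summable.of_nonneg_of_le (fun q => mul_nonneg (Nat.cast_nonneg _)
      (Real.rpow_nonneg (Nat.cast_nonneg _) _)) (fun q => ?_) hsum
    by_cases hne : Nonempty {i // N i = q}
    · obtain ⟨⟨i, hi⟩⟩ := hne
      obtain ⟨p, m, hp, hm, hpm⟩ := hpp i
      have hq : q = p ^ m := by rw [← hi, hpm]
      have h2 : (2 : ℝ) ≤ p := by exact_mod_cast hp.two_le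
      have hp0 : (0 : ℝ) < p := by linarith
      have hQ : (0 : ℝ) < (q : ℝ) := by
        rw [hq, Nat.cast_pow]; positivity
      have hQe : (q : ℝ) = (p : ℝ) ^ (m : ℝ) := by
        rw [hq, Nat.cast_pow, Real.rpow_natCast]
      rcases lt_or_ge p p₀ with hlt | hge
      · -- small primes
        have hcard := (hb p m hp hm).2 hlt
        rw [← hq] at hcard
        have e1 : (p : ℝ) ^ ((m : ℝ) * r) = (q : ℝ) ^ (r : ℝ) := by
          rw [Real.rpow_mul hp0.le, ← hQe]
        rw [e1] at hcard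
        have step : (Nat.card {i // N i = q} : ℝ) * (q : ℝ) ^ (-σ) ≤ c * (q : ℝ) ^ (-ε) := by
          calc (Nat.card {i // N i = q} : ℝ) * (q : ℝ) ^ (-σ)
              ≤ (c * (q : ℝ) ^ (r : ℝ)) * (q : ℝ) ^ (-σ) :=
                mul_le_mul_of_nonneg_right hcard (Real.rpow_nonneg hQ.le _)
            _ = c * (q : ℝ) ^ (-ε) := by
                rw [mul_assoc, ← Real.rpow_add hQ]
                congr 2
                rw [hε]; ring
        refine step.trans ?_
        have hmem : p ∈ Finset.range p₀ := Finset.mem_range.mpr hlt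
        have hsingle := Finset.single_le_sum (f := fun p' =>
          (if p'.Prime ∧ ∃ m : ℕ, q = p' ^ m then c * (q : ℝ) ^ (-ε) else 0))
          (fun p' _ => hterm_nn q p') hmem
        rw [if_pos ⟨hp, m, hq⟩] at hsingle
        have h0 : 0 ≤ c * (q : ℝ) ^ (-(1 + ε)) :=
          mul_nonneg hc.le (Real.rpow_nonneg hQ.le _)
        show _ ≤ c * (q : ℝ) ^ (-(1 + ε)) + _
        linarith
      · -- large primes
        have hcard := (hb p m hp hm).1 hge
        rw [← hq] at hcard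
        have e1 : (p : ℝ) ^ ((m : ℝ) * ((r : ℝ) - 1)) = (q : ℝ) ^ ((r : ℝ) - 1) := by
          rw [Real.rpow_mul hp0.le, ← hQe]
        rw [e1] at hcard
        have step : (Nat.card {i // N i = q} : ℝ) * (q : ℝ) ^ (-σ) ≤
            c * (q : ℝ) ^ (-(1 + ε)) := by
          calc (Nat.card {i // N i = q} : ℝ) * (q : ℝ) ^ (-σ)
              ≤ (c * (q : ℝ) ^ ((r : ℝ) - 1)) * (q : ℝ) ^ (-σ) :=
                mul_le_mul_of_nonneg_right hcard (Real.rpow_nonneg hQ.le _)
            _ = c * (q : ℝ) ^ (-(1 + ε)) := by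
                rw [mul_assoc, ← Real.rpow_add hQ]
                congr 2
                rw [hε]; ring
        refine step.trans ?_
        have h0 : 0 ≤ ∑ p ∈ Finset.range p₀,
            (if p.Prime ∧ ∃ m : ℕ, q = p ^ m then c * (q : ℝ) ^ (-ε) else 0) :=
          Finset.sum_nonneg fun p' _ => hterm_nn q p'
        show _ ≤ c * (q : ℝ) ^ (-(1 + ε)) + _
        linarith
    · have : IsEmpty {i // N i = q} := not_nonempty_iff.mp hne
      rw [Nat.card_of_isEmpty, Nat.cast_zero, zero_mul]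
      exact add_nonneg (mul_nonneg hc.le (Real.rpow_nonneg (Nat.cast_nonneg _) _))
        (Finset.sum_nonneg fun p' _ => hterm_nn q p')

end Groth.Agent.H74.ZetaGeo
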