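import Mathlib
import Groth.Prelude.Def_W4c1zetahwZeta
import Groth.Agent.S13070
import Groth.Agent.H22.ZetaG1
import Groth.Agent.H22.ZetaG2
import Groth.Agent.H42.ZetaG3
import Groth.Agent.H74.ZetaGeo1
import Groth.Agent.H74.ZetaAN3

/-!
# Scheme-theoretic glue for S13086/S13084
-/

set_option autoImplicit false
universe u
open CategoryTheory AlgebraicGeometry

namespace Groth.Agent.H74.ZetaGeo

/-- Closed points with residue field of the cardinality of `F` form a finite set, if `X(F)` is
finite (same injection as in `H22.ZetaG2.card_closedPoints_le`). -/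
theorem finite_closedPoints (X : Scheme.{u}) (F : Type u) [Field F] [Finite F]
    [Finite (Spec (CommRingCat.of F) ⟶ X)] :
    Finite {x : X // IsClosed ({x} : Set X) ∧ Nat.card (X.residueField x) = Nat.card F} := by
  classical
  have key : ∀ x : {x : X // IsClosed ({x} : Set X) ∧
      Nat.card (X.residueField x) = Nat.card F}, Nonempty (X.residueField x.1 ≃+* F) := by
    rintro ⟨x, -, hcard⟩
    have hF : Nat.card F ≠ 0 := Nat.card_pos.ne'
    haveI : Finite (X.residueField x) := Nat.finite_of_card_ne_zero (hcard ▸ hF)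
    letI := Fintype.ofFinite (X.residueField x)
    letI := Fintype.ofFinite F
    refine ⟨FiniteField.ringEquivOfCardEq ?_⟩
    rw [← Nat.card_eq_fintype_card, ← Nat.card_eq_fintype_card]
    exact hcard
  choose e he using fun x => (key x).elim fun e =>
    (⟨e, trivial⟩ : ∃ _ : X.residueField x.1 ≃+* F, True)
  let φ : {x : X // IsClosed ({x} : Set X) ∧ Nat.card (X.residueField x) = Nat.card F} →
      (Spec (CommRingCat.of F) ⟶ X) := fun x =>
    Spec.map (CommRingCat.ofHom (e x).toRingHom) ≫ X.fromSpecResidueField x.1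
  refine Finite.of_injective φ ?_
  intro x y hxy
  apply Subtype.ext
  have : Nonempty (Spec (CommRingCat.of F)) := inferInstance
  obtain ⟨s⟩ := ‹Nonempty (Spec (CommRingCat.of F))›
  have h1 : φ x s = x.1 := by
    simp only [φ, Scheme.Hom.comp_apply]
    exact Scheme.fromSpecResidueField_apply _ _
  have h2 : φ y s = y.1 := by
    simp only [φ, Scheme.Hom.comp_apply]
    exact Scheme.fromSpecResidueField_apply _ _
  rw [← h1, ← h2, hxy]

/-- A finite field has prime power cardinality. -/
theorem card_eq_prime_pow (K : Type*) [Field K] [Finite K] :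
    ∃ p m : ℕ, p.Prime ∧ 1 ≤ m ∧ Nat.card K = p ^ m := by
  letI := Fintype.ofFinite K
  obtain ⟨p, _, n, hp, hn⟩ := FiniteField.card' K
  exact ⟨p, n, hp, n.pos, by rw [Nat.card_eq_fintype_card, hn]⟩

/-- The model finite field of cardinality `p^m` in universe `u`. -/
theorem exists_field_card (p m : ℕ) (hp : p.Prime) (hm : 1 ≤ m) :
    ∃ (F : Type u) (_ : Field F), Finite F ∧ Nat.card F = p ^ m := by
  haveI : Fact p.Prime := ⟨hp⟩
  refine ⟨ULift.{u} (GaloisField p m), inferInstance, inferInstance, ?_⟩
  rw [Nat.card_congr Equiv.ulift, GaloisField.card p m (by omega)]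

theorem summable_closedPoints {X : Scheme.{u}}
    (f : X ⟶ Spec (CommRingCat.of (ULift.{u} ℤ))) [LocallyOfFiniteType f] [QuasiCompact f] (r : ℕ)
    (hr : topologicalKrullDim X ≤ r) (σ : ℝ) (hσ : (r : ℝ) < σ) :
    Summable (fun x : {x : X // IsClosed ({x} : Set X)} =>
      ((Nat.card (X.residueField x.1) : ℝ)) ^ (-σ)) := by
  classical
  obtain ⟨c, p₀, hc, H⟩ := Groth.Agent.S13070.result f r hr
  -- the key comparison: closed points of norm `p^m` inject into `X(F)`
  have hfib : ∀ (p m : ℕ), p.Prime → 1 ≤ m → ∀ (F : Type u) [Field F], Nat.card F = p ^ m →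
      Finite {i : {x : X // IsClosed ({x} : Set X)} // Nat.card (X.residueField i.1) = p ^ m} ∧
      Nat.card {i : {x : X // IsClosed ({x} : Set X)} //
        Nat.card (X.residueField i.1) = p ^ m} ≤ Nat.card (Spec (CommRingCat.of F) ⟶ X) := by
    intro p m hp hm F _ hF
    haveI : Finite F := Nat.finite_of_card_ne_zero (by rw [hF]; exact (pow_pos hp.pos m).ne')
    haveI : Finite (Spec (CommRingCat.of F) ⟶ X) := Groth.Agent.H42.ZetaG3.finite_hom_Spec f F
    let E : {i : {x : X // IsClosed ({x} : Set X)} // Nat.card (X.residueField i.1) = p ^ m} ≃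
        {x : X // IsClosed ({x} : Set X) ∧ Nat.card (X.residueField x) = Nat.card F} :=
      (Equiv.subtypeSubtypeEquivSubtypeInter (fun x : X => IsClosed ({x} : Set X))
        (fun x : X => Nat.card (X.residueField x) = p ^ m)).trans
        (Equiv.subtypeEquivRight fun x => by rw [hF])
    haveI := finite_closedPoints X F
    refine ⟨Finite.of_equiv _ E.symm, ?_⟩
    rw [Nat.card_congr E]
    exact Groth.Agent.H22.ZetaG2.card_closedPoints_le X F
  refine summable_of_fiber_bounds
    (fun x : {x : X // IsClosed ({x} : Set X)} => Nat.card (X.residueField x.1)) r c hc p₀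
    ?_ ?_ ?_ σ hσ
  · intro x
    haveI : Finite (X.residueField x.1) :=
      Groth.Agent.H22.ZetaG1.finite_residueField_of_isClosed f x.1 x.2
    exact card_eq_prime_pow (X.residueField x.1)
  · intro q
    by_cases hne : Nonempty {i : {x : X // IsClosed ({x} : Set X)} //
        Nat.card (X.residueField i.1) = q}
    · obtain ⟨⟨x, hx⟩⟩ := hne
      haveI : Finite (X.residueField x.1) :=
        Groth.Agent.H22.ZetaG1.finite_residueField_of_isClosed f x.1 x.2
      obtain ⟨p, m, hp, hm, hpm⟩ := card_eq_prime_pow (X.residueField x.1)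
      have hq : q = p ^ m := by rw [← hx, hpm]
      subst hq
      obtain ⟨F, hFf, -, hFc⟩ := exists_field_card.{u} p m hp hm
      exact (hfib p m hp hm F hFc).1
    · haveI : IsEmpty {i : {x : X // IsClosed ({x} : Set X)} //
        Nat.card (X.residueField i.1) = q} := not_nonempty_iff.mp hne
      infer_instance
  · intro p m hp hm
    obtain ⟨F, hFf, -, hFc⟩ := exists_field_card.{u} p m hp hm
    have h1 := (hfib p m hp hm F hFc).2
    have h2 := H p m hp hm F hFc
    have h1' : (Nat.card {i : {x : X // IsClosed ({x} : Set X)} //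
        Nat.card (X.residueField i.1) = p ^ m} : ℝ) ≤
        (Nat.card (Spec (CommRingCat.of F) ⟶ X) : ℝ) := by exact_mod_cast h1
    exact ⟨fun h => h1'.trans (h2.1 h), fun h => h1'.trans (h2.2 h)⟩

theorem zeta_main {X : Scheme.{u}}
    (f : X ⟶ Spec (CommRingCat.of (ULift.{u} ℤ))) [LocallyOfFiniteType f] [QuasiCompact f] (r : ℕ)
    (hr : topologicalKrullDim X ≤ r) :
    LSeries.abscissaOfAbsConv (Zeta.arithCoeff X) ≤ (r : ℝ) ∧
      ∀ s : ℂ, (r : ℝ) < s.re → LSeries (Zeta.arithCoeff X) s ≠ 0 := by
  refine Groth.Agent.H74.ZetaAN.AN_main (Xp := X) (fun x => IsClosed ({x} : Set X))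
    (fun x => Nat.card (X.residueField x)) ?_ r ?_ (Zeta.arithCoeff X) ?_
  · intro x hx
    haveI : Finite (X.residueField x) :=
      Groth.Agent.H22.ZetaG1.finite_residueField_of_isClosed f x hx
    exact Finite.one_lt_card
  · intro σ hσ
    exact summable_closedPoints f r hr σ hσ
  · intro n
    rfl

end Groth.Agent.H74.ZetaGeo
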